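import Groth.Prelude.Def_AlgGrp
import Groth.Prelude.Def_ChGrp
import Groth.Prelude.Def_Red

/-! A kernel `u : G' ⟶ G` of a homomorphism `v : G ⟶ G''` gives the "pseudo-torsor" square
`G × G' ≅ G ×_{G''} G` (formal, by points). -/

set_option autoImplicit false
universe u
open CategoryTheory CategoryTheory.Limits MonoidalCategory CartesianMonoidalCategory MonObj GrpObj AlgebraicGeometry

namespace Groth.Agent.H91.KerTorsor

variable {S : Scheme.{u}} {G G' G'' : Over S} [GrpObj G] [GrpObj G'] [GrpObj G'']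

omit [GrpObj G] [GrpObj G'] in
theorem comp_eq_one_of_isKernel (u : G' ⟶ G) (v : G ⟶ G'') (hK : AlgGrp.IsKernel u v) : u ≫ v = 1 := by
  rw [hK.w, Hom.one_def]

theorem pt_comp_eq_one (u : G' ⟶ G) (v : G ⟶ G'') (hK : AlgGrp.IsKernel u v) {T : Over S} (k : T ⟶ G') :
    k ≫ u ≫ v = 1 := by
  rw [comp_eq_one_of_isKernel u v hK, MonObj.comp_one]

theorem w (u : G' ⟶ G) (v : G ⟶ G'') [IsMonHom v] (hK : AlgGrp.IsKernel u v) :
    fst G G' ≫ v = ((G ◁ u) ≫ μ[G]) ≫ v := by
  apply AlgGrp.Action.hom_ext_lift₂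
  intro T a k
  rw [lift_fst_assoc, ← Category.assoc, ← Category.assoc, lift_whiskerLeft, ← Hom.mul_def, MonObj.mul_comp,
    Category.assoc, pt_comp_eq_one u v hK, _root_.mul_one]

theorem isPullback_of_isKernel (u : G' ⟶ G) (v : G ⟶ G'') [IsMonHom v] (hK : AlgGrp.IsKernel u v) :
    IsPullback (fst G G') ((G ◁ u) ≫ μ[G]) v v := by
  have hcond : ∀ (s : PullbackCone v v), (s.fst⁻¹ * s.snd) ≫ v = toUnit s.pt ≫ η[G''] := by
    intro s
    rw [MonObj.mul_comp, GrpObj.inv_comp, s.condition, _root_.inv_mul_cancel, Hom.one_def]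
  refine ⟨⟨w u v hK⟩, ⟨PullbackCone.IsLimit.mk _
    (fun s => lift s.fst (hK.lift (s.fst⁻¹ * s.snd) (toUnit s.pt) (hcond s))) ?_ ?_ ?_⟩⟩
  · intro s
    rw [lift_fst]
  · intro s
    rw [← Category.assoc, lift_whiskerLeft, ← Hom.mul_def, hK.lift_fst, _root_.mul_inv_cancel_left]
  · intro s m h1 h2
    have hm : m = lift (m ≫ fst G G') (m ≫ snd G G') := (lift_comp_fst_snd m).symm
    rw [hm, h1]
    congr 1
    apply hK.hom_ext
    · rw [hK.lift_fst]
      rw [hm, ← Category.assoc, lift_whiskerLeft, ← Hom.mul_def, h1] at h2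
      rw [← h2, _root_.inv_mul_cancel_left]
    · exact toUnit_unique _ _

/-- base change of a kernel square. -/
theorem isKernel_bc {S S' : Scheme.{u}} (f : S' ⟶ S) {N G Q : Over S} [GrpObj Q] (i : N ⟶ G) (q : G ⟶ Q)
    (hK : AlgGrp.IsKernel i q) :
    AlgGrp.IsKernel ((Over.pullback f).map i) ((Over.pullback f).map q) := by
  have h := hK.map (Over.pullback f)
  refine IsPullback.of_iso h (Iso.refl _) (Iso.refl _) (Functor.Monoidal.εIso (Over.pullback f)).symm (Iso.refl _)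
    ?_ ?_ ?_ ?_
  · simp
  · exact toUnit_unique _ _
  · simp
  · rw [Functor.obj.η_def]
    simp

end Groth.Agent.H91.KerTorsor
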