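import Mathlib

/-! Ring-level Kummer pushout: `k[ℤ/n] = k[ℤ] ⊗_{k[ℤ], t ↦ tⁿ} k` for an initial ring `k`. -/

set_option autoImplicit false
universe u
open CategoryTheory CategoryTheory.Limits MonoidAlgebra

namespace Groth.Agent.H91.KummerRing

variable (k : Type u) [CommRing k] (n : ℕ)

/-- `t ↦ tⁿ` on `k[ℤ]`. -/
noncomputable def phiN : MonoidAlgebra k (Multiplicative ℤ) →+* MonoidAlgebra k (Multiplicative ℤ) :=
  (mapDomainAlgHom k k (AddMonoidHom.toMultiplicative (zmultiplesHom ℤ (n : ℤ)))).toRingHom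

/-- `k[ℤ] → k[ℤ/n]`. -/
noncomputable def psiN : MonoidAlgebra k (Multiplicative ℤ) →+* MonoidAlgebra k (Multiplicative (ZMod n)) :=
  (mapDomainAlgHom k k (AddMonoidHom.toMultiplicative (Int.castAddHom (ZMod n)))).toRingHom

/-- the counit `k[ℤ] → k`. -/
noncomputable def epsZ : MonoidAlgebra k (Multiplicative ℤ) →+* k :=
  (Bialgebra.counitAlgHom k (MonoidAlgebra k (Multiplicative ℤ))).toRingHom

theorem phiN_single (m : ℤ) (r : k) :
    phiN k n (single (Multiplicative.ofAdd m) r) = single (Multiplicative.ofAdd (m * n)) r := by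
  simp [phiN, mapDomain_single]

theorem psiN_single (m : ℤ) (r : k) :
    psiN k n (single (Multiplicative.ofAdd m) r) = single (Multiplicative.ofAdd ((m : ℤ) : ZMod n)) r := by
  simp [psiN, mapDomain_single]

theorem epsZ_single (g : Multiplicative ℤ) (r : k) : epsZ k (single g r) = r := by
  simp [epsZ]

variable {k}
variable {C : Type u} [CommRing C]

/-- the character of `ℤ` (valued in units) attached to a ring map out of `k[ℤ]`. -/
noncomputable def chiU (a : MonoidAlgebra k (Multiplicative ℤ) →+* C) : Multiplicative ℤ →* Cˣ :=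
  ((a : MonoidAlgebra k (Multiplicative ℤ) →* C).comp (of k (Multiplicative ℤ))).toHomUnits

theorem chiU_val (a : MonoidAlgebra k (Multiplicative ℤ) →+* C) (g : Multiplicative ℤ) :
    (chiU a g : C) = a (single g 1) := rfl

variable {n}

theorem chiU_wd (a : MonoidAlgebra k (Multiplicative ℤ) →+* C)
    (h1 : a (single (Multiplicative.ofAdd (n : ℤ)) 1) = 1) (m m' : ℤ) (h : (m : ZMod n) = (m' : ZMod n)) :
    chiU a (Multiplicative.ofAdd m) = chiU a (Multiplicative.ofAdd m') := by
  have hd : (n : ℤ) ∣ m' - m := (ZMod.intCast_eq_intCast_iff_dvd_sub m m' n).1 h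
  obtain ⟨q, hq⟩ := hd
  have hm' : m' = m + q • (n : ℤ) := by rw [smul_eq_mul]; linarith
  have hn1 : chiU a (Multiplicative.ofAdd (n : ℤ)) = 1 := Units.ext h1
  rw [hm', ofAdd_add, map_mul, ofAdd_zsmul, map_zpow, hn1, one_zpow, mul_one]

/-- the induced character of `ℤ/n`. -/
noncomputable def chi [NeZero n] (a : MonoidAlgebra k (Multiplicative ℤ) →+* C)
    (h1 : a (single (Multiplicative.ofAdd (n : ℤ)) 1) = 1) : Multiplicative (ZMod n) →* C where
  toFun x := (chiU a (Multiplicative.ofAdd ((Multiplicative.toAdd x).val : ℤ)) : C)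
  map_one' := by simp
  map_mul' x y := by
    rw [← Units.val_mul, ← map_mul, ← ofAdd_add]
    refine congrArg Units.val (chiU_wd a h1 _ _ ?_)
    push_cast
    simp

theorem chi_intCast [NeZero n] (a : MonoidAlgebra k (Multiplicative ℤ) →+* C)
    (h1 : a (single (Multiplicative.ofAdd (n : ℤ)) 1) = 1) (m : ℤ) :
    chi a h1 (Multiplicative.ofAdd ((m : ℤ) : ZMod n)) = a (single (Multiplicative.ofAdd m) 1) := by
  show (chiU a _ : C) = _
  rw [← chiU_val]
  congr 1
  apply chiU_wd a h1
  simp


/-- the descent map `k[ℤ/n] → C`. -/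
noncomputable def desc [NeZero n] (a : MonoidAlgebra k (Multiplicative ℤ) →+* C) (b : k →+* C)
    (h1 : a (single (Multiplicative.ofAdd (n : ℤ)) 1) = 1) :
    MonoidAlgebra k (Multiplicative (ZMod n)) →+* C :=
  MonoidAlgebra.liftNCRingHom b (chi a h1) (fun _ _ => Commute.all _ _)

theorem desc_single [NeZero n] (a : MonoidAlgebra k (Multiplicative ℤ) →+* C) (b : k →+* C)
    (h1 : a (single (Multiplicative.ofAdd (n : ℤ)) 1) = 1) (g : Multiplicative (ZMod n)) (r : k) :
    desc a b h1 (single g r) = b r * chi a h1 g := by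
  simp [desc, MonoidAlgebra.liftNCRingHom]


theorem phi_psi (k : Type u) [CommRing k] (n : ℕ) :
    (psiN k n).comp (phiN k n) =
      (algebraMap k (MonoidAlgebra k (Multiplicative (ZMod n)))).comp (epsZ k) := by
  refine MonoidAlgebra.ringHom_ext (fun r => ?_) (fun g => ?_)
  · rw [RingHom.comp_apply, RingHom.comp_apply, ← ofAdd_zero, phiN_single, psiN_single, epsZ_single]
    simp [MonoidAlgebra.one_def]
  · obtain ⟨m, rfl⟩ := Multiplicative.ofAdd.surjective g
    rw [RingHom.comp_apply, RingHom.comp_apply, phiN_single, psiN_single, epsZ_single]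
    simp [MonoidAlgebra.one_def]

theorem isPushout (k : Type u) [CommRing k] (n : ℕ) [NeZero n]
    (hk : ∀ (C : Type u) [CommRing C] (f g : k →+* C), f = g) :
    IsPushout (CommRingCat.ofHom (phiN k n)) (CommRingCat.ofHom (epsZ k))
      (CommRingCat.ofHom (psiN k n))
      (CommRingCat.ofHom (algebraMap k (MonoidAlgebra k (Multiplicative (ZMod n))))) := by
  have hw : CommRingCat.ofHom (phiN k n) ≫ CommRingCat.ofHom (psiN k n) =
      CommRingCat.ofHom (epsZ k) ≫
        CommRingCat.ofHom (algebraMap k (MonoidAlgebra k (Multiplicative (ZMod n)))) := by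
    rw [← CommRingCat.ofHom_comp, ← CommRingCat.ofHom_comp, phi_psi]
  have h1 : ∀ s : PushoutCocone (CommRingCat.ofHom (phiN k n)) (CommRingCat.ofHom (epsZ k)),
      s.inl.hom (single (Multiplicative.ofAdd (n : ℤ)) 1) = 1 := by
    intro s
    have := congrArg (fun f => f.hom (single (Multiplicative.ofAdd (1 : ℤ)) (1 : k))) s.condition
    simp only [CommRingCat.hom_comp, CommRingCat.hom_ofHom, RingHom.comp_apply] at this
    rw [phiN_single, epsZ_single, one_mul] at this
    rw [this, map_one]
  refine ⟨⟨hw⟩, ⟨PushoutCocone.IsColimit.mk _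
    (fun s => CommRingCat.ofHom (desc s.inl.hom s.inr.hom (h1 s))) ?_ ?_ ?_⟩⟩
  · intro s
    refine CommRingCat.hom_ext (MonoidAlgebra.ringHom_ext (fun r => ?_) (fun g => ?_))
    · simp only [CommRingCat.hom_comp, CommRingCat.hom_ofHom, RingHom.comp_apply]
      rw [← ofAdd_zero, psiN_single, desc_single]
      have := hk _ s.inr.hom (s.inl.hom.comp (algebraMap k _))
      rw [this]
      simp [MonoidAlgebra.one_def]
    · obtain ⟨m, rfl⟩ := Multiplicative.ofAdd.surjective g
      simp only [CommRingCat.hom_comp, CommRingCat.hom_ofHom, RingHom.comp_apply]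
      rw [psiN_single, desc_single, chi_intCast, map_one, one_mul]
  · intro s
    ext x
    simp only [CommRingCat.hom_comp, CommRingCat.hom_ofHom, RingHom.comp_apply]
    rw [MonoidAlgebra.coe_algebraMap]
    simp [desc_single]
  · intro s m hm1 hm2
    refine CommRingCat.hom_ext (MonoidAlgebra.ringHom_ext (fun r => ?_) (fun g => ?_))
    · have := congrArg (fun f => f.hom r) hm2
      simp only [CommRingCat.hom_comp, CommRingCat.hom_ofHom, RingHom.comp_apply] at this
      rw [MonoidAlgebra.coe_algebraMap] at this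
      simp only [CommRingCat.hom_ofHom]
      rw [desc_single, map_one, mul_one]
      simpa using this
    · obtain ⟨x, rfl⟩ := Multiplicative.ofAdd.surjective g
      have hx : x = (((x.val : ℕ) : ℤ) : ZMod n) := by simp
      have := congrArg (fun f => f.hom (single (Multiplicative.ofAdd ((x.val : ℕ) : ℤ)) (1 : k))) hm1
      simp only [CommRingCat.hom_comp, CommRingCat.hom_ofHom, RingHom.comp_apply] at this
      rw [psiN_single, ← hx] at this
      simp only [CommRingCat.hom_ofHom]
      rw [desc_single, map_one, one_mul, this, hx, chi_intCast]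
      simp

end Groth.Agent.H91.KummerRing
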