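import Groth.Prelude.Def_AlgGrp
import Groth.Prelude.Def_ChGrp
import Groth.Prelude.Def_Red
import Groth.Prelude.Def_Red2
import Groth.Agent.H91.KerTorsor
import Groth.Agent.H91.KummerRing
import Groth.Agent.H27.DiagMap
import Groth.Agent.H93.GaGmLaw

/-! The Kummer kernel square: `μ_n = ker (n : G_m → G_m)` over any base. -/

set_option autoImplicit false
universe u
open CategoryTheory CategoryTheory.Limits MonoidalCategory CartesianMonoidalCategory MonObj GrpObj AlgebraicGeometry

namespace Groth.Agent.H91.KummerKer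

theorem diagMap_eq (R : Type u) [CommRing R] {M N : Type} [AddCommGroup M] [AddCommGroup N] (φ : M →+ N) :
    Red.diagMap R φ = Groth.Agent.H27.diagMap R φ := by
  apply Over.OverMorphism.ext
  rfl

theorem diagMap_isMonHom (R : Type u) [CommRing R] {M N : Type} [AddCommGroup M] [AddCommGroup N] (φ : M →+ N) :
    IsMonHom (Red.diagMap R φ) := by
  rw [diagMap_eq]
  exact Groth.Agent.H27.diagMap_isMonHom R φ

theorem dsMap_isMonHom (S : Scheme.{u}) {M N : Type} [AddCommGroup M] [AddCommGroup N] (φ : M →+ N) :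
    IsMonHom (Red.DSmap S φ) := by
  have := diagMap_isMonHom (ULift.{u} ℤ) φ
  exact Functor.map.instIsMonHom _ _ (Red.diagMap (ULift.{u} ℤ) φ)

theorem chi_isMonHom (S : Scheme.{u}) {M : Type} [AddCommGroup M] (m : M) :
    IsMonHom (Red.chi S m) := dsMap_isMonHom S _

open Groth.Agent.H91.KummerRing in
theorem isKernel_diag (k : Type u) [CommRing k] (n : ℕ) [NeZero n]
    (hk : ∀ (C : Type u) [CommRing C] (f g : k →+* C), f = g) :
    AlgGrp.IsKernel (Red.diagMap k (Int.castAddHom (ZMod n))) (Red.diagMap k (zmultiplesHom ℤ (n : ℤ))) := by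
  have H := isPullback_SpecMap_of_isPushout _ _ _ _ (isPushout k n hk)
  have e : Red.diagMap k (Int.castAddHom (ZMod n)) ≫ Red.diagMap k (zmultiplesHom ℤ (n : ℤ)) =
      toUnit _ ≫ η[Red.diag k ℤ] := by
    apply Over.OverMorphism.ext
    exact H.w
  exact IsPullback.of_map (Over.forget _) e H

theorem isKernel_DS (S : Scheme.{u}) (n : ℕ) [NeZero n] :
    AlgGrp.IsKernel (Red.DSmap S (Int.castAddHom (ZMod n))) (Red.chi S (n : ℤ)) :=
  Groth.Agent.H91.KerTorsor.isKernel_bc _ _ _
    (isKernel_diag (ULift.{u} ℤ) n (fun _ _ f g => Groth.Agent.H93.GaGmLaw.ulift_hom_ext f g))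

end Groth.Agent.H91.KummerKer
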