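import Mathlib

/-! Primitive elements of a group algebra vanish (coefficient comparison in `R[M × M]`). -/

set_option autoImplicit false
universe u
open MonoidAlgebra

namespace Groth.Agent.H91.PrimZero

variable (R : Type u) [CommRing R] (M : Type) [AddCommGroup M]

/-- `m ↦ (m, 0)`. -/
def i1 : Multiplicative M →* Multiplicative (M × M) := AddMonoidHom.toMultiplicative (AddMonoidHom.inl M M)
/-- `m ↦ (0, m)`. -/
def i2 : Multiplicative M →* Multiplicative (M × M) := AddMonoidHom.toMultiplicative (AddMonoidHom.inr M M)
/-- `m ↦ (m, m)`. -/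
def iD : Multiplicative M →* Multiplicative (M × M) :=
  AddMonoidHom.toMultiplicative ((AddMonoidHom.id M).prod (AddMonoidHom.id M))

theorem i1_apply (m : M) : i1 M (Multiplicative.ofAdd m) = Multiplicative.ofAdd (m, 0) := rfl
theorem i2_apply (m : M) : i2 M (Multiplicative.ofAdd m) = Multiplicative.ofAdd (0, m) := rfl
theorem iD_apply (m : M) : iD M (Multiplicative.ofAdd m) = Multiplicative.ofAdd (m, m) := rfl

theorem iD_eq_mul (a : Multiplicative M) : iD M a = i1 M a * i2 M a := by
  obtain ⟨m, rfl⟩ := Multiplicative.ofAdd.surjective a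
  rw [i1_apply, i2_apply, iD_apply, ← ofAdd_add]
  simp

theorem iD_injective : Function.Injective (iD M) := by
  intro a b h
  obtain ⟨m, rfl⟩ := Multiplicative.ofAdd.surjective a
  obtain ⟨m', rfl⟩ := Multiplicative.ofAdd.surjective b
  rw [iD_apply, iD_apply] at h
  have := Multiplicative.ofAdd.injective h
  rw [Prod.mk.injEq] at this
  rw [this.1]

theorem prim_eq_zero (G : MonoidAlgebra R (Multiplicative M))
    (h : mapDomainRingHom R (iD M) G = mapDomainRingHom R (i1 M) G + mapDomainRingHom R (i2 M) G) :
    G = 0 := by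
  have hc : ∀ b : Multiplicative (M × M), (Finsupp.mapDomain (iD M) G.coeff) b =
      (Finsupp.mapDomain (i1 M) G.coeff) b + (Finsupp.mapDomain (i2 M) G.coeff) b := by
    intro b
    have := congrArg (fun x => x.coeff b) h
    simpa using this
  ext a
  obtain ⟨m, rfl⟩ := Multiplicative.ofAdd.surjective a
  have h0 := hc (iD M (Multiplicative.ofAdd m))
  rw [Finsupp.mapDomain_apply (iD_injective M)] at h0
  by_cases hm : m = 0
  · subst hm
    have e1 : iD M (Multiplicative.ofAdd (0 : M)) = i1 M (Multiplicative.ofAdd (0 : M)) := rfl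
    have e2 : iD M (Multiplicative.ofAdd (0 : M)) = i2 M (Multiplicative.ofAdd (0 : M)) := rfl
    have inj1 : Function.Injective (i1 M) := by
      intro a b h
      obtain ⟨x, rfl⟩ := Multiplicative.ofAdd.surjective a
      obtain ⟨y, rfl⟩ := Multiplicative.ofAdd.surjective b
      rw [i1_apply, i1_apply] at h
      have := Multiplicative.ofAdd.injective h
      rw [Prod.mk.injEq] at this
      rw [this.1]
    have inj2 : Function.Injective (i2 M) := by
      intro a b h
      obtain ⟨x, rfl⟩ := Multiplicative.ofAdd.surjective a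
      obtain ⟨y, rfl⟩ := Multiplicative.ofAdd.surjective b
      rw [i2_apply, i2_apply] at h
      have := Multiplicative.ofAdd.injective h
      rw [Prod.mk.injEq] at this
      rw [this.2]
    have h1 : (Finsupp.mapDomain (i1 M) G.coeff) (iD M (Multiplicative.ofAdd (0 : M))) =
        G.coeff (Multiplicative.ofAdd (0 : M)) := by
      rw [e1, Finsupp.mapDomain_apply inj1]
    have h2 : (Finsupp.mapDomain (i2 M) G.coeff) (iD M (Multiplicative.ofAdd (0 : M))) =
        G.coeff (Multiplicative.ofAdd (0 : M)) := by
      rw [e2, Finsupp.mapDomain_apply inj2]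
    rw [h1, h2] at h0
    simpa using h0
  · have n1 : iD M (Multiplicative.ofAdd m) ∉ Set.range (i1 M) := by
      rintro ⟨x, hx⟩
      obtain ⟨y, rfl⟩ := Multiplicative.ofAdd.surjective x
      rw [i1_apply, iD_apply] at hx
      have := Multiplicative.ofAdd.injective hx
      rw [Prod.mk.injEq] at this
      exact hm this.2.symm
    have n2 : iD M (Multiplicative.ofAdd m) ∉ Set.range (i2 M) := by
      rintro ⟨x, hx⟩
      obtain ⟨y, rfl⟩ := Multiplicative.ofAdd.surjective x
      rw [i2_apply, iD_apply] at hx
      have := Multiplicative.ofAdd.injective hx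
      rw [Prod.mk.injEq] at this
      exact hm this.1.symm
    rw [Finsupp.mapDomain_of_notMem_range _ _ n1, Finsupp.mapDomain_of_notMem_range _ _ n2, add_zero] at h0
    simpa using h0

end Groth.Agent.H91.PrimZero
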