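import Groth.Agent.H91.DiagGa2
import Groth.Agent.H37.ChowFormal
import Groth.Agent.H27.OverPullback
import Groth.Prelude.Def_SGA3x

/-! Every homomorphism from a group of multiplicative type (of finite type) to `𝔾_a` is trivial. -/

set_option autoImplicit false
universe u
open CategoryTheory CategoryTheory.Limits MonoidalCategory CartesianMonoidalCategory MonObj GrpObj AlgebraicGeometry

noncomputable section

namespace Groth.Agent.H91.MultGa

open GmPts (baseZ toBaseZ)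
open Groth.Agent.H37.ChowFormal

/-- underlying isomorphism of an isomorphism of group objects. -/
def isoOfGrpIso {B : Scheme.{u}} {A A' : Over B} [GrpObj A] [GrpObj A'] (e : Grp.mk A ≅ Grp.mk A') : A ≅ A' where
  hom := e.hom.hom.hom
  inv := e.inv.hom.hom
  hom_inv_id := congrArg (fun φ : Grp.mk A ⟶ Grp.mk A => φ.hom.hom) e.hom_inv_id
  inv_hom_id := congrArg (fun φ : Grp.mk A' ⟶ Grp.mk A' => φ.hom.hom) e.inv_hom_id

instance {B : Scheme.{u}} {A A' : Over B} [GrpObj A] [GrpObj A'] (e : Grp.mk A ≅ Grp.mk A') :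
    IsMonHom (isoOfGrpIso e).hom := inferInstanceAs (IsMonHom e.hom.hom.hom)

variable {S : Scheme.{u}} {H : Over S} [GrpObj H]

theorem core (u : H ⟶ Red.Ga S) [IsMonHom u] {U' : Scheme.{u}} (gU : U' ⟶ S) (M : Type) [AddCommGroup M]
    (e : Grp.mk (Red.bc gU H) ≅ Grp.mk (Red.DS U' M)) (R : Type u) [CommRing R]
    (j : Spec (CommRingCat.of R) ⟶ U') :
    pullback.fst H.hom (j ≫ gU) ≫ u.left = pullback.fst H.hom (j ≫ gU) ≫ (1 : H ⟶ Red.Ga S).left := by
  let e₀ := isoOfGrpIso e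
  let ε₁ := JIso j gU (j ≫ gU) rfl H
  let ε₂ := (Over.pullback j).mapIso e₀
  let ε₃ := JIso j (toBaseZ U') (toBaseZ (Spec (CommRingCat.of R))) (specULiftZIsTerminal.hom_ext _ _)
    (Red.diag (ULift.{u} ℤ) M)
  let J₁ := JIso (j ≫ gU) (toBaseZ S) (toBaseZ (Spec (CommRingCat.of R))) (specULiftZIsTerminal.hom_ext _ _)
    Red.GaZ
  haveI hε₁ : IsMonHom ε₁.hom := J_isMonHom j gU (j ≫ gU) rfl H
  haveI hε₂ : IsMonHom ε₂.hom := by
    dsimp only [ε₂, Functor.mapIso_hom]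
    infer_instance
  haveI hε₃ : IsMonHom ε₃.hom :=
    J_isMonHom j (toBaseZ U') (toBaseZ (Spec (CommRingCat.of R))) (specULiftZIsTerminal.hom_ext _ _)
      (Red.diag (ULift.{u} ℤ) M)
  haveI hJ₁ : IsMonHom J₁.hom :=
    J_isMonHom (j ≫ gU) (toBaseZ S) (toBaseZ (Spec (CommRingCat.of R))) (specULiftZIsTerminal.hom_ext _ _)
      Red.GaZ
  haveI hε₃' : IsMonHom ε₃.inv := inferInstance
  haveI hε₂' : IsMonHom ε₂.inv := inferInstance
  haveI hJ₁' : IsMonHom J₁.inv := inferInstance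
  haveI hu' : IsMonHom ((Over.pullback (j ≫ gU)).map u) := inferInstance
  let w : Red.DS (Spec (CommRingCat.of R)) M ⟶ Red.Ga (Spec (CommRingCat.of R)) :=
    ε₃.inv ≫ ε₂.inv ≫ ε₁.hom ≫ (Over.pullback (j ≫ gU)).map u ≫ J₁.hom
  haveI : IsMonHom w := by
    dsimp only [w]
    infer_instance
  have hw : w = 1 := Groth.Agent.H91.DiagGa.hom_eq_one M w
  have hug : (Over.pullback (j ≫ gU)).map u = 1 := by
    have h1 : (Over.pullback (j ≫ gU)).map u = ε₁.inv ≫ ε₂.hom ≫ ε₃.hom ≫ w ≫ J₁.inv := by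
      simp only [w, Category.assoc, Iso.hom_inv_id, Category.comp_id, Iso.hom_inv_id_assoc,
        Iso.inv_hom_id_assoc]
    rw [h1, hw, MonObj.one_comp J₁.inv, MonObj.comp_one, MonObj.comp_one, MonObj.comp_one]
  have h1 := (Groth.Agent.H27.isPullback_pullback_map_left (j ≫ gU) u).w
  have h2 := (Groth.Agent.H27.isPullback_pullback_map_left (j ≫ gU) (1 : H ⟶ Red.Ga S)).w
  have h3 : (Over.pullback (j ≫ gU)).map (1 : H ⟶ Red.Ga S) = 1 := Functor.map_one _
  rw [← h1, ← h2, hug, h3]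

theorem core' (u : H ⟶ Red.Ga S) [IsMonHom u] {U' : Scheme.{u}} (gU : U' ⟶ S) (M : Type) [AddCommGroup M]
    (e : Grp.mk (Red.bc gU H) ≅ Grp.mk (Red.DS U' M)) (R : Type u) [CommRing R]
    (j : Spec (CommRingCat.of R) ⟶ U') (g : Spec (CommRingCat.of R) ⟶ S) (hg : g = j ≫ gU) :
    pullback.fst H.hom g ≫ u.left = pullback.fst H.hom g ≫ (1 : H ⟶ Red.Ga S).left := by
  subst hg
  exact core u gU M e R j

theorem main (S : Scheme.{u}) (H : Over S) [GrpObj H] (hH : SGA3x.IsMultTypeFT H)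
    (u : H ⟶ Red.Ga S) [IsMonHom u] : u = 1 := by
  obtain ⟨S', f, hflat, hsurj, -, hloc⟩ := hH
  choose U hU hloc' using hloc
  apply Over.OverMorphism.ext
  haveI := hflat
  haveI := hsurj
  haveI : Epi (pullback.fst H.hom f) := Flat.epi_of_flat_of_surjective _
  rw [← cancel_epi (pullback.fst H.hom f)]
  have hcov : TopologicalSpace.IsOpenCover U := by
    refine TopologicalSpace.IsOpenCover.mk ?_
    rw [eq_top_iff]
    intro x _
    exact TopologicalSpace.Opens.mem_iSup.mpr ⟨x, hU x⟩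
  let 𝒰₀ : S'.OpenCover := S'.openCoverOfIsOpenCover U hcov
  let 𝒰 : S'.OpenCover := 𝒰₀.bind (fun s' => (𝒰₀.X s').affineCover)
  let 𝒱 := Scheme.Pullback.openCoverOfRight 𝒰 H.hom f
  apply 𝒱.hom_ext
  intro i
  obtain ⟨M, hM, -, ⟨e⟩⟩ := hloc' i.1
  have hi : 𝒱.f i ≫ pullback.fst H.hom f = pullback.fst H.hom (𝒰.f i ≫ f) :=
    (pullback.lift_fst _ _ _).trans (Category.comp_id _)
  rw [← Category.assoc, ← Category.assoc, hi]
  exact core' u ((U i.1).ι ≫ f) M e _ ((𝒰₀.X i.1).affineCover.f i.2) (𝒰.f i ≫ f)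
    (Category.assoc _ _ _)

end Groth.Agent.H91.MultGa
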