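import Groth.Agent.H91.MagnetDense

/-!
# Scheme-theoretic density of `A(M) → A(N)`: the affine case and the general case (helper91)
-/

open CategoryTheory Limits AlgebraicGeometry MonoidalCategory CartesianMonoidalCategory Magnet
open scoped TensorProduct

universe u

namespace Groth.Agent.H91.MagnetDense

attribute [local instance 10] algZ

variable {M N : Type} [AddCommMonoid M] [AddCommMonoid N]

set_option maxHeartbeats 400000 in
theorem dense_affine (S : Scheme.{u}) (j : N →+ M) (hj : Function.Injective j) (R : Type u)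
    [CommRing R] (t : Spec (CommRingCat.of R) ⟶ S) :
    IsSchemeTheoreticallyDominant (AMonS.map S j ▷ Over.mk t).left := by
  let eM : Spec (CommRingCat.of (BM.{u} M ⊗[ULift.{u} ℤ] R)) ≅ (AMonS S M ⊗ Over.mk t).left :=
    (isPullback_cmp S M R t).isoPullback
  let eN : Spec (CommRingCat.of (BM.{u} N ⊗[ULift.{u} ℤ] R)) ≅ (AMonS S N ⊗ Over.mk t).left :=
    (isPullback_cmp S N R t).isoPullback
  have eM_fst : eM.hom ≫ pullback.fst (AMonS S M).hom t = cmp S M R t :=
    (isPullback_cmp S M R t).isoPullback_hom_fst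
  have eM_snd : eM.hom ≫ pullback.snd (AMonS S M).hom t = Spec.map (inr M R) :=
    (isPullback_cmp S M R t).isoPullback_hom_snd
  have eN_fst : eN.hom ≫ pullback.fst (AMonS S N).hom t = cmp S N R t :=
    (isPullback_cmp S N R t).isoPullback_hom_fst
  have eN_snd : eN.hom ≫ pullback.snd (AMonS S N).hom t = Spec.map (inr N R) :=
    (isPullback_cmp S N R t).isoPullback_hom_snd
  let Φ : CommRingCat.of (BM.{u} N ⊗[ULift.{u} ℤ] R) ⟶ CommRingCat.of (BM.{u} M ⊗[ULift.{u} ℤ] R) :=
    CommRingCat.ofHom (R := BM.{u} N ⊗[ULift.{u} ℤ] R) (S := BM.{u} M ⊗[ULift.{u} ℤ] R)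
      (Algebra.TensorProduct.map (phi j) (AlgHom.id (ULift.{u} ℤ) R)).toRingHom
  have hmapfst : (AMonS.map S j).left ≫ pullback.fst (AMon (ULift.{u} ℤ) N).hom (gS S) =
      pullback.fst (AMon (ULift.{u} ℤ) M).hom (gS S) ≫ (AMon.map (ULift.{u} ℤ) j).left := by
    rw [AMonS.map]
    exact pullback.lift_fst _ _ _
  have hmapsnd : (AMonS.map S j).left ≫ pullback.snd (AMon (ULift.{u} ℤ) N).hom (gS S) =
      pullback.snd (AMon (ULift.{u} ℤ) M).hom (gS S) := by
    rw [AMonS.map]
    exact pullback.lift_snd _ _ _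
  have hΦl : inl N R ≫ Φ = CommRingCat.ofHom (phi j).toRingHom ≫ inl M R := by
    apply CommRingCat.hom_ext
    apply RingHom.ext
    intro x
    change Algebra.TensorProduct.map (phi j) (AlgHom.id (ULift.{u} ℤ) R) (x ⊗ₜ 1) =
      (phi j x) ⊗ₜ 1
    rw [Algebra.TensorProduct.map_tmul]
    rfl
  have hΦr : inr N R ≫ Φ = inr M R := by
    apply CommRingCat.hom_ext
    apply RingHom.ext
    intro x
    change Algebra.TensorProduct.map (phi j) (AlgHom.id (ULift.{u} ℤ) R) (1 ⊗ₜ x) = 1 ⊗ₜ x
    rw [Algebra.TensorProduct.map_tmul, map_one]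
    rfl
  have hfst : Spec.map (inl M R) ≫ Spec.map (CommRingCat.ofHom (phi j).toRingHom) =
      Spec.map Φ ≫ Spec.map (inl N R) := by
    rw [← Spec.map_comp, ← Spec.map_comp, hΦl]
  have hsnd : Spec.map (inr M R) = Spec.map Φ ≫ Spec.map (inr N R) := by
    rw [← Spec.map_comp, hΦr]
  have key : eM.hom ≫ (AMonS.map S j ▷ Over.mk t).left = Spec.map Φ ≫ eN.hom := by
    apply pullback.hom_ext
    · rw [Category.assoc, Category.assoc, Over.whiskerRight_left_fst, ← Category.assoc]
      erw [eM_fst, eN_fst]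
      apply pullback.hom_ext
      · rw [Category.assoc, Category.assoc, hmapfst, ← Category.assoc, cmp_fst, cmp_fst]
        exact hfst
      · rw [Category.assoc, Category.assoc, hmapsnd, cmp_snd, cmp_snd, ← Category.assoc, ← hsnd]
    · rw [Category.assoc, Category.assoc, Over.whiskerRight_left_snd]
      erw [eM_snd, eN_snd]
      exact hsnd
  have hδ : (AMonS.map S j ▷ Over.mk t).left = eM.inv ≫ Spec.map Φ ≫ eN.hom := by
    rw [← key, Iso.inv_hom_id_assoc]
  rw [hδ]
  haveI := specMap_dominant Φ (tensor_injective j hj R)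
  infer_instance

theorem dense_affine' (S : Scheme.{u}) (j : N →+ M) (hj : Function.Injective j)
    (R : CommRingCat.{u}) (t : Spec R ⟶ S) :
    IsSchemeTheoreticallyDominant (AMonS.map S j ▷ Over.mk t).left :=
  dense_affine S j hj R t

theorem isAffineHom_hom (S : Scheme.{u}) (M : Type) [AddCommMonoid M] :
    IsAffineHom (AMonS S M).hom := by
  change IsAffineHom (pullback.snd (AMon (ULift.{u} ℤ) M).hom (gS S))
  have : IsAffineHom (AMon (ULift.{u} ℤ) M).hom := by
    change IsAffineHom (Spec.map _)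
    infer_instance
  exact MorphismProperty.pullback_snd _ _ this

theorem isAffineHom_whisker (S : Scheme.{u}) (j : N →+ M) (T : Over S) :
    IsAffineHom (AMonS.map S j ▷ T).left := by
  have h1 : IsAffineHom (pullback.snd (AMonS S M).hom T.hom) :=
    MorphismProperty.pullback_snd _ _ (isAffineHom_hom S M)
  have h2 : IsAffineHom (pullback.snd (AMonS S N).hom T.hom) :=
    MorphismProperty.pullback_snd _ _ (isAffineHom_hom S N)
  have h3 : IsAffineHom ((AMonS.map S j ▷ T).left ≫ pullback.snd (AMonS S N).hom T.hom) := by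
    rw [Over.whiskerRight_left_snd]
    exact h1
  exact IsAffineHom.of_comp _ (pullback.snd (AMonS S N).hom T.hom)

/-- Scheme-theoretic density of `A(M)_S × T ⟶ A(N)_S × T` for injective `j : N → M`. -/
theorem dense (S : Scheme.{u}) (j : N →+ M) (hj : Function.Injective j) (T : Over S) :
    IsSchemeTheoreticallyDominant (AMonS.map S j ▷ T).left := by
  have hqc : ∀ T' : Over S, QuasiCompact (AMonS.map S j ▷ T').left := fun T' => by
    have := isAffineHom_whisker S j T'
    infer_instance
  let 𝒲 := T.left.affineCover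
  let Ti : 𝒲.I₀ → Over S := fun i => Over.mk (𝒲.f i ≫ T.hom)
  let ιi : ∀ i, Ti i ⟶ T := fun i => Over.homMk (𝒲.f i) rfl
  haveI := hqc T
  haveI : ∀ i, QuasiCompact (AMonS.map S j ▷ Ti i).left := fun i => hqc (Ti i)
  haveI : ∀ i, IsSchemeTheoreticallyDominant (AMonS.map S j ▷ Ti i).left :=
    fun i => dense_affine' S j hj _ (𝒲.f i ≫ T.hom)
  haveI : ∀ i, IsOpenImmersion (AMonS S N ◁ ιi i).left := fun i => by
    rw [Over.whiskerLeft_left]
    have : IsOpenImmersion (ιi i).left := by
      change IsOpenImmersion (𝒲.f i)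
      infer_instance
    infer_instance
  refine SchDom.of_squares (AMonS.map S j ▷ T).left
    (fun i => (AMonS S M ⊗ Ti i).left) (fun i => (AMonS S N ⊗ Ti i).left)
    (fun i => (AMonS S M ◁ ιi i).left) (fun i => (AMonS S N ◁ ιi i).left)
    (fun i => (AMonS.map S j ▷ Ti i).left) ?_ ?_
  · intro i
    rw [← Over.comp_left, ← Over.comp_left, whisker_exchange]
  · intro y
    obtain ⟨i, z, hz⟩ := 𝒲.exists_eq ((pullback.snd (AMonS S N).hom T.hom) y)
    refine ⟨i, ?_⟩
    rw [Over.whiskerLeft_left, Scheme.Pullback.range_map]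
    refine ⟨⟨(pullback.fst (AMonS S N).hom T.hom) y, rfl⟩, z, hz⟩

end Groth.Agent.H91.MagnetDense
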