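import Mathlib

/-!
# Scheme-theoretically dominant morphisms: cancellation and lifting lemmas (helper91)
-/

open CategoryTheory Limits AlgebraicGeometry

universe u

namespace Groth.Agent.H91.SchDom

/-- A closed immersion through which a scheme-theoretically dominant morphism factors is an
isomorphism. -/
theorem isIso_of_factor {P Q Q' : Scheme.{u}} (d : P ⟶ Q) [IsSchemeTheoreticallyDominant d]
    (c : Q' ⟶ Q) [IsClosedImmersion c] (l : P ⟶ Q') (hl : l ≫ c = d) : IsIso c := by
  rw [IsClosedImmersion.isIso_iff_ker_eq_bot]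
  have h1 : (l ≫ c).ker = ⊥ := by rw [hl]; exact d.ker_eq_bot
  rw [← Scheme.IdealSheafData.map_ker] at h1
  have h2 : (⊥ : Scheme.IdealSheafData Q').map c ≤ l.ker.map c :=
    Scheme.IdealSheafData.map_mono (f := c) bot_le
  rw [Scheme.IdealSheafData.map_bot] at h2
  exact le_bot_iff.mp (h2.trans h1.le)

/-- Cancellation of a scheme-theoretically dominant morphism against a separated target. -/
theorem ext_of_dominant {S : Scheme.{u}} {P Q X : Over S} [IsSeparated X.hom] (d : P ⟶ Q)
    [IsSchemeTheoreticallyDominant d.left] (u v : Q ⟶ X) (h : d ≫ u = d ≫ v) : u = v := by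
  have hl : (equalizer.lift d h).left ≫ (equalizer.ι u v).left = d.left := by
    rw [← Over.comp_left, equalizer.lift_ι]
  have hiso : IsIso (equalizer.ι u v).left :=
    isIso_of_factor d.left (equalizer.ι u v).left (equalizer.lift d h).left hl
  ext1
  rw [← cancel_epi (equalizer.ι u v).left]
  exact congr($(equalizer.condition u v).left)

/-- Lifting through a closed immersion along a scheme-theoretically dominant morphism. -/
theorem lift_of_dominant {P Q Y Z : Scheme.{u}} (d : P ⟶ Q) [IsSchemeTheoreticallyDominant d]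
    (i : Z ⟶ Y) [IsClosedImmersion i] (u : Q ⟶ Y) (w : P ⟶ Z) (h : d ≫ u = w ≫ i) :
    ∃ u' : Q ⟶ Z, u' ≫ i = u := by
  have hc : IsClosedImmersion (pullback.fst u i) := MorphismProperty.pullback_fst _ _ ‹_›
  have hiso : IsIso (pullback.fst u i) :=
    isIso_of_factor d (pullback.fst u i) (pullback.lift d w h) (pullback.lift_fst _ _ _)
  refine ⟨inv (pullback.fst u i) ≫ pullback.snd u i, ?_⟩
  rw [Category.assoc, ← pullback.condition, IsIso.inv_hom_id_assoc]

/-- Scheme-theoretic dominance can be checked on a family of commutative squares whose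
right-hand sides are open immersions covering the target. -/
theorem of_squares {X Y : Scheme.{u}} (f : X ⟶ Y) [QuasiCompact f] {ι : Type*}
    (Xi Yi : ι → Scheme.{u}) (κ' : ∀ i, Xi i ⟶ X) (κ : ∀ i, Yi i ⟶ Y) (fi : ∀ i, Xi i ⟶ Yi i)
    [∀ i, IsOpenImmersion (κ i)] [∀ i, IsSchemeTheoreticallyDominant (fi i)]
    [∀ i, QuasiCompact (fi i)]
    (hsq : ∀ i, κ' i ≫ f = fi i ≫ κ i) (hcov : ∀ y : Y, ∃ i, y ∈ Set.range (κ i)) :
    IsSchemeTheoreticallyDominant f := by
  rw [isSchemeTheoreticallyDominant_iff]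
  let 𝒱 : Type u := {V : Y.affineOpens // ∃ i, V.1 ≤ (κ i).opensRange}
  have hsup : ⨆ V : 𝒱, (V.1.1 : Y.Opens) = ⊤ := by
    rw [eq_top_iff]
    intro y _
    obtain ⟨i, hi⟩ := hcov y
    obtain ⟨_, ⟨V, hV, rfl⟩, hyV, hVU⟩ :=
      Y.isBasis_affineOpens.exists_subset_of_mem_open (show y ∈ ((κ i).opensRange : Set Y) from hi)
        (κ i).opensRange.isOpen
    exact TopologicalSpace.Opens.mem_iSup.mpr ⟨⟨⟨V, hV⟩, i, hVU⟩, hyV⟩
  refine Scheme.IdealSheafData.ext_of_iSup_eq_top (fun V : 𝒱 => V.1) hsup ?_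
  rintro ⟨V, i, hVi⟩
  rw [Scheme.Hom.ker_apply, Scheme.IdealSheafData.ideal_bot, Pi.bot_apply,
    ← RingHom.injective_iff_ker_eq_bot]
  rw [injective_iff_map_eq_zero]
  intro s hs
  have hκiso : IsIso ((κ i).app V.1) := (κ i).isIso_app V.1 hVi
  have hinj : Function.Injective ((κ i).app V.1) :=
    (ConcreteCategory.bijective_of_isIso ((κ i).app V.1)).1
  apply hinj
  rw [map_zero]
  apply (fi i).app_injective ((κ i) ⁻¹ᵁ V.1)
  rw [map_zero]
  have goal' : (fi i ≫ κ i).app V.1 s = 0 := by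
    rw [← hsq i]
    change ((κ' i).app (f ⁻¹ᵁ V.1)).hom ((f.app V.1).hom s) = 0
    rw [hs, map_zero]
  exact goal'

end Groth.Agent.H91.SchDom
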