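import Groth.Agent.H91.MagnetClosed

/-!
# Monoid schemes with a dense open group of units over a field (helper91)
-/

open CategoryTheory Limits AlgebraicGeometry MonoidalCategory CartesianMonoidalCategory MonObj Opposite
open Magnet Magnet.MonAct

universe u

namespace Groth.Agent.H91.UnitsDense

variable {k : Type u} [Field k]

theorem flat_hom (T : Over (Spec (CommRingCat.of k))) : Flat T.hom := inferInstance

theorem isPullback_whisker {S : Scheme.{u}} {G M : Over S} (i : G ⟶ M) (T : Over S) :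
    IsPullback (pullback.fst G.hom T.hom) (i ▷ T).left i.left (pullback.fst M.hom T.hom) := by
  have hbig : IsPullback ((i ▷ T).left ≫ pullback.snd M.hom T.hom) (pullback.fst G.hom T.hom)
      T.hom (i.left ≫ M.hom) := by
    rw [Over.whiskerRight_left_snd, Over.w i]
    exact (IsPullback.of_hasPullback G.hom T.hom).flip
  have hright : IsPullback (pullback.snd M.hom T.hom) (pullback.fst M.hom T.hom) T.hom M.hom :=
    (IsPullback.of_hasPullback M.hom T.hom).flip
  exact (IsPullback.of_right hbig (Over.whiskerRight_left_fst i) hright).flip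

theorem dense_whisker {G M : Over (Spec (CommRingCat.of k))} (i : G ⟶ M) [QuasiCompact i.left]
    [IsSchemeTheoreticallyDominant i.left] (T : Over (Spec (CommRingCat.of k))) :
    IsSchemeTheoreticallyDominant (i ▷ T).left := by
  have hT : Flat T.hom := flat_hom T
  have : Flat (pullback.fst M.hom T.hom) := MorphismProperty.pullback_fst _ _ hT
  exact IsSchemeTheoreticallyDominant.of_isPullback (isPullback_whisker i T)

/-- The orbit formula for equivariant maps out of `M ⊗ T` restricted to `G ⊗ T`. -/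
theorem key_orbit {S : Scheme.{u}} {M G X : Over S} [MonObj M] [MonObj G] (i : G ⟶ M) [IsMonHom i]
    (a : MonAct G X) (T : Over S) (χ : (eqvHom ((regular M).restrict i) a).obj (op T))
    {T' : Over S} (g : T' ⟶ G) (t : T' ⟶ T) :
    lift g t ≫ (i ▷ T) ≫ χ.1 =
      lift g (t ≫ lift (toUnit T ≫ η[M]) (𝟙 T) ≫ χ.1) ≫ a.act := by
  have hχ := χ.2
  rw [mem_eqvHom_iff] at hχ
  have h1 := hχ T' g 1 t
  rw [lift_whiskerRight_assoc]
  have e1 : lift g (1 : T' ⟶ M) ≫ ((regular M).restrict i).act = g ≫ i := by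
    rw [lift_restrict_act, lift_regular_act, _root_.mul_one]
  have e2 : lift (1 : T' ⟶ M) t ≫ χ.1 =
      t ≫ lift (toUnit T ≫ η[M]) (𝟙 T) ≫ χ.1 := by
    rw [← Category.assoc, comp_lift, Category.comp_id, ← Category.assoc,
      toUnit_unique (t ≫ toUnit T) (toUnit T'), ← Hom.one_def]
  rw [e1, e2] at h1
  exact h1

theorem isPullback_closed_gen {S : Scheme.{u}} (M G X Z : Over S) [MonObj M] [MonObj G]
    (i : G ⟶ M) [IsMonHom i] (hd : ∀ T : Over S, IsSchemeTheoreticallyDominant (i ▷ T).left)
    (aX : MonAct G X) (aZ : MonAct G Z) (j : Z ⟶ X) [IsClosedImmersion j.left]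
    (hj : IsEquivariant aZ aX j) :
    IsPullback (eqvHom.postcomp ((regular M).restrict i) j hj)
      (eqvHom.evalAt ((regular M).restrict i) aZ η[M])
      (eqvHom.evalAt ((regular M).restrict i) aX η[M]) (yoneda.map j) := by
  have hmono : Mono j := by
    have : Mono j.left := inferInstance
    exact Over.mono_of_mono_left j
  have hj' := (isEquivariant_iff aZ aX j).mp hj
  apply IsPullback.of_forall_isPullback_app
  intro T
  rw [Types.isPullback_iff]
  refine ⟨?_, ?_, ?_⟩
  · ext φ
    change lift (toUnit (unop T) ≫ η[M]) (𝟙 (unop T)) ≫ (φ.1 ≫ j) =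
      (lift (toUnit (unop T) ≫ η[M]) (𝟙 (unop T)) ≫ φ.1) ≫ j
    rw [Category.assoc]
  · rintro φ ψ ⟨h1, -⟩
    apply Subtype.ext
    have h1' : φ.1 ≫ j = ψ.1 ≫ j := congrArg Subtype.val h1
    exact (cancel_mono j).mp h1'
  · intro φ z hφz
    have hφz' : lift (toUnit (unop T) ≫ η[M]) (𝟙 (unop T)) ≫ φ.1 = z ≫ j := hφz
    haveI := hd (unop T)
    have hw : (i ▷ unop T) ≫ φ.1 = ((G ◁ z) ≫ aZ.act) ≫ j := by
      apply hom_ext_lift₂
      intro T' g t
      rw [key_orbit i aX (unop T) φ g t, hφz', Category.assoc, lift_whiskerLeft_assoc,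
        hj' T' g (t ≫ z), Category.assoc]
    obtain ⟨u', hu'⟩ := SchDom.lift_of_dominant (i ▷ unop T).left j.left
      φ.1.left ((G ◁ z) ≫ aZ.act).left (by
        rw [← Over.comp_left, ← Over.comp_left, hw])
    let ψ₀ : M ⊗ unop T ⟶ Z := Over.homMk u' (by
      rw [← Over.w j, ← Category.assoc, hu', Over.w φ.1])
    have hψf : ψ₀ ≫ j = φ.1 := by
      ext1
      exact hu'
    have hψeq : IsEquivariant (((regular M).restrict i).prod (trivial G (unop T))) aZ ψ₀ := by
      rw [mem_eqvHom_iff]
      intro T' g b t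
      rw [← cancel_mono j, Category.assoc, hψf, Category.assoc, hj' T' g (lift b t ≫ ψ₀),
        Category.assoc, hψf]
      have hφ := φ.2
      rw [mem_eqvHom_iff] at hφ
      exact hφ T' g b t
    refine ⟨⟨ψ₀, hψeq⟩, ?_, ?_⟩
    · apply Subtype.ext
      exact hψf
    · change lift (toUnit (unop T) ≫ η[M]) (𝟙 (unop T)) ≫ ψ₀ = z
      rw [← cancel_mono j, Category.assoc, hψf, hφz']

/-- S18956. -/
theorem isPullback_closed (k : Type u) [Field k]
    (M G X Z : Over (Spec (CommRingCat.of k))) [MonObj M] [GrpObj G]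
    (i : G ⟶ M) [IsMonHom i] [QuasiCompact i.left]
    [IsSchemeTheoreticallyDominant i.left]
    (aX : AlgGrp.Action G X) (aZ : AlgGrp.Action G Z) (j : Z ⟶ X) [IsClosedImmersion j.left]
    (hj : Magnet.MonAct.IsEquivariant (Magnet.MonAct.ofAction aZ) (Magnet.MonAct.ofAction aX) j) :
    IsPullback
      (Magnet.MonAct.eqvHom.postcomp ((Magnet.MonAct.regular M).restrict i) j hj)
      (Magnet.MonAct.eqvHom.evalAt ((Magnet.MonAct.regular M).restrict i) (Magnet.MonAct.ofAction aZ) η[M])
      (Magnet.MonAct.eqvHom.evalAt ((Magnet.MonAct.regular M).restrict i) (Magnet.MonAct.ofAction aX) η[M])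
      (yoneda.map j) :=
  isPullback_closed_gen M G X Z i (fun T => dense_whisker i T) _ _ j hj

end Groth.Agent.H91.UnitsDense
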