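import Groth.Agent.H91.SchDom
import Groth.Prelude.Def_Magnet4

/-!
# Scheme-theoretic density of `A(M) → A(N)` for an injective map of monoids `N → M` (helper91)
-/

open CategoryTheory Limits AlgebraicGeometry MonoidalCategory CartesianMonoidalCategory Magnet
open scoped TensorProduct

universe u

namespace Groth.Agent.H91.MagnetDense

/-- `Spec.map` of an injective ring map is scheme-theoretically dominant. -/
theorem specMap_dominant {A B : CommRingCat.{u}} (φ : A ⟶ B) (hφ : Function.Injective φ.hom) :
    IsSchemeTheoreticallyDominant (Spec.map φ) := by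
  rw [isSchemeTheoreticallyDominant_iff]
  refine Scheme.IdealSheafData.ext_of_isAffine ?_
  rw [Scheme.Hom.ker_apply, Scheme.IdealSheafData.ideal_bot, Pi.bot_apply,
    ← RingHom.injective_iff_ker_eq_bot]
  have h := Scheme.ΓSpecIso_naturality φ
  have h2 : (Spec.map φ).appTop = (Scheme.ΓSpecIso A).hom ≫ φ ≫ (Scheme.ΓSpecIso B).inv := by
    rw [← Category.assoc, ← h, Category.assoc, Iso.hom_inv_id, Category.comp_id]
  change Function.Injective (Spec.map φ).appTop.hom
  rw [h2]
  simp only [CommRingCat.hom_comp, RingHom.coe_comp]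
  exact ((ConcreteCategory.bijective_of_isIso (Scheme.ΓSpecIso B).inv).1.comp hφ).comp
    (ConcreteCategory.bijective_of_isIso (Scheme.ΓSpecIso A).hom).1

variable {M N : Type} [AddCommMonoid M] [AddCommMonoid N]

/-- The canonical `ULift ℤ`-algebra structure on a commutative ring (low priority). -/
@[instance_reducible]
noncomputable def algZ (R : Type u) [CommRing R] : Algebra (ULift.{u} ℤ) R where
  smul c r := c.down • r
  algebraMap := (Int.castRingHom R).comp (ULift.ringEquiv : ULift.{u} ℤ ≃+* ℤ).toRingHom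
  commutes' c r := mul_comm _ _
  smul_def' c r := by
    change c.down • r = ((c.down : ℤ) : R) * r
    rw [zsmul_eq_mul]

attribute [local instance 10] algZ

/-- The `ℤ`-algebra map on monoid algebras induced by `j`. -/
noncomputable abbrev phi (j : N →+ M) :
    MonoidAlgebra (ULift.{u} ℤ) (Multiplicative N) →ₐ[ULift.{u} ℤ]
      MonoidAlgebra (ULift.{u} ℤ) (Multiplicative M) :=
  (MonoidAlgebra.mapDomainBialgHom (ULift.{u} ℤ) (AddMonoidHom.toMultiplicative j)).toAlgHom

/-- A linear retraction of `phi j` for injective `j`. -/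
noncomputable def retr (j : N →+ M) (hj : Function.Injective j) :
    MonoidAlgebra (ULift.{u} ℤ) (Multiplicative M) →ₗ[ULift.{u} ℤ]
      MonoidAlgebra (ULift.{u} ℤ) (Multiplicative N) where
  toFun := MonoidAlgebra.comapDomain (AddMonoidHom.toMultiplicative j) hj
  map_add' := MonoidAlgebra.comapDomain_add _ _
  map_smul' c x := by
    apply MonoidAlgebra.coeff_injective
    rw [MonoidAlgebra.coeff_comapDomain, MonoidAlgebra.coeff_smul, RingHom.id_apply,
      MonoidAlgebra.coeff_smul, MonoidAlgebra.coeff_comapDomain]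
    exact Finsupp.comapDomain_smul_of_injective hj _ _

theorem retr_phi (j : N →+ M) (hj : Function.Injective j)
    (x : MonoidAlgebra (ULift.{u} ℤ) (Multiplicative N)) : retr j hj (phi j x) = x := by
  induction x using MonoidAlgebra.induction_on with
  | of m =>
    change MonoidAlgebra.comapDomain (AddMonoidHom.toMultiplicative j) hj
      (phi j (MonoidAlgebra.of _ _ m)) = _
    rw [MonoidAlgebra.of_apply, BialgHom.coe_toAlgHom, MonoidAlgebra.mapDomainBialgHom_single]
    exact MonoidAlgebra.comapDomain_single_map _ hj _ _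
  | add a b ha hb => rw [map_add, map_add, ha, hb]
  | smul c a ha => rw [map_smul, map_smul, ha]

theorem tensor_injective (j : N →+ M) (hj : Function.Injective j) (R : Type u) [CommRing R] :
    Function.Injective (Algebra.TensorProduct.map (phi j) (AlgHom.id (ULift.{u} ℤ) R)) := by
  have hleft : Function.LeftInverse (TensorProduct.map (retr j hj) LinearMap.id)
      (Algebra.TensorProduct.map (phi j) (AlgHom.id (ULift.{u} ℤ) R)) := by
    intro x
    induction x using TensorProduct.induction_on with
    | zero => simp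
    | tmul b r =>
      rw [Algebra.TensorProduct.map_tmul, TensorProduct.map_tmul, retr_phi]
      rfl
    | add a b ha hb => rw [map_add, map_add, ha, hb]
  exact hleft.injective


section Affine

/-- `ℤ[M]` with `ULift ℤ` coefficients. -/
abbrev BM (M : Type) [AddCommMonoid M] : Type u := MonoidAlgebra (ULift.{u} ℤ) (Multiplicative M)

/-- `S ⟶ Spec ℤ`. -/
noncomputable abbrev gS (S : Scheme.{u}) : S ⟶ Spec (CommRingCat.of (ULift.{u} ℤ)) :=
  Limits.IsTerminal.from specULiftZIsTerminal S

noncomputable abbrev inl (M : Type) [AddCommMonoid M] (R : Type u) [CommRing R] :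
    CommRingCat.of (BM.{u} M) ⟶ CommRingCat.of (BM.{u} M ⊗[ULift.{u} ℤ] R) :=
  CommRingCat.ofHom (S := BM.{u} M ⊗[ULift.{u} ℤ] R) Algebra.TensorProduct.includeLeftRingHom

noncomputable abbrev inr (M : Type) [AddCommMonoid M] (R : Type u) [CommRing R] :
    CommRingCat.of R ⟶ CommRingCat.of (BM.{u} M ⊗[ULift.{u} ℤ] R) :=
  CommRingCat.ofHom (S := BM.{u} M ⊗[ULift.{u} ℤ] R) Algebra.TensorProduct.includeRight.toRingHom

theorem t_comp (S : Scheme.{u}) (R : Type u) [CommRing R] (t : Spec (CommRingCat.of R) ⟶ S) :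
    t ≫ gS S = Spec.map (CommRingCat.ofHom (algebraMap (ULift.{u} ℤ) R)) :=
  specULiftZIsTerminal.hom_ext _ _

theorem big_square (M : Type) [AddCommMonoid M] (R : Type u) [CommRing R] :
    IsPullback (Spec.map (inl M R)) (Spec.map (inr M R)) (AMon (ULift.{u} ℤ) M).hom
      (Spec.map (CommRingCat.ofHom (algebraMap (ULift.{u} ℤ) R))) :=
  isPullback_SpecMap_of_isPushout _ _ _ _
    (CommRingCat.isPushout_tensorProduct (ULift.{u} ℤ) (BM.{u} M) R)

/-- The comparison map `Spec (ℤ[M] ⊗ R) ⟶ A(M)_S`. -/
noncomputable def cmp (S : Scheme.{u}) (M : Type) [AddCommMonoid M] (R : Type u) [CommRing R]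
    (t : Spec (CommRingCat.of R) ⟶ S) :
    Spec (CommRingCat.of (BM.{u} M ⊗[ULift.{u} ℤ] R)) ⟶
      pullback (AMon (ULift.{u} ℤ) M).hom (gS S) :=
  pullback.lift (Spec.map (inl M R)) (Spec.map (inr M R) ≫ t)
    (by rw [Category.assoc, t_comp]; exact (big_square M R).w)

theorem cmp_fst (S : Scheme.{u}) (M : Type) [AddCommMonoid M] (R : Type u) [CommRing R]
    (t : Spec (CommRingCat.of R) ⟶ S) :
    cmp S M R t ≫ pullback.fst (AMon (ULift.{u} ℤ) M).hom (gS S) = Spec.map (inl M R) :=
  pullback.lift_fst _ _ _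

theorem cmp_snd (S : Scheme.{u}) (M : Type) [AddCommMonoid M] (R : Type u) [CommRing R]
    (t : Spec (CommRingCat.of R) ⟶ S) :
    cmp S M R t ≫ pullback.snd (AMon (ULift.{u} ℤ) M).hom (gS S) = Spec.map (inr M R) ≫ t :=
  pullback.lift_snd _ _ _

set_option maxHeartbeats 400000 in
theorem isPullback_cmp (S : Scheme.{u}) (M : Type) [AddCommMonoid M] (R : Type u) [CommRing R]
    (t : Spec (CommRingCat.of R) ⟶ S) :
    IsPullback (cmp S M R t) (Spec.map (inr M R))
      (pullback.snd (AMon (ULift.{u} ℤ) M).hom (gS S)) t := by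
  have h1 : IsPullback (cmp S M R t ≫ pullback.fst (AMon (ULift.{u} ℤ) M).hom (gS S))
      (Spec.map (inr M R)) (AMon (ULift.{u} ℤ) M).hom (t ≫ gS S) := by
    rw [cmp_fst, t_comp]
    exact big_square M R
  exact IsPullback.of_right h1 (cmp_snd S M R t)
    (IsPullback.of_hasPullback (AMon (ULift.{u} ℤ) M).hom (gS S))

end Affine

end Groth.Agent.H91.MagnetDense
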