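import Mathlib
import Groth.Agent.H91.MagnetDense2

/-!
# Points of `A(M)_S` as ring homomorphisms (helper91)

Bialgebra version of `H43.GaGmFn.pt`, `pt_mul` (the proof of `pt_mul` is helper43's, verbatim, with
`HopfAlgebra` weakened to `Bialgebra`), plus extensionality, existence and functoriality for
the diagonalizable monoid schemes `Magnet.AMonS S M`.
-/

set_option autoImplicit false
universe u
open CategoryTheory CategoryTheory.Limits AlgebraicGeometry MonObj CartesianMonoidalCategory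
open scoped TensorProduct

namespace Groth.Agent.H91.AMonPt

section General

variable {R A : Type u} [CommRing R] [CommRing A] [Bialgebra R A] {S : Scheme.{u}}
  (f : S ⟶ Spec (CommRingCat.of R))

/-- The affine monoid `Spec A` over `Spec R`. -/
noncomputable abbrev GRb (R A : Type u) [CommRing R] [CommRing A] [Bialgebra R A] :
    Over (Spec (CommRingCat.of R)) :=
  (Spec (CommRingCat.of A)).asOver (Spec (CommRingCat.of R))

/-- The ring homomorphism `A → Γ(X)` defined by an `X`-point of the base change of `Spec A`. -/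
noncomputable def pt {X : Over S} (x : X ⟶ Red.bc f (GRb R A)) : A →+* Γ(X.left, ⊤) :=
  ((Scheme.ΓSpecIso (CommRingCat.of A)).inv ≫ (x.left ≫ Limits.pullback.fst _ _).appTop).hom

theorem pt_comp {X Y : Over S} (a : X ⟶ Y) (x : Y ⟶ Red.bc f (GRb R A)) (b : A) :
    pt f (a ≫ x) b = a.left.appTop.hom (pt f x b) := by
  unfold pt
  rw [Over.comp_left, Category.assoc, Scheme.Hom.comp_appTop]
  rfl

/-- The group law on points in terms of the comultiplication. -/
theorem pt_mul {X : Over S} (x y : X ⟶ Red.bc f (GRb R A)) :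
    ∃ Q : A ⊗[R] A →+* Γ(X.left, ⊤), (∀ b, Q (b ⊗ₜ 1) = pt f x b) ∧ (∀ c, Q (1 ⊗ₜ c) = pt f y c) ∧
      ∀ a, pt f (x * y) a = Q (Coalgebra.comul a) := by
  obtain ⟨m1, hm1⟩ : ∃ m1 : (MonoidalCategoryStruct.tensorObj (Red.bc f (GRb R A))
      (Red.bc f (GRb R A))).left ⟶
      ((Over.pullback f).obj (MonoidalCategoryStruct.tensorObj (GRb R A) (GRb R A))).left,
      m1 = (Functor.LaxMonoidal.μ (Over.pullback f) (GRb R A) (GRb R A)).left := ⟨_, rfl⟩
  obtain ⟨p1, hp1⟩ : ∃ p1 : ((Over.pullback f).obj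
      (MonoidalCategoryStruct.tensorObj (GRb R A) (GRb R A))).left ⟶
      (MonoidalCategoryStruct.tensorObj (GRb R A) (GRb R A)).left,
      p1 = Limits.pullback.fst (MonoidalCategoryStruct.tensorObj (GRb R A) (GRb R A)).hom f :=
    ⟨_, rfl⟩
  obtain ⟨psi, hpsi⟩ : ∃ psi : (MonoidalCategoryStruct.tensorObj (GRb R A) (GRb R A)).left ⟶
      Spec (CommRingCat.of (A ⊗[R] A)), psi = (pullbackSpecIso R A A).hom := ⟨_, rfl⟩
  obtain ⟨a1, ha1⟩ : ∃ a1 : (MonoidalCategoryStruct.tensorObj (GRb R A) (GRb R A)).left ⟶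
      Spec (CommRingCat.of A), a1 = (fst (GRb R A) (GRb R A)).left := ⟨_, rfl⟩
  obtain ⟨a2, ha2⟩ : ∃ a2 : (MonoidalCategoryStruct.tensorObj (GRb R A) (GRb R A)).left ⟶
      Spec (CommRingCat.of A), a2 = (snd (GRb R A) (GRb R A)).left := ⟨_, rfl⟩
  obtain ⟨pG, hpG⟩ : ∃ pG : (Red.bc f (GRb R A)).left ⟶ Spec (CommRingCat.of A),
      pG = Limits.pullback.fst (GRb R A).hom f := ⟨_, rfl⟩
  obtain ⟨b1, hb1⟩ : ∃ b1 : (MonoidalCategoryStruct.tensorObj (Red.bc f (GRb R A))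
      (Red.bc f (GRb R A))).left ⟶ (Red.bc f (GRb R A)).left,
      b1 = (fst (Red.bc f (GRb R A)) (Red.bc f (GRb R A))).left := ⟨_, rfl⟩
  obtain ⟨b2, hb2⟩ : ∃ b2 : (MonoidalCategoryStruct.tensorObj (Red.bc f (GRb R A))
      (Red.bc f (GRb R A))).left ⟶ (Red.bc f (GRb R A)).left,
      b2 = (snd (Red.bc f (GRb R A)) (Red.bc f (GRb R A))).left := ⟨_, rfl⟩
  obtain ⟨mG, hmG⟩ : ∃ mG : (MonoidalCategoryStruct.tensorObj (GRb R A) (GRb R A)).left ⟶
      Spec (CommRingCat.of A), mG = μ[GRb R A].left := ⟨_, rfl⟩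
  obtain ⟨FmG, hFmG⟩ : ∃ FmG : ((Over.pullback f).obj
      (MonoidalCategoryStruct.tensorObj (GRb R A) (GRb R A))).left ⟶ (Red.bc f (GRb R A)).left,
      FmG = ((Over.pullback f).map μ[GRb R A]).left := ⟨_, rfl⟩
  obtain ⟨l, hl⟩ : ∃ l : X.left ⟶ (MonoidalCategoryStruct.tensorObj (Red.bc f (GRb R A))
      (Red.bc f (GRb R A))).left, l = (lift x y).left := ⟨_, rfl⟩
  have F1 : psi ≫ Spec.map (CommRingCat.ofHom Algebra.TensorProduct.includeLeftRingHom) = a1 := by
    rw [hpsi, ha1]; exact pullbackSpecIso_hom_fst R A A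
  have F2 : psi ≫ Spec.map (CommRingCat.ofHom
      (RingHomClass.toRingHom (Algebra.TensorProduct.includeRight : A →ₐ[R] A ⊗[R] A))) = a2 := by
    rw [hpsi, ha2]; exact pullbackSpecIso_hom_snd R A A
  have F3 : m1 ≫ p1 ≫ a1 = b1 ≫ pG := by
    rw [hm1, hp1, ha1, hb1, hpG]; exact Over.μ_pullback_left_fst_fst (GRb R A) (GRb R A)
  have F4 : m1 ≫ p1 ≫ a2 = b2 ≫ pG := by
    rw [hm1, hp1, ha2, hb2, hpG]; exact Over.μ_pullback_left_fst_snd (GRb R A) (GRb R A)
  have F5 : FmG ≫ pG = p1 ≫ mG := by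
    rw [hFmG, hpG, hp1, hmG]; exact Limits.pullback.lift_fst _ _ _
  have F6 : mG = psi ≫ Spec.map (CommRingCat.ofHom (Bialgebra.comulAlgHom R A)) := by
    rw [hmG, hpsi]
    exact mul_spec_asOver_spec_left (R := CommRingCat.of R) (A := CommRingCat.of A)
  have F7 : (x * y).left = l ≫ m1 ≫ FmG := by
    rw [hl, hm1, hFmG]
    have e1 : x * y = lift x y ≫ (Functor.LaxMonoidal.μ (Over.pullback f) (GRb R A) (GRb R A) ≫
      (Over.pullback f).map μ[GRb R A]) := rfl
    exact congrArg (fun m => m.left) e1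
  have F8 : l ≫ b1 = x.left := by
    rw [hl, hb1]; exact congrArg (fun m => m.left) (lift_fst x y)
  have F9 : l ≫ b2 = y.left := by
    rw [hl, hb2]; exact congrArg (fun m => m.left) (lift_snd x y)
  have hmul : (x * y).left ≫ pG = (l ≫ m1 ≫ p1 ≫ psi) ≫
      Spec.map (CommRingCat.ofHom (Bialgebra.comulAlgHom R A)) := by
    rw [F7, Category.assoc, Category.assoc, F5, F6]
    simp only [Category.assoc]
  have hq1 : (l ≫ m1 ≫ p1 ≫ psi) ≫
      Spec.map (CommRingCat.ofHom Algebra.TensorProduct.includeLeftRingHom) = x.left ≫ pG := by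
    simp only [Category.assoc]
    rw [F1, F3, ← Category.assoc, F8]
  have hq2 : (l ≫ m1 ≫ p1 ≫ psi) ≫ Spec.map (CommRingCat.ofHom
      (RingHomClass.toRingHom (Algebra.TensorProduct.includeRight : A →ₐ[R] A ⊗[R] A))) =
      y.left ≫ pG := by
    simp only [Category.assoc]
    rw [F2, F4, ← Category.assoc, F9]
  have ptdef : ∀ w : X ⟶ Red.bc f (GRb R A), pt f w =
      ((Scheme.ΓSpecIso (CommRingCat.of A)).inv ≫ (w.left ≫ pG).appTop).hom := by
    intro w; rw [hpG]; rfl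
  refine ⟨((Scheme.ΓSpecIso (CommRingCat.of (A ⊗[R] A))).inv ≫ (l ≫ m1 ≫ p1 ≫ psi).appTop).hom,
    ?_, ?_, ?_⟩
  · intro b
    have h : CommRingCat.ofHom Algebra.TensorProduct.includeLeftRingHom ≫
        (Scheme.ΓSpecIso (CommRingCat.of (A ⊗[R] A))).inv ≫ (l ≫ m1 ≫ p1 ≫ psi).appTop =
        (Scheme.ΓSpecIso (CommRingCat.of A)).inv ≫ (x.left ≫ pG).appTop := by
      rw [← Category.assoc, Scheme.ΓSpecIso_inv_naturality, Category.assoc,
        ← Scheme.Hom.comp_appTop, hq1]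
    rw [ptdef]
    exact congrArg (fun φ => φ.hom b) h
  · intro c
    have h : CommRingCat.ofHom
        (RingHomClass.toRingHom (Algebra.TensorProduct.includeRight : A →ₐ[R] A ⊗[R] A)) ≫
        (Scheme.ΓSpecIso (CommRingCat.of (A ⊗[R] A))).inv ≫ (l ≫ m1 ≫ p1 ≫ psi).appTop =
        (Scheme.ΓSpecIso (CommRingCat.of A)).inv ≫ (y.left ≫ pG).appTop := by
      rw [← Category.assoc, Scheme.ΓSpecIso_inv_naturality, Category.assoc,
        ← Scheme.Hom.comp_appTop, hq2]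
    rw [ptdef]
    exact congrArg (fun φ => φ.hom c) h
  · intro a
    have h : (Scheme.ΓSpecIso (CommRingCat.of A)).inv ≫ ((x * y).left ≫ pG).appTop =
        CommRingCat.ofHom (Bialgebra.comulAlgHom R A) ≫
          (Scheme.ΓSpecIso (CommRingCat.of (A ⊗[R] A))).inv ≫ (l ≫ m1 ≫ p1 ≫ psi).appTop := by
      rw [hmul, Scheme.Hom.comp_appTop, ← Category.assoc, ← Scheme.ΓSpecIso_inv_naturality,
        Category.assoc]
    rw [ptdef]
    exact congrArg (fun φ => φ.hom a) h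

end General

section AMonS

open Magnet Groth.Agent.H91.MagnetDense

variable {S : Scheme.{u}} {M N : Type} [AddCommMonoid M] [AddCommMonoid N] {T T' : Over S}

/-- The ring homomorphism `ℤ[M] → Γ(T)` classified by a `T`-point of `A(M)_S`. -/
noncomputable abbrev ptM (x : T ⟶ AMonS S M) : BM.{u} M →+* Γ(T.left, ⊤) :=
  pt (R := ULift.{u} ℤ) (A := BM.{u} M) (gS S) x

theorem ptM_comp (a : T' ⟶ T) (x : T ⟶ AMonS S M) (b : BM.{u} M) :
    ptM (a ≫ x) b = a.left.appTop.hom (ptM x b) :=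
  pt_comp (R := ULift.{u} ℤ) (A := BM.{u} M) (gS S) a x b

theorem ptM_mul_single (x y : T ⟶ AMonS S M) (g : Multiplicative M) :
    ptM (x * y) (MonoidAlgebra.single g 1) =
      ptM x (MonoidAlgebra.single g 1) * ptM y (MonoidAlgebra.single g 1) := by
  obtain ⟨Q, hQ1, hQ2, hQ⟩ := pt_mul (R := ULift.{u} ℤ) (A := BM.{u} M) (gS S) x y
  have hc := (MonoidAlgebra.isGroupLikeElem_single_one (R := ULift.{u} ℤ) (A := ULift.{u} ℤ)
      g).comul_eq_tmul_self
  have h4 := Algebra.TensorProduct.tmul_mul_tmul (R := ULift.{u} ℤ)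
    (MonoidAlgebra.single g (1 : ULift.{u} ℤ) : BM.{u} M) (1 : BM.{u} M)
    (1 : BM.{u} M) (MonoidAlgebra.single g (1 : ULift.{u} ℤ) : BM.{u} M)
  rw [_root_.mul_one, _root_.one_mul] at h4
  exact (hQ _).trans ((congrArg Q (hc.trans h4.symm)).trans ((map_mul Q _ _).trans
    (congrArg₂ (· * ·) (hQ1 _) (hQ2 _))))

theorem ptM_ext {x y : T ⟶ AMonS S M} (h : ptM x = ptM y) : x = y := by
  apply Over.OverMorphism.ext
  apply Limits.pullback.hom_ext
  · refine ext_to_Spec (R := BM.{u} M) ?_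
    apply CommRingCat.hom_ext
    exact h
  · exact (Over.w x).trans (Over.w y).symm

theorem exists_ptM (χ : BM.{u} M →+* Γ(T.left, ⊤)) : ∃ x : T ⟶ AMonS S M, ptM x = χ := by
  let φ : T.left ⟶ Spec (CommRingCat.of (BM.{u} M)) :=
    T.left.toSpecΓ ≫ Spec.map (CommRingCat.ofHom χ)
  have hw : φ ≫ (AMon (ULift.{u} ℤ) M).hom = T.hom ≫ gS S := specULiftZIsTerminal.hom_ext _ _
  let xx : T ⟶ AMonS S M := Over.homMk (pullback.lift φ T.hom hw) (pullback.lift_snd _ _ _)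
  have hx : xx.left ≫ pullback.fst (AMon (ULift.{u} ℤ) M).hom (gS S) = φ :=
    pullback.lift_fst _ _ _
  have h1 : (Scheme.ΓSpecIso (CommRingCat.of (BM.{u} M))).inv ≫ φ.appTop = CommRingCat.ofHom χ := by
    rw [Scheme.Hom.comp_appTop, ← Category.assoc, ← Scheme.ΓSpecIso_inv_naturality, Category.assoc]
    rw [Scheme.toSpecΓ_appTop]
    simp
  refine ⟨xx, ?_⟩
  have e : ptM xx = ((Scheme.ΓSpecIso (CommRingCat.of (BM.{u} M))).inv ≫ φ.appTop).hom :=
    congrArg (fun ψ : T.left ⟶ Spec (CommRingCat.of (BM.{u} M)) =>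
      ((Scheme.ΓSpecIso (CommRingCat.of (BM.{u} M))).inv ≫ ψ.appTop).hom) hx
  rw [e, h1]
  rfl

theorem ptM_map (j : N →+ M) (x : T ⟶ AMonS S M) :
    ptM (x ≫ AMonS.map S j) = (ptM x).comp (phi j).toRingHom := by
  have hmapfst : (AMonS.map S j).left ≫ pullback.fst (AMon (ULift.{u} ℤ) N).hom (gS S) =
      pullback.fst (AMon (ULift.{u} ℤ) M).hom (gS S) ≫ (AMon.map (ULift.{u} ℤ) j).left := by
    rw [AMonS.map]
    exact pullback.lift_fst _ _ _
  have e0 : (x ≫ AMonS.map S j).left ≫ pullback.fst (AMon (ULift.{u} ℤ) N).hom (gS S) =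
      (x.left ≫ pullback.fst (AMon (ULift.{u} ℤ) M).hom (gS S)) ≫
        Spec.map (CommRingCat.ofHom (phi j).toRingHom) := by
    rw [Over.comp_left, Category.assoc, hmapfst, AMon.map_left, Category.assoc]
    rfl
  have e1 : ptM (x ≫ AMonS.map S j) = ((Scheme.ΓSpecIso (CommRingCat.of (BM.{u} N))).inv ≫
      ((x.left ≫ pullback.fst (AMon (ULift.{u} ℤ) M).hom (gS S)) ≫
        Spec.map (CommRingCat.ofHom (phi j).toRingHom)).appTop).hom :=
    congrArg (fun ψ : T.left ⟶ Spec (CommRingCat.of (BM.{u} N)) =>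
      ((Scheme.ΓSpecIso (CommRingCat.of (BM.{u} N))).inv ≫ ψ.appTop).hom) e0
  have nat : CommRingCat.ofHom (phi j).toRingHom ≫ (Scheme.ΓSpecIso (CommRingCat.of (BM.{u} M))).inv =
      (Scheme.ΓSpecIso (CommRingCat.of (BM.{u} N))).inv ≫
        (Spec.map (CommRingCat.ofHom (phi j).toRingHom)).appTop :=
    Scheme.ΓSpecIso_inv_naturality _
  have e2 : (Scheme.ΓSpecIso (CommRingCat.of (BM.{u} N))).inv ≫
      ((x.left ≫ pullback.fst (AMon (ULift.{u} ℤ) M).hom (gS S)) ≫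
        Spec.map (CommRingCat.ofHom (phi j).toRingHom)).appTop =
      CommRingCat.ofHom (phi j).toRingHom ≫ (Scheme.ΓSpecIso (CommRingCat.of (BM.{u} M))).inv ≫
        (x.left ≫ pullback.fst (AMon (ULift.{u} ℤ) M).hom (gS S)).appTop := by
    rw [Scheme.Hom.comp_appTop, ← Category.assoc]
    exact (congrArg (fun ψ => ψ ≫ (x.left ≫
      pullback.fst (AMon (ULift.{u} ℤ) M).hom (gS S)).appTop) nat.symm).trans (Category.assoc _ _ _)
  rw [e1, e2]
  rfl

end AMonS

end Groth.Agent.H91.AMonPt
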