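import Groth.Prelude.Def_Red2
import Groth.Prelude.Def_GmPts
import Groth.Agent.H93.GaGmLaw

/-! Points of `Red.Ga S`: the dictionary `x ↦ Red.gaFn x` is injective, natural and additive. -/

set_option autoImplicit false
universe u
open CategoryTheory CategoryTheory.Limits MonoidalCategory CartesianMonoidalCategory MonObj AlgebraicGeometry Opposite
open scoped TensorProduct

noncomputable section

namespace Groth.Agent.H91.GaDict

open GmPts (baseZ toBaseZ)

/-- the coordinate ring of `𝔾_a` over `ℤ`. -/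
abbrev Sym : Type u := SymmetricAlgebra (ULift.{u} ℤ) (ULift.{u} ℤ)

/-- the coordinate. -/
abbrev tt : Sym.{u} := SymmetricAlgebra.ι (ULift.{u} ℤ) (ULift.{u} ℤ) (ULift.up 1)

abbrev symIso : Γ(Spec (CommRingCat.of Sym.{u}), ⊤) ≅ CommRingCat.of Sym.{u} :=
  Scheme.ΓSpecIso (CommRingCat.of Sym.{u})

variable {S : Scheme.{u}} {T T' : Over S}

/-- component of a point to `Spec Sym`. -/
abbrev specPt (x : T ⟶ Red.Ga S) : T.left ⟶ Spec (CommRingCat.of Sym.{u}) :=
  x.left ≫ pullback.fst Red.GaZ.hom (toBaseZ S)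

/-- ring hom classified by a point. -/
def ringHomOfPt (x : T ⟶ Red.Ga S) : Sym.{u} →+* Γ(T.left, ⊤) := (symIso.inv ≫ (specPt x).appTop).hom

theorem ringHomOfPt_tt (x : T ⟶ Red.Ga S) : ringHomOfPt x tt = Red.gaFn x := rfl

theorem specPt_eq_of_ringHom_eq {x y : T ⟶ Red.Ga S} (h : ringHomOfPt x = ringHomOfPt y) :
    specPt x = specPt y := by
  have hx : ∀ z : T ⟶ Red.Ga S, (CommRingCat.ofHom (ringHomOfPt z)).op =
      (ΓSpec.adjunction.homEquiv T.left (op (CommRingCat.of Sym.{u}))).symm (specPt z) := by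
    intro z
    rw [Adjunction.homEquiv_counit, ΓSpec.adjunction_counit_app]
    rfl
  apply (ΓSpec.adjunction.homEquiv T.left (op (CommRingCat.of Sym.{u}))).symm.injective
  rw [← hx x, ← hx y, h]

theorem gaFn_injective {x y : T ⟶ Red.Ga S} (h : Red.gaFn x = Red.gaFn y) : x = y := by
  have h1 : ringHomOfPt x = ringHomOfPt y :=
    Groth.Agent.H93.GaGmLaw.sym_hom_ext _ _ h
  ext1
  apply pullback.hom_ext
  · exact specPt_eq_of_ringHom_eq h1
  · exact (Over.w x).trans (Over.w y).symm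

theorem gaFn_comp (g : T' ⟶ T) (x : T ⟶ Red.Ga S) : Red.gaFn (g ≫ x) = g.left.appTop (Red.gaFn x) := by
  change ((g ≫ x).left ≫ pullback.fst Red.GaZ.hom (toBaseZ S)).appTop Red.gaCoord = _
  rw [Over.comp_left, Category.assoc, Scheme.Hom.comp_appTop]
  rfl

/-- pair of points. -/
def pairPt (t t' : T ⟶ Red.Ga S) : T.left ⟶ (Red.GaZ ⊗ Red.GaZ).left :=
  (lift t t').left ≫ (Functor.LaxMonoidal.μ (Over.pullback (toBaseZ S)) Red.GaZ Red.GaZ).left ≫
    pullback.fst (Red.GaZ ⊗ Red.GaZ).hom (toBaseZ S)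

theorem specPt_mul (t t' : T ⟶ Red.Ga S) : specPt (t * t') = pairPt t t' ≫ μ[Red.GaZ].left := by
  have h1 : t * t' = lift t t' ≫ μ[Red.Ga S] := Hom.mul_def t t'
  have h2 : μ[Red.Ga S] = Functor.LaxMonoidal.μ (Over.pullback (toBaseZ S)) Red.GaZ Red.GaZ ≫
      (Over.pullback (toBaseZ S)).map μ[Red.GaZ] := rfl
  have h3 := GmPts.pullback_map_left_fst (S := S) μ[Red.GaZ]
  rw [specPt, pairPt, h1, h2, Over.comp_left, Over.comp_left]
  simp only [Category.assoc]
  exact _ ≫= (_ ≫= h3)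

theorem pairPt_fst (t t' : T ⟶ Red.Ga S) : pairPt t t' ≫ pullback.fst Red.GaZ.hom Red.GaZ.hom = specPt t := by
  rw [pairPt, Category.assoc, Category.assoc, Over.μ_pullback_left_fst_fst, ← Category.assoc]
  congr 1
  rw [← Over.fst_left, ← Over.comp_left, lift_fst]

theorem pairPt_snd (t t' : T ⟶ Red.Ga S) : pairPt t t' ≫ pullback.snd Red.GaZ.hom Red.GaZ.hom = specPt t' := by
  rw [pairPt, Category.assoc, Category.assoc, Over.μ_pullback_left_fst_snd, ← Category.assoc]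
  congr 1
  rw [← Over.snd_left, ← Over.comp_left, lift_snd]

theorem specMap_appTop_symIso_inv {R : CommRingCat.{u}} (φ : CommRingCat.of Sym.{u} ⟶ R) (c : Sym.{u}) :
    (Spec.map φ).appTop (symIso.inv c) = (Scheme.ΓSpecIso R).inv (φ c) := by
  have h := congrArg (fun ψ => (ConcreteCategory.hom ψ) c) (Scheme.ΓSpecIso_inv_naturality φ)
  exact h.symm

set_option backward.isDefEq.respectTransparency false in
theorem mul_appTop_tt : μ[Red.GaZ.{u}].left.appTop (symIso.inv tt.{u}) =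
    (pullback.fst Red.GaZ.{u}.hom Red.GaZ.{u}.hom).appTop (symIso.inv tt) +
      (pullback.snd Red.GaZ.{u}.hom Red.GaZ.{u}.hom).appTop (symIso.inv tt) := by
  let iL : Sym.{u} →+* TensorProduct (ULift.{u} ℤ) Sym.{u} Sym.{u} := Algebra.TensorProduct.includeLeftRingHom
  let iR : Sym.{u} →+* TensorProduct (ULift.{u} ℤ) Sym.{u} Sym.{u} :=
    ((Algebra.TensorProduct.includeRight (R := ULift.{u} ℤ) (A := Sym.{u}) (B := Sym.{u}) :
      Sym.{u} →ₐ[ULift.{u} ℤ] TensorProduct (ULift.{u} ℤ) Sym.{u} Sym.{u}) :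
        Sym.{u} →+* TensorProduct (ULift.{u} ℤ) Sym.{u} Sym.{u})
  let fC : Spec (CommRingCat.of Sym.{u}) ⟶ baseZ.{u} :=
    Spec.map (CommRingCat.ofHom (algebraMap (ULift.{u} ℤ) Sym.{u}))
  let psi := pullbackSpecIso (ULift.{u} ℤ) Sym.{u} Sym.{u}
  have hfst : pullback.fst fC fC = psi.hom ≫ Spec.map (CommRingCat.ofHom (R := Sym.{u})
      (S := TensorProduct (ULift.{u} ℤ) Sym.{u} Sym.{u}) iL) := by
    rw [← pullbackSpecIso_inv_fst, Iso.hom_inv_id_assoc]
  have hsnd : pullback.snd fC fC = psi.hom ≫ Spec.map (CommRingCat.ofHom (R := Sym.{u})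
      (S := TensorProduct (ULift.{u} ℤ) Sym.{u} Sym.{u}) iR) := by
    rw [← pullbackSpecIso_inv_snd, Iso.hom_inv_id_assoc]
  have hc : (CommRingCat.ofHom (R := Sym.{u}) (S := TensorProduct (ULift.{u} ℤ) Sym.{u} Sym.{u}) (Bialgebra.comulAlgHom (ULift.{u} ℤ) Sym.{u}).toRingHom) tt =
      (CommRingCat.ofHom (R := Sym.{u}) (S := TensorProduct (ULift.{u} ℤ) Sym.{u} Sym.{u}) iL) (tt.{u}) +
        (CommRingCat.ofHom (R := Sym.{u}) (S := TensorProduct (ULift.{u} ℤ) Sym.{u} Sym.{u}) iR) (tt.{u}) := by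
    change Coalgebra.comul (R := ULift.{u} ℤ) (tt.{u}) =
      (tt.{u} ⊗ₜ[ULift.{u} ℤ] (1 : Sym.{u})) + ((1 : Sym.{u}) ⊗ₜ[ULift.{u} ℤ] tt.{u})
    exact SymmetricAlgebra.comul_ι (R := ULift.{u} ℤ) (M := ULift.{u} ℤ) (ULift.up 1)
  change (psi.hom ≫ Spec.map (CommRingCat.ofHom (R := Sym.{u}) (S := TensorProduct (ULift.{u} ℤ) Sym.{u} Sym.{u}) (Bialgebra.comulAlgHom (ULift.{u} ℤ) Sym.{u}).toRingHom)).appTop
      (symIso.inv tt) =
    (pullback.fst fC fC).appTop (symIso.inv tt) + (pullback.snd fC fC).appTop (symIso.inv tt)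
  rw [hfst, hsnd, GmPts.appTop_comp_apply, GmPts.appTop_comp_apply, GmPts.appTop_comp_apply,
    specMap_appTop_symIso_inv, specMap_appTop_symIso_inv, specMap_appTop_symIso_inv, hc, map_add, map_add]

theorem gaFn_mul (t t' : T ⟶ Red.Ga S) : Red.gaFn (t * t') = Red.gaFn t + Red.gaFn t' := by
  have e1 : Red.gaFn (t * t') = (pairPt t t').appTop (μ[Red.GaZ].left.appTop (symIso.inv tt)) := by
    change (specPt (t * t')).appTop (symIso.inv tt) = _
    rw [specPt_mul]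
    exact GmPts.appTop_comp_apply _ _ _
  rw [e1, mul_appTop_tt, map_add, ← GmPts.appTop_comp_apply, ← GmPts.appTop_comp_apply, pairPt_fst, pairPt_snd]
  rfl

theorem gaFn_one : Red.gaFn (1 : T ⟶ Red.Ga S) = 0 := by
  have h := gaFn_mul (1 : T ⟶ Red.Ga S) 1
  have e : (1 : T ⟶ Red.Ga S) * 1 = 1 := _root_.mul_one (1 : T ⟶ Red.Ga S)
  rw [e] at h
  exact left_eq_add.mp h

theorem eq_one_of_gaFn_eq_zero {x : T ⟶ Red.Ga S} (h : Red.gaFn x = 0) : x = 1 :=
  gaFn_injective (h.trans gaFn_one.symm)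

end Groth.Agent.H91.GaDict
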