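import Groth.Agent.H91.GaDict
import Groth.Agent.H91.PrimZero
import Groth.Agent.H91.KummerKer

/-! Over an affine base `Spec R`, every homomorphism `D(M) ⟶ 𝔾_a` is trivial. -/

set_option autoImplicit false
universe u
open CategoryTheory CategoryTheory.Limits MonoidalCategory CartesianMonoidalCategory MonObj AlgebraicGeometry Opposite
open scoped TensorProduct

noncomputable section

namespace Groth.Agent.H91.DiagGa

open GmPts (baseZ toBaseZ)
open Groth.Agent.H91.GaDict Groth.Agent.H91.PrimZero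

theorem specMap_appTop_ΓSpecIso_inv {A B : CommRingCat.{u}} (φ : A ⟶ B) (c : A) :
    (Spec.map φ).appTop ((Scheme.ΓSpecIso A).inv c) = (Scheme.ΓSpecIso B).inv (φ c) := by
  have h := congrArg (fun ψ => (ConcreteCategory.hom ψ) c) (Scheme.ΓSpecIso_inv_naturality φ)
  exact h.symm

variable (M : Type) [AddCommGroup M]

/-- `ℤ[M]`. -/
abbrev kM : Type u := MonoidAlgebra (ULift.{u} ℤ) (Multiplicative M)

abbrev kMIso : Γ(Spec (CommRingCat.of (kM.{u} M)), ⊤) ≅ CommRingCat.of (kM.{u} M) :=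
  Scheme.ΓSpecIso (CommRingCat.of (kM.{u} M))

section general
variable {S : Scheme.{u}} {T T' : Over S}

/-- first component of a point of `D_S(M)`. -/
abbrev fstPt (t : T ⟶ Red.DS S M) : T.left ⟶ Spec (CommRingCat.of (kM.{u} M)) :=
  t.left ≫ pullback.fst (Red.diag (ULift.{u} ℤ) M).hom (toBaseZ S)

/-- ring hom `ℤ[M] → Γ(T)` of a point. -/
def cHom (t : T ⟶ Red.DS S M) : kM.{u} M →+* Γ(T.left, ⊤) := ((kMIso M).inv ≫ (fstPt M t).appTop).hom

theorem cHom_comp (g : T' ⟶ T) (t : T ⟶ Red.DS S M) :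
    cHom M (g ≫ t) = g.left.appTop.hom.comp (cHom M t) := by
  change ((kMIso M).inv ≫ ((g ≫ t).left ≫ pullback.fst (Red.diag (ULift.{u} ℤ) M).hom (toBaseZ S)).appTop).hom = _
  rw [Over.comp_left, Category.assoc, Scheme.Hom.comp_appTop]
  rfl

theorem gmFn_chi (t : T ⟶ Red.DS S M) (m : M) :
    Red.gmFn (t ≫ Red.chi S m) = cHom M t (MonoidAlgebra.single (Multiplicative.ofAdd m) 1) := by
  have h3 := GmPts.pullback_map_left_fst (S := S) (Red.diagMap (ULift.{u} ℤ) (zmultiplesHom M m))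
  have h4 : (t ≫ Red.chi S m).left ≫ pullback.fst GmPts.GmZ.hom (toBaseZ S) =
      fstPt M t ≫ (Red.diagMap (ULift.{u} ℤ) (zmultiplesHom M m)).left := by
    rw [Over.comp_left, Category.assoc]
    exact (_ ≫= h3).trans (Category.assoc _ _ _).symm
  change ((t ≫ Red.chi S m).left ≫ pullback.fst GmPts.GmZ.hom (toBaseZ S)).appTop Red.gmCoord = _
  rw [h4, GmPts.appTop_comp_apply]
  have h5 : (Red.diagMap (ULift.{u} ℤ) (zmultiplesHom M m)).left.appTop Red.gmCoord =
      (kMIso M).inv (MonoidAlgebra.single (Multiplicative.ofAdd m) 1) := by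
    change (Spec.map (CommRingCat.ofHom (MonoidAlgebra.mapDomainAlgHom (ULift.{u} ℤ) (ULift.{u} ℤ)
      (AddMonoidHom.toMultiplicative (zmultiplesHom M m))).toRingHom)).appTop
        ((Scheme.ΓSpecIso _).inv (MonoidAlgebra.single (Multiplicative.ofAdd (1 : ℤ)) 1)) = _
    rw [specMap_appTop_ΓSpecIso_inv]
    congr 1
    simp [MonoidAlgebra.mapDomain_single]
  exact (congrArg (fun z => (ConcreteCategory.hom (fstPt M t).appTop) z) h5).trans rfl

end general

section affine
variable (R : Type u) [CommRing R]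

/-- structure ring hom. -/
def sHom (T : Over (Spec (CommRingCat.of R))) : R →+* Γ(T.left, ⊤) :=
  ((Scheme.ΓSpecIso (CommRingCat.of R)).inv ≫ T.hom.appTop).hom

variable {R}
variable {T T' : Over (Spec (CommRingCat.of R))}

theorem sHom_comp (g : T' ⟶ T) : sHom R T' = g.left.appTop.hom.comp (sHom R T) := by
  change ((Scheme.ΓSpecIso (CommRingCat.of R)).inv ≫ T'.hom.appTop).hom = _
  rw [← Over.w g, Scheme.Hom.comp_appTop]
  rfl

/-- `R[M] → Γ(T)` attached to a point of `D(M)`. -/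
def Xi (t : T ⟶ Red.DS (Spec (CommRingCat.of R)) M) :
    MonoidAlgebra R (Multiplicative M) →+* Γ(T.left, ⊤) :=
  MonoidAlgebra.liftNCRingHom (sHom R T)
    (((cHom M t : kM.{u} M →* Γ(T.left, ⊤))).comp (MonoidAlgebra.of (ULift.{u} ℤ) (Multiplicative M)))
    (fun _ _ => Commute.all _ _)

theorem Xi_single (t : T ⟶ Red.DS (Spec (CommRingCat.of R)) M) (a : Multiplicative M) (r : R) :
    Xi M t (MonoidAlgebra.single a r) = sHom R T r * cHom M t (MonoidAlgebra.single a 1) := by
  simp [Xi, MonoidAlgebra.liftNCRingHom_single]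

theorem Xi_comp (g : T' ⟶ T) (t : T ⟶ Red.DS (Spec (CommRingCat.of R)) M) :
    Xi M (g ≫ t) = g.left.appTop.hom.comp (Xi M t) := by
  refine MonoidAlgebra.ringHom_ext (fun r => ?_) (fun a => ?_)
  · rw [RingHom.comp_apply, Xi_single, Xi_single, map_mul, cHom_comp, sHom_comp g]
    rfl
  · rw [RingHom.comp_apply, Xi_single, Xi_single, map_mul, cHom_comp, sHom_comp g]
    rfl

/-- the coefficient map `ℤ → R`. -/
def cf (R : Type u) [CommRing R] : ULift.{u} ℤ →+* R :=
  (Int.castRingHom R).comp (ULift.ringEquiv : ULift.{u} ℤ ≃+* ℤ).toRingHom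

theorem Xi_comp_map (t : T ⟶ Red.DS (Spec (CommRingCat.of R)) M) :
    (Xi M t).comp (MonoidAlgebra.mapRingHom (Multiplicative M) (cf R)) = cHom M t := by
  refine MonoidAlgebra.ringHom_ext' ?_ (MonoidHom.ext fun a => ?_)
  · exact Groth.Agent.H93.GaGmLaw.ulift_hom_ext _ _
  · show Xi M t (MonoidAlgebra.mapRingHom (Multiplicative M) (cf R) (MonoidAlgebra.single a 1)) =
      cHom M t (MonoidAlgebra.single a 1)
    rw [MonoidAlgebra.mapRingHom_single, map_one, Xi_single, map_one, _root_.one_mul]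

end affine

end Groth.Agent.H91.DiagGa
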