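import Groth.Agent.H91.GaDict
import Groth.Agent.H91.DiagGa

/-! Every global function is the coordinate of a unique point of `𝔾_a`. -/

set_option autoImplicit false
universe u
open CategoryTheory CategoryTheory.Limits MonoidalCategory CartesianMonoidalCategory MonObj AlgebraicGeometry Opposite

noncomputable section

namespace Groth.Agent.H91.GaPt

open GmPts (baseZ toBaseZ)
open Groth.Agent.H91.GaDict

/-- the ring hom `Sym → R` sending the coordinate to `a`. -/
def symLift {R : Type u} [CommRing R] (a : R) : Sym.{u} →+* R :=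
  Groth.Agent.H93.GaGmLaw.gaHom.{u} a

theorem symLift_tt {R : Type u} [CommRing R] (a : R) : symLift a tt = a :=
  Groth.Agent.H93.GaGmLaw.gaHom_tt a

variable {S : Scheme.{u}} {T : Over S}

/-- the point of `𝔾_a` with coordinate `a`. -/
def gaPt (a : Γ(T.left, ⊤)) : T ⟶ Red.Ga S :=
  Over.homMk (pullback.lift (T.left.toSpecΓ ≫ Spec.map (CommRingCat.ofHom (symLift a))) T.hom
    (specULiftZIsTerminal.hom_ext _ _)) (pullback.lift_snd _ _ _)

theorem gaFn_gaPt (a : Γ(T.left, ⊤)) : Red.gaFn (gaPt (S := S) a) = a := by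
  have h1 : (gaPt (S := S) a).left ≫ pullback.fst Red.GaZ.hom (toBaseZ S) =
      T.left.toSpecΓ ≫ Spec.map (CommRingCat.ofHom (symLift a)) := pullback.lift_fst _ _ _
  have h2 : Red.gaFn (gaPt (S := S) a) =
      (T.left.toSpecΓ ≫ Spec.map (CommRingCat.ofHom (symLift a))).appTop
        ((Scheme.ΓSpecIso (CommRingCat.of Sym.{u})).inv tt) :=
    congrArg (fun f : T.left ⟶ Spec (CommRingCat.of Sym.{u}) =>
      f.appTop ((Scheme.ΓSpecIso (CommRingCat.of Sym.{u})).inv tt)) h1
  rw [h2, Scheme.Hom.comp_appTop]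
  change T.left.toSpecΓ.appTop ((Spec.map (CommRingCat.ofHom (symLift a))).appTop
    ((Scheme.ΓSpecIso (CommRingCat.of Sym.{u})).inv tt)) = a
  rw [Groth.Agent.H91.DiagGa.specMap_appTop_ΓSpecIso_inv, Scheme.toSpecΓ_appTop]
  have h3 := Iso.inv_hom_id_apply (C := CommRingCat) (Scheme.ΓSpecIso Γ(T.left, ⊤))
    ((CommRingCat.ofHom (symLift a)) tt)
  exact h3.trans (symLift_tt a)

theorem exists_ga_of_fn (a : Γ(T.left, ⊤)) : ∃ x : T ⟶ Red.Ga S, Red.gaFn x = a :=
  ⟨gaPt a, gaFn_gaPt a⟩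

end Groth.Agent.H91.GaPt
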