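import Mathlib
import Groth.Prelude.Def_FEt
import Groth.Agent.H68.GalK.Defs

set_option autoImplicit false
set_option maxHeartbeats 400000
universe u
open CategoryTheory CategoryTheory.Limits AlgebraicGeometry
open Groth.Agent.H68.GalK

namespace Groth.Agent.H91.GalK_CONT

/-- pure algebra: a ring hom out of a finite `K`-algebra into an algebraic extension is fixed by
the fixing subgroup of a finite-dimensional intermediate field. -/
theorem exists_fd_fix {K A Ω : Type*} [Field K] [CommRing A] [Field Ω] [Algebra K Ω]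
    [Algebra.IsAlgebraic K Ω] (ι : K →+* A) (hfin : ι.Finite) (ψ : A →+* Ω)
    (hψ : ψ.comp ι = algebraMap K Ω) :
    ∃ E : IntermediateField K Ω, FiniteDimensional K E ∧
      ∀ σ : Ω ≃ₐ[K] Ω, σ ∈ E.fixingSubgroup → ∀ a, σ (ψ a) = ψ a := by
  letI : Algebra K A := ι.toAlgebra
  have hfin' : Module.Finite K A := hfin
  obtain ⟨S, hS⟩ := (Module.finite_def.mp hfin')
  have hfinite : Finite (ψ '' (S : Set A)) := (S.finite_toSet.image ψ).to_subtype
  refine ⟨IntermediateField.adjoin K (ψ '' (S : Set A)),
    IntermediateField.finiteDimensional_adjoin (fun x _ => Algebra.IsIntegral.isIntegral x), ?_⟩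
  intro σ hσ a
  have hσ' : ∀ x ∈ IntermediateField.adjoin K (ψ '' (S : Set A)), σ x = x := by
    intro x hx
    exact (IntermediateField.mem_fixingSubgroup_iff _ _).mp hσ x hx
  have ha : a ∈ Submodule.span K (S : Set A) := hS ▸ Submodule.mem_top
  have hψk : ∀ (k : K) (b : A), ψ (k • b) = algebraMap K Ω k * ψ b := by
    intro k b
    rw [Algebra.smul_def, map_mul]
    congr 1
    exact RingHom.congr_fun hψ k
  induction ha using Submodule.span_induction with
  | mem x hx => exact hσ' _ (IntermediateField.subset_adjoin K _ ⟨x, hx, rfl⟩)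
  | zero => simp
  | add x y _ _ hx hy => rw [map_add, map_add, hx, hy]
  | smul k x _ hx => rw [hψk, map_mul, hx, σ.commutes]

variable {K : Type u} [Field K]

theorem isOpen_stabilizer (Y : FEt.Cat (Spec (CommRingCat.of K))) (s : FEt.fiberObj (ξ K) Y) :
    IsOpen (MulAction.stabilizer (Field.absoluteGaloisGroup K) s :
      Set (Field.absoluteGaloisGroup K)) := by
  haveI hfinY : IsFinite Y.hom := Y.prop.1
  haveI : IsAffine ((Functor.fromPUnit (Spec (CommRingCat.of K))).obj Y.right) :=
    inferInstanceAs (IsAffine (Spec (CommRingCat.of K)))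
  haveI : IsAffine Y.left := isAffine_of_isAffineHom Y.hom
  let ι : K →+* Γ(Y.left, ⊤) := ((Scheme.ΓSpecIso (CommRingCat.of K)).inv ≫ Y.hom.appTop).hom
  let ψ : Γ(Y.left, ⊤) →+* AlgebraicClosure K :=
    (s.1.appTop ≫ (Scheme.ΓSpecIso (CommRingCat.of (AlgebraicClosure K))).hom).hom
  have hι : ι.Finite := by
    have h1 : Y.hom.appTop.hom.Finite := Scheme.Hom.finite_appTop Y.hom
    have h2 : ((Scheme.ΓSpecIso (CommRingCat.of K)).inv).hom.Finite :=
      RingHom.Finite.of_surjective _
        ((ConcreteCategory.bijective_of_isIso (Scheme.ΓSpecIso (CommRingCat.of K)).inv).2)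
    exact h1.comp h2
  have hψ : ψ.comp ι = algebraMap K (AlgebraicClosure K) := by
    have h0 := congrArg Scheme.Hom.appTop s.2
    rw [Scheme.Hom.comp_appTop] at h0
    have h3 := Scheme.ΓSpecIso_naturality (CommRingCat.ofHom (algebraMap K (AlgebraicClosure K)))
    have h4 : (Scheme.ΓSpecIso (CommRingCat.of K)).inv ≫ Y.hom.appTop ≫ s.1.appTop ≫
        (Scheme.ΓSpecIso (CommRingCat.of (AlgebraicClosure K))).hom =
        CommRingCat.ofHom (algebraMap K (AlgebraicClosure K)) := by
      rw [← Category.assoc Y.hom.appTop, h0, h3, Iso.inv_hom_id_assoc]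
    have h5 := congrArg CommRingCat.Hom.hom h4
    ext k
    exact RingHom.congr_fun h5 k
  obtain ⟨E, hE, hfix⟩ := exists_fd_fix ι hι ψ hψ
  have hopen : IsOpen (E.fixingSubgroup : Set (AlgebraicClosure K ≃ₐ[K] AlgebraicClosure K)) :=
    E.fixingSubgroup_isOpen
  have hle : (E.fixingSubgroup : Subgroup (Field.absoluteGaloisGroup K)) ≤
      MulAction.stabilizer (Field.absoluteGaloisGroup K) s := by
    intro (σ : Field.absoluteGaloisGroup K) hσ
    show σ • s = s
    apply Subtype.ext
    show specσ σ ≫ s.1 = s.1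
    apply ext_of_isAffine
    rw [Scheme.Hom.comp_appTop,
      ← cancel_mono (Scheme.ΓSpecIso (CommRingCat.of (AlgebraicClosure K))).hom,
      Category.assoc, Scheme.ΓSpecIso_naturality, ← Category.assoc]
    apply CommRingCat.hom_ext
    ext a
    exact hfix (ae σ) hσ a
  exact Subgroup.isOpen_mono hle hopen

end Groth.Agent.H91.GalK_CONT
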