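import Groth.Statements.S18298
import Groth.Agent.H91.AMonPt
import Groth.Agent.H91.MagnetDense2

/-! Definitions for the change-of-group theorem for attractors (S18298, helper91). -/

set_option autoImplicit false
universe u

namespace Groth.Agent.H91.Cm2Defs

variable {M Z : Type} [AddCommGroup M] [AddCommGroup Z]

/-- `N → Y`, the restriction of `f` (the map used in `Magnet.attrComap`). -/
def kap (f : M →+ Z) (Y : AddSubmonoid Z) : ↥(Y.comap f) →+ ↥Y :=
  (f.comp (Y.comap f).subtype).codRestrict Y (fun x => x.2)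

/-- the graph embedding `n ↦ (n, f n)` of `N = f⁻¹ Y` into `M × Y`. -/
def jgr (f : M →+ Z) (Y : AddSubmonoid Z) : ↥(Y.comap f) →+ M × ↥Y :=
  (AddMonoidHom.inl M ↥Y).comp (Y.comap f).subtype + (AddMonoidHom.inr M ↥Y).comp (kap f Y)

/-- `f` with codomain restricted to its range. -/
def fR (f : M →+ Z) : M →+ ↥f.range.toAddSubmonoid :=
  f.codRestrict f.range.toAddSubmonoid (fun m => ⟨m, rfl⟩)

/-- `Y → range f`. -/
def yR (f : M →+ Z) (Y : AddSubmonoid Z) (hY : Y ≤ AddMonoidHom.mrange f) :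
    ↥Y →+ ↥f.range.toAddSubmonoid :=
  AddSubmonoid.inclusion (fun y hy => hY hy)

@[simp] theorem jgr_apply (f : M →+ Z) (Y : AddSubmonoid Z) (n : ↥(Y.comap f)) :
    jgr f Y n = ((n : M), kap f Y n) := by
  simp [jgr]

@[simp] theorem kap_coe (f : M →+ Z) (Y : AddSubmonoid Z) (n : ↥(Y.comap f)) :
    ((kap f Y n : ↥Y) : Z) = f (n : M) := rfl

end Groth.Agent.H91.Cm2Defs
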