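import Mathlib
import Groth.Agent.H91.UnitsDense

/-!
# Flat covers are jointly epimorphic; action maps of group schemes over a field are flat (helper91)
-/

set_option autoImplicit false
universe u
open CategoryTheory Limits AlgebraicGeometry MonoidalCategory CartesianMonoidalCategory MonObj
open Magnet Magnet.MonAct

namespace Groth.Agent.H91.A1Flat

/-- Two morphisms that agree after precomposition with flat morphisms whose images cover the source
are equal. -/
theorem eq_of_flat_cover {P X : Scheme.{u}} (f g : P ⟶ X)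
    (h : ∀ p : P, ∃ (Q : Scheme.{u}) (m : Q ⟶ P), Flat m ∧ p ∈ Set.range m ∧ m ≫ f = m ≫ g) :
    f = g := by
  choose Q m hflat hp hm using h
  haveI : ∀ p, Flat (m p) := hflat
  haveI : Surjective (Sigma.desc m) := by
    apply Surjective.sigmaDesc_of_union_range_eq_univ
    ext p
    simp only [Set.mem_iUnion, Set.mem_univ, iff_true]
    exact ⟨p, hp p⟩
  haveI : Epi (Sigma.desc m) := Flat.epi_of_flat_of_surjective _
  rw [← cancel_epi (Sigma.desc m)]
  apply Sigma.hom_ext
  intro p
  rw [Sigma.ι_desc_assoc, Sigma.ι_desc_assoc]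
  exact hm p

variable {k : Type u} [Field k]

/-- the shear map `(g, z) ↦ (g, g • z)` is an isomorphism. -/
theorem isIso_shear {C : Type*} [Category C] [CartesianMonoidalCategory C] {G Z : C} [GrpObj G]
    (α : MonAct G Z) : IsIso (lift (fst G Z) α.act) := by
  refine ⟨lift (fst G Z) (lift (fst G Z ≫ ι[G]) (snd G Z) ≫ α.act), ?_, ?_⟩
  · apply hom_ext_lift₂
    intro T g z
    have h1 : g ≫ ι[G] = g⁻¹ := (Hom.inv_def g).symm
    have e1 : lift g z ≫ lift (fst G Z) α.act = lift g (lift g z ≫ α.act) := by
      rw [comp_lift, lift_fst]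
    have e2 : ∀ w : T ⟶ Z, lift g w ≫ lift (fst G Z) (lift (fst G Z ≫ ι[G]) (snd G Z) ≫ α.act) =
        lift g (lift g⁻¹ w ≫ α.act) := by
      intro w
      rw [comp_lift, lift_fst, comp_lift_assoc, lift_fst_assoc, lift_snd, h1]
    rw [Category.comp_id, ← Category.assoc, e1, e2, ← α.lift_mul_act, inv_mul_cancel,
      α.lift_one_act]
  · apply hom_ext_lift₂
    intro T g z
    have h1 : g ≫ ι[G] = g⁻¹ := (Hom.inv_def g).symm
    have e1 : ∀ w : T ⟶ Z, lift g w ≫ lift (fst G Z) α.act = lift g (lift g w ≫ α.act) := by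
      intro w
      rw [comp_lift, lift_fst]
    have e2 : lift g z ≫ lift (fst G Z) (lift (fst G Z ≫ ι[G]) (snd G Z) ≫ α.act) =
        lift g (lift g⁻¹ z ≫ α.act) := by
      rw [comp_lift, lift_fst, comp_lift_assoc, lift_fst_assoc, lift_snd, h1]
    rw [Category.comp_id, ← Category.assoc, e2, e1, ← α.lift_mul_act, mul_inv_cancel,
      α.lift_one_act]

/-- Over a field, the action map of a group scheme is flat. -/
theorem flat_act {G Z : Over (Spec (CommRingCat.of k))} [GrpObj G] (α : MonAct G Z) :
    Flat α.act.left := by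
  haveI := isIso_shear α
  have h : α.act = lift (fst G Z) α.act ≫ snd G Z := (lift_snd _ _).symm
  have h' : α.act.left = (lift (fst G Z) α.act).left ≫ (snd G Z).left := by
    rw [← Over.comp_left, ← h]
  rw [h']
  haveI : Flat (snd G Z).left := by
    rw [Over.snd_left]
    exact MorphismProperty.pullback_snd _ _ (UnitsDense.flat_hom G)
  haveI : IsIso (lift (fst G Z) α.act).left :=
    (Over.forget _).map_isIso (lift (fst G Z) α.act)
  infer_instance

end Groth.Agent.H91.A1Flat
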