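import Mathlib
import Groth.Agent.H91.MagnetDense2
import Groth.Agent.H93.GaGmLaw

/-!
# Ring-level facts about `ℤ[ℕ·1] ⊗ R ≅ R[X]` (helper91)

`N1 = AddSubmonoid.multiples (1 : ℤ)`; `C R = ℤ[N1] ⊗ R`; comparison with `R[X]`, `t`-adic separatedness of
localisations `C_{g b}` with `g ≡ b mod t`, and avoidance of roots.
-/

set_option autoImplicit false
universe u
open scoped TensorProduct Polynomial
open Groth.Agent.H91.MagnetDense

namespace Groth.Agent.H91.A1Ring

attribute [local instance 10] algZ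

/-- the magnet `ℕ·1 ⊆ ℤ`. -/
abbrev N1 : AddSubmonoid ℤ := AddSubmonoid.multiples (1 : ℤ)

/-- the generator. -/
def one1 : N1 := ⟨1, AddSubmonoid.mem_multiples 1⟩

/-- the coordinate of `ℤ[N1]`. -/
noncomputable def t0 : BM.{u} N1 := MonoidAlgebra.single (Multiplicative.ofAdd one1) 1

theorem exists_nsmul (x : N1) : ∃ n : ℕ, x = n • one1 := by
  obtain ⟨n, hn⟩ := (AddSubmonoid.mem_multiples_iff _ _).mp x.2
  refine ⟨n, Subtype.ext ?_⟩
  show (x : ℤ) = ((n • one1 : N1) : ℤ)
  rw [AddSubmonoidClass.coe_nsmul, ← hn]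
  rfl

theorem single_eq_pow (x : Multiplicative N1) :
    ∃ n : ℕ, (MonoidAlgebra.single x 1 : BM.{u} N1) = t0 ^ n := by
  obtain ⟨n, hn⟩ := exists_nsmul (Multiplicative.toAdd x)
  refine ⟨n, ?_⟩
  have hx : x = (Multiplicative.ofAdd one1) ^ n := by
    rw [← ofAdd_nsmul, ← hn]; rfl
  rw [hx, t0, MonoidAlgebra.single_pow, one_pow]

theorem hom_ext {R : Type*} [Semiring R] (φ ψ : BM.{u} N1 →+* R) (h : φ t0 = ψ t0) : φ = ψ := by
  apply MonoidAlgebra.ringHom_ext
  · intro r
    have := Groth.Agent.H93.GaGmLaw.ulift_hom_ext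
      (φ.comp (MonoidAlgebra.singleOneRingHom)) (ψ.comp (MonoidAlgebra.singleOneRingHom))
    exact congrArg (fun f => f r) this
  · intro x
    obtain ⟨n, hn⟩ := single_eq_pow x
    rw [hn, map_pow, map_pow, h]

/-- the monoid hom `x ↦ f ^ x`. -/
noncomputable def powHom {R : Type*} [CommRing R] (f : R) : Multiplicative N1 →* R where
  toFun x := f ^ (Multiplicative.toAdd x).1.toNat
  map_one' := by
    change f ^ ((0 : N1) : ℤ).toNat = 1
    simp
  map_mul' x y := by
    change f ^ (((Multiplicative.toAdd x) + (Multiplicative.toAdd y) : N1) : ℤ).toNat = _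
    obtain ⟨n, hn⟩ := (AddSubmonoid.mem_multiples_iff _ _).mp (Multiplicative.toAdd x).2
    obtain ⟨m, hm⟩ := (AddSubmonoid.mem_multiples_iff _ _).mp (Multiplicative.toAdd y).2
    have h0x : (0 : ℤ) ≤ ((Multiplicative.toAdd x : N1) : ℤ) := by rw [← hn]; positivity
    have h0y : (0 : ℤ) ≤ ((Multiplicative.toAdd y : N1) : ℤ) := by rw [← hm]; positivity
    rw [AddSubmonoid.coe_add, Int.toNat_add h0x h0y, pow_add]

/-- the ring hom `ℤ[N1] → R` with `t0 ↦ f`. -/
noncomputable def liftT {R : Type u} [CommRing R] (f : R) : BM.{u} N1 →ₐ[ULift.{u} ℤ] R :=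
  MonoidAlgebra.lift (ULift.{u} ℤ) R (Multiplicative N1) (powHom f)

theorem liftT_t0 {R : Type u} [CommRing R] (f : R) : liftT f t0 = f := by
  rw [liftT, t0, MonoidAlgebra.lift_single, one_smul]
  change f ^ ((one1 : N1) : ℤ).toNat = f
  change f ^ (1 : ℤ).toNat = f
  simp

section C

variable (R : Type u) [CommRing R]

/-- `ℤ[N1] ⊗ R`. -/
abbrev C : Type u := BM.{u} N1 ⊗[ULift.{u} ℤ] R

variable {R}

/-- the coordinate of `C R`. -/
noncomputable def tC : C R := t0 ⊗ₜ 1

/-- `R → C R`. -/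
noncomputable def incl : R →+* C R :=
  (Algebra.TensorProduct.includeRight : R →ₐ[ULift.{u} ℤ] C R).toRingHom

/-- `ℤ[N1] → C R`. -/
noncomputable def inclL : BM.{u} N1 →+* C R := Algebra.TensorProduct.includeLeftRingHom

theorem inclL_t0 : inclL (R := R) t0 = tC := rfl

theorem tmul_eq (a : BM.{u} N1) (r : R) : (a ⊗ₜ r : C R) = inclL a * incl r := by
  change a ⊗ₜ r = (a ⊗ₜ (1 : R)) * ((1 : BM.{u} N1) ⊗ₜ r)
  rw [Algebra.TensorProduct.tmul_mul_tmul, mul_one, one_mul]

theorem ringHom_ext {A : Type*} [Semiring A] (φ ψ : C R →+* A) (h1 : φ tC = ψ tC)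
    (h2 : ∀ r, φ (incl r) = ψ (incl r)) : φ = ψ := by
  have hL : φ.comp inclL = ψ.comp inclL := hom_ext _ _ h1
  apply RingHom.ext
  intro x
  induction x using TensorProduct.induction_on with
  | zero => rw [map_zero, map_zero]
  | tmul a r =>
    rw [tmul_eq, map_mul, map_mul, h2]
    exact congrArg (· * ψ (incl r)) (congrArg (fun f => f a) hL)
  | add a b ha hb => rw [map_add, map_add, ha, hb]

/-- the comparison `C R → R[X]`. -/
noncomputable def Ψ : C R →+* R[X] :=
  (Algebra.TensorProduct.lift (liftT (Polynomial.X : R[X]))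
    ((Polynomial.CAlgHom : R →ₐ[R] R[X]).restrictScalars (ULift.{u} ℤ))
    (fun _ _ => Commute.all _ _)).toRingHom

theorem Ψ_tC : Ψ (tC : C R) = Polynomial.X := by
  change (Algebra.TensorProduct.lift _ _ _) (t0 ⊗ₜ (1 : R)) = _
  rw [Algebra.TensorProduct.lift_tmul, liftT_t0, map_one, mul_one]

theorem Ψ_incl (r : R) : Ψ (incl r) = Polynomial.C r := by
  change (Algebra.TensorProduct.lift _ _ _) ((1 : BM.{u} N1) ⊗ₜ r) = _
  rw [Algebra.TensorProduct.lift_tmul, map_one, one_mul]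
  rfl

/-- the inverse comparison. -/
noncomputable def Θ : R[X] →+* C R := Polynomial.eval₂RingHom (incl (R := R)) (tC (R := R))

theorem Θ_Ψ (x : C R) : Θ (Ψ x) = x := by
  have : (Θ.comp Ψ : C R →+* C R) = RingHom.id _ := by
    apply ringHom_ext
    · rw [RingHom.comp_apply, Ψ_tC, RingHom.id_apply]
      exact Polynomial.eval₂_X _ _
    · intro r
      rw [RingHom.comp_apply, Ψ_incl, RingHom.id_apply]
      exact Polynomial.eval₂_C _ _
  exact congrArg (fun f => f x) this

theorem Ψ_injective : Function.Injective (Ψ : C R →+* R[X]) :=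
  Function.LeftInverse.injective Θ_Ψ

/-- the zero section. -/
noncomputable def ε₀ : C R →+* R := Polynomial.constantCoeff.comp Ψ

theorem ε₀_incl (r : R) : ε₀ (incl r) = r := by
  rw [ε₀, RingHom.comp_apply, Ψ_incl]
  exact Polynomial.coeff_C_zero

theorem ε₀_tC : ε₀ (tC : C R) = 0 := by
  rw [ε₀, RingHom.comp_apply, Ψ_tC]
  exact Polynomial.coeff_X_zero

theorem eval_eq {K : Type*} [CommRing K] (ev : C R →+* K) :
    ev = (Polynomial.eval₂RingHom (ev.comp incl) (ev tC)).comp Ψ := by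
  refine ringHom_ext ev ((Polynomial.eval₂RingHom (ev.comp incl) (ev tC)).comp Ψ) ?_ ?_
  · rw [RingHom.comp_apply, Ψ_tC]
    exact (Polynomial.eval₂_X _ _).symm
  · intro r
    rw [RingHom.comp_apply, Ψ_incl]
    exact (Polynomial.eval₂_C (ev.comp incl) (ev tC)).symm

/-- a ring hom out of `C R` from a ring hom on `R` and a value of `t`. -/
noncomputable def mkEv {K : Type*} [CommRing K] (β : R →+* K) (c : K) : C R →+* K :=
  (Polynomial.eval₂RingHom β c).comp Ψ

theorem mkEv_tC {K : Type*} [CommRing K] (β : R →+* K) (c : K) : mkEv β c tC = c := by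
  rw [mkEv, RingHom.comp_apply, Ψ_tC]
  exact Polynomial.eval₂_X _ _

theorem mkEv_incl {K : Type*} [CommRing K] (β : R →+* K) (c : K) (r : R) :
    mkEv β c (incl r) = β r := by
  rw [mkEv, RingHom.comp_apply, Ψ_incl]
  exact Polynomial.eval₂_C _ _

theorem exists_decomp (c : C R) : ∃ ν : C R, c = incl (ε₀ c) + tC * ν := by
  refine ⟨Θ (Polynomial.divX (Ψ c)), ?_⟩
  have h := Polynomial.divX_mul_X_add (Ψ c)
  have h2 : Θ (Ψ c) = Θ (Polynomial.divX (Ψ c) * Polynomial.X + Polynomial.C ((Ψ c).coeff 0)) := by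
    rw [h]
  rw [Θ_Ψ, map_add, map_mul] at h2
  have hX : Θ (Polynomial.X : R[X]) = tC := Polynomial.eval₂_X _ _
  have hC : Θ (Polynomial.C ((Ψ c).coeff 0)) = incl (ε₀ c) := Polynomial.eval₂_C _ _
  rw [hX, hC] at h2
  calc c = Θ (Polynomial.divX (Ψ c)) * tC + incl (ε₀ c) := h2
    _ = incl (ε₀ c) + tC * Θ (Polynomial.divX (Ψ c)) := by ring

/-- `(H)`: `C R` localised at `b` is `t`-adically separated. -/
theorem sepH (b : R) (c : C R)
    (h : ∀ n : ℕ, ∃ (j : ℕ) (d : C R), incl b ^ j * c = (tC : C R) ^ n * d) :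
    ∃ j : ℕ, incl b ^ j * c = 0 := by
  obtain ⟨j, d, hd⟩ := h ((Ψ c).natDegree + 1)
  refine ⟨j, Ψ_injective ?_⟩
  rw [map_zero, map_mul, map_pow, Ψ_incl]
  have h1 : Polynomial.C b ^ j * Ψ c = Polynomial.X ^ ((Ψ c).natDegree + 1) * Ψ d := by
    rw [← Ψ_incl, ← map_pow, ← map_mul, hd, map_mul, map_pow, Ψ_tC]
  ext i
  rw [Polynomial.coeff_zero, ← map_pow, Polynomial.coeff_C_mul]
  by_cases hi : i < (Ψ c).natDegree + 1
  · have h2 : (Polynomial.C b ^ j * Ψ c).coeff i =
        (Polynomial.X ^ ((Ψ c).natDegree + 1) * Ψ d).coeff i := by rw [h1]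
    rw [← map_pow, Polynomial.coeff_C_mul, Polynomial.coeff_X_pow_mul', if_neg (by omega)] at h2
    exact h2
  · rw [Polynomial.coeff_eq_zero_of_natDegree_lt (by omega), mul_zero]

end C

/-- abstract `t`-adic separatedness of `C_{g b}` when `g ≡ b mod t`. -/
theorem sep_abs {A : Type*} [CommRing A] (t g b ν : A) (hν : g = b + t * ν)
    (H : ∀ c : A, (∀ n : ℕ, ∃ (j : ℕ) (d : A), b ^ j * c = t ^ n * d) → ∃ j : ℕ, b ^ j * c = 0)
    (A' : Type*) [CommRing A'] [Algebra A A'] [IsLocalization.Away (g * b) A'] (x : A')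
    (hx : ∀ n : ℕ, ∃ x' : A', x = algebraMap A A' t ^ n * x') : x = 0 := by
  -- Claim'
  have claim1 : ∀ (n : ℕ) (y d : A), g * y = t ^ n * d → ∃ d' : A, b ^ n * y = t ^ n * d' := by
    intro n y d hy
    have aux : ∀ m : ℕ, ∃ e : A, b ^ m * y - (-(t * ν)) ^ m * y = t ^ n * e := by
      intro m
      induction m with
      | zero => exact ⟨0, by ring⟩
      | succ m ih =>
        obtain ⟨e, he⟩ := ih
        refine ⟨b * e + (-(t * ν)) ^ m * d, ?_⟩
        have e' : b ^ (m + 1) * y - (-(t * ν)) ^ (m + 1) * y =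
            b * (b ^ m * y - (-(t * ν)) ^ m * y) + (-(t * ν)) ^ m * (g * y) := by
          rw [hν]; ring
        rw [e', he, hy]; ring
    obtain ⟨e, he⟩ := aux n
    refine ⟨e + (-ν) ^ n * y, ?_⟩
    have h2 : (-(t * ν)) ^ n * y = t ^ n * ((-ν) ^ n * y) := by
      rw [show -(t * ν) = t * (-ν) by ring, mul_pow]; ring
    have h3 : b ^ n * y = (b ^ n * y - (-(t * ν)) ^ n * y) + (-(t * ν)) ^ n * y := by ring
    rw [h3, he, h2]; ring
  have claim2 : ∀ (n i : ℕ) (y d : A), g ^ i * y = t ^ n * d →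
      ∃ d' : A, b ^ (n * i) * y = t ^ n * d' := by
    intro n i
    induction i with
    | zero => intro y d hy; exact ⟨d, by simpa using hy⟩
    | succ i ih =>
      intro y d hy
      have h1 : g * (g ^ i * y) = t ^ n * d := by
        rw [← mul_assoc, ← pow_succ']; exact hy
      obtain ⟨d1, h2⟩ := claim1 n _ _ h1
      have h3 : g ^ i * (b ^ n * y) = t ^ n * d1 := by
        rw [show g ^ i * (b ^ n * y) = b ^ n * (g ^ i * y) by ring]; exact h2
      obtain ⟨d2, h4⟩ := ih _ _ h3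
      refine ⟨d2, ?_⟩
      rw [show b ^ (n * (i + 1)) * y = b ^ (n * i) * (b ^ n * y) by ring]
      exact h4
  obtain ⟨⟨c, s⟩, hcs⟩ := IsLocalization.surj (Submonoid.powers (g * b)) x
  obtain ⟨k, hk⟩ := s.2
  simp only at hcs
  have hunit : IsUnit (algebraMap A A' (g * b)) := IsLocalization.Away.algebraMap_isUnit (g * b)
  have hb_unit : IsUnit (algebraMap A A' b) := by
    rw [map_mul] at hunit
    exact isUnit_of_mul_isUnit_right hunit
  have key : ∀ n : ℕ, ∃ (j : ℕ) (d : A), b ^ j * c = t ^ n * d := by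
    intro n
    obtain ⟨x', hx'⟩ := hx n
    obtain ⟨⟨c', s'⟩, hcs'⟩ := IsLocalization.surj (Submonoid.powers (g * b)) x'
    obtain ⟨k', hk'⟩ := s'.2
    simp only at hcs'
    have hk2 : (g * b) ^ k = (s : A) := hk
    have hk2' : (g * b) ^ k' = (s' : A) := hk'
    have e1 : algebraMap A A' (c * (g * b) ^ k') = algebraMap A A' (t ^ n * (c' * (g * b) ^ k)) := by
      rw [map_mul, ← hcs, map_mul (algebraMap A A') (t ^ n), map_pow (algebraMap A A') t,
        map_mul (algebraMap A A') c', ← hcs', hx', hk2, hk2']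
      ring
    obtain ⟨⟨_, l, rfl⟩, hl⟩ := (IsLocalization.eq_iff_exists (Submonoid.powers (g * b)) A').mp e1
    simp only at hl
    have h5 : g ^ (l + k') * (b ^ (l + k') * c) = t ^ n * ((g * b) ^ l * (c' * (g * b) ^ k)) := by
      calc g ^ (l + k') * (b ^ (l + k') * c) = (g * b) ^ l * (c * (g * b) ^ k') := by ring
        _ = (g * b) ^ l * (t ^ n * (c' * (g * b) ^ k)) := hl
        _ = t ^ n * ((g * b) ^ l * (c' * (g * b) ^ k)) := by ring
    obtain ⟨d', h6⟩ := claim2 n _ _ _ h5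
    refine ⟨n * (l + k') + (l + k'), d', ?_⟩
    rw [pow_add, mul_assoc]
    exact h6
  obtain ⟨j, hj⟩ := H c key
  have h7 : algebraMap A A' b ^ j * algebraMap A A' c = 0 := by
    rw [← map_pow (algebraMap A A'), ← map_mul (algebraMap A A'), hj, map_zero]
  have h8 : algebraMap A A' c = 0 := (hb_unit.pow j).mul_right_eq_zero.mp h7
  rw [h8] at hcs
  have h9 : IsUnit (algebraMap A A' s) := by
    rw [← hk, map_pow]
    exact hunit.pow k
  exact h9.mul_left_eq_zero.mp hcs

/-- avoidance of roots in the algebraic closure. -/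
theorem exists_nonroot {K : Type u} [Field K] (q : K[X]) (hq : q.coeff 0 ≠ 0) :
    ∃ c : AlgebraicClosure K, c ≠ 0 ∧
      Polynomial.eval₂ (algebraMap K (AlgebraicClosure K)) c q ≠ 0 := by
  by_contra hcon
  push_neg at hcon
  have hq' : q.map (algebraMap K (AlgebraicClosure K)) ≠ 0 := by
    intro h0
    apply hq
    have := congrArg (fun p => Polynomial.coeff p 0) h0
    simp only [Polynomial.coeff_map, Polynomial.coeff_zero] at this
    exact (map_eq_zero _).mp this
  have hz : (Polynomial.X * q.map (algebraMap K (AlgebraicClosure K))) = 0 := by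
    apply Polynomial.funext
    intro c
    rw [Polynomial.eval_mul, Polynomial.eval_X, Polynomial.eval_zero, Polynomial.eval_map]
    by_cases hc : c = 0
    · rw [hc, zero_mul]
    · rw [hcon c hc, mul_zero]
  rcases mul_eq_zero.mp hz with h | h
  · exact Polynomial.X_ne_zero h
  · exact hq' h

end Groth.Agent.H91.A1Ring
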