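import Mathlib
import Groth.Agent.H91.AMonPt
import Groth.Agent.H91.A1Ring

/-!
# Points of `A(ℕ·1)_S × Spec B` (helper91)
-/

set_option autoImplicit false
universe u
open CategoryTheory Limits AlgebraicGeometry MonoidalCategory CartesianMonoidalCategory MonObj
open Magnet Magnet.MonAct
open scoped TensorProduct
open Groth.Agent.H91.MagnetDense Groth.Agent.H91.A1Ring Groth.Agent.H91.AMonPt

namespace Groth.Agent.H91.A1Pts

attribute [local instance 10] algZ

variable {S : Scheme.{u}} {B : Type u} [CommRing B] (t : Spec (CommRingCat.of B) ⟶ S)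

/-- `A(ℕ·1)_S × Spec B`. -/
noncomputable abbrev PB : Over S := AMonS S N1 ⊗ Over.mk t

/-- the affine chart. -/
noncomputable def eB : Spec (CommRingCat.of (C B)) ≅ (PB t).left :=
  (isPullback_cmp S N1 B t).isoPullback

theorem eB_fst : (eB t).hom ≫ (fst (AMonS S N1) (Over.mk t)).left ≫
    pullback.fst (AMon (ULift.{u} ℤ) N1).hom (gS S) = Spec.map (inl N1 B) := by
  have h1 : (eB t).hom ≫ pullback.fst (AMonS S N1).hom t = cmp S N1 B t :=
    (isPullback_cmp S N1 B t).isoPullback_hom_fst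
  have h2 : (fst (AMonS S N1) (Over.mk t)).left = pullback.fst (AMonS S N1).hom t := rfl
  rw [h2, ← Category.assoc, h1, cmp_fst]

theorem eB_snd : (eB t).hom ≫ (snd (AMonS S N1) (Over.mk t)).left = Spec.map (inr N1 B) := by
  have h1 : (eB t).hom ≫ pullback.snd (AMonS S N1).hom t = Spec.map (inr N1 B) :=
    (isPullback_cmp S N1 B t).isoPullback_hom_snd
  exact h1

variable {t}
variable {T T' : Over S}

/-- the ring hom `C B → Γ(T)` classified by a `T`-point. -/
noncomputable def evP (τ : T ⟶ PB t) : C B →+* Γ(T.left, ⊤) :=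
  ((Scheme.ΓSpecIso (CommRingCat.of (C B))).inv ≫ (τ.left ≫ (eB t).inv).appTop).hom

theorem evP_comp (a : T' ⟶ T) (τ : T ⟶ PB t) (x : C B) :
    evP (a ≫ τ) x = a.left.appTop.hom (evP τ x) := by
  unfold evP
  rw [Over.comp_left, Category.assoc, Scheme.Hom.comp_appTop]
  rfl

theorem evP_ext {τ τ' : T ⟶ PB t} (h : evP τ = evP τ') : τ = τ' := by
  apply Over.OverMorphism.ext
  rw [← cancel_mono (eB t).inv]
  refine ext_to_Spec (R := C B) ?_
  apply CommRingCat.hom_ext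
  exact h

theorem evP_inclL (τ : T ⟶ PB t) (a : BM.{u} N1) :
    evP τ (inclL a) = ptM (τ ≫ fst (AMonS S N1) (Over.mk t)) a := by
  have e0 : (τ ≫ fst (AMonS S N1) (Over.mk t)).left ≫
      pullback.fst (AMon (ULift.{u} ℤ) N1).hom (gS S) =
      (τ.left ≫ (eB t).inv) ≫ Spec.map (inl N1 B) := by
    have hinv : (eB t).inv ≫ Spec.map (inl N1 B) = (fst (AMonS S N1) (Over.mk t)).left ≫
        pullback.fst (AMon (ULift.{u} ℤ) N1).hom (gS S) :=
      (Iso.inv_comp_eq _).mpr (eB_fst t).symm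
    rw [Over.comp_left, Category.assoc, Category.assoc]
    exact congrArg (fun ψ => τ.left ≫ ψ) hinv.symm
  have e1 : ptM (τ ≫ fst (AMonS S N1) (Over.mk t)) =
      ((Scheme.ΓSpecIso (CommRingCat.of (BM.{u} N1))).inv ≫
        ((τ.left ≫ (eB t).inv) ≫ Spec.map (inl N1 B)).appTop).hom :=
    congrArg (fun ψ : T.left ⟶ Spec (CommRingCat.of (BM.{u} N1)) =>
      ((Scheme.ΓSpecIso (CommRingCat.of (BM.{u} N1))).inv ≫ ψ.appTop).hom) e0
  have nat : inl N1 B ≫ (Scheme.ΓSpecIso (CommRingCat.of (C B))).inv =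
      (Scheme.ΓSpecIso (CommRingCat.of (BM.{u} N1))).inv ≫ (Spec.map (inl N1 B)).appTop :=
    Scheme.ΓSpecIso_inv_naturality _
  have e2 : (Scheme.ΓSpecIso (CommRingCat.of (BM.{u} N1))).inv ≫
      ((τ.left ≫ (eB t).inv) ≫ Spec.map (inl N1 B)).appTop =
      inl N1 B ≫ (Scheme.ΓSpecIso (CommRingCat.of (C B))).inv ≫ (τ.left ≫ (eB t).inv).appTop := by
    rw [Scheme.Hom.comp_appTop, ← Category.assoc]
    exact (congrArg (fun ψ => ψ ≫ (τ.left ≫ (eB t).inv).appTop) nat.symm).trans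
      (Category.assoc _ _ _)
  rw [e1, e2]
  rfl

/-- the ring hom `B → Γ(T)` of the second component. -/
noncomputable def βP (σ : T ⟶ Over.mk t) : B →+* Γ(T.left, ⊤) :=
  ((Scheme.ΓSpecIso (CommRingCat.of B)).inv ≫ σ.left.appTop).hom

theorem evP_incl (τ : T ⟶ PB t) (b : B) :
    evP τ (incl b) = βP (τ ≫ snd (AMonS S N1) (Over.mk t)) b := by
  have e0 : (τ ≫ snd (AMonS S N1) (Over.mk t)).left = (τ.left ≫ (eB t).inv) ≫ Spec.map (inr N1 B) := by
    have hinv : (eB t).inv ≫ Spec.map (inr N1 B) = (snd (AMonS S N1) (Over.mk t)).left :=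
      (Iso.inv_comp_eq _).mpr (eB_snd t).symm
    rw [Over.comp_left, Category.assoc]
    exact congrArg (fun ψ => τ.left ≫ ψ) hinv.symm
  have e1 : βP (τ ≫ snd (AMonS S N1) (Over.mk t)) =
      ((Scheme.ΓSpecIso (CommRingCat.of B)).inv ≫
        ((τ.left ≫ (eB t).inv) ≫ Spec.map (inr N1 B)).appTop).hom :=
    congrArg (fun ψ : T.left ⟶ Spec (CommRingCat.of B) =>
      ((Scheme.ΓSpecIso (CommRingCat.of B)).inv ≫ ψ.appTop).hom) e0
  have nat : inr N1 B ≫ (Scheme.ΓSpecIso (CommRingCat.of (C B))).inv =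
      (Scheme.ΓSpecIso (CommRingCat.of B)).inv ≫ (Spec.map (inr N1 B)).appTop :=
    Scheme.ΓSpecIso_inv_naturality _
  have e2 : (Scheme.ΓSpecIso (CommRingCat.of B)).inv ≫
      ((τ.left ≫ (eB t).inv) ≫ Spec.map (inr N1 B)).appTop =
      inr N1 B ≫ (Scheme.ΓSpecIso (CommRingCat.of (C B))).inv ≫ (τ.left ≫ (eB t).inv).appTop := by
    rw [Scheme.Hom.comp_appTop, ← Category.assoc]
    exact (congrArg (fun ψ => ψ ≫ (τ.left ≫ (eB t).inv).appTop) nat.symm).trans
      (Category.assoc _ _ _)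
  rw [e1, e2]
  rfl

theorem evP_tC (τ : T ⟶ PB t) :
    evP τ tC = ptM (τ ≫ fst (AMonS S N1) (Over.mk t)) t0 := evP_inclL τ t0

/-- points are determined by the coordinate and the second component. -/
theorem pt_ext {τ τ' : T ⟶ PB t} (h1 : evP τ tC = evP τ' tC)
    (h2 : τ ≫ snd (AMonS S N1) (Over.mk t) = τ' ≫ snd (AMonS S N1) (Over.mk t)) : τ = τ' := by
  apply evP_ext
  apply A1Ring.ringHom_ext _ _ h1
  intro b
  rw [evP_incl, evP_incl, h2]

section FromRing

variable (t)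
variable {K : Type u} [CommRing K] (ev : C B →+* K)

/-- the scheme map of a ring hom `C B → K`. -/
noncomputable def ζ : Spec (CommRingCat.of K) ⟶ (PB t).left :=
  Spec.map (CommRingCat.ofHom ev) ≫ (eB t).hom

/-- `Spec K` over `S` through the point. -/
noncomputable abbrev Tev : Over S := Over.mk (ζ t ev ≫ (PB t).hom)

/-- the point. -/
noncomputable def τev : Tev t ev ⟶ PB t := Over.homMk (ζ t ev) rfl

theorem ζ_hom (ev : C B →+* K) :
    ζ t ev ≫ (PB t).hom = Spec.map (CommRingCat.ofHom (ev.comp incl)) ≫ t := by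
  have h1 : (PB t).hom = (snd (AMonS S N1) (Over.mk t)).left ≫ t := (Over.w (snd (AMonS S N1) (Over.mk t))).symm
  rw [h1, ζ, Category.assoc, ← Category.assoc (eB t).hom, eB_snd, ← Category.assoc, ← Spec.map_comp]
  rfl

theorem ζ_hom_eq (ev ev' : C B →+* K) (h : ev.comp incl = ev'.comp incl) :
    ζ t ev ≫ (PB t).hom = ζ t ev' ≫ (PB t).hom := by
  rw [ζ_hom, ζ_hom, h]

/-- another point with the same structure map. -/
noncomputable def τev' (ev ev' : C B →+* K) (h : ev.comp incl = ev'.comp incl) :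
    Tev t ev ⟶ PB t := Over.homMk (ζ t ev') (ζ_hom_eq t ev ev' h).symm

theorem evP_of_left {T : Over S} (τ : T ⟶ PB t) (ev : C B →+* K) (e : T.left = Spec (CommRingCat.of K))
    : True := trivial

theorem evP_homMk (ev ev' : C B →+* K) (h : ev.comp incl = ev'.comp incl) (x : C B) :
    evP (τev' t ev ev' h) x = (Scheme.ΓSpecIso (CommRingCat.of K)).inv.hom (ev' x) := by
  have e0 : (τev' t ev ev' h).left ≫ (eB t).inv = Spec.map (CommRingCat.ofHom ev') := by
    change ζ t ev' ≫ (eB t).inv = _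
    rw [ζ, Category.assoc, Iso.hom_inv_id, Category.comp_id]
  have e1 : evP (τev' t ev ev' h) = ((Scheme.ΓSpecIso (CommRingCat.of (C B))).inv ≫
      (Spec.map (CommRingCat.ofHom ev')).appTop).hom :=
    congrArg (fun ψ : Spec (CommRingCat.of K) ⟶ Spec (CommRingCat.of (C B)) =>
      ((Scheme.ΓSpecIso (CommRingCat.of (C B))).inv ≫ ψ.appTop).hom) e0
  rw [e1, ← Scheme.ΓSpecIso_inv_naturality]
  rfl

theorem evP_τev (ev : C B →+* K) (x : C B) :
    evP (τev t ev) x = (Scheme.ΓSpecIso (CommRingCat.of K)).inv.hom (ev x) :=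
  evP_homMk t ev ev rfl x

end FromRing

section Action

/-- the action of `D(ℤ)` on `A(ℕ·1) × Spec B`. -/
noncomputable abbrev ρP (t : Spec (CommRingCat.of B) ⟶ S) : MonAct (AMonS S ℤ) (PB t) :=
  (subAct S ℤ N1).prod (MonAct.trivial (AMonS S ℤ) (Over.mk t))

theorem act_fst (g : T ⟶ AMonS S ℤ) (τ : T ⟶ PB t) :
    (lift g τ ≫ (ρP t).act) ≫ fst (AMonS S N1) (Over.mk t) =
      (g ≫ AMonS.map S N1.subtype) * (τ ≫ fst (AMonS S N1) (Over.mk t)) := by
  have hτ : τ = lift (τ ≫ fst (AMonS S N1) (Over.mk t)) (τ ≫ snd (AMonS S N1) (Over.mk t)) := by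
    apply CartesianMonoidalCategory.hom_ext <;> simp
  conv_lhs => rw [hτ]
  rw [lift_prod_act, lift_fst, subAct, lift_restrict_act, lift_regular_act]

theorem act_snd (g : T ⟶ AMonS S ℤ) (τ : T ⟶ PB t) :
    (lift g τ ≫ (ρP t).act) ≫ snd (AMonS S N1) (Over.mk t) =
      τ ≫ snd (AMonS S N1) (Over.mk t) := by
  have hτ : τ = lift (τ ≫ fst (AMonS S N1) (Over.mk t)) (τ ≫ snd (AMonS S N1) (Over.mk t)) := by
    apply CartesianMonoidalCategory.hom_ext <;> simp
  conv_lhs => rw [hτ]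
  rw [lift_prod_act, lift_snd, lift_trivial_act]

theorem evP_act_tC (g : T ⟶ AMonS S ℤ) (τ : T ⟶ PB t) :
    evP (lift g τ ≫ (ρP t).act) tC = ptM (g ≫ AMonS.map S N1.subtype) t0 * evP τ tC := by
  rw [evP_tC, evP_tC, act_fst]
  exact ptM_mul_single _ _ _

end Action

/-- `D(ℤ)`-points from units. -/
theorem exists_gpt (u : (Γ(T.left, ⊤))ˣ) :
    ∃ g : T ⟶ AMonS S ℤ, ptM (g ≫ AMonS.map S N1.subtype) t0 = (u : Γ(T.left, ⊤)) := by
  let χ : BM.{u} ℤ →ₐ[ULift.{u} ℤ] Γ(T.left, ⊤) :=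
    MonoidAlgebra.lift (ULift.{u} ℤ) Γ(T.left, ⊤) (Multiplicative ℤ)
      ((Units.coeHom Γ(T.left, ⊤)).comp (zpowersHom (Γ(T.left, ⊤))ˣ u))
  obtain ⟨g, hg⟩ := exists_ptM (S := S) (T := T) (M := ℤ) χ.toRingHom
  refine ⟨g, ?_⟩
  rw [ptM_map, hg]
  change χ (phi N1.subtype t0) = _
  have h1 : phi N1.subtype t0 = MonoidAlgebra.single (Multiplicative.ofAdd (1 : ℤ)) 1 := by
    rw [t0]
    exact MonoidAlgebra.mapDomainBialgHom_single _ _ _
  rw [h1, MonoidAlgebra.lift_single, one_smul]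
  simp [zpowersHom]

end Groth.Agent.H91.A1Pts
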