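import Groth.Prelude.Def_AlgGrp
import Groth.Prelude.Def_ChGrp

/-! Automorphisms of a principal bundle (cartesian action square) are `x ↦ f(x)·x` for a unique
conjugation-equivariant `f : X ⟶ G` (S11418). Purely formal from the cartesian square. -/

set_option autoImplicit false
universe u
open CategoryTheory CategoryTheory.Limits MonoidalCategory CartesianMonoidalCategory MonObj GrpObj AlgebraicGeometry

namespace Groth.Agent.H91.BundleAut

variable {S : Scheme.{u}} {G X Y : Over S} [GrpObj G]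

/-- freeness of the action from the cartesian square. -/
theorem free (a : AlgGrp.Action G X) (π : X ⟶ Y) (hcart : IsPullback (snd G X) a.act π π)
    {T : Over S} (h h' : T ⟶ G) (y : T ⟶ X) (e : lift h y ≫ a.act = lift h' y ≫ a.act) : h = h' := by
  have e1 : lift h y = lift h' y := hcart.hom_ext (by rw [lift_snd, lift_snd]) e
  have e2 := congrArg (fun z => z ≫ fst G X) e1
  simpa using e2

theorem main (a : AlgGrp.Action G X) (π : X ⟶ Y) (hcart : IsPullback (snd G X) a.act π π)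
    (φ : X ⟶ X) (hφ : φ ≫ π = π) (hφeq : (G ◁ φ) ≫ a.act = a.act ≫ φ) :
    ∃! f : X ⟶ G, (∀ (T : Over S) (g : T ⟶ G) (x : T ⟶ X),
        lift g x ≫ a.act ≫ f = g * (x ≫ f) * g⁻¹) ∧ φ = lift f (𝟙 X) ≫ a.act := by
  have hcone : 𝟙 X ≫ π = φ ≫ π := by rw [hφ, Category.id_comp]
  have hl1 : hcart.lift (𝟙 X) φ hcone ≫ snd G X = 𝟙 X := hcart.lift_fst _ _ _
  have hl2 : hcart.lift (𝟙 X) φ hcone ≫ a.act = φ := hcart.lift_snd _ _ _
  have hl : hcart.lift (𝟙 X) φ hcone = lift (hcart.lift (𝟙 X) φ hcone ≫ fst G X) (𝟙 X) := by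
    conv_lhs => rw [← lift_comp_fst_snd (hcart.lift (𝟙 X) φ hcone), hl1]
  -- key identities
  have P : ∀ (T : Over S) (x : T ⟶ X),
      lift (x ≫ hcart.lift (𝟙 X) φ hcone ≫ fst G X) x ≫ a.act = x ≫ φ := by
    intro T x
    conv_rhs => rw [← hl2, hl, ← Category.assoc, comp_lift, Category.comp_id]
  have E : ∀ (T : Over S) (g : T ⟶ G) (x : T ⟶ X),
      (lift g x ≫ a.act) ≫ φ = lift g (x ≫ φ) ≫ a.act := by
    intro T g x
    rw [Category.assoc, ← hφeq, ← Category.assoc, lift_whiskerLeft]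
  refine ⟨hcart.lift (𝟙 X) φ hcone ≫ fst G X, ⟨?_, ?_⟩, ?_⟩
  · intro T g x
    have key : (lift g x ≫ a.act) ≫ hcart.lift (𝟙 X) φ hcone ≫ fst G X =
        g * (x ≫ hcart.lift (𝟙 X) φ hcone ≫ fst G X) * g⁻¹ := by
      apply free a π hcart _ _ (lift g x ≫ a.act)
      rw [P, E, ← P T x, ← AlgGrp.Action.lift_mul_act, ← AlgGrp.Action.lift_mul_act,
        _root_.inv_mul_cancel_right]
    rw [← key, Category.assoc]
  · conv_lhs => rw [← hl2, hl]
  · rintro f' ⟨-, hf'⟩
    have e1 : lift f' (𝟙 X) = hcart.lift (𝟙 X) φ hcone :=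
      hcart.hom_ext (by rw [lift_snd, hl1]) (by rw [← hf', hl2])
    rw [← e1, lift_fst]

end Groth.Agent.H91.BundleAut
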