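import Groth.Statements.S18289
import Groth.Agent.H91.MagnetDense2

/-! Flatness and surjectivity of `A(M)_S × T ⟶ A(N)_S × T` for a faithfully flat `ℤ[N] → ℤ[M]` (helper91). -/

set_option autoImplicit false
universe u
open CategoryTheory Limits AlgebraicGeometry MonoidalCategory CartesianMonoidalCategory MonObj Opposite
open Magnet Magnet.MonAct
open Groth.Agent.H91.MagnetDense

namespace Groth.Agent.H91.FixFFG

attribute [local instance 10] algZ

variable {S : Scheme.{u}} {M N : Type} [AddCommMonoid M] [AddCommMonoid N]

theorem prop_whisker (P : MorphismProperty Scheme.{u}) [P.IsStableUnderBaseChange]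
    [P.IsStableUnderComposition] [P.ContainsIdentities] (j : N →+ M)
    (h : P (AMon.map (ULift.{u} ℤ) j).left) (T : Over S) : P (AMonS.map S j ▷ T).left := by
  have h1 : P (AMonS.map S j).left := by
    rw [AMonS.map]
    exact MorphismProperty.overPullbackMap (P := P) _ _ h
  rw [Over.whiskerRight_left]
  exact MorphismProperty.pullbackMap (P := P) h1 (P.id_mem _) (Over.w (AMonS.map S j)).symm
    (Category.id_comp _).symm

theorem ff_whisker (j : N →+ M)
    (hff : (phi.{u} j).toRingHom.FaithfullyFlat) (T : Over S) :
    Flat (AMonS.map S j ▷ T).left ∧ Surjective (AMonS.map S j ▷ T).left := by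
  obtain ⟨hfl, hsu⟩ := RingHom.FaithfullyFlat.iff_flat_and_comap_surjective.1 hff
  constructor
  · apply prop_whisker @Flat j _ T
    have : Flat (Spec.map (CommRingCat.ofHom (phi.{u} j).toRingHom)) :=
      (HasRingHomProperty.Spec_iff (P := @Flat)).2 hfl
    exact this
  · apply prop_whisker @Surjective j _ T
    have : Surjective (Spec.map (CommRingCat.ofHom (phi.{u} j).toRingHom)) :=
      (surjective_iff _).2 hsu
    exact this

end Groth.Agent.H91.FixFFG
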