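import Groth.Agent.H91.FixAbs
import Groth.Agent.H91.MagnetDense2

/-! Descent along morphisms of `Over S` whose underlying morphism is an effective epimorphism (helper91). -/

set_option autoImplicit false
universe u
open CategoryTheory Limits AlgebraicGeometry MonoidalCategory CartesianMonoidalCategory MonObj Opposite
open Magnet Magnet.MonAct

namespace Groth.Agent.H91.FixGeo

variable {S : Scheme.{u}}

theorem epi_of_effectiveEpi_left {P Q : Over S} (q : P ⟶ Q) [EffectiveEpi q.left] : Epi q := by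
  haveI : Epi q.left := inferInstance
  exact Over.epi_of_epi_left q

theorem exists_desc {P Q X : Over S} (q : P ⟶ Q) [EffectiveEpi q.left] (ψ : P ⟶ X)
    (h : ∀ (T' : Over S) (u₁ u₂ : T' ⟶ P), u₁ ≫ q = u₂ ≫ q → u₁ ≫ ψ = u₂ ≫ ψ) :
    ∃ φ : Q ⟶ X, q ≫ φ = ψ := by
  have hd : ∀ {W : Scheme.{u}} (u₁ u₂ : W ⟶ P.left), u₁ ≫ q.left = u₂ ≫ q.left →
      u₁ ≫ ψ.left = u₂ ≫ ψ.left := by
    intro W u₁ u₂ hu
    have hw : u₂ ≫ P.hom = u₁ ≫ P.hom := by
      rw [← Over.w q, ← Category.assoc, ← hu, Category.assoc]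
    have := h (Over.mk (u₁ ≫ P.hom)) (Over.homMk u₁ rfl) (Over.homMk u₂ hw) (by
      ext1
      exact hu)
    exact congrArg (fun m => m.left) this
  haveI : Epi q.left := inferInstance
  have hfac : q.left ≫ EffectiveEpi.desc q.left ψ.left hd = ψ.left := EffectiveEpi.fac _ _ _
  refine ⟨Over.homMk (EffectiveEpi.desc q.left ψ.left hd) ?_, ?_⟩
  · rw [← cancel_epi q.left, ← Category.assoc, hfac, Over.w ψ, Over.w q]
  · ext1
    exact hfac

theorem hdesc_whisker {G B X : Over S} (i : G ⟶ B) (T : Over S) [EffectiveEpi (i ▷ T).left]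
    (ψ : G ⊗ T ⟶ X)
    (h : ∀ (T' : Over S) (g₁ g₂ : T' ⟶ G) (t : T' ⟶ T), g₁ ≫ i = g₂ ≫ i →
      lift g₁ t ≫ ψ = lift g₂ t ≫ ψ) :
    ∃ φ : B ⊗ T ⟶ X, (i ▷ T) ≫ φ = ψ := by
  apply exists_desc (i ▷ T) ψ
  intro T' u₁ u₂ hu
  have h1 : (u₁ ≫ fst G T) ≫ i = (u₂ ≫ fst G T) ≫ i := by
    have := congrArg (fun m => m ≫ fst B T) hu
    simpa only [Category.assoc, whiskerRight_fst] using this
  have h2 : u₁ ≫ snd G T = u₂ ≫ snd G T := by
    have := congrArg (fun m => m ≫ snd B T) hu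
    simpa only [Category.assoc, whiskerRight_snd] using this
  have e1 : u₁ = lift (u₁ ≫ fst G T) (u₁ ≫ snd G T) := (lift_comp_fst_snd u₁).symm
  have e2 : u₂ = lift (u₂ ≫ fst G T) (u₁ ≫ snd G T) := by
    rw [h2]; exact (lift_comp_fst_snd u₂).symm
  rw [e1, e2]
  exact h T' _ _ _ h1

end Groth.Agent.H91.FixGeo
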