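import Groth.Statements.S18289
import Groth.Agent.H91.AMonPt

/-! `A(M)_S ⟶ A(N)_S` induced by the zero map is the trivial morphism (helper91). -/

set_option autoImplicit false
universe u
open CategoryTheory Limits AlgebraicGeometry MonoidalCategory CartesianMonoidalCategory MonObj Opposite
open Magnet Magnet.MonAct
open Groth.Agent.H91.MagnetDense Groth.Agent.H91.AMonPt

namespace Groth.Agent.H91.FixZero

attribute [local instance 10] algZ

variable {S : Scheme.{u}} {M N : Type} [AddCommMonoid M] [AddCommMonoid N]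

theorem ulift_hom_ext {Γ' : Type u} [Ring Γ'] (f g : ULift.{u} ℤ →+* Γ') : f = g := by
  have key : ∀ h : ULift.{u} ℤ →+* Γ', ∀ x, h x = ((x.down : ℤ) : Γ') := by
    intro h x
    have := RingHom.ext_int (h.comp (ULift.ringEquiv.symm : ℤ ≃+* ULift.{u} ℤ).toRingHom)
      (Int.castRingHom Γ')
    exact congrArg (fun k => k x.down) this
  ext x
  rw [key f, key g]

theorem comp_phi_zero {Γ' : Type u} [CommRing Γ'] (χ₁ χ₂ : BM.{u} M →+* Γ') :
    χ₁.comp (phi.{u} (0 : N →+ M)).toRingHom = χ₂.comp (phi.{u} (0 : N →+ M)).toRingHom := by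
  apply MonoidAlgebra.ringHom_ext
  · intro r
    exact congrArg (fun k => k r) (ulift_hom_ext
      ((χ₁.comp (phi.{u} (0 : N →+ M)).toRingHom).comp MonoidAlgebra.singleOneRingHom)
      ((χ₂.comp (phi.{u} (0 : N →+ M)).toRingHom).comp MonoidAlgebra.singleOneRingHom))
  · intro g
    have h : (phi.{u} (0 : N →+ M)) (MonoidAlgebra.of (ULift.{u} ℤ) (Multiplicative N) g) = 1 := by
      simp [phi, MonoidAlgebra.one_def]
    show χ₁ ((phi.{u} (0 : N →+ M)) (MonoidAlgebra.of (ULift.{u} ℤ) (Multiplicative N) g)) =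
      χ₂ ((phi.{u} (0 : N →+ M)) (MonoidAlgebra.of (ULift.{u} ℤ) (Multiplicative N) g))
    rw [h, map_one, map_one]

theorem comp_map_zero {T : Over S} (x y : T ⟶ AMonS S M) :
    x ≫ AMonS.map S (0 : N →+ M) = y ≫ AMonS.map S (0 : N →+ M) := by
  apply ptM_ext
  rw [ptM_map, ptM_map]
  exact comp_phi_zero _ _

theorem AMonS_map_zero :
    AMonS.map S (0 : N →+ M) = toUnit (AMonS S M) ≫ η[AMonS S N] := by
  have h1 : η[AMonS S M] ≫ AMonS.map S (0 : N →+ M) = η[AMonS S N] := IsMonHom.one_hom _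
  rw [← h1, ← Category.assoc, ← comp_map_zero (𝟙 _) (toUnit (AMonS S M) ≫ η[AMonS S M]),
    Category.id_comp]

end Groth.Agent.H91.FixZero
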