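import Groth.Agent.H91.MagnetClosed

/-!
# Change of monoid for attractors: injective maps to a group (helper91)
-/

open CategoryTheory Limits AlgebraicGeometry MonoidalCategory CartesianMonoidalCategory MonObj Opposite
open Magnet Magnet.MonAct

universe u

namespace Groth.Agent.H91.MagnetComap

theorem AMon_map_id (R : Type u) [CommRing R] (M : Type) [AddCommMonoid M] :
    AMon.map R (AddMonoidHom.id M) = 𝟙 (AMon R M) := by
  ext : 1
  rw [AMon.map_left, Over.id_left]
  change Spec.map _ = 𝟙 _
  rw [← Spec.map_id]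
  congr 1
  apply CommRingCat.hom_ext
  apply MonoidAlgebra.ringHom_ext
  · intro r; simp
  · intro m; simp

theorem AMonS_map_id (S : Scheme.{u}) (M : Type) [AddCommMonoid M] :
    AMonS.map S (AddMonoidHom.id M) = 𝟙 (AMonS S M) := by
  rw [AMonS.map, AMon_map_id, CategoryTheory.Functor.map_id]

set_option maxHeartbeats 400000 in
theorem isIso_attrComap (S : Scheme.{u}) (M Z : Type) [AddCommMonoid M]
    [AddCommGroup Z] (f : M →+ Z) (hf : Function.Injective f) (Y : AddSubmonoid Z)
    (hY : Y ≤ AddMonoidHom.mrange f) (X : Over S) [IsSeparated X.hom]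
    (a : Magnet.MonAct (Magnet.AMonS S M) X) :
    IsIso (Magnet.attrComap a f Y) := by
  have hcb : Function.Bijective ((f.comp (Y.comap f).subtype).codRestrict Y (fun x => x.2)) := by
    constructor
    · intro x y hxy
      apply Subtype.ext
      apply hf
      exact congrArg Subtype.val hxy
    · intro y
      obtain ⟨m, hm⟩ := hY y.2
      refine ⟨⟨m, ?_⟩, ?_⟩
      · change f m ∈ Y
        rw [hm]; exact y.2
      · apply Subtype.ext
        exact hm
  let e : ↥(Y.comap f) ≃+ ↥Y := AddEquiv.ofBijective _ hcb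
  have hCD : AMonS.map S ((f.comp (Y.comap f).subtype).codRestrict Y (fun x => x.2)) ≫
      AMonS.map S e.symm.toAddMonoidHom = 𝟙 _ := by
    rw [← AMonS.map_comp, ← AMonS_map_id]
    congr 1
    ext y
    exact congrArg Subtype.val (e.apply_symm_apply y)
  have hDC : AMonS.map S e.symm.toAddMonoidHom ≫
      AMonS.map S ((f.comp (Y.comap f).subtype).codRestrict Y (fun x => x.2)) = 𝟙 _ := by
    rw [← AMonS.map_comp, ← AMonS_map_id]
    congr 1
    ext y
    exact congrArg Subtype.val (e.symm_apply_apply y)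
  have hFD : AMonS.map S f ≫ AMonS.map S (Y.comap f).subtype ≫ AMonS.map S e.symm.toAddMonoidHom =
      AMonS.map S Y.subtype := by
    rw [← AMonS.map_comp, ← AMonS.map_comp]
    congr 1
    ext y
    exact congrArg Subtype.val (e.apply_symm_apply y)
  apply (config := {allowSynthFailures := true}) NatIso.isIso_of_isIso_app
  intro T
  rw [isIso_iff_bijective]
  constructor
  · intro φ ψ h
    apply Subtype.ext
    have h' : (AMonS.map S ((f.comp (Y.comap f).subtype).codRestrict Y (fun x => x.2)) ▷ unop T) ≫ φ.1 =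
        (AMonS.map S ((f.comp (Y.comap f).subtype).codRestrict Y (fun x => x.2)) ▷ unop T) ≫ ψ.1 :=
      congrArg Subtype.val h
    have h2 := congrArg (fun k => (AMonS.map S e.symm.toAddMonoidHom ▷ unop T) ≫ k) h'
    simp only [← comp_whiskerRight_assoc, hDC, id_whiskerRight, Category.id_comp] at h2
    exact h2
  · intro ψ
    have hψ := ψ.2
    rw [mem_eqvHom_iff] at hψ
    let φ₀ : AMonS S ↥(Y.comap f) ⊗ unop T ⟶ X :=
      (AMonS.map S e.symm.toAddMonoidHom ▷ unop T) ≫ ψ.1
    have hφ₀ : IsEquivariant ((subAct S M (Y.comap f)).prod (trivial (AMonS S M) (unop T))) a φ₀ := by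
      haveI := MagnetDense.dense S f hf (AMonS S ↥(Y.comap f) ⊗ unop T)
      unfold IsEquivariant
      apply SchDom.ext_of_dominant (AMonS.map S f ▷ (AMonS S ↥(Y.comap f) ⊗ unop T))
      apply hom_ext_lift₂
      intro T' g w
      rw [← lift_comp_fst_snd w]
      generalize w ≫ fst _ _ = b
      generalize w ≫ snd _ _ = t
      rw [lift_whiskerRight_assoc, lift_whiskerRight_assoc, lift_prod_act_assoc, lift_trivial_act,
        lift_whiskerLeft_assoc]
      have e1 : lift (g ≫ AMonS.map S f) b ≫ (subAct S M (Y.comap f)).act =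
          (g ≫ AMonS.map S f ≫ AMonS.map S (Y.comap f).subtype) * b := by
        rw [subAct, lift_restrict_act, lift_regular_act, Category.assoc]
      have e2 : lift g (b ≫ AMonS.map S e.symm.toAddMonoidHom) ≫ (subAct S Z Y).act =
          (g ≫ AMonS.map S Y.subtype) * (b ≫ AMonS.map S e.symm.toAddMonoidHom) := by
        rw [subAct, lift_restrict_act, lift_regular_act]
      have h1 := hψ T' g (b ≫ AMonS.map S e.symm.toAddMonoidHom) t
      rw [e2, lift_restrict_act] at h1
      change lift _ t ≫ (AMonS.map S e.symm.toAddMonoidHom ▷ unop T) ≫ ψ.1 =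
        lift (g ≫ AMonS.map S f) (lift b t ≫ (AMonS.map S e.symm.toAddMonoidHom ▷ unop T) ≫ ψ.1) ≫ a.act
      rw [e1, lift_whiskerRight_assoc, lift_whiskerRight_assoc, MonObj.mul_comp, Category.assoc,
        Category.assoc, hFD]
      exact h1
    refine ⟨⟨φ₀, hφ₀⟩, ?_⟩
    apply Subtype.ext
    change (AMonS.map S ((f.comp (Y.comap f).subtype).codRestrict Y (fun x => x.2)) ▷ unop T) ≫
      (AMonS.map S e.symm.toAddMonoidHom ▷ unop T) ≫ ψ.1 = ψ.1
    rw [← comp_whiskerRight_assoc, hCD, id_whiskerRight, Category.id_comp]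

end Groth.Agent.H91.MagnetComap
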