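import Groth.Agent.H91.Cm2Defs
import Groth.Agent.H91.FixGeo
import Groth.Agent.H91.FixZero
import Groth.Agent.H91.FixFFG
import Groth.Agent.H26.Fix_FFA
import Groth.Agent.H75.Comap_ADD
import Groth.Agent.H91.MagnetComap

/-! Change of group for attractors, general `X`: maps and identities (helper91). -/

set_option autoImplicit false
universe u
open CategoryTheory Limits AlgebraicGeometry MonoidalCategory CartesianMonoidalCategory MonObj Opposite
open Magnet Magnet.MonAct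
open Groth.Agent.H91.MagnetDense Groth.Agent.H91.Cm2Defs Groth.Agent.H91.FixZero
open Groth.Agent.H91.MagnetComap Groth.Agent.H75.Comap_ADD

namespace Groth.Agent.H91.Cm2Core

section Maps

variable (S : Scheme.{u}) {M Z : Type} [AddCommGroup M] [AddCommGroup Z] (f : M →+ Z)
  (Y : AddSubmonoid Z)

noncomputable abbrev Pm : AMonS S (M × ↥Y) ⟶ AMonS S ↥(Y.comap f) := AMonS.map S (jgr f Y)
noncomputable abbrev q₁ : AMonS S (M × ↥Y) ⟶ AMonS S M := AMonS.map S (AddMonoidHom.inl M ↥Y)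
noncomputable abbrev q₂ : AMonS S (M × ↥Y) ⟶ AMonS S ↥Y := AMonS.map S (AddMonoidHom.inr M ↥Y)
noncomputable abbrev inlM : AMonS S M ⟶ AMonS S (M × ↥Y) := AMonS.map S (AddMonoidHom.fst M ↥Y)
noncomputable abbrev inrY : AMonS S ↥Y ⟶ AMonS S (M × ↥Y) := AMonS.map S (AddMonoidHom.snd M ↥Y)
noncomputable abbrev iN : AMonS S M ⟶ AMonS S ↥(Y.comap f) := AMonS.map S (Y.comap f).subtype
noncomputable abbrev Km : AMonS S ↥Y ⟶ AMonS S ↥(Y.comap f) := AMonS.map S (kap f Y)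
noncomputable abbrev Fm : AMonS S Z ⟶ AMonS S M := AMonS.map S f
noncomputable abbrev FR : AMonS S ↥f.range.toAddSubmonoid ⟶ AMonS S M := AMonS.map S (fR f)
noncomputable abbrev IR : AMonS S Z ⟶ AMonS S ↥f.range.toAddSubmonoid :=
  AMonS.map S f.range.toAddSubmonoid.subtype
noncomputable abbrev iY : AMonS S Z ⟶ AMonS S ↥Y := AMonS.map S Y.subtype
noncomputable abbrev iYR (hY : Y ≤ AddMonoidHom.mrange f) : AMonS S ↥f.range.toAddSubmonoid ⟶ AMonS S ↥Y :=
  AMonS.map S (yR f Y hY)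

theorem Pm_eq : Pm S f Y = (q₁ S Y ≫ iN S f Y) * (q₂ S Y ≫ Km S f Y) := by
  unfold Pm q₁ q₂ iN Km
  rw [← AMonS.map_comp, ← AMonS.map_comp, ← AMonS_map_add]
  rfl

theorem inlM_Pm : inlM S Y ≫ Pm S f Y = iN S f Y := by
  unfold inlM Pm iN
  rw [← AMonS.map_comp]
  congr 1
  ext n
  simp

theorem inlM_q₁ : inlM S (M := M) Y ≫ q₁ S Y = 𝟙 _ := by
  unfold inlM q₁
  rw [← AMonS.map_comp, AddMonoidHom.fst_comp_inl, AMonS_map_id]

theorem inlM_q₂ : inlM S (M := M) Y ≫ q₂ S Y = toUnit _ ≫ η[AMonS S ↥Y] := by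
  unfold inlM q₂
  rw [← AMonS.map_comp, AddMonoidHom.fst_comp_inr, AMonS_map_zero]

theorem inrY_Pm : inrY S Y ≫ Pm S f Y = Km S f Y := by
  unfold inrY Pm Km
  rw [← AMonS.map_comp]
  congr 1
  ext n
  simp

theorem inrY_q₁ : inrY S (M := M) Y ≫ q₁ S Y = toUnit _ ≫ η[AMonS S M] := by
  unfold inrY q₁
  rw [← AMonS.map_comp, AddMonoidHom.snd_comp_inl, AMonS_map_zero]

theorem inrY_q₂ : inrY S (M := M) Y ≫ q₂ S Y = 𝟙 _ := by
  unfold inrY q₂
  rw [← AMonS.map_comp, AddMonoidHom.snd_comp_inr, AMonS_map_id]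

theorem Fm_eq : Fm S f = IR S f ≫ FR S f := by
  unfold Fm IR FR
  rw [← AMonS.map_comp]
  rfl

theorem iY_eq (hY : Y ≤ AddMonoidHom.mrange f) : iY S Y = IR S f ≫ iYR S f Y hY := by
  unfold iY IR iYR
  rw [← AMonS.map_comp]
  rfl

theorem epi_IR (T : Over S) : Epi (IR S f ▷ T) := by
  have hff := Groth.Agent.H26.Fix_FFA.faithfullyFlat_phi_subgroup.{u} Z f.range
  obtain ⟨h1, h2⟩ := Groth.Agent.H91.FixFFG.ff_whisker (S := S) f.range.toAddSubmonoid.subtype hff T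
  haveI := isAffineHom_whisker S f.range.toAddSubmonoid.subtype T
  haveI : EffectiveEpi (IR S f ▷ T).left := inferInstance
  exact Groth.Agent.H91.FixGeo.epi_of_effectiveEpi_left _

end Maps

end Groth.Agent.H91.Cm2Core
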