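import Groth.Agent.H91.Cm2Key

set_option autoImplicit false
set_option maxHeartbeats 400000
universe u
open CategoryTheory Limits AlgebraicGeometry MonoidalCategory CartesianMonoidalCategory MonObj Opposite
open Magnet Magnet.MonAct
open Groth.Agent.H91.MagnetDense Groth.Agent.H91.Cm2Defs Groth.Agent.H91.FixZero
open Groth.Agent.H91.Cm2Core Groth.Agent.H91.Cm2Main Groth.Agent.H91.Cm2Key

namespace Groth.Agent.H91.Cm2Fin

variable {S : Scheme.{u}} {M Z : Type} [AddCommGroup M] [AddCommGroup Z] (f : M →+ Z)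
  (Y : AddSubmonoid Z) (hY : Y ≤ AddMonoidHom.mrange f) {X : Over S} (a : MonAct (AMonS S M) X)
  {T : Over S}

include hY in
/-- equivariance of the descended map. -/
theorem hpts (φ₀ : AMonS S ↥(Y.comap f) ⊗ T ⟶ X) (ψ : AMonS S ↥Y ⊗ T ⟶ X)
    (hφ₀ : (Pm S f Y ▷ T) ≫ φ₀ = Phi' Y a ψ)
    (T' : Over S) (g : T' ⟶ AMonS S M) (b : T' ⟶ AMonS S ↥(Y.comap f)) (t : T' ⟶ T) :
    lift (lift g b ≫ (subAct S M (Y.comap f)).act) t ≫ φ₀ = lift g (lift b t ≫ φ₀) ≫ a.act := by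
  have hLR : lift (lift (snd (AMonS S ↥(Y.comap f)) (T ⊗ AMonS S M) ≫ snd T (AMonS S M))
          (fst (AMonS S ↥(Y.comap f)) (T ⊗ AMonS S M)) ≫ (subAct S M (Y.comap f)).act)
        (snd (AMonS S ↥(Y.comap f)) (T ⊗ AMonS S M) ≫ fst T (AMonS S M)) ≫ φ₀ =
      lift (snd (AMonS S ↥(Y.comap f)) (T ⊗ AMonS S M) ≫ snd T (AMonS S M))
        (lift (fst (AMonS S ↥(Y.comap f)) (T ⊗ AMonS S M))
          (snd (AMonS S ↥(Y.comap f)) (T ⊗ AMonS S M) ≫ fst T (AMonS S M)) ≫ φ₀) ≫ a.act := by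
    haveI := epi_Pm f Y hY (S := S) (T ⊗ AMonS S M)
    apply (cancel_epi (Pm S f Y ▷ (T ⊗ AMonS S M))).1
    apply hom_ext_lift₂
    intro T'' w s
    have k := keypt f Y a φ₀ ψ hφ₀ (s ≫ snd T (AMonS S M)) w (s ≫ fst T (AMonS S M))
    simp only [lift_whiskerRight_assoc, comp_lift_assoc, lift_fst, lift_snd, lift_fst_assoc,
      lift_snd_assoc, Category.assoc]
    rw [subAct, lift_restrict_act, lift_regular_act]
    exact k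
  have h2 := congrArg (fun k => lift b (lift t g) ≫ k) hLR
  simp only [comp_lift_assoc, lift_fst, lift_snd, lift_fst_assoc, lift_snd_assoc] at h2
  exact h2

theorem Km_phi0 (φ₀ : AMonS S ↥(Y.comap f) ⊗ T ⟶ X) (ψ : AMonS S ↥Y ⊗ T ⟶ X)
    (hφ₀ : (Pm S f Y ▷ T) ≫ φ₀ = Phi' Y a ψ) : (Km S f Y ▷ T) ≫ φ₀ = ψ := by
  apply hom_ext_lift₂
  intro T' y t
  have s1 : lift ((y ≫ inrY S Y) ≫ Pm S f Y) t ≫ φ₀ =
      lift ((y ≫ inrY S Y) ≫ q₁ S Y) (lift ((y ≫ inrY S Y) ≫ q₂ S Y) t ≫ ψ) ≫ a.act :=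
    (lift_Pm f Y a φ₀ ψ hφ₀ _ t).trans (lift_Phi' Y a ψ _ t)
  rw [Category.assoc, inrY_Pm, Category.assoc, inrY_q₁, Category.assoc, inrY_q₂,
    Category.comp_id, toUnit_eta_eq_one, a.lift_one_act] at s1
  rw [lift_whiskerRight_assoc]
  exact s1

/-- injectivity on points. -/
theorem inj_pt (φ₁ φ₂ : AMonS S ↥(Y.comap f) ⊗ T ⟶ X)
    (h₁ : ∀ (T' : Over S) (g : T' ⟶ AMonS S M) (b : T' ⟶ AMonS S ↥(Y.comap f)) (t : T' ⟶ T),
      lift (lift g b ≫ (subAct S M (Y.comap f)).act) t ≫ φ₁ = lift g (lift b t ≫ φ₁) ≫ a.act)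
    (h₂ : ∀ (T' : Over S) (g : T' ⟶ AMonS S M) (b : T' ⟶ AMonS S ↥(Y.comap f)) (t : T' ⟶ T),
      lift (lift g b ≫ (subAct S M (Y.comap f)).act) t ≫ φ₂ = lift g (lift b t ≫ φ₂) ≫ a.act)
    (h : (Km S f Y ▷ T) ≫ φ₁ = (Km S f Y ▷ T) ≫ φ₂)
    (hepi : Epi (Pm S f Y ▷ T)) : φ₁ = φ₂ := by
  apply (cancel_epi (Pm S f Y ▷ T)).1
  apply hom_ext_lift₂
  intro T' w t
  have key : ∀ φ : AMonS S ↥(Y.comap f) ⊗ T ⟶ X,
      (∀ (T' : Over S) (g : T' ⟶ AMonS S M) (b : T' ⟶ AMonS S ↥(Y.comap f)) (t : T' ⟶ T),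
        lift (lift g b ≫ (subAct S M (Y.comap f)).act) t ≫ φ = lift g (lift b t ≫ φ) ≫ a.act) →
      lift w t ≫ (Pm S f Y ▷ T) ≫ φ =
        lift (w ≫ q₁ S Y) (lift (w ≫ q₂ S Y) t ≫ (Km S f Y ▷ T) ≫ φ) ≫ a.act := by
    intro φ hφ
    have e := hφ T' (w ≫ q₁ S Y) ((w ≫ q₂ S Y) ≫ Km S f Y) t
    rw [subAct, lift_restrict_act, lift_regular_act] at e
    have e' : w ≫ Pm S f Y = ((w ≫ q₁ S Y) ≫ iN S f Y) * ((w ≫ q₂ S Y) ≫ Km S f Y) := by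
      rw [Pm_eq, MonObj.comp_mul, Category.assoc, Category.assoc]
    rw [lift_whiskerRight_assoc, e', e, lift_whiskerRight_assoc]
  rw [key φ₁ h₁, key φ₂ h₂, h]

theorem main (S : Scheme.{u}) (M Z : Type) [AddCommGroup M] [AddCommGroup Z]
    (f : M →+ Z) (Y : AddSubmonoid Z) (hY : Y ≤ AddMonoidHom.mrange f)
    (X : Over S) (a : MonAct (AMonS S M) X) :
    IsIso (Magnet.attrComap a f Y) := by
  apply (config := {allowSynthFailures := true}) NatIso.isIso_of_isIso_app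
  intro T
  rw [isIso_iff_bijective]
  constructor
  · intro φ₁ φ₂ h
    apply Subtype.ext
    have h' : (Km S f Y ▷ unop T) ≫ φ₁.1 = (Km S f Y ▷ unop T) ≫ φ₂.1 :=
      congrArg Subtype.val h
    exact inj_pt f Y a φ₁.1 φ₂.1 ((mem_eqvHom_iff φ₁.1).mp φ₁.2) ((mem_eqvHom_iff φ₂.1).mp φ₂.2)
      h' (epi_Pm f Y hY (unop T))
  · intro ψ
    have hψ := (mem_eqvHom_iff ψ.1).mp ψ.2
    obtain ⟨φ₀, hφ₀⟩ := exists_phi0 f Y a hY ψ.1 hψ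
    refine ⟨⟨φ₀, (mem_eqvHom_iff φ₀).mpr (hpts f Y hY a φ₀ ψ.1 hφ₀)⟩, Subtype.ext ?_⟩
    exact Km_phi0 f Y a φ₀ ψ.1 hφ₀

end Groth.Agent.H91.Cm2Fin
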