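import Groth.Agent.H91.Cm2Main

set_option autoImplicit false
set_option maxHeartbeats 200000
universe u
open CategoryTheory Limits AlgebraicGeometry MonoidalCategory CartesianMonoidalCategory MonObj Opposite
open Magnet Magnet.MonAct
open Groth.Agent.H91.MagnetDense Groth.Agent.H91.Cm2Defs Groth.Agent.H91.FixZero
open Groth.Agent.H91.Cm2Core Groth.Agent.H91.Cm2Main Groth.Agent.H60.Cm2_PT Groth.Agent.H86.Cm2_PIFF
open Groth.Agent.H91.FixGeo Groth.Agent.H91.FixFFG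

namespace Groth.Agent.H91.Cm2Key

variable {S : Scheme.{u}} {M Z : Type} [AddCommGroup M] [AddCommGroup Z] (f : M →+ Z)
  (Y : AddSubmonoid Z) {X : Over S} (a : MonAct (AMonS S M) X) {T : Over S}

theorem e1 {T' : Over S} (g : T' ⟶ AMonS S M) (w : T' ⟶ AMonS S (M × ↥Y)) :
    ((g ≫ inlM S Y) * w) ≫ Pm S f Y = (g ≫ iN S f Y) * (w ≫ Pm S f Y) := by
  rw [MonObj.mul_comp, Category.assoc, inlM_Pm]

theorem e2 {T' : Over S} (g : T' ⟶ AMonS S M) (w : T' ⟶ AMonS S (M × ↥Y)) :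
    ((g ≫ inlM S Y) * w) ≫ q₁ S Y = g * (w ≫ q₁ S Y) := by
  rw [MonObj.mul_comp, Category.assoc, inlM_q₁, Category.comp_id]

theorem e3 {T' : Over S} (g : T' ⟶ AMonS S M) (w : T' ⟶ AMonS S (M × ↥Y)) :
    ((g ≫ inlM S Y) * w) ≫ q₂ S Y = w ≫ q₂ S Y := by
  rw [MonObj.mul_comp, Category.assoc, inlM_q₂, toUnit_eta_eq_one, _root_.one_mul]

/-- the key pointwise equivariance of a descended map. -/
theorem keypt (φ₀ : AMonS S ↥(Y.comap f) ⊗ T ⟶ X) (ψ : AMonS S ↥Y ⊗ T ⟶ X)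
    (hφ₀ : (Pm S f Y ▷ T) ≫ φ₀ = Phi' Y a ψ) {T' : Over S} (g : T' ⟶ AMonS S M)
    (w : T' ⟶ AMonS S (M × ↥Y)) (t : T' ⟶ T) :
    lift ((g ≫ iN S f Y) * (w ≫ Pm S f Y)) t ≫ φ₀ =
      lift g (lift (w ≫ Pm S f Y) t ≫ φ₀) ≫ a.act := by
  have s1 : lift (((g ≫ inlM S Y) * w) ≫ Pm S f Y) t ≫ φ₀ =
      lift (((g ≫ inlM S Y) * w) ≫ q₁ S Y)
        (lift (((g ≫ inlM S Y) * w) ≫ q₂ S Y) t ≫ ψ) ≫ a.act :=
    (lift_Pm f Y a φ₀ ψ hφ₀ _ t).trans (lift_Phi' Y a ψ _ t)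
  have s3 : lift (w ≫ Pm S f Y) t ≫ φ₀ =
      lift (w ≫ q₁ S Y) (lift (w ≫ q₂ S Y) t ≫ ψ) ≫ a.act :=
    (lift_Pm f Y a φ₀ ψ hφ₀ w t).trans (lift_Phi' Y a ψ w t)
  rw [e1 f Y g w, e2 Y g w, e3 Y g w] at s1
  rw [s1, s3]
  exact a.lift_mul_act _ _ _

section Desc2

variable (hY : Y ≤ AddMonoidHom.mrange f)
include hY

theorem effEpi_Pm (T' : Over S) : EffectiveEpi (Pm S f Y ▷ T').left := by
  have hff := faithfullyFlat_phi_jgr.{u} f Y hY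
  obtain ⟨h1, h2⟩ := ff_whisker (S := S) (jgr f Y) hff T'
  haveI := isAffineHom_whisker S (jgr f Y) T'
  infer_instance

theorem epi_Pm (T' : Over S) : Epi (Pm S f Y ▷ T') := by
  haveI := effEpi_Pm f Y hY (S := S) T'
  exact epi_of_effectiveEpi_left _

theorem exists_phi0 (ψ : AMonS S ↥Y ⊗ T ⟶ X)
    (hψ : ∀ (T' : Over S) (g : T' ⟶ AMonS S Z) (b : T' ⟶ AMonS S ↥Y) (t : T' ⟶ T),
      lift (lift g b ≫ (subAct S Z Y).act) t ≫ ψ =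
        lift g (lift b t ≫ ψ) ≫ (a.restrict (AMonS.map S f)).act) :
    ∃ φ₀ : AMonS S ↥(Y.comap f) ⊗ T ⟶ X, (Pm S f Y ▷ T) ≫ φ₀ = Phi' Y a ψ := by
  haveI := effEpi_Pm f Y hY (S := S) T
  apply hdesc_whisker (Pm S f Y) T (Phi' Y a ψ)
  intro T' w₁ w₂ t h
  obtain ⟨hb, h1, h2⟩ := exists_range_pt f Y hY w₁ w₂ h
  have s1 := lift_Phi' Y a ψ w₁ t
  have s2 := lift_Phi' Y a ψ w₂ t
  have s3 := eqv_range f Y hY a ψ hψ T' hb (w₁ ≫ q₂ S Y) t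
  have h1' : w₁ ≫ q₁ S Y = (w₂ ≫ q₁ S Y) * (hb ≫ FR S f) := h1
  have h2' : w₂ ≫ q₂ S Y = (hb ≫ iYR S f Y hY) * (w₁ ≫ q₂ S Y) := h2
  rw [s1, s2, h1', a.lift_mul_act, ← s3, ← h2']

end Desc2

end Groth.Agent.H91.Cm2Key
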