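import Groth.Agent.H91.Cm2Core
import Groth.Agent.H60.Cm2_PT
import Groth.Agent.H86.Cm2_PIFF

/-! Change of group for attractors, general `X` (helper91). -/

set_option autoImplicit false
set_option maxHeartbeats 400000
universe u
open CategoryTheory Limits AlgebraicGeometry MonoidalCategory CartesianMonoidalCategory MonObj Opposite
open Magnet Magnet.MonAct
open Groth.Agent.H91.MagnetDense Groth.Agent.H91.Cm2Defs Groth.Agent.H91.FixZero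
open Groth.Agent.H91.Cm2Core Groth.Agent.H60.Cm2_PT Groth.Agent.H86.Cm2_PIFF

namespace Groth.Agent.H91.Cm2Main

variable {S : Scheme.{u}} {M Z : Type} [AddCommGroup M] [AddCommGroup Z] (f : M →+ Z)
  (Y : AddSubmonoid Z) (hY : Y ≤ AddMonoidHom.mrange f) {X : Over S} (a : MonAct (AMonS S M) X)

/-- equivariance of `ψ` for the range group. -/
theorem eqv_range {T : Over S} (ψ : AMonS S ↥Y ⊗ T ⟶ X)
    (hψ : ∀ (T' : Over S) (g : T' ⟶ AMonS S Z) (b : T' ⟶ AMonS S ↥Y) (t : T' ⟶ T),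
      lift (lift g b ≫ (subAct S Z Y).act) t ≫ ψ =
        lift g (lift b t ≫ ψ) ≫ (a.restrict (AMonS.map S f)).act)
    (T' : Over S) (hb : T' ⟶ AMonS S ↥f.range.toAddSubmonoid) (y : T' ⟶ AMonS S ↥Y) (t : T' ⟶ T) :
    lift ((hb ≫ iYR S f Y hY) * y) t ≫ ψ = lift (hb ≫ FR S f) (lift y t ≫ ψ) ≫ a.act := by
  have huniv : lift ((fst _ _ ≫ iYR S f Y hY) * (snd (AMonS S ↥f.range.toAddSubmonoid)
        (AMonS S ↥Y ⊗ T) ≫ fst _ _)) (snd _ _ ≫ snd _ _) ≫ ψ =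
      lift (fst _ _ ≫ FR S f) (lift (snd (AMonS S ↥f.range.toAddSubmonoid)
        (AMonS S ↥Y ⊗ T) ≫ fst _ _) (snd _ _ ≫ snd _ _) ≫ ψ) ≫ a.act := by
    haveI := epi_IR S f (AMonS S ↥Y ⊗ T)
    apply (cancel_epi (IR S f ▷ (AMonS S ↥Y ⊗ T))).1
    apply hom_ext_lift₂
    intro T'' h s
    have e1 := hψ T'' h (s ≫ fst _ _) (s ≫ snd _ _)
    rw [subAct, lift_restrict_act, lift_regular_act, lift_restrict_act] at e1
    simp only [lift_whiskerRight_assoc, comp_lift_assoc, lift_fst, lift_snd, lift_fst_assoc,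
      lift_snd_assoc, MonObj.comp_mul, Category.assoc]
    rw [← iY_eq S f Y hY, ← Fm_eq S f]
    exact e1
  have h2 := congrArg (fun k => lift hb (lift y t) ≫ k) huniv
  simp only [comp_lift_assoc, lift_fst, lift_snd, lift_fst_assoc, lift_snd_assoc,
    MonObj.comp_mul, Category.assoc] at h2
  exact h2

section Desc

variable {T : Over S}

/-- the map `(w, t) ↦ q₁ w • ψ (q₂ w, t)`. -/
noncomputable def Phi' (ψ : AMonS S ↥Y ⊗ T ⟶ X) : AMonS S (M × ↥Y) ⊗ T ⟶ X :=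
  lift (fst _ _ ≫ q₁ S Y) (lift (fst _ _ ≫ q₂ S Y) (snd _ _) ≫ ψ) ≫ a.act

theorem lift_Phi' (ψ : AMonS S ↥Y ⊗ T ⟶ X) {T' : Over S} (w : T' ⟶ AMonS S (M × ↥Y))
    (t : T' ⟶ T) :
    lift w t ≫ Phi' Y a ψ = lift (w ≫ q₁ S Y) (lift (w ≫ q₂ S Y) t ≫ ψ) ≫ a.act := by
  unfold Phi'
  simp only [comp_lift_assoc, lift_fst_assoc, lift_snd]

theorem lift_Pm (φ₀ : AMonS S ↥(Y.comap f) ⊗ T ⟶ X) (ψ : AMonS S ↥Y ⊗ T ⟶ X)
    (hφ₀ : (Pm S f Y ▷ T) ≫ φ₀ = Phi' Y a ψ) {T' : Over S} (w : T' ⟶ AMonS S (M × ↥Y))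
    (t : T' ⟶ T) : lift (w ≫ Pm S f Y) t ≫ φ₀ = lift w t ≫ Phi' Y a ψ := by
  rw [← hφ₀, lift_whiskerRight_assoc]

theorem toUnit_eta_eq_one {T' A : Over S} [MonObj A] {B : Over S} (g : T' ⟶ B) :
    g ≫ toUnit B ≫ η[A] = 1 := by
  have h : g ≫ toUnit B = toUnit T' := toUnit_unique _ _
  calc g ≫ toUnit B ≫ η[A] = (g ≫ toUnit B) ≫ η[A] := (Category.assoc _ _ _).symm
    _ = toUnit T' ≫ η[A] := by rw [h]
    _ = 1 := (Hom.one_def).symm

end Desc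

end Groth.Agent.H91.Cm2Main
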