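import Groth.Statements.S18287
import Groth.Agent.H25.MagAsm
import Groth.Agent.H91.AMonPt

/-! Change of monoid for attractors of schemes affine over the base: the affine criterion (helper91). -/

set_option autoImplicit false
universe u
open CategoryTheory Limits AlgebraicGeometry MonoidalCategory CartesianMonoidalCategory MonObj Opposite
open Magnet Magnet.MonAct
open scoped TensorProduct
open Groth.Agent.H91.MagnetDense Groth.Agent.H25.Mag Groth.Agent.H25.MagB3 Groth.Agent.H10.MG_B2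

namespace Groth.Agent.H91.ComapCore

attribute [local instance 10] algZ

variable {S : Scheme.{u}} {M M' : Type} [AddCommMonoid M] [AddCommMonoid M']

/-- `phi j ⊗ id : ℤ[M] ⊗ R → ℤ[M'] ⊗ R`. -/
noncomputable def PhiJ (j : M →+ M') (R : Type u) [CommRing R] :
    BM.{u} M ⊗[ULift.{u} ℤ] R →ₐ[ULift.{u} ℤ] BM.{u} M' ⊗[ULift.{u} ℤ] R :=
  Algebra.TensorProduct.map (phi j) (AlgHom.id (ULift.{u} ℤ) R)

set_option maxHeartbeats 400000 in
theorem chart_map (j : M →+ M') (R : CommRingCat.{u}) (t : Spec R ⟶ S) :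
    (chart S M' R t).hom ≫ (AMonS.map S j ▷ Over.mk t).left =
      Spec.map (CommRingCat.ofHom (PhiJ j R).toRingHom) ≫ (chart S M R t).hom := by
  let Φ : CommRingCat.of (BM.{u} M ⊗[ULift.{u} ℤ] R) ⟶ CommRingCat.of (BM.{u} M' ⊗[ULift.{u} ℤ] R) :=
    CommRingCat.ofHom (PhiJ j R).toRingHom
  have hmapfst : (AMonS.map S j).left ≫ pullback.fst (AMon (ULift.{u} ℤ) M).hom (gS S) =
      pullback.fst (AMon (ULift.{u} ℤ) M').hom (gS S) ≫ (AMon.map (ULift.{u} ℤ) j).left := by
    rw [AMonS.map]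
    exact pullback.lift_fst _ _ _
  have hmapsnd : (AMonS.map S j).left ≫ pullback.snd (AMon (ULift.{u} ℤ) M).hom (gS S) =
      pullback.snd (AMon (ULift.{u} ℤ) M').hom (gS S) := by
    rw [AMonS.map]
    exact pullback.lift_snd _ _ _
  have hΦl : inl M R ≫ Φ = CommRingCat.ofHom (phi j).toRingHom ≫ inl M' R := by
    apply CommRingCat.hom_ext
    apply RingHom.ext
    intro x
    change Algebra.TensorProduct.map (phi j) (AlgHom.id (ULift.{u} ℤ) R) (x ⊗ₜ 1) =
      (phi j x) ⊗ₜ 1
    rw [Algebra.TensorProduct.map_tmul]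
    rfl
  have hΦr : inr M R ≫ Φ = inr M' R := by
    apply CommRingCat.hom_ext
    apply RingHom.ext
    intro x
    change Algebra.TensorProduct.map (phi j) (AlgHom.id (ULift.{u} ℤ) R) (1 ⊗ₜ x) = 1 ⊗ₜ x
    rw [Algebra.TensorProduct.map_tmul, map_one]
    rfl
  have hfst : Spec.map (inl M' R) ≫ Spec.map (CommRingCat.ofHom (phi j).toRingHom) =
      Spec.map Φ ≫ Spec.map (inl M R) := by
    rw [← Spec.map_comp, ← Spec.map_comp, hΦl]
  have hsnd : Spec.map (inr M' R) = Spec.map Φ ≫ Spec.map (inr M R) := by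
    rw [← Spec.map_comp, hΦr]
  change (chart S M' R t).hom ≫ (AMonS.map S j ▷ Over.mk t).left = Spec.map Φ ≫ (chart S M R t).hom
  apply pullback.hom_ext
  · rw [Category.assoc, Category.assoc, Over.whiskerRight_left_fst, ← Category.assoc]
    erw [chart_hom_fst, chart_hom_fst]
    apply pullback.hom_ext
    · rw [Category.assoc, Category.assoc, hmapfst, ← Category.assoc, cmp_fst, cmp_fst]
      exact hfst
    · rw [Category.assoc, Category.assoc, hmapsnd, cmp_snd, cmp_snd, ← Category.assoc, ← hsnd]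
  · rw [Category.assoc, Category.assoc, Over.whiskerRight_left_snd]
    erw [chart_hom_snd, chart_hom_snd]
    exact hsnd

/-- clean form of `H25.MagB3.ext_iff_lift`. -/
theorem ext_iff_lift' (N : AddSubmonoid M) {X : Over S} {R : CommRingCat.{u}} (t : Spec R ⟶ S)
    (ψ : AMonS S M ⊗ Over.mk t ⟶ X) :
    Ext N ψ ↔ ∃ φ₀ : (AMonS S N ⊗ Over.mk t).left ⟶ pullback X.hom t,
      (AMonS.map S N.subtype ▷ Over.mk t).left ≫ φ₀ = lft t ψ := by
  haveI := dense S N.subtype Subtype.val_injective (Over.mk t)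
  have hws : (AMonS.map S N.subtype ▷ Over.mk t).left ≫ (snd (AMonS S N) (Over.mk t)).left =
      (snd (AMonS S M) (Over.mk t)).left := by
    rw [← Over.comp_left, whiskerRight_snd]
  constructor
  · rintro ⟨φ, hφ⟩
    have hw : φ.left ≫ X.hom = (snd (AMonS S N) (Over.mk t)).left ≫ t := by
      rw [Over.w φ]
      exact (Over.w (snd (AMonS S N) (Over.mk t))).symm
    refine ⟨pullback.lift φ.left (snd (AMonS S N) (Over.mk t)).left hw, ?_⟩
    apply pullback.hom_ext
    · rw [Category.assoc, pullback.lift_fst, lft_fst, ← Over.comp_left, hφ]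
    · rw [Category.assoc, pullback.lift_snd, lft_snd, hws]
  · rintro ⟨φ₀, hφ₀⟩
    have hsnd : φ₀ ≫ pullback.snd X.hom t = (snd (AMonS S N) (Over.mk t)).left := by
      apply Groth.Agent.H64.DX3.cancel_dominant_affine
        (AMonS.map S N.subtype ▷ Over.mk t).left
      rw [← Category.assoc, hφ₀, lft_snd, hws]
    have hw : (φ₀ ≫ pullback.fst X.hom t) ≫ X.hom = (AMonS S N ⊗ Over.mk t).hom := by
      rw [Category.assoc, pullback.condition, ← Category.assoc, hsnd]
      exact Over.w (snd (AMonS S N) (Over.mk t))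
    refine ⟨Over.homMk (φ₀ ≫ pullback.fst X.hom t) hw, ?_⟩
    ext1
    change (AMonS.map S N.subtype ▷ Over.mk t).left ≫ (φ₀ ≫ pullback.fst X.hom t) = ψ.left
    rw [← Category.assoc, hφ₀, lft_fst]

/-- the coefficient map of `ψ`. -/
noncomputable def cmap {X : Over S} {R : CommRingCat.{u}} (t : Spec R ⟶ S)
    (ψ : AMonS S M ⊗ Over.mk t ⟶ X) :
    Γ(pullback X.hom t, ⊤) ⟶ CommRingCat.of (BM.{u} M ⊗[ULift.{u} ℤ] R) :=
  ((chart S M R t).hom ≫ lft t ψ).appTop ≫ (Scheme.ΓSpecIso _).hom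

theorem ext_iff_range (N : AddSubmonoid M) {X : Over S} [IsAffineHom X.hom] {R : CommRingCat.{u}}
    (t : Spec R ⟶ S) (ψ : AMonS S M ⊗ Over.mk t ⟶ X) :
    Ext N ψ ↔ ∀ b : Γ(pullback X.hom t, ⊤), (cmap t ψ).hom b ∈ Set.range (Phi N R) := by
  have : IsAffineHom (pullback.snd X.hom t) := inferInstance
  haveI : IsAffine (pullback X.hom t) := isAffine_of_isAffineHom (pullback.snd X.hom t)
  haveI := dense S N.subtype Subtype.val_injective (Over.mk t)
  rw [ext_iff_lift', Groth.Agent.H64.DX3.exists_ext_iff,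
    range_iff _ (chart S M R t) (chart S N R t)
      (CommRingCat.ofHom (Phi N R).toRingHom) (chart_whiskerRight N R t)]
  rfl

theorem lft_whiskerRight (j : M →+ M') {X : Over S} {R : CommRingCat.{u}} (t : Spec R ⟶ S)
    (ψ : AMonS S M ⊗ Over.mk t ⟶ X) :
    lft t ((AMonS.map S j ▷ Over.mk t) ≫ ψ) = (AMonS.map S j ▷ Over.mk t).left ≫ lft t ψ := by
  apply pullback.hom_ext
  · rw [lft_fst, Category.assoc, lft_fst, Over.comp_left]
  · rw [lft_snd, Category.assoc, lft_snd, ← Over.comp_left, whiskerRight_snd]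

theorem cmap_whiskerRight (j : M →+ M') {X : Over S} {R : CommRingCat.{u}} (t : Spec R ⟶ S)
    (ψ : AMonS S M ⊗ Over.mk t ⟶ X) :
    cmap t ((AMonS.map S j ▷ Over.mk t) ≫ ψ) =
      cmap t ψ ≫ CommRingCat.ofHom (PhiJ j R).toRingHom := by
  unfold cmap
  rw [lft_whiskerRight, ← Category.assoc (chart S M' R t).hom, chart_map, Category.assoc,
    Scheme.Hom.comp_appTop, Category.assoc, Scheme.ΓSpecIso_naturality, ← Category.assoc]

end Groth.Agent.H91.ComapCore
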