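import Groth.Agent.H91.ComapStep

/-! Change of monoid for attractors of schemes affine over the base (helper91). -/

set_option autoImplicit false
universe u
open CategoryTheory Limits AlgebraicGeometry MonoidalCategory CartesianMonoidalCategory MonObj Opposite
open Magnet Magnet.MonAct
open scoped TensorProduct
open Groth.Agent.H91.MagnetDense Groth.Agent.H25.Mag Groth.Agent.H25.MagAsm Groth.Agent.H25.DX4
open Groth.Agent.H91.ComapCore Groth.Agent.H91.ComapStep

namespace Groth.Agent.H91.ComapMain

variable {S : Scheme.{u}} {M Z : Type} [AddCommMonoid M] [AddCommMonoid Z]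

theorem comap_NY (f : M →+ Z) (Y : AddSubmonoid Z) : (NY M Y).comap (gr f) = Y.comap f := rfl

theorem key_affine (f : M →+ Z) (Y : AddSubmonoid Z) {X : Over S} [IsAffineHom X.hom]
    (a : MonAct (AMonS S M) X) (R : CommRingCat.{u}) (x : Spec R ⟶ X.left)
    (h : P Y (a.restrict (AMonS.map S f)) (Spec R) x) : P (Y.comap f) a (Spec R) x := by
  unfold P at h ⊢
  have h1 := stepA f Y a (Over.homMk x rfl : Over.mk (x ≫ X.hom) ⟶ X) h
  have h2 := stepB (gr f) (gr_injective f) (NY M Y) (x ≫ X.hom) _ h1
  rw [comap_NY] at h2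
  exact h2

theorem key (f : M →+ Z) (Y : AddSubmonoid Z) {X : Over S} [IsAffineHom X.hom]
    (a : MonAct (AMonS S M) X) (T : Scheme.{u}) (x : T ⟶ X.left)
    (h : P Y (a.restrict (AMonS.map S f)) T x) : P (Y.comap f) a T x := by
  have : IsSeparated X.hom := inferInstance
  apply P_loc (Y.comap f) a x T.affineOpenCover.openCover
  intro i
  exact key_affine f Y a _ _ (P_comp Y (a.restrict (AMonS.map S f)) _ x h)

set_option maxHeartbeats 400000 in
theorem main (S : Scheme.{u}) (M Z : Type) [AddCommMonoid M] [AddCommMonoid Z]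
    (f : M →+ Z) (Y : AddSubmonoid Z) (X : Over S) [IsAffineHom X.hom]
    (a : Magnet.MonAct (Magnet.AMonS S M) X) :
    IsIso (Magnet.attrComap a f Y) := by
  have hsep : IsSeparated X.hom := inferInstance
  have hdN : ∀ T : Over S,
      IsSchemeTheoreticallyDominant (AMonS.map S (Y.comap f).subtype ▷ T).left :=
    fun T => dense S (Y.comap f).subtype Subtype.val_injective T
  have hdY : ∀ T : Over S, IsSchemeTheoreticallyDominant (AMonS.map S Y.subtype ▷ T).left :=
    fun T => dense S Y.subtype Subtype.val_injective T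
  have hev : ∀ (T : (Over S)ᵒᵖ) (φ : (attr a (Y.comap f)).obj T),
      (attrToX (a.restrict (AMonS.map S f)) Y).app T ((attrComap a f Y).app T φ) =
        (attrToX a (Y.comap f)).app T φ := by
    intro T φ
    change lift (toUnit (unop T) ≫ η[AMonS S Y]) (𝟙 (unop T)) ≫
        (AMonS.map S ((f.comp (Y.comap f).subtype).codRestrict Y (fun x => x.2)) ▷ unop T) ≫ φ.1 =
      lift (toUnit (unop T) ≫ η[AMonS S (Y.comap f)]) (𝟙 (unop T)) ≫ φ.1
    rw [lift_whiskerRight_assoc, Category.assoc, IsMonHom.one_hom]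
  apply (config := {allowSynthFailures := true}) NatIso.isIso_of_isIso_app
  intro T
  rw [isIso_iff_bijective]
  constructor
  · intro φ ψ h
    apply evalAt_injective (AMonS.map S (Y.comap f).subtype) hdN a (unop T)
    have h1 := hev T φ
    have h2 := hev T ψ
    rw [h] at h1
    exact h1.symm.trans h2
  · intro ψ
    obtain ⟨y, hy⟩ : ∃ y : unop T ⟶ X,
        y = (attrToX (a.restrict (AMonS.map S f)) Y).app T ψ := ⟨_, rfl⟩
    have e1 : Ext Y (orb (a.restrict (AMonS.map S f)) y) :=
      (mem_range_evalAt_iff (AMonS.map S Y.subtype) hdY (a.restrict (AMonS.map S f))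
        (unop T) y).mp ⟨ψ, hy.symm⟩
    have e2 : Ext (Y.comap f) (orb a y) :=
      (P_iff (Y.comap f) a y).mp (key f Y a _ _
        ((P_iff Y (a.restrict (AMonS.map S f)) y).mpr e1))
    obtain ⟨φ, hφ⟩ := (mem_range_evalAt_iff (AMonS.map S (Y.comap f).subtype) hdN a
      (unop T) y).mpr e2
    refine ⟨φ, ?_⟩
    apply evalAt_injective (AMonS.map S Y.subtype) hdY (a.restrict (AMonS.map S f)) (unop T)
    exact (hev T φ).trans (hφ.trans hy)

end Groth.Agent.H91.ComapMain
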