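import Groth.Agent.H91.ComapCore
import Groth.Agent.H75.Comap_ALGB
import Groth.Agent.H75.Comap_ADD

/-! Change of monoid for attractors: the two steps (helper91). -/

set_option autoImplicit false
universe u
open CategoryTheory Limits AlgebraicGeometry MonoidalCategory CartesianMonoidalCategory MonObj Opposite
open Magnet Magnet.MonAct
open scoped TensorProduct
open Groth.Agent.H91.MagnetDense Groth.Agent.H25.Mag Groth.Agent.H25.MagB3 Groth.Agent.H10.MG_B2
open Groth.Agent.H91.ComapCore Groth.Agent.H75.Comap_ALGB Groth.Agent.H75.Comap_ADD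

namespace Groth.Agent.H91.ComapStep

attribute [local instance 10] algZ

variable {S : Scheme.{u}} {M M' Z : Type} [AddCommMonoid M] [AddCommMonoid M'] [AddCommMonoid Z]

theorem stepB (j : M →+ M') (hj : Function.Injective j) (N' : AddSubmonoid M') {X : Over S}
    [IsAffineHom X.hom] {R : CommRingCat.{u}} (t : Spec R ⟶ S) (ψ : AMonS S M ⊗ Over.mk t ⟶ X)
    (h : Ext N' ((AMonS.map S j ▷ Over.mk t) ≫ ψ)) : Ext (N'.comap j) ψ := by
  rw [ext_iff_range] at h ⊢
  intro b
  apply mem_range_Phi_comap j hj N' R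
  have := h b
  rw [cmap_whiskerRight] at this
  exact this

/-- the graph embedding `m ↦ (m, f m)`. -/
def gr (f : M →+ Z) : M →+ M × Z := AddMonoidHom.prod (AddMonoidHom.id M) f

theorem gr_injective (f : M →+ Z) : Function.Injective (gr f) := fun x y h => congrArg Prod.fst h

/-- `M × Y` inside `M × Z`. -/
def NY (M : Type) [AddCommMonoid M] (Y : AddSubmonoid Z) : AddSubmonoid (M × Z) :=
  Y.comap (AddMonoidHom.snd M Z)

def p₁ (Y : AddSubmonoid Z) : M →+ NY M Y :=
  (AddMonoidHom.inl M Z).codRestrict (NY M Y) (fun m => by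
    change (0 : Z) ∈ Y
    exact Y.zero_mem)

def p₂ (M : Type) [AddCommMonoid M] (Y : AddSubmonoid Z) : Y →+ NY M Y :=
  ((AddMonoidHom.inr M Z).comp Y.subtype).codRestrict (NY M Y) (fun y => by
    change (y : Z) ∈ Y
    exact y.2)

theorem sub_p₁ (Y : AddSubmonoid Z) :
    (NY M Y).subtype.comp (p₁ Y) = AddMonoidHom.inl M Z := rfl

theorem sub_p₂ (Y : AddSubmonoid Z) :
    (NY M Y).subtype.comp (p₂ M Y) = (AddMonoidHom.inr M Z).comp Y.subtype := rfl

theorem inl_add (f : M →+ Z) :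
    AddMonoidHom.inl M Z + (AddMonoidHom.inr M Z).comp f = gr f := by
  ext m
  · simp [gr]
  · simp [gr]

set_option maxHeartbeats 400000 in
theorem stepA (f : M →+ Z) (Y : AddSubmonoid Z) {X : Over S} (a : MonAct (AMonS S M) X)
    {T : Over S} (y : T ⟶ X)
    (h : Ext Y ((AMonS S Z ◁ y) ≫ (a.restrict (AMonS.map S f)).act)) :
    Ext (NY M Y) ((AMonS.map S (gr f) ▷ T) ≫ (AMonS S M ◁ y) ≫ a.act) := by
  obtain ⟨ψ', hψ'⟩ := h
  refine ⟨lift (fst _ _ ≫ AMonS.map S (p₁ Y))
    (lift (fst _ _ ≫ AMonS.map S (p₂ M Y)) (snd _ _) ≫ ψ') ≫ a.act, ?_⟩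
  apply hom_ext_lift₂
  intro T' g s
  have e1 : AMonS.map S (NY M Y).subtype ≫ AMonS.map S (p₁ Y) = AMonS.map S (AddMonoidHom.inl M Z) := by
    rw [← AMonS.map_comp, sub_p₁]
  have e2 : AMonS.map S (NY M Y).subtype ≫ AMonS.map S (p₂ M Y) =
      AMonS.map S (AddMonoidHom.inr M Z) ≫ AMonS.map S Y.subtype := by
    rw [← AMonS.map_comp, sub_p₂, AMonS.map_comp]
  have e3 : lift (g ≫ AMonS.map S (AddMonoidHom.inr M Z) ≫ AMonS.map S Y.subtype) s ≫ ψ' =
      lift (g ≫ AMonS.map S (AddMonoidHom.inr M Z) ≫ AMonS.map S f) (s ≫ y) ≫ a.act := by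
    rw [← Category.assoc g, ← lift_whiskerRight_assoc, hψ', lift_whiskerLeft_assoc,
      lift_restrict_act, Category.assoc]
  have e4 : (g ≫ AMonS.map S (AddMonoidHom.inl M Z)) *
      (g ≫ AMonS.map S (AddMonoidHom.inr M Z) ≫ AMonS.map S f) = g ≫ AMonS.map S (gr f) := by
    rw [← MonObj.comp_mul, ← AMonS.map_comp, ← AMonS_map_add, inl_add]
  rw [lift_whiskerRight_assoc, comp_lift_assoc, lift_fst_assoc, comp_lift_assoc, lift_fst_assoc,
    lift_snd, Category.assoc, e1, Category.assoc, e2, e3, ← a.lift_mul_act, e4,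
    lift_whiskerRight_assoc, lift_whiskerLeft_assoc]

end Groth.Agent.H91.ComapStep
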