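import Groth.Prelude.Def_AlgGrp
import Groth.Prelude.Def_NonAbH2
import Groth.Prelude.Def_ChGrp
import Mathlib.AlgebraicGeometry.Sites.Fpqc

/-! The core of `H` in `G` = kernel of the action on `G/H`: normal, contained in `H`, largest such (S18763). -/

set_option autoImplicit false
universe u
open CategoryTheory CategoryTheory.Limits MonoidalCategory CartesianMonoidalCategory MonObj GrpObj AlgebraicGeometry
open Opposite

namespace Groth.Agent.H91.CoreSub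

/-- Two morphisms `a b : T ⟶ Z` of schemes agree as soon as they agree after pulling back an fppf covering
family of `X` along some `t : T ⟶ X` (fppf topology is subcanonical). -/
theorem hom_ext_of_fppf {X Z : Scheme.{u}} {R : Presieve X} (hR : R ∈ Scheme.fppfPrecoverage X)
    {T : Scheme.{u}} (t : T ⟶ X) (a b : T ⟶ Z)
    (h : ∀ (W : Scheme.{u}) (w : W ⟶ T) (S' : Scheme.{u}) (e : W ⟶ S') (f : S' ⟶ X), R f → e ≫ f = w ≫ t →
      w ≫ a = w ≫ b) : a = b := by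
  have hcov : (Sieve.generate R).pullback t ∈ Scheme.fppfTopology T :=
    Scheme.fppfTopology.pullback_stable t (Precoverage.generate_mem_toGrothendieck hR)
  have hsh := (GrothendieckTopology.Subcanonical.isSheaf_of_isRepresentable (J := Scheme.fppfTopology)
    (yoneda.obj Z)) _ hcov
  refine hsh.isSeparatedFor.ext (t₁ := a) (t₂ := b) ?_
  intro W w hw
  obtain ⟨S', e, f, hf, hef⟩ := hw
  exact h W w S' e f hf hef

variable {S : Scheme.{u}} {G H Q N : Over S} [GrpObj G] [GrpObj H] [GrpObj N]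

theorem normal (aQ : AlgGrp.Action G Q) (n : N ⟶ G)
    (hN : ∀ (T : Over S) (g : T ⟶ G), (∃ g' : T ⟶ N, g' ≫ n = g) ↔
      ∀ (T' : Over S) (v : T' ⟶ T) (q : T' ⟶ Q), lift (v ≫ g) q ≫ aQ.act = q) :
    AlgGrp.IsNormalHom n := by
  intro T g m
  have key : ∃ g' : T ⟶ N, g' ≫ n = g * (m ≫ n) * g⁻¹ := by
    refine (hN T (g * (m ≫ n) * g⁻¹)).2 ?_
    intro T' v q
    rw [MonObj.comp_mul, MonObj.comp_mul, GrpObj.comp_inv, AlgGrp.Action.lift_mul_act,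
      AlgGrp.Action.lift_mul_act]
    have h1 := (hN T' (v ≫ m ≫ n)).1 ⟨v ≫ m, by rw [Category.assoc]⟩ T' (𝟙 _) (lift (v ≫ g)⁻¹ q ≫ aQ.act)
    rw [Category.id_comp] at h1
    rw [h1, ← AlgGrp.Action.lift_mul_act, _root_.mul_inv_cancel, AlgGrp.Action.lift_one_act]
  obtain ⟨g', hg'⟩ := key
  exact ⟨g', hg'.symm⟩

omit [GrpObj H] [GrpObj N] in
theorem le_stab (i : H ⟶ G) (aQ : AlgGrp.Action G Q) (q₀ : 𝟙_ (Over S) ⟶ Q)
    (hpb : IsPullback (fst G H) ((G ◁ i) ≫ μ[G]) (aQ.orbitMap q₀) (aQ.orbitMap q₀)) (n : N ⟶ G)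
    (hN : ∀ (T : Over S) (g : T ⟶ G), (∃ g' : T ⟶ N, g' ≫ n = g) ↔
      ∀ (T' : Over S) (v : T' ⟶ T) (q : T' ⟶ Q), lift (v ≫ g) q ≫ aQ.act = q) :
    ∃ m : N ⟶ H, m ≫ i = n := by
  have h1 : (1 : N ⟶ G) ≫ aQ.orbitMap q₀ = n ≫ aQ.orbitMap q₀ := by
    rw [AlgGrp.Action.comp_orbitMap, AlgGrp.Action.comp_orbitMap, AlgGrp.Action.lift_one_act]
    have := (hN N n).1 ⟨𝟙 N, Category.id_comp n⟩ N (𝟙 N) (toUnit N ≫ q₀)
    rw [Category.id_comp] at this
    exact this.symm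
  refine ⟨hpb.lift (1 : N ⟶ G) n h1 ≫ snd G H, ?_⟩
  have e1 := hpb.lift_fst (1 : N ⟶ G) n h1
  have e2 := hpb.lift_snd (1 : N ⟶ G) n h1
  rw [← lift_comp_fst_snd (hpb.lift (1 : N ⟶ G) n h1), e1, ← Category.assoc, lift_whiskerLeft,
    ← Hom.mul_def, _root_.one_mul] at e2
  exact e2

omit [GrpObj H] in
/-- `H` fixes the base point: `(g * i(h)) • q₀ = g • q₀`. -/
theorem mul_orbit (i : H ⟶ G) (aQ : AlgGrp.Action G Q) (q₀ : 𝟙_ (Over S) ⟶ Q)
    (hpb : IsPullback (fst G H) ((G ◁ i) ≫ μ[G]) (aQ.orbitMap q₀) (aQ.orbitMap q₀))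
    {T : Over S} (g : T ⟶ G) (h : T ⟶ H) :
    (g * (h ≫ i)) ≫ aQ.orbitMap q₀ = g ≫ aQ.orbitMap q₀ := by
  have := congrArg (fun z => lift g h ≫ z) hpb.w
  simp only [← Category.assoc] at this
  rw [lift_fst, lift_whiskerLeft, ← Hom.mul_def] at this
  exact this.symm

omit [GrpObj H] [GrpObj N] in
theorem largest (i : H ⟶ G) (aQ : AlgGrp.Action G Q) (q₀ : 𝟙_ (Over S) ⟶ Q)
    (hpb : IsPullback (fst G H) ((G ◁ i) ≫ μ[G]) (aQ.orbitMap q₀) (aQ.orbitMap q₀))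
    (hloc : NonAbH1.IsLocallyTrivialFor Scheme.fppfPrecoverage (Over.mk (aQ.orbitMap q₀).left : Over Q.left))
    (n : N ⟶ G)
    (hN : ∀ (T : Over S) (g : T ⟶ G), (∃ g' : T ⟶ N, g' ≫ n = g) ↔
      ∀ (T' : Over S) (v : T' ⟶ T) (q : T' ⟶ Q), lift (v ≫ g) q ≫ aQ.act = q)
    {N' : Over S} [GrpObj N'] (n' : N' ⟶ G) (hnorm : AlgGrp.IsNormalHom n') (m' : N' ⟶ H) (hm' : m' ≫ i = n') :
    ∃ r : N' ⟶ N, r ≫ n = n' := by
  refine (hN N' n').2 ?_
  intro T' v q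
  obtain ⟨R, hR, hsec⟩ := hloc
  apply Over.OverMorphism.ext
  refine hom_ext_of_fppf hR q.left _ _ ?_
  intro W w S' e f hf hef
  obtain ⟨s, hs⟩ := hsec f hf
  have hs' : s ≫ (aQ.orbitMap q₀).left = f := hs
  have hg : (e ≫ s) ≫ G.hom = w ≫ T'.hom := by
    have h1 : (aQ.orbitMap q₀).left ≫ Q.hom = G.hom := Over.w (aQ.orbitMap q₀)
    have h2 : q.left ≫ Q.hom = T'.hom := Over.w q
    rw [← h1, ← h2, Category.assoc, ← Category.assoc s, hs', ← Category.assoc, hef, Category.assoc]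
  let Wov : Over S := Over.mk (w ≫ T'.hom)
  let w' : Wov ⟶ T' := Over.homMk w rfl
  let g : Wov ⟶ G := Over.homMk (e ≫ s) hg
  have hgq : w' ≫ q = g ≫ aQ.orbitMap q₀ := by
    apply Over.OverMorphism.ext
    show w ≫ q.left = (e ≫ s) ≫ (aQ.orbitMap q₀).left
    rw [Category.assoc, hs', hef]
  have main : w' ≫ (lift (v ≫ n') q ≫ aQ.act) = w' ≫ q := by
    rw [← Category.assoc, comp_lift, hgq, AlgGrp.Action.comp_orbitMap, ← AlgGrp.Action.lift_mul_act,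
      ← AlgGrp.Action.comp_orbitMap]
    obtain ⟨n'', hn''⟩ := hnorm Wov g⁻¹ (w' ≫ v)
    have hmul : (w' ≫ v ≫ n') * g = g * ((n'' ≫ m') ≫ i) := by
      rw [Category.assoc, hm', ← hn'', _root_.inv_inv, Category.assoc]; group
    rw [hmul, mul_orbit i aQ q₀ hpb]
    exact AlgGrp.Action.comp_orbitMap aQ g q₀
  exact congrArg CommaMorphism.left main

end Groth.Agent.H91.CoreSub
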