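import Mathlib

/-!
Helper library for cubic forms: the symmetric trilinear form of a homogeneous cubic,
expansion along a vector, and the structure of Eckardt points of cubic surfaces.
-/

namespace Groth.Agent.H91.Cubic

open MvPolynomial

section General

set_option linter.unusedSectionVars false
set_option linter.unnecessarySeqFocus false

variable {σ : Type*}

theorem pderiv_comm (i j : σ) (p : MvPolynomial σ ℂ) :
    pderiv i (pderiv j p) = pderiv j (pderiv i p) := by
  classical
  induction p using MvPolynomial.induction_on with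
  | C a => simp
  | add p q hp hq => simp [hp, hq]
  | mul_X p k hp =>
    simp only [pderiv_mul, pderiv_X, map_add, hp, Pi.single_apply]
    split_ifs <;> simp <;> ring

variable [Fintype σ]

/-- third derivatives -/
noncomputable def sC (f : MvPolynomial σ ℂ) (i j k : σ) : ℂ :=
  coeff 0 (pderiv i (pderiv j (pderiv k f)))

theorem sC_comm12 (f : MvPolynomial σ ℂ) (i j k : σ) : sC f i j k = sC f j i k := by
  unfold sC; rw [pderiv_comm]

theorem sC_comm23 (f : MvPolynomial σ ℂ) (i j k : σ) : sC f i j k = sC f i k j := by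
  unfold sC; rw [pderiv_comm j k]

/-- the trilinear form -/
noncomputable def T (f : MvPolynomial σ ℂ) (u v w : σ → ℂ) : ℂ :=
  (1 / 6 : ℂ) * ∑ i, ∑ j, ∑ k, sC f k j i * u i * v j * w k

theorem T_comm12 (f : MvPolynomial σ ℂ) (u v w : σ → ℂ) : T f u v w = T f v u w := by
  unfold T
  congr 1
  rw [Finset.sum_comm]
  refine Finset.sum_congr rfl fun i _ => Finset.sum_congr rfl fun j _ =>
    Finset.sum_congr rfl fun k _ => ?_
  rw [sC_comm23]; ring

theorem T_comm23 (f : MvPolynomial σ ℂ) (u v w : σ → ℂ) : T f u v w = T f u w v := by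
  unfold T
  congr 1
  refine Finset.sum_congr rfl fun i _ => ?_
  rw [Finset.sum_comm]
  refine Finset.sum_congr rfl fun j _ => Finset.sum_congr rfl fun k _ => ?_
  rw [sC_comm12]; ring

theorem T_add_left (f : MvPolynomial σ ℂ) (u u' v w : σ → ℂ) :
    T f (u + u') v w = T f u v w + T f u' v w := by
  unfold T
  rw [← mul_add, ← Finset.sum_add_distrib]
  congr 1
  refine Finset.sum_congr rfl fun i _ => ?_
  rw [← Finset.sum_add_distrib]
  refine Finset.sum_congr rfl fun j _ => ?_
  rw [← Finset.sum_add_distrib]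
  refine Finset.sum_congr rfl fun k _ => ?_
  simp only [Pi.add_apply]; ring

theorem T_smul_left (f : MvPolynomial σ ℂ) (c : ℂ) (u v w : σ → ℂ) :
    T f (c • u) v w = c * T f u v w := by
  unfold T
  rw [mul_left_comm c]
  congr 1
  rw [Finset.mul_sum]
  refine Finset.sum_congr rfl fun i _ => ?_
  rw [Finset.mul_sum]
  refine Finset.sum_congr rfl fun j _ => ?_
  rw [Finset.mul_sum]
  refine Finset.sum_congr rfl fun k _ => ?_
  simp only [Pi.smul_apply, smul_eq_mul]; ring

theorem T_add_mid (f : MvPolynomial σ ℂ) (u v v' w : σ → ℂ) :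
    T f u (v + v') w = T f u v w + T f u v' w := by
  rw [T_comm12, T_add_left, T_comm12 f v, T_comm12 f v']

theorem T_smul_mid (f : MvPolynomial σ ℂ) (c : ℂ) (u v w : σ → ℂ) :
    T f u (c • v) w = c * T f u v w := by
  rw [T_comm12, T_smul_left, T_comm12 f v]

theorem T_add_right (f : MvPolynomial σ ℂ) (u v w w' : σ → ℂ) :
    T f u v (w + w') = T f u v w + T f u v w' := by
  rw [T_comm23, T_add_mid, T_comm23 f u w, T_comm23 f u w']

theorem T_smul_right (f : MvPolynomial σ ℂ) (c : ℂ) (u v w : σ → ℂ) :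
    T f u v (c • w) = c * T f u v w := by
  rw [T_comm23, T_smul_mid, T_comm23 f u w]

theorem sC_spec {f : MvPolynomial σ ℂ} (hf : f.IsHomogeneous 3) (i j k : σ) :
    pderiv k (pderiv j (pderiv i f)) = C (sC f k j i) := by
  have h : (pderiv k (pderiv j (pderiv i f))).IsHomogeneous 0 :=
    ((hf.pderiv (i := i)).pderiv (i := j)).pderiv (i := k)
  rw [← totalDegree_zero_iff_isHomogeneous, totalDegree_eq_zero_iff_eq_C] at h
  exact h

theorem eval_pderiv2 {f : MvPolynomial σ ℂ} (hf : f.IsHomogeneous 3) (u : σ → ℂ) (i j : σ) :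
    eval u (pderiv j (pderiv i f)) = ∑ k, sC f k j i * u k := by
  have h : (pderiv j (pderiv i f)).IsHomogeneous 1 := (hf.pderiv (i := i)).pderiv (i := j)
  have h3 := h.sum_X_mul_pderiv
  have := congrArg (eval u) h3
  simp only [map_sum, map_mul, eval_X, sC_spec hf, eval_C, one_smul] at this
  rw [← this]
  exact Finset.sum_congr rfl fun k _ => mul_comm _ _

theorem eval_pderiv1 {f : MvPolynomial σ ℂ} (hf : f.IsHomogeneous 3) (u : σ → ℂ) (i : σ) :
    2 * eval u (pderiv i f) = ∑ j, ∑ k, sC f k j i * u j * u k := by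
  have h : (pderiv i f).IsHomogeneous 2 := hf.pderiv (i := i)
  have h3 := h.sum_X_mul_pderiv
  have := congrArg (eval u) h3
  simp only [map_sum, map_mul, eval_X, eval_pderiv2 hf, nsmul_eq_mul, Nat.cast_ofNat,
    map_ofNat] at this
  rw [← this]
  refine Finset.sum_congr rfl fun j _ => ?_
  rw [Finset.mul_sum]
  exact Finset.sum_congr rfl fun k _ => by ring

theorem eval_eq_T {f : MvPolynomial σ ℂ} (hf : f.IsHomogeneous 3) (u : σ → ℂ) :
    eval u f = T f u u u := by
  have h3 := hf.sum_X_mul_pderiv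
  have := congrArg (eval u) h3
  simp only [map_sum, map_mul, eval_X, nsmul_eq_mul, Nat.cast_ofNat, map_ofNat] at this
  have h6 : 6 * eval u f = ∑ i, ∑ j, ∑ k, sC f k j i * u i * u j * u k := by
    calc 6 * eval u f = 2 * (3 * eval u f) := by ring
      _ = ∑ i, u i * (2 * eval u (pderiv i f)) := by
          rw [← this, Finset.mul_sum]; exact Finset.sum_congr rfl fun i _ => by ring
      _ = _ := by
          refine Finset.sum_congr rfl fun i _ => ?_
          rw [eval_pderiv1 hf, Finset.mul_sum]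
          refine Finset.sum_congr rfl fun j _ => ?_
          rw [Finset.mul_sum]
          exact Finset.sum_congr rfl fun k _ => by ring
  unfold T
  rw [← h6]; ring

theorem dir_deriv {f : MvPolynomial σ ℂ} (hf : f.IsHomogeneous 3) (u w : σ → ℂ) :
    ∑ i, w i * eval u (pderiv i f) = 3 * T f w u u := by
  have : 2 * ∑ i, w i * eval u (pderiv i f) = ∑ i, ∑ j, ∑ k, sC f k j i * w i * u j * u k := by
    rw [Finset.mul_sum]
    refine Finset.sum_congr rfl fun i _ => ?_
    rw [mul_left_comm, eval_pderiv1 hf, Finset.mul_sum]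
    refine Finset.sum_congr rfl fun j _ => ?_
    rw [Finset.mul_sum]
    exact Finset.sum_congr rfl fun k _ => by ring
  unfold T
  rw [← this]; ring

theorem T_cube_add (f : MvPolynomial σ ℂ) (u v : σ → ℂ) :
    T f (u + v) (u + v) (u + v) = T f u u u + 3 * T f u u v + 3 * T f u v v + T f v v v := by
  simp only [T_add_left, T_add_mid, T_add_right]
  rw [T_comm23 f u v u, T_comm12 f v u u, T_comm23 f u v u, T_comm12 f v u v, T_comm23 f v v u,
    T_comm12 f v u v]
  ring

/-- expansion of a cubic along a direction -/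
theorem eval_expand {f : MvPolynomial σ ℂ} (hf : f.IsHomogeneous 3) (e y : σ → ℂ) (t : ℂ) :
    eval (t • e + y) f =
      t ^ 3 * eval e f + t ^ 2 * (3 * T f e e y) + t * (3 * T f e y y) + eval y f := by
  rw [eval_eq_T hf, T_cube_add, eval_eq_T hf e, eval_eq_T hf y]
  simp only [T_smul_left, T_smul_mid, T_smul_right]
  ring

theorem cubic_coeffs {c0 c1 c2 c3 : ℂ} (h : ∀ t : ℂ, t ^ 3 * c3 + t ^ 2 * c2 + t * c1 + c0 = 0) :
    c0 = 0 ∧ c1 = 0 ∧ c2 = 0 ∧ c3 = 0 := by
  have h0 := h 0
  have h1 := h 1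
  have h2 := h (-1)
  have h3 := h 2
  have e0 : c0 = 0 := by simpa using h0
  subst e0
  have e2 : c2 = 0 := by linear_combination (1 / 2 : ℂ) * h1 + (1 / 2 : ℂ) * h2
  subst e2
  have e3 : c3 = 0 := by linear_combination (1 / 6 : ℂ) * h3 - (1 / 3 : ℂ) * h1
  subst e3
  have e1 : c1 = 0 := by linear_combination h1
  exact ⟨rfl, e1, rfl, rfl⟩

end General

section Eckardt

/-- the ambient space -/
abbrev V := Fin 4 → ℂ

variable (f : MvPolynomial (Fin 4) ℂ)

/-- `a_e(y) = 3 T(e,e,y)` -/
noncomputable def aL (e : V) : Module.Dual ℂ V where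
  toFun y := 3 * T f e e y
  map_add' y z := by rw [T_add_right]; ring
  map_smul' c y := by rw [T_smul_right]; simp only [smul_eq_mul, RingHom.id_apply]; ring

/-- `B_e(y,z) = 3 T(e,y,z)` -/
noncomputable def BL (e : V) : V →ₗ[ℂ] V →ₗ[ℂ] ℂ :=
  LinearMap.mk₂ ℂ (fun y z => 3 * T f e y z)
    (by intros; rw [T_add_mid]; ring) (by intros; rw [T_smul_mid]; simp only [smul_eq_mul]; ring)
    (by intros; rw [T_add_right]; ring) (by intros; rw [T_smul_right]; simp only [smul_eq_mul]; ring)

theorem aL_apply (e y : V) : aL f e y = 3 * T f e e y := rfl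

theorem BL_apply (e y z : V) : BL f e y z = 3 * T f e y z := rfl

theorem BL_symm (e y z : V) : BL f e y z = BL f e z y := by
  rw [BL_apply, BL_apply, T_comm23]

theorem BL_e_left (e y : V) : BL f e e y = aL f e y := rfl

theorem BL_e_right (e y : V) : BL f e y e = aL f e y := by rw [BL_symm, BL_e_left]

theorem BL_swap (e e' : V) : BL f e e' e' = aL f e' e := by
  rw [BL_apply, aL_apply, T_comm12, T_comm23]

variable {f}

theorem aL_self (hf : f.IsHomogeneous 3) (e : V) : aL f e e = 3 * eval e f := by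
  rw [aL_apply, eval_eq_T hf]

theorem expand (hf : f.IsHomogeneous 3) (e y : V) (t : ℂ) :
    eval (t • e + y) f =
      t ^ 3 * eval e f + t ^ 2 * aL f e y + t * BL f e y y + eval y f :=
  eval_expand hf e y t

/-- smoothness of the projective hypersurface -/
def Smooth (f : MvPolynomial (Fin 4) ℂ) : Prop :=
  ∀ v : Fin 4 → ℂ, v ≠ 0 → eval v f = 0 → ∃ i : Fin 4, eval v (pderiv i f) ≠ 0

/-- Eckardt points -/
def IsEck (f : MvPolynomial (Fin 4) ℂ) (e : Fin 4 → ℂ) : Prop :=
  ∃ U : Fin 3 → Submodule ℂ (Fin 4 → ℂ), Function.Injective U ∧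
    ∀ i : Fin 3, Module.finrank ℂ ↥(U i) = 2 ∧ e ∈ U i ∧ ∀ u ∈ U i, eval u f = 0

theorem aL_ne_zero (hf : f.IsHomogeneous 3) (hsm : Smooth f) {e : V} (he : e ≠ 0)
    (hFe : eval e f = 0) : aL f e ≠ 0 := by
  intro h
  obtain ⟨i, hi⟩ := hsm e he hFe
  apply hi
  have h1 := dir_deriv hf e (Pi.single i 1)
  have h2 : aL f e (Pi.single i 1) = 0 := by rw [h]; rfl
  rw [aL_apply, T_comm23, T_comm12] at h2
  rw [h2] at h1
  simpa [Pi.single_apply] using h1

theorem line_coeffs (hf : f.IsHomogeneous 3) {e : V} {U : Submodule ℂ V} (heU : e ∈ U)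
    (hU : ∀ u ∈ U, eval u f = 0) {u : V} (hu : u ∈ U) :
    aL f e u = 0 ∧ BL f e u u = 0 := by
  have h : ∀ t : ℂ, t ^ 3 * 0 + t ^ 2 * aL f e u + t * BL f e u u + 0 = 0 := by
    intro t
    have := hU (t • e + u) (U.add_mem (U.smul_mem t heU) hu)
    rw [expand hf, hU e heU, hU u hu] at this
    exact this
  obtain ⟨_, h1, h2, _⟩ := cubic_coeffs h
  exact ⟨h2, h1⟩

theorem two_dim {U : Submodule ℂ V} (hU : Module.finrank ℂ U = 2) {e y : V} (he0 : e ≠ 0)
    (he : e ∈ U) (hy : y ∈ U) (hy' : y ∉ Submodule.span ℂ {e}) :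
    U = Submodule.span ℂ {e, y} := by
  symm
  apply Submodule.eq_of_le_of_finrank_le
  · rw [Submodule.span_le]
    rintro x (rfl | rfl)
    exacts [he, hy]
  · rw [hU]
    have hlt : Submodule.span ℂ {e} < Submodule.span ℂ {e, y} := by
      refine lt_of_le_of_ne (Submodule.span_mono (by simp)) (fun h => hy' ?_)
      rw [h]; exact Submodule.subset_span (by simp)
    have := Submodule.finrank_lt_finrank_of_lt hlt
    rw [finrank_span_singleton he0] at this
    omega

theorem eck_main (hf : f.IsHomogeneous 3) (hsm : Smooth f) {e : V} (he : e ≠ 0)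
    (hE : IsEck f e) :
    eval e f = 0 ∧ aL f e ≠ 0 ∧
      ∃ l : Module.Dual ℂ V, l e = 2 ∧ ∀ y, BL f e y y = aL f e y * l y := by
  obtain ⟨U, hUinj, hU⟩ := hE
  have hFe : eval e f = 0 := (hU 0).2.2 e (hU 0).2.1
  have ha : aL f e ≠ 0 := aL_ne_zero hf hsm he hFe
  refine ⟨hFe, ha, ?_⟩
  have hUa : ∀ i, U i ≤ LinearMap.ker (aL f e) := fun i u hu =>
    LinearMap.mem_ker.mpr (line_coeffs hf (hU i).2.1 (hU i).2.2 hu).1
  have hUb : ∀ i, ∀ u ∈ U i, BL f e u u = 0 := fun i u hu =>
    (line_coeffs hf (hU i).2.1 (hU i).2.2 hu).2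
  have hker : Module.finrank ℂ (LinearMap.ker (aL f e)) = 3 := by
    have := Module.Dual.finrank_ker_add_one_of_ne_zero ha
    rw [Module.finrank_fin_fun] at this
    omega
  have hne : ∀ i j, i ≠ j → ¬ U i ≤ U j := by
    intro i j hij hle
    exact hij (hUinj (Submodule.eq_of_le_of_finrank_eq hle (by rw [(hU i).1, (hU j).1])))
  have h01 : U 0 ⊔ U 1 = LinearMap.ker (aL f e) := by
    apply Submodule.eq_of_le_of_finrank_le (sup_le (hUa 0) (hUa 1))
    rw [hker]
    have h1 := Submodule.finrank_sup_add_finrank_inf_eq (U 0) (U 1)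
    have hlt : U 0 ⊓ U 1 < U 0 :=
      lt_of_le_of_ne inf_le_left (fun h => hne 0 1 (by decide) (inf_eq_left.mp h))
    have h2 := Submodule.finrank_lt_finrank_of_lt hlt
    rw [(hU 0).1] at h2 h1
    rw [(hU 1).1] at h1
    omega
  obtain ⟨u3, hu3, hu3e⟩ : ∃ u3 ∈ U 2, u3 ∉ Submodule.span ℂ {e} := by
    by_contra hcon
    push Not at hcon
    have hle : U 2 ≤ Submodule.span ℂ {e} := hcon
    have := Submodule.finrank_mono hle
    rw [(hU 2).1, finrank_span_singleton he] at this
    omega
  have hu3k : u3 ∈ U 0 ⊔ U 1 := h01 ▸ hUa 2 hu3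
  obtain ⟨y1, hy1, y2, hy2, hy12⟩ := Submodule.mem_sup.mp hu3k
  have hspan_le : ∀ i, Submodule.span ℂ {e} ≤ U i := fun i => by
    rw [Submodule.span_singleton_le_iff_mem]; exact (hU i).2.1
  have hU2 : U 2 = Submodule.span ℂ {e, u3} := two_dim (hU 2).1 he (hU 2).2.1 hu3 hu3e
  have hy1e : y1 ∉ Submodule.span ℂ {e} := by
    intro h
    apply hne 2 1 (by decide)
    rw [hU2, Submodule.span_le]
    rintro x (rfl | rfl)
    · exact (hU 1).2.1
    · rw [← hy12]; exact (U 1).add_mem (hspan_le 1 h) hy2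
  have hy2e : y2 ∉ Submodule.span ℂ {e} := by
    intro h
    apply hne 2 0 (by decide)
    rw [hU2, Submodule.span_le]
    rintro x (rfl | rfl)
    · exact (hU 0).2.1
    · rw [← hy12]; exact (U 0).add_mem hy1 (hspan_le 0 h)
  have hU0 : U 0 = Submodule.span ℂ {e, y1} := two_dim (hU 0).1 he (hU 0).2.1 hy1 hy1e
  have hU1 : U 1 = Submodule.span ℂ {e, y2} := two_dim (hU 1).1 he (hU 1).2.1 hy2 hy2e
  have hay1 : aL f e y1 = 0 := hUa 0 hy1
  have hay2 : aL f e y2 = 0 := hUa 1 hy2
  have hae : aL f e e = 0 := by rw [aL_self hf, hFe, mul_zero]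
  have hB12 : BL f e y1 y2 = 0 := by
    have h := hUb 2 u3 hu3
    rw [← hy12] at h
    simp only [map_add, LinearMap.add_apply] at h
    rw [hUb 0 y1 hy1, hUb 1 y2 hy2, BL_symm f e y2 y1] at h
    linear_combination (1 / 2 : ℂ) * h
  have hBk : ∀ p ∈ LinearMap.ker (aL f e), BL f e p p = 0 := by
    intro p hp
    rw [← h01] at hp
    obtain ⟨x1, hx1, x2, hx2, rfl⟩ := Submodule.mem_sup.mp hp
    rw [hU0] at hx1; rw [hU1] at hx2
    obtain ⟨α, β, rfl⟩ := Submodule.mem_span_pair.mp hx1
    obtain ⟨γ, δ, rfl⟩ := Submodule.mem_span_pair.mp hx2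
    simp only [map_add, map_smul, LinearMap.add_apply, LinearMap.smul_apply, smul_eq_mul,
      BL_e_left, BL_e_right, hae, hay1, hay2, hB12, BL_symm f e y2 y1, hUb 0 y1 hy1,
      hUb 1 y2 hy2]
    ring
  obtain ⟨w0, hw0⟩ : ∃ w0, aL f e w0 ≠ 0 := by
    by_contra h; push Not at h; exact ha (LinearMap.ext h)
  have hw : aL f e ((aL f e w0)⁻¹ • w0) = 1 := by
    rw [map_smul, smul_eq_mul, inv_mul_cancel₀ hw0]
  generalize (aL f e w0)⁻¹ • w0 = w at hw
  refine ⟨(2 : ℂ) • (BL f e w) - (BL f e w w) • aL f e, ?_, ?_⟩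
  · simp only [LinearMap.sub_apply, LinearMap.smul_apply, smul_eq_mul, BL_e_right, hw, hae]
    ring
  · intro y
    have hp : y - aL f e y • w ∈ LinearMap.ker (aL f e) := by
      rw [LinearMap.mem_ker, map_sub, map_smul, hw, smul_eq_mul, mul_one, sub_self]
    have := hBk _ hp
    simp only [map_sub, map_smul, LinearMap.sub_apply, LinearMap.smul_apply, smul_eq_mul] at this
    rw [BL_symm f e w y] at this
    simp only [LinearMap.sub_apply, LinearMap.smul_apply, smul_eq_mul]
    rw [BL_symm f e w y]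
    linear_combination this

theorem eval_refl (hf : f.IsHomogeneous 3) {e : V} (hFe : eval e f = 0) (l : Module.Dual ℂ V)
    (hbl : ∀ y, BL f e y y = aL f e y * l y) (y : V) :
    eval (y - l y • e) f = eval y f := by
  have := expand hf e y (-(l y))
  rw [show (-(l y)) • e + y = y - l y • e by rw [neg_smul]; abel] at this
  rw [this, hFe, hbl]; ring

/-- the reflection attached to `l` and `e` -/
noncomputable def refl (l : Module.Dual ℂ V) (e : V) : V →ₗ[ℂ] V :=
  LinearMap.id - l.smulRight e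

theorem refl_apply (l : Module.Dual ℂ V) (e y : V) : refl l e y = y - l y • e := rfl

theorem refl_refl (l : Module.Dual ℂ V) (e : V) (hl : l e = 2) (y : V) :
    refl l e (refl l e y) = y := by
  rw [refl_apply, refl_apply]
  have : l (y - l y • e) = -(l y) := by rw [map_sub, map_smul, hl, smul_eq_mul]; ring
  rw [this, neg_smul]; abel

/-- uniqueness of the reflection -/
theorem inv_unique (hf : f.IsHomogeneous 3) (hsm : Smooth f) {e : V} (he : e ≠ 0)
    (hFe : eval e f = 0) (l : Module.Dual ℂ V) (hl : l e = 2)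
    (hbl : ∀ y, BL f e y y = aL f e y * l y)
    (g : V →ₗ[ℂ] V) (hg3 : Module.finrank ℂ (LinearMap.ker (g - LinearMap.id)) = 3)
    (hge : g e = -e) (c : ℂ) (hgF : ∀ y, eval (g y) f = c * eval y f) :
    ∀ y, g y = y - l y • e := by
  have ha : aL f e ≠ 0 := aL_ne_zero hf hsm he hFe
  have hae : aL f e e = 0 := by rw [aL_self hf, hFe, mul_zero]
  set H := LinearMap.ker (g - LinearMap.id) with hH
  have hHmem : ∀ h, h ∈ H ↔ g h = h := by
    intro h
    rw [hH, LinearMap.mem_ker, LinearMap.sub_apply, LinearMap.id_apply, sub_eq_zero]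
  have heH : e ∉ H := by
    rw [hHmem, hge]
    intro h
    have : (2 : ℂ) • e = 0 := by rw [two_smul]; nth_rewrite 1 [← h]; simp
    rcases smul_eq_zero.mp this with h2 | h2
    · norm_num at h2
    · exact he h2
  have hsup : H ⊔ Submodule.span ℂ {e} = ⊤ := by
    apply Submodule.eq_top_of_finrank_eq
    have h1 := Submodule.finrank_sup_add_finrank_inf_eq H (Submodule.span ℂ {e})
    have hdis : H ⊓ Submodule.span ℂ {e} = ⊥ :=
      disjoint_iff.mp ((Submodule.disjoint_span_singleton' he).mpr heH)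
    rw [hdis, finrank_bot, hg3, finrank_span_singleton he] at h1
    rw [Module.finrank_fin_fun]
    omega
  have hdecomp : ∀ y : V, ∃ h ∈ H, ∃ s : ℂ, y = h + s • e := by
    intro y
    have : y ∈ H ⊔ Submodule.span ℂ {e} := by rw [hsup]; trivial
    obtain ⟨h, hh, z, hz, rfl⟩ := Submodule.mem_sup.mp this
    obtain ⟨s, rfl⟩ := Submodule.mem_span_singleton.mp hz
    exact ⟨h, hh, s, rfl⟩
  -- relations on H
  have hrel : ∀ h ∈ H, (1 - c) * aL f e h = 0 ∧ (1 + c) * BL f e h h = 0 := by
    intro h hh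
    have key : ∀ t : ℂ, t ^ 2 * aL f e h - t * BL f e h h + eval h f =
        c * (t ^ 2 * aL f e h + t * BL f e h h + eval h f) := by
      intro t
      have h1 := hgF (t • e + h)
      rw [map_add, map_smul, hge, (hHmem h).mp hh, expand hf e h t, hFe] at h1
      have h2 := expand hf e h (-t)
      rw [show (-t) • e + h = t • -e + h by rw [neg_smul, smul_neg]] at h2
      rw [h2, hFe] at h1
      linear_combination h1
    have k0 := key 0
    have k1 := key 1
    have k2 := key (-1)
    constructor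
    · linear_combination (1 / 2 : ℂ) * k1 + (1 / 2 : ℂ) * k2 - k0
    · linear_combination (-1 / 2 : ℂ) * k1 + (1 / 2 : ℂ) * k2
  have hazero : (∀ h ∈ H, aL f e h = 0) → False := by
    intro h0
    apply ha
    refine LinearMap.ext fun y => ?_
    obtain ⟨h, hh, s, rfl⟩ := hdecomp y
    rw [map_add, map_smul, h0 h hh, hae]; simp
  have hlH : ∀ h ∈ H, l h = 0 := by
    by_cases hc : c = 1
    · subst hc
      have hb : ∀ h ∈ H, aL f e h * l h = 0 := by
        intro h hh
        have := (hrel h hh).2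
        rw [hbl] at this
        have h2 : (1 + 1 : ℂ) ≠ 0 := by norm_num
        exact (mul_eq_zero.mp this).resolve_left h2
      by_contra hcon
      push Not at hcon
      obtain ⟨h0, hh0, hl0⟩ := hcon
      apply hazero
      intro h hh
      by_contra hah
      have e1 : l h = 0 := (mul_eq_zero.mp (hb h hh)).resolve_left hah
      have e2 := hb (h + h0) (H.add_mem hh hh0)
      have e3 : aL f e h0 = 0 := (mul_eq_zero.mp (hb h0 hh0)).resolve_right hl0
      rw [map_add, map_add, e1, e3, add_zero, zero_add] at e2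
      rcases mul_eq_zero.mp e2 with e4 | e4
      · exact hah e4
      · exact hl0 e4
    · exfalso
      apply hazero
      intro h hh
      have := (hrel h hh).1
      exact (mul_eq_zero.mp this).resolve_left (sub_ne_zero.mpr (Ne.symm hc))
  intro y
  obtain ⟨h, hh, s, rfl⟩ := hdecomp y
  rw [map_add, map_smul, hge, (hHmem h).mp hh, map_add, map_smul, hlH h hh, hl, smul_eq_mul,
    zero_add, smul_neg, mul_two, add_smul]
  abel

/-- substitution by a matrix versus evaluation -/
theorem eval_aeval_matrix (f : MvPolynomial (Fin 4) ℂ) (A : Matrix (Fin 4) (Fin 4) ℂ) (v : V) :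
    eval v (aeval (fun i : Fin 4 => ∑ j : Fin 4, C (A i j) * X j) f) = eval (A.mulVec v) f := by
  rw [← aeval_eq_eval, ← aeval_eq_eval]
  rw [comp_aeval_apply]
  have : (fun i => (aeval v) (∑ j : Fin 4, C (A i j) * X j)) = A.mulVec v := by
    funext i
    simp [Matrix.mulVec, dotProduct, aeval_eq_eval]
  rw [this]

theorem aeval_matrix_iff (f : MvPolynomial (Fin 4) ℂ) (A : Matrix (Fin 4) (Fin 4) ℂ) (c : ℂ) :
    aeval (fun i : Fin 4 => ∑ j : Fin 4, C (A i j) * X j) f = C c * f ↔
      ∀ v : V, eval (A.mulVec v) f = c * eval v f := by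
  constructor
  · intro h v
    rw [← eval_aeval_matrix, h, map_mul, eval_C]
  · intro h
    apply MvPolynomial.funext
    intro v
    rw [eval_aeval_matrix, h, map_mul, eval_C]

end Eckardt

section Involution

variable {f : MvPolynomial (Fin 4) ℂ}

/-- the involution conditions on a matrix -/
def IsInv (f : MvPolynomial (Fin 4) ℂ) (e : Fin 4 → ℂ) (A : Matrix (Fin 4) (Fin 4) ℂ) : Prop :=
  A * A = 1 ∧ Module.finrank ℂ ↥(LinearMap.ker (Matrix.toLin' A - LinearMap.id)) = 3 ∧
    A.mulVec e = -e ∧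
      ∃ c : ℂ, aeval (fun i : Fin 4 => ∑ j : Fin 4, C (A i j) * X j) f = C c * f

theorem IsInv.mulVec_eq (hf : f.IsHomogeneous 3) (hsm : Smooth f) {e : V} (he : e ≠ 0)
    (hFe : eval e f = 0) (l : Module.Dual ℂ V) (hl : l e = 2)
    (hbl : ∀ y, BL f e y y = aL f e y * l y) {A : Matrix (Fin 4) (Fin 4) ℂ}
    (hA : IsInv f e A) : ∀ y, A.mulVec y = y - l y • e := by
  obtain ⟨_, h3, hAe, c, hc⟩ := hA
  have := inv_unique hf hsm he hFe l hl hbl (Matrix.toLin' A) h3
    (by rw [Matrix.toLin'_apply]; exact hAe) c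
    (fun y => by rw [Matrix.toLin'_apply]; exact (aeval_matrix_iff f A c).mp hc y)
  intro y
  rw [← Matrix.toLin'_apply]; exact this y

theorem IsInv.eq_toMatrix (hf : f.IsHomogeneous 3) (hsm : Smooth f) {e : V} (he : e ≠ 0)
    (hFe : eval e f = 0) (l : Module.Dual ℂ V) (hl : l e = 2)
    (hbl : ∀ y, BL f e y y = aL f e y * l y) {A : Matrix (Fin 4) (Fin 4) ℂ}
    (hA : IsInv f e A) : A = LinearMap.toMatrix' (refl l e) := by
  have h := hA.mulVec_eq hf hsm he hFe l hl hbl
  have : Matrix.toLin' A = refl l e := by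
    refine LinearMap.ext fun y => ?_
    rw [Matrix.toLin'_apply, h, refl_apply]
  rw [← this, LinearMap.toMatrix'_toLin']

theorem ker_refl_sub_id (l : Module.Dual ℂ V) {e : V} (he : e ≠ 0) :
    LinearMap.ker (refl l e - LinearMap.id) = LinearMap.ker l := by
  ext y
  simp only [LinearMap.mem_ker, LinearMap.sub_apply, refl_apply, LinearMap.id_apply]
  constructor
  · intro h
    have : l y • e = 0 := by
      have h2 : y - l y • e - y = -(l y • e) := by abel
      rw [h2] at h
      exact neg_eq_zero.mp h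
    exact (smul_eq_zero.mp this).resolve_right he
  · intro h
    rw [h, zero_smul]; abel

theorem isInv_refl (hf : f.IsHomogeneous 3) {e : V} (he : e ≠ 0)
    (hFe : eval e f = 0) (l : Module.Dual ℂ V) (hl : l e = 2)
    (hbl : ∀ y, BL f e y y = aL f e y * l y) :
    IsInv f e (LinearMap.toMatrix' (refl l e)) := by
  refine ⟨?_, ?_, ?_, 1, ?_⟩
  · rw [← LinearMap.toMatrix'_comp]
    have : (refl l e).comp (refl l e) = LinearMap.id :=
      LinearMap.ext fun y => by rw [LinearMap.comp_apply, refl_refl l e hl]; rfl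
    rw [this, LinearMap.toMatrix'_id]
  · rw [Matrix.toLin'_toMatrix', ker_refl_sub_id l he]
    have hl0 : l ≠ 0 := by
      intro h
      rw [h] at hl
      simp at hl
    have := Module.Dual.finrank_ker_add_one_of_ne_zero hl0
    rw [Module.finrank_fin_fun] at this
    exact Nat.add_right_cancel (m := 1) (k := 3) this
  · rw [← Matrix.toLin'_apply, Matrix.toLin'_toMatrix', refl_apply, hl, two_smul]
    abel
  · rw [aeval_matrix_iff]
    intro v
    rw [← Matrix.toLin'_apply, Matrix.toLin'_toMatrix', refl_apply, eval_refl hf hFe l hbl,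
      one_mul]

end Involution

end Groth.Agent.H91.Cubic
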