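import Groth.Agent.H91.Cubic

/-!
Lines through two Eckardt points of a smooth cubic surface.
-/

namespace Groth.Agent.H91.Cubic

open MvPolynomial

variable {f : MvPolynomial (Fin 4) ℂ}

theorem eval_smul (hf : f.IsHomogeneous 3) (t : ℂ) (y : V) :
    eval (t • y) f = t ^ 3 * eval y f := by
  rw [eval_eq_T hf, eval_eq_T hf]
  simp only [T_smul_left, T_smul_mid, T_smul_right]
  ring

theorem eval_line (hf : f.IsHomogeneous 3) (e e' : V) (s t : ℂ) (hFe : eval e f = 0)
    (hFe' : eval e' f = 0) :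
    eval (s • e + t • e') f = s ^ 2 * t * aL f e e' + s * t ^ 2 * aL f e' e := by
  rw [expand hf, eval_smul hf, hFe, hFe']
  simp only [map_smul, LinearMap.smul_apply, smul_eq_mul, BL_swap]
  ring

theorem eck_rel {e : V} {l : Module.Dual ℂ V} (hbl : ∀ y, BL f e y y = aL f e y * l y) (e' : V) :
    aL f e' e = aL f e e' * l e' := by
  rw [← BL_swap, hbl]

theorem IsEck.map {e : V} (hE : IsEck f e) (g : V ≃ₗ[ℂ] V)
    (hg : ∀ y, eval (g y) f = eval y f) : IsEck f (g e) := by
  obtain ⟨U, hUinj, hU⟩ := hE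
  refine ⟨fun i => (U i).map (g : V →ₗ[ℂ] V), ?_, fun i => ⟨?_, ?_, ?_⟩⟩
  · intro i j hij
    exact hUinj (Submodule.map_injective_of_injective (f := (g : V →ₗ[ℂ] V)) g.injective hij)
  · rw [LinearEquiv.finrank_map_eq]; exact (hU i).1
  · exact Submodule.mem_map_of_mem (hU i).2.1
  · rintro u ⟨x, hx, rfl⟩
    rw [LinearEquiv.coe_coe, hg]; exact (hU i).2.2 x hx

/-- the reflection as a linear equivalence -/
noncomputable def reflE (l : Module.Dual ℂ V) (e : V) (hl : l e = 2) : V ≃ₗ[ℂ] V :=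
  LinearEquiv.ofInvolutive (refl l e) (refl_refl l e hl)

theorem reflE_apply (l : Module.Dual ℂ V) (e : V) (hl : l e = 2) (y : V) :
    reflE l e hl y = refl l e y := rfl

theorem not_three_spans {e e' : V} (he : e ≠ 0) (he' : e' ∉ Submodule.span ℂ {e}) (e'' : V) :
    ∃ u ∈ Submodule.span ℂ {e, e'}, u ∉ Submodule.span ℂ {e} ∧ u ∉ Submodule.span ℂ {e'} ∧
      u ∉ Submodule.span ℂ {e''} := by
  have hee' : e ∉ Submodule.span ℂ {e'} := by
    intro h
    obtain ⟨c, hc⟩ := Submodule.mem_span_singleton.mp h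
    have hc0 : c ≠ 0 := by
      intro h0; rw [h0, zero_smul] at hc; exact he hc.symm
    apply he'
    rw [Submodule.mem_span_singleton]
    exact ⟨c⁻¹, by rw [← hc, smul_smul, inv_mul_cancel₀ hc0, one_smul]⟩
  have key : ∀ k : ℂ, k ≠ 0 → e + k • e' ∈ Submodule.span ℂ {e, e'} ∧
      e + k • e' ∉ Submodule.span ℂ {e} ∧ e + k • e' ∉ Submodule.span ℂ {e'} := by
    intro k hk
    refine ⟨Submodule.mem_span_pair.mpr ⟨1, k, by rw [one_smul]⟩, ?_, ?_⟩
    · intro h
      obtain ⟨c, hc⟩ := Submodule.mem_span_singleton.mp h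
      apply he'
      rw [Submodule.mem_span_singleton]
      refine ⟨k⁻¹ * (c - 1), ?_⟩
      have : k • e' = (c - 1) • e := by rw [sub_smul, one_smul, hc]; abel
      rw [mul_smul, ← this, smul_smul, inv_mul_cancel₀ hk, one_smul]
    · intro h
      obtain ⟨c, hc⟩ := Submodule.mem_span_singleton.mp h
      apply hee'
      rw [Submodule.mem_span_singleton]
      refine ⟨c - k, ?_⟩
      rw [sub_smul, hc]; abel
  by_cases h1 : e + (1 : ℂ) • e' ∈ Submodule.span ℂ {e''}
  · by_cases h2 : e + (2 : ℂ) • e' ∈ Submodule.span ℂ {e''}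
    · exfalso
      have d1 : e' ∈ Submodule.span ℂ {e''} := by
        have := Submodule.sub_mem _ h2 h1
        have h3 : e + (2 : ℂ) • e' - (e + (1 : ℂ) • e') = e' := by
          rw [two_smul, one_smul]; abel
        rwa [h3] at this
      have d2 : e ∈ Submodule.span ℂ {e''} := by
        have := Submodule.sub_mem _ h1 d1
        have h3 : e + (1 : ℂ) • e' - e' = e := by rw [one_smul]; abel
        rwa [h3] at this
      obtain ⟨α, hα⟩ := Submodule.mem_span_singleton.mp d2
      obtain ⟨β, hβ⟩ := Submodule.mem_span_singleton.mp d1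
      have hα0 : α ≠ 0 := by
        intro h0; rw [h0, zero_smul] at hα; exact he hα.symm
      apply he'
      rw [Submodule.mem_span_singleton]
      refine ⟨β * α⁻¹, ?_⟩
      rw [← hα, smul_smul, mul_assoc, inv_mul_cancel₀ hα0, mul_one, hβ]
    · obtain ⟨a, b, c⟩ := key 2 (by norm_num)
      exact ⟨_, a, b, c, h2⟩
  · obtain ⟨a, b, c⟩ := key 1 (by norm_num)
    exact ⟨_, a, b, c, h1⟩

/-- data attached to an Eckardt point -/
structure EckData (f : MvPolynomial (Fin 4) ℂ) (e : V) : Type where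
  /-- the linear form -/
  l : Module.Dual ℂ V
  hl : l e = 2
  hbl : ∀ y, BL f e y y = aL f e y * l y
  hFe : eval e f = 0
  ha : aL f e ≠ 0

theorem exists_eckData (hf : f.IsHomogeneous 3) (hsm : Smooth f) {e : V} (he : e ≠ 0)
    (hE : IsEck f e) : Nonempty (EckData f e) := by
  obtain ⟨hFe, ha, l, hl, hbl⟩ := eck_main hf hsm he hE
  exact ⟨⟨l, hl, hbl, hFe, ha⟩⟩

section TwoPoints

variable {e e' : V} (d : EckData f e) (d' : EckData f e')

include d d' in
theorem line_formula (hf : f.IsHomogeneous 3) (s t : ℂ) :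
    eval (s • e + t • e') f = aL f e e' * (s * t * (s + t * d.l e')) := by
  rw [eval_line hf e e' s t d.hFe d'.hFe, eck_rel d.hbl e']
  ring

include d d' in
theorem line_zero_iff (hf : f.IsHomogeneous 3) :
    (∀ u ∈ Submodule.span ℂ {e, e'}, eval u f = 0) ↔ aL f e e' = 0 := by
  constructor
  · intro hall
    have h1 := hall ((1 : ℂ) • e + (1 : ℂ) • e') (Submodule.mem_span_pair.mpr ⟨1, 1, rfl⟩)
    have h2 := hall ((1 : ℂ) • e + (-1 : ℂ) • e') (Submodule.mem_span_pair.mpr ⟨1, -1, rfl⟩)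
    rw [eval_line hf e e' _ _ d.hFe d'.hFe] at h1 h2
    linear_combination (1 / 2 : ℂ) * h1 - (1 / 2 : ℂ) * h2
  · intro h0 u hu
    obtain ⟨s, t, rfl⟩ := Submodule.mem_span_pair.mp hu
    rw [line_formula d d' hf, h0, zero_mul]

include d d' in
theorem l_ne_zero_of_line (h0 : aL f e e' ≠ 0) : d.l e' ≠ 0 := by
  intro h
  have r1 : aL f e' e = aL f e e' * d.l e' := eck_rel d.hbl e'
  have r2 : aL f e e' = aL f e' e * d'.l e := eck_rel d'.hbl e
  rw [h, mul_zero] at r1
  rw [r1, zero_mul] at r2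
  exact h0 r2

include d d' in
theorem zeros_on_line (hf : f.IsHomogeneous 3) (h0 : aL f e e' ≠ 0) {u : V}
    (hu : u ∈ Submodule.span ℂ {e, e'}) (hFu : eval u f = 0) :
    u ∈ Submodule.span ℂ {e} ∨ u ∈ Submodule.span ℂ {e'} ∨
      u ∈ Submodule.span ℂ {refl d.l e e'} := by
  obtain ⟨s, t, rfl⟩ := Submodule.mem_span_pair.mp hu
  rw [line_formula d d' hf] at hFu
  rcases mul_eq_zero.mp hFu with h | h
  · exact absurd h h0
  rcases mul_eq_zero.mp h with h | h
  · rcases mul_eq_zero.mp h with h | h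
    · right; left
      rw [h, zero_smul, zero_add]
      exact Submodule.smul_mem _ _ (Submodule.mem_span_singleton_self _)
    · left
      rw [h, zero_smul, add_zero]
      exact Submodule.smul_mem _ _ (Submodule.mem_span_singleton_self _)
  · right; right
    rw [Submodule.mem_span_singleton]
    refine ⟨t, ?_⟩
    rw [refl_apply, smul_sub, smul_smul]
    have : s = -(t * d.l e') := by linear_combination h
    rw [this, neg_smul]; abel

theorem refl_notMem_left (l : Module.Dual ℂ V) {e e' : V} (he' : e' ∉ Submodule.span ℂ {e}) :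
    refl l e e' ∉ Submodule.span ℂ {e} := by
  intro h
  obtain ⟨c, hc⟩ := Submodule.mem_span_singleton.mp h
  apply he'
  rw [Submodule.mem_span_singleton]
  refine ⟨c + l e', ?_⟩
  rw [refl_apply] at hc
  rw [add_smul, hc]; abel

theorem refl_notMem_right (l : Module.Dual ℂ V) {e e' : V} (he : e ≠ 0)
    (he' : e' ∉ Submodule.span ℂ {e}) (hle' : l e' ≠ 0) :
    refl l e e' ∉ Submodule.span ℂ {e'} := by
  intro h
  obtain ⟨c, hc⟩ := Submodule.mem_span_singleton.mp h
  rw [refl_apply] at hc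
  have h1 : e = ((l e')⁻¹ * (1 - c)) • e' := by
    have : l e' • e = (1 - c) • e' := by rw [sub_smul, one_smul, hc]; abel
    rw [mul_smul, ← this, smul_smul, inv_mul_cancel₀ hle', one_smul]
  apply he'
  rw [Submodule.mem_span_singleton]
  have hd : (l e')⁻¹ * (1 - c) ≠ 0 := by
    intro hd; rw [hd, zero_smul] at h1; exact he h1
  refine ⟨((l e')⁻¹ * (1 - c))⁻¹, ?_⟩
  nth_rewrite 1 [h1]
  rw [smul_smul, inv_mul_cancel₀ hd, one_smul]

end TwoPoints

/-- the line through two Eckardt points -/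
theorem line_two_eck (hf : f.IsHomogeneous 3) (hsm : Smooth f) {e e' : V} (he : e ≠ 0)
    (he' : e' ∉ Submodule.span ℂ {e}) (hE : IsEck f e) (hE' : IsEck f e') :
    Xor (∀ u ∈ Submodule.span ℂ {e, e'}, eval u f = 0)
      (∃ e'' : V, e'' ∈ Submodule.span ℂ {e, e'} ∧ e'' ∉ Submodule.span ℂ {e} ∧
        e'' ∉ Submodule.span ℂ {e'} ∧ IsEck f e'' ∧
        ∀ u ∈ Submodule.span ℂ {e, e'}, eval u f = 0 →
          u ∈ Submodule.span ℂ {e} ∨ u ∈ Submodule.span ℂ {e'} ∨ u ∈ Submodule.span ℂ {e''}) := by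
  have he'0 : e' ≠ 0 := fun h => he' (h ▸ Submodule.zero_mem _)
  obtain ⟨d⟩ := exists_eckData hf hsm he hE
  obtain ⟨d'⟩ := exists_eckData hf hsm he'0 hE'
  by_cases h0 : aL f e e' = 0
  · left
    have hall := (line_zero_iff d d' hf).mpr h0
    refine ⟨hall, ?_⟩
    rintro ⟨e'', -, -, -, -, hz⟩
    obtain ⟨u, hu, h1, h2, h3⟩ := not_three_spans he he' e''
    rcases hz u hu (hall u hu) with h | h | h
    exacts [h1 h, h2 h, h3 h]
  · right
    have hle' : d.l e' ≠ 0 := l_ne_zero_of_line d d' h0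
    refine ⟨⟨refl d.l e e', ?_, refl_notMem_left d.l he', refl_notMem_right d.l he he' hle',
      ?_, ?_⟩, ?_⟩
    · rw [refl_apply, Submodule.mem_span_pair]
      exact ⟨-(d.l e'), 1, by rw [neg_smul, one_smul]; abel⟩
    · have := hE'.map (reflE d.l e d.hl) (fun y => by
        rw [reflE_apply]; exact eval_refl hf d.hFe d.l d.hbl y)
      rwa [reflE_apply] at this
    · intro u hu hFu
      exact zeros_on_line d d' hf h0 hu hFu
    · intro hall
      exact h0 ((line_zero_iff d d' hf).mp hall)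

end Groth.Agent.H91.Cubic
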