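import Groth.Agent.H91.Cubic2

/-!
Involutions attached to collinear Eckardt points.
-/

namespace Groth.Agent.H91.Cubic

open MvPolynomial

variable {f : MvPolynomial (Fin 4) ℂ}

theorem matrix_eq_of_mulVec {M N : Matrix (Fin 4) (Fin 4) ℂ}
    (h : ∀ y : V, M.mulVec y = N.mulVec y) : M = N := by
  apply Matrix.toLin'.injective
  refine LinearMap.ext fun y => ?_
  rw [Matrix.toLin'_apply, Matrix.toLin'_apply, h]

theorem IsInv.toLin_eq (hf : f.IsHomogeneous 3) (hsm : Smooth f) {e : V} (he : e ≠ 0)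
    (d : EckData f e) {A : Matrix (Fin 4) (Fin 4) ℂ} (hA : IsInv f e A) :
    Matrix.toLin' A = refl d.l e := by
  refine LinearMap.ext fun y => ?_
  rw [Matrix.toLin'_apply, hA.mulVec_eq hf hsm he d.hFe d.l d.hl d.hbl, refl_apply]

theorem finrank_ker_conj (l : Module.Dual ℂ V) (e : V) (hl : l e = 2) (g' : V →ₗ[ℂ] V)
    (h3 : Module.finrank ℂ (LinearMap.ker (g' - LinearMap.id)) = 3) :
    Module.finrank ℂ (LinearMap.ker ((refl l e) ∘ₗ g' ∘ₗ (refl l e) - LinearMap.id)) = 3 := by
  have : LinearMap.ker ((refl l e) ∘ₗ g' ∘ₗ (refl l e) - LinearMap.id) =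
      (LinearMap.ker (g' - LinearMap.id)).map (reflE l e hl : V →ₗ[ℂ] V) := by
    ext y
    simp only [LinearMap.mem_ker, LinearMap.sub_apply, LinearMap.comp_apply, LinearMap.id_apply,
      Submodule.mem_map, sub_eq_zero]
    constructor
    · intro h
      refine ⟨refl l e y, ?_, refl_refl l e hl y⟩
      have := congrArg (refl l e) h
      rwa [refl_refl l e hl] at this
    · rintro ⟨x, hx, rfl⟩
      show refl l e (g' (refl l e (refl l e x))) = refl l e x
      rw [refl_refl l e hl, hx]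
  rw [this, LinearEquiv.finrank_map_eq]; exact h3

/-- conjugating the reflection of `e'` by the reflection of `e` gives the reflection of the
third point -/
theorem conj_eq (hf : f.IsHomogeneous 3) (hsm : Smooth f) {e e' e'' : V} (_he : e ≠ 0)
    (he' : e' ∉ Submodule.span ℂ {e}) (he'' : e'' ≠ 0)
    (he''1 : e'' ∉ Submodule.span ℂ {e}) (he''2 : e'' ∉ Submodule.span ℂ {e'})
    (he''L : e'' ∈ Submodule.span ℂ {e, e'})
    (d : EckData f e) (d' : EckData f e') (d'' : EckData f e'') (h0 : aL f e e' ≠ 0) (y : V) :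
    refl d.l e (refl d'.l e' (refl d.l e y)) = refl d''.l e'' y := by
  have he'0 : e' ≠ 0 := fun h => he' (h ▸ Submodule.zero_mem _)
  have hz := zeros_on_line d d' hf h0 he''L d''.hFe
  have hz3 : e'' ∈ Submodule.span ℂ {refl d.l e e'} := by
    rcases hz with h | h | h
    · exact absurd h he''1
    · exact absurd h he''2
    · exact h
  obtain ⟨κ, hκ⟩ := Submodule.mem_span_singleton.mp hz3
  have h3' : Module.finrank ℂ (LinearMap.ker (refl d'.l e' - LinearMap.id)) = 3 := by
    rw [ker_refl_sub_id d'.l he'0]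
    have hl0 : d'.l ≠ 0 := by
      intro h
      have := d'.hl
      rw [h] at this
      simp at this
    have := Module.Dual.finrank_ker_add_one_of_ne_zero hl0
    rw [Module.finrank_fin_fun] at this
    exact Nat.add_right_cancel (m := 1) (k := 3) this
  have key := inv_unique hf hsm he'' d''.hFe d''.l d''.hl d''.hbl
    ((refl d.l e) ∘ₗ (refl d'.l e') ∘ₗ (refl d.l e))
    (finrank_ker_conj d.l e d.hl _ h3') ?_ 1 ?_
  · have := key y
    rw [LinearMap.comp_apply, LinearMap.comp_apply] at this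
    rw [this, refl_apply]
  · rw [LinearMap.comp_apply, LinearMap.comp_apply, ← hκ, map_smul, refl_refl d.l e d.hl,
      map_smul, map_smul]
    have : refl d'.l e' e' = -e' := by
      rw [refl_apply, d'.hl, two_smul]; abel
    rw [this, map_neg, smul_neg]
  · intro y
    rw [LinearMap.comp_apply, LinearMap.comp_apply, refl_apply d.l, eval_refl hf d.hFe d.l d.hbl,
      refl_apply d'.l, eval_refl hf d'.hFe d'.l d'.hbl, refl_apply d.l,
      eval_refl hf d.hFe d.l d.hbl, one_mul]

theorem notMem_symm {e e' : V} (he : e ≠ 0) (he' : e' ∉ Submodule.span ℂ {e}) :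
    e ∉ Submodule.span ℂ {e'} := by
  intro h
  obtain ⟨c, hc⟩ := Submodule.mem_span_singleton.mp h
  have hc0 : c ≠ 0 := by
    intro h0; rw [h0, zero_smul] at hc; exact he hc.symm
  apply he'
  rw [Submodule.mem_span_singleton]
  exact ⟨c⁻¹, by rw [← hc, smul_smul, inv_mul_cancel₀ hc0, one_smul]⟩

/-- three collinear Eckardt points: the dihedral relations -/
theorem dihedral (hf : f.IsHomogeneous 3) (hsm : Smooth f) {e e' e'' : V} (he : e ≠ 0)
    (he' : e' ∉ Submodule.span ℂ {e})
    (he''1 : e'' ∉ Submodule.span ℂ {e}) (he''2 : e'' ∉ Submodule.span ℂ {e'})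
    (he''L : e'' ∈ Submodule.span ℂ {e, e'})
    (hE : IsEck f e) (hE' : IsEck f e') (hE'' : IsEck f e'')
    (hL : ¬ ∀ u ∈ Submodule.span ℂ {e, e'}, eval u f = 0)
    {A A' A'' : Matrix (Fin 4) (Fin 4) ℂ}
    (hA : IsInv f e A) (hA' : IsInv f e' A') (hA'' : IsInv f e'' A'') :
    (¬ ∃ c : ℂ, A * A' = c • (1 : Matrix (Fin 4) (Fin 4) ℂ)) ∧
      (∃ c : ℂ, (A * A') ^ 3 = c • (1 : Matrix (Fin 4) (Fin 4) ℂ)) ∧
      ∃ c : ℂ, A'' = c • (A * A' * A) := by
  have he'0 : e' ≠ 0 := fun h => he' (h ▸ Submodule.zero_mem _)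
  have he''0 : e'' ≠ 0 := fun h => he''1 (h ▸ Submodule.zero_mem _)
  obtain ⟨d⟩ := exists_eckData hf hsm he hE
  obtain ⟨d'⟩ := exists_eckData hf hsm he'0 hE'
  obtain ⟨d''⟩ := exists_eckData hf hsm he''0 hE''
  have h0 : aL f e e' ≠ 0 := fun h => hL ((line_zero_iff d d' hf).mpr h)
  have hle' : d.l e' ≠ 0 := l_ne_zero_of_line d d' h0
  have h0' : aL f e' e ≠ 0 := by
    rw [eck_rel d.hbl e']; exact mul_ne_zero h0 hle'
  have mv := hA.mulVec_eq hf hsm he d.hFe d.l d.hl d.hbl
  have mv' := hA'.mulVec_eq hf hsm he'0 d'.hFe d'.l d'.hl d'.hbl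
  have mv'' := hA''.mulVec_eq hf hsm he''0 d''.hFe d''.l d''.hl d''.hbl
  have hee' : e ∉ Submodule.span ℂ {e'} := notMem_symm he he'
  have he''L' : e'' ∈ Submodule.span ℂ {e', e} := by rwa [Set.pair_comm]
  have c1 : A * A' * A = A'' := by
    apply matrix_eq_of_mulVec
    intro y
    rw [← Matrix.mulVec_mulVec, ← Matrix.mulVec_mulVec, mv, mv', mv, mv'']
    exact conj_eq hf hsm he he' he''0 he''1 he''2 he''L d d' d'' h0 y
  have c2 : A' * A * A' = A'' := by
    apply matrix_eq_of_mulVec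
    intro y
    rw [← Matrix.mulVec_mulVec, ← Matrix.mulVec_mulVec, mv', mv, mv', mv'']
    exact conj_eq hf hsm he'0 hee' he''0 he''2 he''1 he''L' d' d d'' h0' y
  refine ⟨?_, ⟨1, ?_⟩, ⟨1, ?_⟩⟩
  · rintro ⟨c, hc⟩
    have h1 := congrArg (fun M => Matrix.mulVec M e') hc
    simp only [Matrix.smul_mulVec, Matrix.one_mulVec] at h1
    rw [← Matrix.mulVec_mulVec, hA'.2.2.1, Matrix.mulVec_neg, mv] at h1
    have h2 : d.l e' • e = (c + 1) • e' := by
      rw [add_smul, one_smul, ← h1]; abel
    by_cases hc1 : c + 1 = 0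
    · rw [hc1, zero_smul] at h2
      rcases smul_eq_zero.mp h2 with h | h
      · exact hle' h
      · exact he h
    · apply he'
      rw [Submodule.mem_span_singleton]
      refine ⟨(c + 1)⁻¹ * d.l e', ?_⟩
      rw [mul_smul, h2, smul_smul, inv_mul_cancel₀ hc1, one_smul]
  · rw [one_smul]
    calc (A * A') ^ 3 = (A * A' * A) * (A' * A * A') := by
          simp only [pow_succ, pow_zero, one_mul, mul_assoc]
      _ = A'' * A'' := by rw [c1, c2]
      _ = 1 := hA''.1
  · rw [one_smul, c1]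

/-- polarisation of the Eckardt relation -/
theorem polar_rel {e : V} (d : EckData f e) (y z : V) :
    2 * BL f e y z = aL f e y * d.l z + aL f e z * d.l y := by
  have h1 := d.hbl (y + z)
  have h2 := d.hbl y
  have h3 := d.hbl z
  simp only [map_add, LinearMap.add_apply] at h1
  rw [BL_symm f e z y] at h1
  linear_combination h1 - h2 - h3

theorem aL_line (e e' z : V) (s : ℂ) :
    aL f (s • e + e') z = s ^ 2 * aL f e z + 2 * s * BL f e e' z + aL f e' z := by
  simp only [aL_apply, BL_apply, T_add_left, T_add_mid, T_smul_left, T_smul_mid]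
  rw [T_comm12 f e' e z]
  ring

/-- two Eckardt points on a line contained in the surface fix each other -/
theorem l_eq_zero_of_line (hf : f.IsHomogeneous 3) (hsm : Smooth f) {e e' : V}
    (he' : e' ∉ Submodule.span ℂ {e}) (d : EckData f e) (d' : EckData f e')
    (h0 : aL f e e' = 0) : d.l e' = 0 ∧ d'.l e = 0 := by
  have h0' : aL f e' e = 0 := by rw [eck_rel d.hbl, h0, zero_mul]
  have P1 : ∀ z, 2 * BL f e e' z = aL f e z * d.l e' := by
    intro z; rw [polar_rel d, h0, zero_mul, zero_add]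
  have P2 : ∀ z, 2 * BL f e' e z = aL f e' z * d'.l e := by
    intro z; rw [polar_rel d', h0', zero_mul, zero_add]
  have hBB : ∀ z, BL f e e' z = BL f e' e z := by
    intro z; rw [BL_apply, BL_apply, T_comm12]
  have star : ∀ z, aL f e z * d.l e' = aL f e' z * d'.l e := by
    intro z; rw [← P1, ← P2, hBB]
  have first : d.l e' = 0 := by
    by_contra hp
    have hq : d'.l e ≠ 0 := by
      intro hq
      apply d.ha
      refine LinearMap.ext fun z => ?_
      have := star z
      rw [hq, mul_zero] at this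
      exact (mul_eq_zero.mp this).resolve_right hp
    obtain ⟨r, hr⟩ := IsAlgClosed.exists_eq_mul_self ((d.l e') ^ 2 - 4 * (d.l e' / d'.l e))
    set s : ℂ := (-(d.l e') + r) / 2 with hs
    have hroot : s ^ 2 + d.l e' * s + d.l e' / d'.l e = 0 := by
      rw [hs]; linear_combination (-1 / 4 : ℂ) * hr
    have hx0 : s • e + e' ≠ 0 := by
      intro h
      apply he'
      rw [Submodule.mem_span_singleton]
      exact ⟨-s, by rw [neg_smul]; exact (eq_neg_of_add_eq_zero_right h).symm⟩
    have hFx : eval (s • e + e') f = 0 := by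
      have := line_formula d d' hf s 1
      rw [one_smul] at this
      rw [this, h0, zero_mul]
    apply aL_ne_zero hf hsm hx0 hFx
    refine LinearMap.ext fun z => ?_
    rw [aL_line, LinearMap.zero_apply]
    have e1 : aL f e' z = aL f e z * (d.l e' / d'.l e) := by
      rw [← mul_div_assoc, star z, mul_div_assoc, div_self hq, mul_one]
    have e2 := P1 z
    rw [e1]
    linear_combination s * e2 + aL f e z * hroot
  refine ⟨first, ?_⟩
  by_contra hq
  apply d'.ha
  refine LinearMap.ext fun z => ?_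
  have := star z
  rw [first, mul_zero] at this
  exact (mul_eq_zero.mp this.symm).resolve_right hq

/-- commuting involutions -/
theorem commute_of_line (hf : f.IsHomogeneous 3) (hsm : Smooth f) {e e' : V} (he : e ≠ 0)
    (he' : e' ∉ Submodule.span ℂ {e}) (hE : IsEck f e) (hE' : IsEck f e')
    (hL : ∀ u ∈ Submodule.span ℂ {e, e'}, eval u f = 0)
    {A A' : Matrix (Fin 4) (Fin 4) ℂ} (hA : IsInv f e A) (hA' : IsInv f e' A') :
    (∃ c : ℂ, A * A' = c • (A' * A)) ∧ (∃ d : ℂ, A.mulVec e' = d • e') ∧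
      (∃ d : ℂ, A'.mulVec e = d • e) := by
  have he'0 : e' ≠ 0 := fun h => he' (h ▸ Submodule.zero_mem _)
  obtain ⟨d⟩ := exists_eckData hf hsm he hE
  obtain ⟨d'⟩ := exists_eckData hf hsm he'0 hE'
  have h0 : aL f e e' = 0 := (line_zero_iff d d' hf).mp hL
  obtain ⟨z1, z2⟩ := l_eq_zero_of_line hf hsm he' d d' h0
  have mv := hA.mulVec_eq hf hsm he d.hFe d.l d.hl d.hbl
  have mv' := hA'.mulVec_eq hf hsm he'0 d'.hFe d'.l d'.hl d'.hbl
  refine ⟨⟨1, ?_⟩, ⟨1, ?_⟩, ⟨1, ?_⟩⟩
  · rw [one_smul]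
    apply matrix_eq_of_mulVec
    intro y
    rw [← Matrix.mulVec_mulVec, ← Matrix.mulVec_mulVec, mv', mv, mv, mv']
    simp only [map_sub, map_smul, z1, z2, smul_eq_mul, mul_zero, sub_zero]
    abel
  · rw [mv, z1, zero_smul, sub_zero, one_smul]
  · rw [mv', z2, zero_smul, sub_zero, one_smul]

end Groth.Agent.H91.Cubic
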