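import Groth.Agent.H91.Cubic3

/-!
An involution of the right shape forces an Eckardt point.
-/

namespace Groth.Agent.H91.Cubic

open MvPolynomial

variable {f : MvPolynomial (Fin 4) ℂ}

theorem bin_cubic {α β γ δ : ℂ} (hα : α ≠ 0)
    (nr : ∀ x : ℂ, α * x ^ 3 + β * x ^ 2 + γ * x + δ = 0 →
      3 * α * x ^ 2 + 2 * β * x + γ = 0 → False) :
    ∃ x : Fin 3 → ℂ, Function.Injective x ∧
      ∀ i, α * (x i) ^ 3 + β * (x i) ^ 2 + γ * (x i) + δ = 0 := by
  have hsp : ((Cubic.toPoly ⟨α, β, γ, δ⟩).map (RingHom.id ℂ)).Splits := by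
    rw [Polynomial.map_id]; exact IsAlgClosed.splits _
  obtain ⟨x, y, z, h3⟩ :=
    (Cubic.splits_iff_roots_eq_three (φ := RingHom.id ℂ) (P := ⟨α, β, γ, δ⟩) hα).mp hsp
  have hb : β = α * -(x + y + z) :=
    Cubic.b_eq_three_roots (φ := RingHom.id ℂ) (P := ⟨α, β, γ, δ⟩) hα h3
  have hc : γ = α * (x * y + x * z + y * z) :=
    Cubic.c_eq_three_roots (φ := RingHom.id ℂ) (P := ⟨α, β, γ, δ⟩) hα h3
  have hd : δ = α * -(x * y * z) :=
    Cubic.d_eq_three_roots (φ := RingHom.id ℂ) (P := ⟨α, β, γ, δ⟩) hα h3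
  have root : ∀ r, α * r ^ 3 + β * r ^ 2 + γ * r + δ = α * (r - x) * (r - y) * (r - z) := by
    intro r; rw [hb, hc, hd]; ring
  have deriv : ∀ r, 3 * α * r ^ 2 + 2 * β * r + γ =
      α * ((r - y) * (r - z) + (r - x) * (r - z) + (r - x) * (r - y)) := by
    intro r; rw [hb, hc]; ring
  have hxy : x ≠ y := by
    intro h; subst h
    exact nr x (by rw [root]; ring) (by rw [deriv]; ring)
  have hxz : x ≠ z := by
    intro h; subst h
    exact nr x (by rw [root]; ring) (by rw [deriv]; ring)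
  have hyz : y ≠ z := by
    intro h; subst h
    exact nr y (by rw [root]; ring) (by rw [deriv]; ring)
  refine ⟨![x, y, z], ?_, ?_⟩
  · intro i j h
    fin_cases i <;> fin_cases j <;> simp_all
  · intro i
    fin_cases i
    · show α * x ^ 3 + β * x ^ 2 + γ * x + δ = 0
      rw [root]; ring
    · show α * y ^ 3 + β * y ^ 2 + γ * y + δ = 0
      rw [root]; ring
    · show α * z ^ 3 + β * z ^ 2 + γ * z + δ = 0
      rw [root]; ring

theorem eval_zero' (hf : f.IsHomogeneous 3) : eval (0 : V) f = 0 := by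
  have := eval_smul hf 0 (0 : V)
  rw [zero_smul] at this
  simpa using this

theorem eck_of_inv (hf : f.IsHomogeneous 3) (hsm : Smooth f) {p : V} (hp : p ≠ 0)
    (hFp : eval p f = 0) {A : Matrix (Fin 4) (Fin 4) ℂ} (hA : IsInv f p A) : IsEck f p := by
  obtain ⟨_, h3, hAp, c, hc⟩ := hA
  have hge : Matrix.toLin' A p = -p := by rw [Matrix.toLin'_apply]; exact hAp
  have hgF : ∀ y, eval (Matrix.toLin' A y) f = c * eval y f := fun y => by
    rw [Matrix.toLin'_apply]; exact (aeval_matrix_iff f A c).mp hc y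
  generalize Matrix.toLin' A = g at h3 hge hgF
  have ha : aL f p ≠ 0 := aL_ne_zero hf hsm hp hFp
  have hae : aL f p p = 0 := by rw [aL_self hf, hFp, mul_zero]
  set H := LinearMap.ker (g - LinearMap.id) with hH
  have hHmem : ∀ h, h ∈ H ↔ g h = h := by
    intro h
    rw [hH, LinearMap.mem_ker, LinearMap.sub_apply, LinearMap.id_apply, sub_eq_zero]
  have heH : p ∉ H := by
    rw [hHmem, hge]
    intro h
    have : (2 : ℂ) • p = 0 := by rw [two_smul]; nth_rewrite 1 [← h]; simp
    rcases smul_eq_zero.mp this with h2 | h2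
    · norm_num at h2
    · exact hp h2
  have hsup : H ⊔ Submodule.span ℂ {p} = ⊤ := by
    apply Submodule.eq_top_of_finrank_eq
    have h1 := Submodule.finrank_sup_add_finrank_inf_eq H (Submodule.span ℂ {p})
    have hdis : H ⊓ Submodule.span ℂ {p} = ⊥ :=
      disjoint_iff.mp ((Submodule.disjoint_span_singleton' hp).mpr heH)
    rw [hdis, finrank_bot, h3, finrank_span_singleton hp] at h1
    rw [Module.finrank_fin_fun]
    omega
  have hdecomp : ∀ y : V, ∃ h ∈ H, ∃ s : ℂ, y = h + s • p := by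
    intro y
    have : y ∈ H ⊔ Submodule.span ℂ {p} := by rw [hsup]; trivial
    obtain ⟨h, hh, z, hz, rfl⟩ := Submodule.mem_sup.mp this
    obtain ⟨s, rfl⟩ := Submodule.mem_span_singleton.mp hz
    exact ⟨h, hh, s, rfl⟩
  have hrel : ∀ h ∈ H, (1 - c) * aL f p h = 0 ∧ (1 + c) * BL f p h h = 0 := by
    intro h hh
    have key : ∀ t : ℂ, t ^ 2 * aL f p h - t * BL f p h h + eval h f =
        c * (t ^ 2 * aL f p h + t * BL f p h h + eval h f) := by
      intro t
      have h1 := hgF (t • p + h)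
      rw [map_add, map_smul, hge, (hHmem h).mp hh, expand hf p h t, hFp] at h1
      have h2 := expand hf p h (-t)
      rw [show (-t) • p + h = t • -p + h by rw [neg_smul, smul_neg]] at h2
      rw [h2, hFp] at h1
      linear_combination h1
    have k0 := key 0
    have k1 := key 1
    have k2 := key (-1)
    constructor
    · linear_combination (1 / 2 : ℂ) * k1 + (1 / 2 : ℂ) * k2 - k0
    · linear_combination (-1 / 2 : ℂ) * k1 + (1 / 2 : ℂ) * k2
  have hazero : (∀ h ∈ H, aL f p h = 0) → False := by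
    intro h0
    apply ha
    refine LinearMap.ext fun y => ?_
    obtain ⟨h, hh, s, rfl⟩ := hdecomp y
    rw [map_add, map_smul, h0 h hh, hae]; simp
  have hc1 : c = 1 := by
    by_contra hc1
    apply hazero
    intro h hh
    exact (mul_eq_zero.mp (hrel h hh).1).resolve_left (sub_ne_zero.mpr (Ne.symm hc1))
  have hbH : ∀ h ∈ H, BL f p h h = 0 := by
    intro h hh
    have := (hrel h hh).2
    rw [hc1] at this
    exact (mul_eq_zero.mp this).resolve_left (by norm_num)
  have hBH : ∀ h1 ∈ H, ∀ h2 ∈ H, BL f p h1 h2 = 0 := by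
    intro h1 hh1 h2 hh2
    have e := hbH (h1 + h2) (H.add_mem hh1 hh2)
    simp only [map_add, LinearMap.add_apply] at e
    rw [hbH h1 hh1, hbH h2 hh2, BL_symm f p h2 h1] at e
    linear_combination (1 / 2 : ℂ) * e
  obtain ⟨w, hwH, hw⟩ : ∃ w ∈ H, aL f p w = 1 := by
    by_contra hcon
    apply hazero
    intro h hh
    by_contra hne
    exact hcon ⟨(aL f p h)⁻¹ • h, H.smul_mem _ hh, by
      rw [map_smul, smul_eq_mul, inv_mul_cancel₀ hne]⟩
  set W := H ⊓ LinearMap.ker (aL f p) with hW
  have hWdim : Module.finrank ℂ W = 2 := by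
    have h1 := Submodule.finrank_sup_add_finrank_inf_eq H (LinearMap.ker (aL f p))
    have htop : H ⊔ LinearMap.ker (aL f p) = ⊤ := by
      apply top_le_iff.mp
      rw [← hsup]
      refine sup_le le_sup_left (le_trans ?_ le_sup_right)
      rw [Submodule.span_singleton_le_iff_mem]
      exact LinearMap.mem_ker.mpr hae
    have hk : Module.finrank ℂ (LinearMap.ker (aL f p)) = 3 := by
      have := Module.Dual.finrank_ker_add_one_of_ne_zero ha
      rw [Module.finrank_fin_fun] at this
      exact Nat.add_right_cancel (m := 1) (k := 3) this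
    rw [htop, finrank_top, Module.finrank_fin_fun, h3, hk] at h1
    have h1' : 4 + Module.finrank ℂ W = 3 + 3 := h1
    omega
  have hWH : ∀ y ∈ W, y ∈ H := fun y hy => hy.1
  have hWa : ∀ y ∈ W, aL f p y = 0 := fun y hy => LinearMap.mem_ker.mp hy.2
  have hFline : ∀ y ∈ W, ∀ s t : ℂ, eval (s • p + t • y) f = t ^ 3 * eval y f := by
    intro y hy s t
    rw [expand hf, hFp, eval_smul hf]
    simp only [map_smul, LinearMap.smul_apply, smul_eq_mul, hWa y hy, hbH y (hWH y hy)]
    ring
  have sing : ∀ y0 ∈ W, y0 ≠ 0 → eval y0 f = 0 → (∀ z ∈ W, aL f y0 z = 0) → False := by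
    intro y0 hy0 hy0ne hFy0 hT
    obtain ⟨t, ht⟩ := IsAlgClosed.exists_eq_mul_self (-(aL f y0 w))
    have hx0 : t • p + y0 ≠ 0 := by
      intro h
      by_cases ht0 : t = 0
      · rw [ht0, zero_smul, zero_add] at h; exact hy0ne h
      · apply heH
        have : p = (-t⁻¹) • y0 := by
          have h' : y0 = -(t • p) := eq_neg_of_add_eq_zero_right h
          rw [h', smul_neg, neg_smul, neg_neg, smul_smul, inv_mul_cancel₀ ht0, one_smul]
        rw [this]; exact H.smul_mem _ (hWH y0 hy0)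
    have hFx : eval (t • p + y0) f = 0 := by
      have := hFline y0 hy0 t 1
      rw [one_smul] at this
      rw [this, hFy0, mul_zero]
    apply aL_ne_zero hf hsm hx0 hFx
    refine LinearMap.ext fun z => ?_
    rw [LinearMap.zero_apply]
    obtain ⟨h, hh, s, rfl⟩ := hdecomp z
    have hh' : h - aL f p h • w ∈ W :=
      Submodule.mem_inf.mpr ⟨H.sub_mem hh (H.smul_mem _ hwH), LinearMap.mem_ker.mpr (by
        rw [map_sub, map_smul, hw, smul_eq_mul, mul_one, sub_self])⟩
    have hz : h + s • p = (h - aL f p h • w) + aL f p h • w + s • p := by abel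
    rw [hz, map_add, map_add, map_smul, map_smul]
    have e1 : aL f (t • p + y0) (h - aL f p h • w) = 0 := by
      rw [aL_line, hWa _ hh', hBH y0 (hWH y0 hy0) _ (hWH _ hh'), hT _ hh']; ring
    have e2 : aL f (t • p + y0) w = 0 := by
      rw [aL_line, hw, hBH y0 (hWH y0 hy0) w hwH]
      linear_combination -ht
    have e3 : aL f (t • p + y0) p = 0 := by
      rw [aL_line, hae, BL_e_right, hWa y0 hy0, ← BL_swap f p y0, hbH y0 (hWH y0 hy0)]; ring
    rw [e1, e2, e3]; simp
  obtain ⟨w1, hw1, hFw1⟩ : ∃ w1 ∈ W, eval w1 f ≠ 0 := by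
    by_contra hcon
    push Not at hcon
    obtain ⟨y0, hy0, hy0ne⟩ : ∃ y0 ∈ W, y0 ≠ 0 := by
      have : W ≠ ⊥ := by
        intro h; rw [h, finrank_bot] at hWdim; omega
      exact Submodule.exists_mem_ne_zero_of_ne_bot this
    apply sing y0 hy0 hy0ne (hcon y0 hy0)
    intro z hz
    exact (line_coeffs hf hy0 hcon hz).1
  have hw1ne : w1 ≠ 0 := by
    intro h; apply hFw1; rw [h]; exact eval_zero' hf
  obtain ⟨w2, hw2, hw2n⟩ : ∃ w2 ∈ W, w2 ∉ Submodule.span ℂ {w1} := by
    by_contra hcon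
    push Not at hcon
    have hle : W ≤ Submodule.span ℂ {w1} := hcon
    have := Submodule.finrank_mono hle
    rw [hWdim, finrank_span_singleton hw1ne] at this
    omega
  have hWspan : W = Submodule.span ℂ {w1, w2} := two_dim hWdim hw1ne hw1 hw2 hw2n
  have hG : ∀ s t : ℂ, eval (s • w1 + t • w2) f =
      eval w1 f * s ^ 3 + aL f w1 w2 * s ^ 2 * t + aL f w2 w1 * s * t ^ 2 + eval w2 f * t ^ 3 := by
    intro s t
    rw [expand hf, eval_smul hf]
    simp only [map_smul, LinearMap.smul_apply, smul_eq_mul, BL_swap]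
    ring
  have hD1 : ∀ r : ℂ, aL f (r • w1 + w2) w1 =
      3 * eval w1 f * r ^ 2 + 2 * aL f w1 w2 * r + aL f w2 w1 := by
    intro r
    rw [aL_line, aL_self hf, BL_e_right]; ring
  have hD2 : ∀ r : ℂ, aL f (r • w1 + w2) w2 =
      aL f w1 w2 * r ^ 2 + 2 * aL f w2 w1 * r + 3 * eval w2 f := by
    intro r
    rw [aL_line, BL_swap, aL_self hf]; ring
  have nr : ∀ r : ℂ, eval w1 f * r ^ 3 + aL f w1 w2 * r ^ 2 + aL f w2 w1 * r + eval w2 f = 0 →
      3 * eval w1 f * r ^ 2 + 2 * aL f w1 w2 * r + aL f w2 w1 = 0 → False := by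
    intro r h1 h2
    have hy0 : r • w1 + w2 ∈ W := W.add_mem (W.smul_mem _ hw1) hw2
    have hy0ne : r • w1 + w2 ≠ 0 := by
      intro h
      apply hw2n
      rw [Submodule.mem_span_singleton]
      exact ⟨-r, by rw [neg_smul]; exact (eq_neg_of_add_eq_zero_right h).symm⟩
    apply sing _ hy0 hy0ne
    · have := hG r 1
      rw [one_smul] at this
      rw [this]; linear_combination h1
    · intro z hz
      rw [hWspan] at hz
      obtain ⟨a', b', rfl⟩ := Submodule.mem_span_pair.mp hz
      rw [map_add, map_smul, map_smul, hD1, hD2, h2]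
      have : aL f w1 w2 * r ^ 2 + 2 * aL f w2 w1 * r + 3 * eval w2 f = 0 := by
        linear_combination 3 * h1 - r * h2
      rw [this]; simp
  obtain ⟨x, hxinj, hxroot⟩ := bin_cubic hFw1 nr
  have hyi : ∀ i, x i • w1 + w2 ∈ W := fun i => W.add_mem (W.smul_mem _ hw1) hw2
  have hyine : ∀ i, x i • w1 + w2 ∉ Submodule.span ℂ {p} := by
    intro i h
    obtain ⟨c', hc'⟩ := Submodule.mem_span_singleton.mp h
    by_cases hc0 : c' = 0
    · rw [hc0, zero_smul] at hc'
      apply hw2n
      rw [Submodule.mem_span_singleton]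
      exact ⟨-(x i), by rw [neg_smul]; exact (eq_neg_of_add_eq_zero_right hc'.symm).symm⟩
    · apply heH
      have : p = c'⁻¹ • (x i • w1 + w2) := by
        rw [← hc', smul_smul, inv_mul_cancel₀ hc0, one_smul]
      rw [this]; exact H.smul_mem _ (hWH _ (hyi i))
  refine ⟨fun i => Submodule.span ℂ {p} ⊔ Submodule.span ℂ {x i • w1 + w2}, ?_,
    fun i => ⟨?_, ?_, ?_⟩⟩
  · intro i j hij
    have hij' : Submodule.span ℂ {p} ⊔ Submodule.span ℂ {x i • w1 + w2} =
        Submodule.span ℂ {p} ⊔ Submodule.span ℂ {x j • w1 + w2} := hij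
    apply hxinj
    have hmem : x j • w1 + w2 ∈ Submodule.span ℂ {p} ⊔ Submodule.span ℂ {x i • w1 + w2} := by
      rw [hij']
      exact Submodule.mem_sup_right (Submodule.mem_span_singleton_self _)
    obtain ⟨u1, hu1, u2, hu2, hsum⟩ := Submodule.mem_sup.mp hmem
    obtain ⟨s, rfl⟩ := Submodule.mem_span_singleton.mp hu1
    obtain ⟨t, rfl⟩ := Submodule.mem_span_singleton.mp hu2
    have hs : s = 0 := by
      by_contra hs
      apply heH
      have : p = s⁻¹ • ((x j • w1 + w2) - t • (x i • w1 + w2)) := by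
        rw [← hsum, add_sub_cancel_right, smul_smul, inv_mul_cancel₀ hs, one_smul]
      rw [this]
      exact H.smul_mem _ (H.sub_mem (hWH _ (hyi j)) (H.smul_mem _ (hWH _ (hyi i))))
    rw [hs, zero_smul, zero_add] at hsum
    have ht : t = 1 := by
      by_contra ht
      apply hw2n
      rw [Submodule.mem_span_singleton]
      refine ⟨(t - 1)⁻¹ * (x j - t * x i), ?_⟩
      have h2 : (t - 1) • w2 = (x j - t * x i) • w1 := by
        linear_combination (norm := module) hsum
      rw [mul_smul, ← h2, smul_smul, inv_mul_cancel₀ (sub_ne_zero.mpr ht), one_smul]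
    rw [ht, one_smul] at hsum
    have h3' : (x i - x j) • w1 = 0 := by
      linear_combination (norm := module) hsum
    rcases smul_eq_zero.mp h3' with h | h
    · exact sub_eq_zero.mp h
    · exact absurd h hw1ne
  · have h1 := Submodule.finrank_sup_add_finrank_inf_eq (Submodule.span ℂ {p})
      (Submodule.span ℂ {x i • w1 + w2})
    have hyne : x i • w1 + w2 ≠ 0 := fun h => hyine i (h ▸ Submodule.zero_mem _)
    have hdis : Submodule.span ℂ {p} ⊓ Submodule.span ℂ {x i • w1 + w2} = ⊥ :=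
      disjoint_iff.mp ((Submodule.disjoint_span_singleton' hyne).mpr (hyine i))
    rw [hdis, finrank_bot, finrank_span_singleton hp, finrank_span_singleton hyne] at h1
    omega
  · exact Submodule.mem_sup_left (Submodule.mem_span_singleton_self p)
  · intro u hu
    obtain ⟨u1, hu1, u2, hu2, rfl⟩ := Submodule.mem_sup.mp hu
    obtain ⟨s, rfl⟩ := Submodule.mem_span_singleton.mp hu1
    obtain ⟨t, rfl⟩ := Submodule.mem_span_singleton.mp hu2
    rw [hFline _ (hyi i) s t]
    have h1 := hG (x i) 1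
    rw [one_smul] at h1
    rw [h1]
    have h2 := hxroot i
    linear_combination t ^ 3 * h2

end Groth.Agent.H91.Cubic
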