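import Mathlib

/-!
The symmetric trilinear form of a homogeneous cubic over a field of characteristic zero,
and expansion along a vector (field-generic version of `Groth.Agent.H91.Cubic`).
-/

namespace Groth.Agent.H91.CubicK

open MvPolynomial

section General

set_option linter.unusedSectionVars false
set_option linter.unnecessarySeqFocus false

variable {K : Type*} [Field K] [CharZero K] {σ : Type*}

theorem pderiv_comm (i j : σ) (p : MvPolynomial σ K) :
    pderiv i (pderiv j p) = pderiv j (pderiv i p) := by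
  classical
  induction p using MvPolynomial.induction_on with
  | C a => simp
  | add p q hp hq => simp [hp, hq]
  | mul_X p k hp =>
    simp only [pderiv_mul, pderiv_X, map_add, hp, Pi.single_apply]
    split_ifs <;> simp <;> ring

variable [Fintype σ]

/-- third derivatives -/
noncomputable def sC (f : MvPolynomial σ K) (i j k : σ) : K :=
  coeff 0 (pderiv i (pderiv j (pderiv k f)))

theorem sC_comm12 (f : MvPolynomial σ K) (i j k : σ) : sC f i j k = sC f j i k := by
  unfold sC; rw [pderiv_comm]

theorem sC_comm23 (f : MvPolynomial σ K) (i j k : σ) : sC f i j k = sC f i k j := by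
  unfold sC; rw [pderiv_comm j k]

/-- the trilinear form -/
noncomputable def T (f : MvPolynomial σ K) (u v w : σ → K) : K :=
  (1 / 6 : K) * ∑ i, ∑ j, ∑ k, sC f k j i * u i * v j * w k

theorem T_comm12 (f : MvPolynomial σ K) (u v w : σ → K) : T f u v w = T f v u w := by
  unfold T
  congr 1
  rw [Finset.sum_comm]
  refine Finset.sum_congr rfl fun i _ => Finset.sum_congr rfl fun j _ =>
    Finset.sum_congr rfl fun k _ => ?_
  rw [sC_comm23]; ring

theorem T_comm23 (f : MvPolynomial σ K) (u v w : σ → K) : T f u v w = T f u w v := by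
  unfold T
  congr 1
  refine Finset.sum_congr rfl fun i _ => ?_
  rw [Finset.sum_comm]
  refine Finset.sum_congr rfl fun j _ => Finset.sum_congr rfl fun k _ => ?_
  rw [sC_comm12]; ring

theorem T_add_left (f : MvPolynomial σ K) (u u' v w : σ → K) :
    T f (u + u') v w = T f u v w + T f u' v w := by
  unfold T
  rw [← mul_add, ← Finset.sum_add_distrib]
  congr 1
  refine Finset.sum_congr rfl fun i _ => ?_
  rw [← Finset.sum_add_distrib]
  refine Finset.sum_congr rfl fun j _ => ?_
  rw [← Finset.sum_add_distrib]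
  refine Finset.sum_congr rfl fun k _ => ?_
  simp only [Pi.add_apply]; ring

theorem T_smul_left (f : MvPolynomial σ K) (c : K) (u v w : σ → K) :
    T f (c • u) v w = c * T f u v w := by
  unfold T
  rw [mul_left_comm c]
  congr 1
  rw [Finset.mul_sum]
  refine Finset.sum_congr rfl fun i _ => ?_
  rw [Finset.mul_sum]
  refine Finset.sum_congr rfl fun j _ => ?_
  rw [Finset.mul_sum]
  refine Finset.sum_congr rfl fun k _ => ?_
  simp only [Pi.smul_apply, smul_eq_mul]; ring

theorem T_add_mid (f : MvPolynomial σ K) (u v v' w : σ → K) :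
    T f u (v + v') w = T f u v w + T f u v' w := by
  rw [T_comm12, T_add_left, T_comm12 f v, T_comm12 f v']

theorem T_smul_mid (f : MvPolynomial σ K) (c : K) (u v w : σ → K) :
    T f u (c • v) w = c * T f u v w := by
  rw [T_comm12, T_smul_left, T_comm12 f v]

theorem T_add_right (f : MvPolynomial σ K) (u v w w' : σ → K) :
    T f u v (w + w') = T f u v w + T f u v w' := by
  rw [T_comm23, T_add_mid, T_comm23 f u w, T_comm23 f u w']

theorem T_smul_right (f : MvPolynomial σ K) (c : K) (u v w : σ → K) :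
    T f u v (c • w) = c * T f u v w := by
  rw [T_comm23, T_smul_mid, T_comm23 f u w]

theorem sC_spec {f : MvPolynomial σ K} (hf : f.IsHomogeneous 3) (i j k : σ) :
    pderiv k (pderiv j (pderiv i f)) = C (sC f k j i) := by
  have h : (pderiv k (pderiv j (pderiv i f))).IsHomogeneous 0 :=
    ((hf.pderiv (i := i)).pderiv (i := j)).pderiv (i := k)
  rw [← totalDegree_zero_iff_isHomogeneous, totalDegree_eq_zero_iff_eq_C] at h
  exact h

theorem eval_pderiv2 {f : MvPolynomial σ K} (hf : f.IsHomogeneous 3) (u : σ → K) (i j : σ) :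
    eval u (pderiv j (pderiv i f)) = ∑ k, sC f k j i * u k := by
  have h : (pderiv j (pderiv i f)).IsHomogeneous 1 := (hf.pderiv (i := i)).pderiv (i := j)
  have h3 := h.sum_X_mul_pderiv
  have := congrArg (eval u) h3
  simp only [map_sum, map_mul, eval_X, sC_spec hf, eval_C, one_smul] at this
  rw [← this]
  exact Finset.sum_congr rfl fun k _ => mul_comm _ _

theorem eval_pderiv1 {f : MvPolynomial σ K} (hf : f.IsHomogeneous 3) (u : σ → K) (i : σ) :
    2 * eval u (pderiv i f) = ∑ j, ∑ k, sC f k j i * u j * u k := by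
  have h : (pderiv i f).IsHomogeneous 2 := hf.pderiv (i := i)
  have h3 := h.sum_X_mul_pderiv
  have := congrArg (eval u) h3
  simp only [map_sum, map_mul, eval_X, eval_pderiv2 hf, nsmul_eq_mul, Nat.cast_ofNat,
    map_ofNat] at this
  rw [← this]
  refine Finset.sum_congr rfl fun j _ => ?_
  rw [Finset.mul_sum]
  exact Finset.sum_congr rfl fun k _ => by ring

theorem eval_eq_T {f : MvPolynomial σ K} (hf : f.IsHomogeneous 3) (u : σ → K) :
    eval u f = T f u u u := by
  have h3 := hf.sum_X_mul_pderiv
  have := congrArg (eval u) h3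
  simp only [map_sum, map_mul, eval_X, nsmul_eq_mul, Nat.cast_ofNat, map_ofNat] at this
  have h6 : 6 * eval u f = ∑ i, ∑ j, ∑ k, sC f k j i * u i * u j * u k := by
    calc 6 * eval u f = 2 * (3 * eval u f) := by ring
      _ = ∑ i, u i * (2 * eval u (pderiv i f)) := by
          rw [← this, Finset.mul_sum]; exact Finset.sum_congr rfl fun i _ => by ring
      _ = _ := by
          refine Finset.sum_congr rfl fun i _ => ?_
          rw [eval_pderiv1 hf, Finset.mul_sum]
          refine Finset.sum_congr rfl fun j _ => ?_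
          rw [Finset.mul_sum]
          exact Finset.sum_congr rfl fun k _ => by ring
  unfold T
  rw [← h6]; ring

theorem dir_deriv {f : MvPolynomial σ K} (hf : f.IsHomogeneous 3) (u w : σ → K) :
    ∑ i, w i * eval u (pderiv i f) = 3 * T f w u u := by
  have : 2 * ∑ i, w i * eval u (pderiv i f) = ∑ i, ∑ j, ∑ k, sC f k j i * w i * u j * u k := by
    rw [Finset.mul_sum]
    refine Finset.sum_congr rfl fun i _ => ?_
    rw [mul_left_comm, eval_pderiv1 hf, Finset.mul_sum]
    refine Finset.sum_congr rfl fun j _ => ?_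
    rw [Finset.mul_sum]
    exact Finset.sum_congr rfl fun k _ => by ring
  unfold T
  rw [← this]; ring

theorem T_cube_add (f : MvPolynomial σ K) (u v : σ → K) :
    T f (u + v) (u + v) (u + v) = T f u u u + 3 * T f u u v + 3 * T f u v v + T f v v v := by
  simp only [T_add_left, T_add_mid, T_add_right]
  rw [T_comm23 f u v u, T_comm12 f v u u, T_comm23 f u v u, T_comm12 f v u v, T_comm23 f v v u,
    T_comm12 f v u v]
  ring

/-- expansion of a cubic along a direction -/
theorem eval_expand {f : MvPolynomial σ K} (hf : f.IsHomogeneous 3) (e y : σ → K) (t : K) :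
    eval (t • e + y) f =
      t ^ 3 * eval e f + t ^ 2 * (3 * T f e e y) + t * (3 * T f e y y) + eval y f := by
  rw [eval_eq_T hf, T_cube_add, eval_eq_T hf e, eval_eq_T hf y]
  simp only [T_smul_left, T_smul_mid, T_smul_right]
  ring

theorem cubic_coeffs {c0 c1 c2 c3 : K} (h : ∀ t : K, t ^ 3 * c3 + t ^ 2 * c2 + t * c1 + c0 = 0) :
    c0 = 0 ∧ c1 = 0 ∧ c2 = 0 ∧ c3 = 0 := by
  have h0 := h 0
  have h1 := h 1
  have h2 := h (-1)
  have h3 := h 2
  have e0 : c0 = 0 := by simpa using h0
  subst e0
  have e2 : c2 = 0 := by linear_combination (1 / 2 : K) * h1 + (1 / 2 : K) * h2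
  subst e2
  have e3 : c3 = 0 := by linear_combination (1 / 6 : K) * h3 - (1 / 3 : K) * h1
  subst e3
  have e1 : c1 = 0 := by linear_combination h1
  exact ⟨rfl, e1, rfl, rfl⟩


theorem quad_expand (f : MvPolynomial σ K) (z x y : σ → K) (p q : K) :
    T f z (p • x + q • y) (p • x + q • y) =
      p ^ 2 * T f z x x + 2 * p * q * T f z x y + q ^ 2 * T f z y y := by
  simp only [T_add_mid, T_add_right, T_smul_mid, T_smul_right]
  rw [T_comm23 f z y x]
  ring

theorem eval_smul {f : MvPolynomial σ K} (hf : f.IsHomogeneous 3) (q : K) (y : σ → K) :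
    eval (q • y) f = q ^ 3 * eval y f := by
  rw [eval_eq_T hf, eval_eq_T hf, T_smul_left, T_smul_mid, T_smul_right]; ring

theorem cube_expand {f : MvPolynomial σ K} (hf : f.IsHomogeneous 3) (x y : σ → K) (p q : K) :
    eval (p • x + q • y) f =
      p ^ 3 * eval x f + 3 * p ^ 2 * q * T f x x y + 3 * p * q ^ 2 * T f x y y
        + q ^ 3 * eval y f := by
  rw [eval_expand hf, eval_smul hf]
  simp only [T_smul_right, T_smul_mid]
  ring

theorem line_cond {f : MvPolynomial σ K} (hf : f.IsHomogeneous 3)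
    (U : Submodule K (σ → K)) (hU : ∀ u ∈ U, eval u f = 0) {v w : σ → K}
    (hv : v ∈ U) (hw : w ∈ U) : T f v v w = 0 ∧ T f v w w = 0 := by
  have h : ∀ t : K, t ^ 3 * eval v f + t ^ 2 * (3 * T f v v w) + t * (3 * T f v w w)
      + eval w f = 0 := by
    intro t
    rw [← eval_expand hf]
    exact hU _ (U.add_mem (U.smul_mem t hv) hw)
  obtain ⟨-, h1, h2, -⟩ := cubic_coeffs h
  have h3 : (3 : K) ≠ 0 := three_ne_zero
  exact ⟨(mul_eq_zero.mp h2).resolve_left h3, (mul_eq_zero.mp h1).resolve_left h3⟩

theorem no_sing [DecidableEq σ] {f : MvPolynomial σ K} (hf : f.IsHomogeneous 3)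
    (hsm : ∀ v : σ → K, v ≠ 0 → eval v f = 0 → ∃ i : σ, eval v (pderiv i f) ≠ 0)
    (u : σ → K) (hu : u ≠ 0) (h : ∀ x, T f u u x = 0) : False := by
  have hfu : eval u f = 0 := by rw [eval_eq_T hf]; exact h u
  obtain ⟨i, hi⟩ := hsm u hu hfu
  apply hi
  have := dir_deriv hf u (Pi.single i 1)
  rw [T_comm12, T_comm23, h, mul_zero] at this
  simpa [Pi.single_apply] using this

theorem quad_zero [IsAlgClosed K] (α β γ : K) :
    ∃ s t : K, (s ≠ 0 ∨ t ≠ 0) ∧ s ^ 2 * α + 2 * s * t * β + t ^ 2 * γ = 0 := by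
  by_cases hα : α = 0
  · exact ⟨1, 0, Or.inl one_ne_zero, by rw [hα]; ring⟩
  · obtain ⟨δ, hδ⟩ := IsAlgClosed.exists_eq_mul_self (β ^ 2 - α * γ)
    refine ⟨(-β + δ) / α, 1, Or.inr one_ne_zero, ?_⟩
    have : ((-β + δ) / α) ^ 2 * α + 2 * ((-β + δ) / α) * 1 * β + 1 ^ 2 * γ
        = (δ * δ - (β ^ 2 - α * γ)) / α := by
      field_simp
      ring
    rw [this, ← hδ, sub_self, zero_div]

end General

end Groth.Agent.H91.CubicK
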