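import Groth.Agent.H91.CubicK

/-!
Further tools for cubic surfaces over an algebraically closed field of characteristic zero:
substitution by rectangular matrices, a criterion producing singular points on a plane section,
and the affine form of polynomials of total degree at most one.
-/

namespace Groth.Agent.H91.CubicK

open MvPolynomial

set_option linter.unusedSectionVars false

variable {K : Type*} [Field K] [CharZero K]

/-- substitution by a rectangular matrix versus evaluation -/
theorem eval_aeval_matrix' {m n : ℕ} (f : MvPolynomial (Fin m) K)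
    (A : Matrix (Fin m) (Fin n) K) (v : Fin n → K) :
    eval v (aeval (fun i : Fin m => ∑ j : Fin n, C (A i j) * X j) f) = eval (A.mulVec v) f := by
  rw [← aeval_eq_eval, ← aeval_eq_eval]
  rw [comp_aeval_apply]
  have : (fun i => (aeval v) (∑ j : Fin n, C (A i j) * X j)) = A.mulVec v := by
    funext i
    simp [Matrix.mulVec, dotProduct, aeval_eq_eval]
  rw [this]

/-- A smooth cubic surface has no plane on which, along a pencil of points, all tangential
derivatives vanish. -/
theorem sing_crit [IsAlgClosed K] {f : MvPolynomial (Fin 4) K} (hf : f.IsHomogeneous 3)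
    (hsm : ∀ v : Fin 4 → K, v ≠ 0 → eval v f = 0 → ∃ i : Fin 4, eval v (pderiv i f) ≠ 0)
    (L : (Fin 3 → K) →ₗ[K] (Fin 4 → K)) (hL : Function.Injective L)
    (b1 b2 : Fin 3 → K) (hind : ∀ s t : K, s • b1 + t • b2 = 0 → s = 0 ∧ t = 0)
    (h : ∀ (s t : K) (z : Fin 3 → K),
      T f (L (s • b1 + t • b2)) (L (s • b1 + t • b2)) (L z) = 0) : False := by
  classical
  have hr : Module.finrank K (LinearMap.range L) = 3 := by
    rw [LinearMap.finrank_range_of_inj hL]; simp
  obtain ⟨n, hn⟩ : ∃ n, n ∉ LinearMap.range L := by
    by_contra hcon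
    push Not at hcon
    have : LinearMap.range L = ⊤ := Submodule.eq_top_iff'.mpr hcon
    rw [this, finrank_top] at hr
    simp at hr
  have htop : LinearMap.range L ⊔ Submodule.span K {n} = ⊤ := by
    apply Submodule.eq_top_of_finrank_eq
    have hlt : LinearMap.range L < LinearMap.range L ⊔ Submodule.span K {n} := by
      refine lt_of_le_of_ne le_sup_left (fun heq => hn ?_)
      rw [heq]
      exact Submodule.mem_sup_right (Submodule.mem_span_singleton_self n)
    have h1 := Submodule.finrank_lt_finrank_of_lt hlt
    have h2 := Submodule.finrank_le (LinearMap.range L ⊔ Submodule.span K {n})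
    rw [Module.finrank_fin_fun] at h2 ⊢
    rw [hr] at h1
    omega
  obtain ⟨s, t, hst, hq⟩ :=
    quad_zero (T f n (L b1) (L b1)) (T f n (L b1) (L b2)) (T f n (L b2) (L b2))
  have hy0 : s • b1 + t • b2 ≠ 0 := by
    intro h0
    obtain ⟨hs, ht⟩ := hind s t h0
    rcases hst with h' | h'
    · exact h' hs
    · exact h' ht
  have hx0 : L (s • b1 + t • b2) ≠ 0 := by
    intro h0
    exact hy0 (hL (by rw [h0, map_zero]))
  have hn0 : T f (L (s • b1 + t • b2)) (L (s • b1 + t • b2)) n = 0 := by
    rw [T_comm23, T_comm12, map_add, map_smul, map_smul, quad_expand]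
    exact hq
  apply no_sing hf hsm _ hx0
  intro x
  have hx : x ∈ LinearMap.range L ⊔ Submodule.span K {n} := by rw [htop]; trivial
  obtain ⟨y, hy, m, hm, rfl⟩ := Submodule.mem_sup.mp hx
  obtain ⟨z, rfl⟩ := LinearMap.mem_range.mp hy
  obtain ⟨c, rfl⟩ := Submodule.mem_span_singleton.mp hm
  rw [T_add_right, T_smul_right, hn0, h s t z]
  ring

/-- polynomials of total degree at most one are affine -/
theorem affine_of_totalDegree_le_one {σ : Type*} [Fintype σ] (φ : MvPolynomial σ K)
    (h : φ.totalDegree ≤ 1) :
    ∃ (c : K) (a : σ → K), φ = C c + ∑ i, C (a i) * X i := by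
  have h1 : homogeneousComponent 0 φ + homogeneousComponent 1 φ = φ := by
    rcases Nat.le_one_iff_eq_zero_or_eq_one.mp h with h0 | h0
    · have := sum_homogeneousComponent φ
      rw [h0] at this
      simp only [zero_add, Finset.sum_range_one] at this
      rw [homogeneousComponent_eq_zero 1 φ (by omega), add_zero]
      exact this
    · have := sum_homogeneousComponent φ
      rw [h0, Finset.sum_range_succ, Finset.sum_range_one] at this
      exact this
  have h2 : homogeneousComponent 1 φ ∈
      Submodule.span K (Set.range (X : σ → MvPolynomial σ K)) := by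
    rw [← homogeneousSubmodule_one_eq_span_X]
    exact homogeneousComponent_mem 1 φ
  obtain ⟨a, ha⟩ := (Submodule.mem_span_range_iff_exists_fun K).mp h2
  refine ⟨coeff 0 φ, a, ?_⟩
  calc φ = homogeneousComponent 0 φ + homogeneousComponent 1 φ := h1.symm
    _ = C (coeff 0 φ) + ∑ i, C (a i) * X i := by
        rw [homogeneousComponent_zero, ← ha]
        simp [smul_eq_C_mul]

end Groth.Agent.H91.CubicK
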