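import Mathlib
import Groth.Agent.H21.KPoint
import Groth.Agent.H54.AffineDim

/-!
# Projective dimension theorem (elementary form) and first-order Taylor expansion (helper91)

* `exists_common_zero`: fewer than `N` polynomials in `N` variables over an algebraically closed
  field, all vanishing at the origin, have a common zero different from the origin.
* `taylor1`: `f(u + T u') = f(u) + (∑ u'_i ∂_i f(u)) T + T² Q(T)`.
* `dirDeriv_eq_zero`: if `f` vanishes on the line `u + t u'` then the directional derivative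
  `∑ u'_i ∂_i f(u)` vanishes (infinite field).
-/

set_option autoImplicit false
universe u

namespace Groth.Agent.H91.ProjDimThm

open MvPolynomial

theorem exists_common_zero (k : Type u) [Field k] [IsAlgClosed k] (N : ℕ)
    (s : Finset (MvPolynomial (Fin N) k)) (hs0 : ∀ g ∈ s, eval (0 : Fin N → k) g = 0)
    (hcard : s.card < N) :
    ∃ a : Fin N → k, a ≠ 0 ∧ ∀ g ∈ s, eval a g = 0 := by
  classical
  obtain ⟨χ0, hχ0def⟩ : ∃ χ0 : MvPolynomial (Fin N) k →ₐ[k] k, χ0 = aeval (0 : Fin N → k) :=
    ⟨_, rfl⟩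
  have hχ0 : Function.Surjective χ0 := fun c => ⟨C c, by rw [hχ0def]; simp⟩
  obtain ⟨𝔪, h𝔪def⟩ : ∃ 𝔪 : Ideal (MvPolynomial (Fin N) k), 𝔪 = RingHom.ker χ0 := ⟨_, rfl⟩
  haveI h𝔪 : 𝔪.IsMaximal := by
    rw [h𝔪def]; exact RingHom.ker_isMaximal_of_surjective χ0 hχ0
  have hht : 𝔪.height = N := Groth.Agent.H54.height_eq_of_isMaximal_mvPolynomial k N 𝔪
  have hs : (s : Set (MvPolynomial (Fin N) k)) ⊆ 𝔪 := by
    intro g hg
    have h0 := hs0 g hg
    rw [h𝔪def]
    show g ∈ RingHom.ker χ0
    rw [RingHom.mem_ker, hχ0def]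
    exact h0
  have hcard' : (s.card : ℕ∞) < 𝔪.height := by
    rw [hht]; exact_mod_cast hcard
  obtain ⟨𝔭, h𝔭, hs𝔭, hlt⟩ :=
    Groth.Agent.H21.KPoint.exists_prime_lt_of_card_lt_height 𝔪 s hs hcard'
  haveI := h𝔭
  obtain ⟨𝔫, h𝔫, h𝔭𝔫, hne⟩ := Groth.Agent.H21.KPoint.exists_isMaximal_ne hlt
  haveI := h𝔫
  obtain ⟨χ, hχ⟩ := Groth.Agent.H21.KPoint.exists_algHom_ker_eq k 𝔫
  obtain ⟨a, hadef⟩ : ∃ a : Fin N → k, a = fun i => χ (X i) := ⟨_, rfl⟩
  have hχa : χ = aeval a := by
    rw [hadef]; exact MvPolynomial.aeval_unique χ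
  refine ⟨a, ?_, ?_⟩
  · intro ha
    apply hne
    rw [← hχ, hχa, ha, h𝔪def, hχ0def]
  · intro g hg
    have hmem : g ∈ 𝔫 := h𝔭𝔫 (hs𝔭 hg)
    rw [← hχ, RingHom.mem_ker, hχa] at hmem
    exact hmem

theorem taylor1 {k : Type*} [CommRing k] {σ : Type*} [Fintype σ] [DecidableEq σ] (u u' : σ → k)
    (f : MvPolynomial σ k) :
    ∃ Q : Polynomial k,
      aeval (fun i => Polynomial.C (u i) + Polynomial.C (u' i) * Polynomial.X) f =
        Polynomial.C (eval u f) + Polynomial.C (∑ i, u' i * eval u (pderiv i f)) * Polynomial.X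
          + Polynomial.X ^ 2 * Q := by
  induction f using MvPolynomial.induction_on with
  | C a => exact ⟨0, by simp⟩
  | add p q hp hq =>
    obtain ⟨Q1, h1⟩ := hp
    obtain ⟨Q2, h2⟩ := hq
    refine ⟨Q1 + Q2, ?_⟩
    rw [map_add, h1, h2]
    simp only [map_add, mul_add, Finset.sum_add_distrib]
    ring
  | mul_X p j hp =>
    obtain ⟨Q, h⟩ := hp
    refine ⟨Polynomial.C ((∑ i, u' i * eval u (pderiv i p)) * u' j) +
      Q * (Polynomial.C (u j) + Polynomial.C (u' j) * Polynomial.X), ?_⟩
    have hsum : ∑ i, u' i * eval u (pderiv i (p * X j)) =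
        (∑ i, u' i * eval u (pderiv i p)) * u j + u' j * eval u p := by
      have hterm : ∀ i, u' i * eval u (pderiv i (p * X j)) =
          (u' i * eval u (pderiv i p)) * u j + (if i = j then u' i * eval u p else 0) := by
        intro i
        rw [pderiv_mul, pderiv_X, map_add, map_mul, map_mul, eval_X, Pi.single_apply]
        by_cases hij : i = j
        · subst hij
          rw [if_pos rfl, if_pos rfl, map_one]
          ring
        · have hji : ¬ j = i := fun h => hij h.symm
          rw [if_neg hji, if_neg hij, map_zero]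
          ring
      rw [Finset.sum_congr rfl (fun i _ => hterm i), Finset.sum_add_distrib, ← Finset.sum_mul,
        Finset.sum_ite_eq']
      simp
    rw [map_mul, aeval_X, h, hsum]
    simp only [map_mul, eval_X, map_add]
    ring

theorem dirDeriv_eq_zero {k : Type*} [Field k] [Infinite k] {σ : Type*} [Fintype σ]
    [DecidableEq σ] (f : MvPolynomial σ k) (u u' : σ → k)
    (h : ∀ t : k, eval (u + t • u') f = 0) :
    ∑ i, u' i * eval u (pderiv i f) = 0 := by
  obtain ⟨Q, hQ⟩ := taylor1 u u' f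
  obtain ⟨g, hg⟩ : ∃ g : σ → Polynomial k,
      g = fun i => Polynomial.C (u i) + Polynomial.C (u' i) * Polynomial.X := ⟨_, rfl⟩
  rw [← hg] at hQ
  have hev : ∀ t : k, Polynomial.eval t (aeval g f) = 0 := by
    intro t
    have h1 := MvPolynomial.comp_aeval_apply g (Polynomial.aeval t : Polynomial k →ₐ[k] k) f
    have h2 : (fun i => (Polynomial.aeval t : Polynomial k →ₐ[k] k) (g i)) = u + t • u' := by
      funext i
      rw [hg]
      show Polynomial.eval t (Polynomial.C (u i) + Polynomial.C (u' i) * Polynomial.X) = _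
      rw [Polynomial.eval_add, Polynomial.eval_C, Polynomial.eval_mul, Polynomial.eval_C,
        Polynomial.eval_X, Pi.add_apply, Pi.smul_apply, smul_eq_mul, mul_comm]
    rw [h2] at h1
    have h3 : Polynomial.eval t (aeval g f) = eval (u + t • u') f := h1
    rw [h3, h t]
  have hP0 : aeval g f = 0 :=
    Polynomial.funext (fun t => by rw [hev t, Polynomial.eval_zero])
  have hA : eval u f = 0 := by simpa using h 0
  rw [hP0, hA, map_zero, zero_add] at hQ
  have h3 : (Polynomial.X : Polynomial k) *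
      (Polynomial.C (∑ i, u' i * eval u (pderiv i f)) + Polynomial.X * Q) = 0 := by
    linear_combination (-1 : Polynomial k) * hQ
  rcases mul_eq_zero.mp h3 with h4 | h4
  · exact absurd h4 Polynomial.X_ne_zero
  · have h5 := congrArg (Polynomial.eval 0) h4
    rw [Polynomial.eval_add, Polynomial.eval_C, Polynomial.eval_mul, Polynomial.eval_X, zero_mul,
      add_zero, Polynomial.eval_zero] at h5
    exact h5

end Groth.Agent.H91.ProjDimThm
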