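import Groth.Agent.H91.CubicK
import Groth.Agent.S14372

/-!
# Lines on a smooth cubic threefold meeting two incident lines (helper91)
-/

set_option autoImplicit false

namespace Groth.Agent.H91.CubicLines

open MvPolynomial Groth.Agent.H91.CubicK

theorem exists_basis_two {K V : Type*} [Field K] [AddCommGroup V] [Module K V]
    (U : Submodule K V) (hU : Module.finrank K U = 2) (p : V) (hp : p ∈ U) (hp0 : p ≠ 0) :
    ∃ e ∈ U, (∀ a b : K, a • p + b • e = 0 → a = 0 ∧ b = 0) ∧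
      ∀ x ∈ U, ∃ a b : K, x = a • p + b • e := by
  haveI : FiniteDimensional K U := Module.finite_of_finrank_pos (by omega)
  obtain ⟨e, heU, hne⟩ : ∃ e ∈ U, e ∉ Submodule.span K {p} := by
    by_contra hcon
    push Not at hcon
    have hle : U ≤ Submodule.span K {p} := fun x hx => hcon x hx
    have h1 := Submodule.finrank_mono hle
    rw [hU, finrank_span_singleton hp0] at h1
    omega
  have hind : ∀ a b : K, a • p + b • e = 0 → a = 0 ∧ b = 0 := by
    intro a b hab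
    have hb : b = 0 := by
      by_contra hb
      apply hne
      rw [Submodule.mem_span_singleton]
      refine ⟨-(b⁻¹ * a), ?_⟩
      have h2 : b • e = -(a • p) := by
        rw [← add_eq_zero_iff_eq_neg, add_comm]
        exact hab
      calc (-(b⁻¹ * a)) • p = b⁻¹ • (-(a • p)) := by rw [neg_smul, mul_smul, smul_neg]
        _ = b⁻¹ • (b • e) := by rw [h2]
        _ = e := by rw [smul_smul, inv_mul_cancel₀ hb, one_smul]
    subst hb
    rw [zero_smul, add_zero] at hab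
    exact ⟨(smul_eq_zero.mp hab).resolve_right hp0, rfl⟩
  refine ⟨e, heU, hind, ?_⟩
  have hli : LinearIndependent K ![p, e] := LinearIndependent.pair_iff.mpr hind
  have hW : Submodule.span K {p, e} ≤ U := by
    rw [Submodule.span_le]
    intro x hx
    rcases hx with rfl | rfl
    · exact hp
    · exact heU
  have hfr : Module.finrank K (Submodule.span K {p, e}) = 2 := by
    have h1 := finrank_span_eq_card hli
    rw [Fintype.card_fin, Matrix.range_cons_cons_empty] at h1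
    exact h1
  have heq : Submodule.span K {p, e} = U :=
    Submodule.eq_of_le_of_finrank_eq hW (by rw [hfr, hU])
  intro x hx
  rw [← heq, Submodule.mem_span_pair] at hx
  obtain ⟨a, b, hab⟩ := hx
  exact ⟨a, b, hab.symm⟩

theorem finite_meeting
    (f : MvPolynomial (Fin 5) ℂ) (hf : f.IsHomogeneous 3)
    (hsm : ∀ u : Fin 5 → ℂ, u ≠ 0 → MvPolynomial.eval u f = 0 →
      ∃ i : Fin 5, MvPolynomial.eval u (MvPolynomial.pderiv i f) ≠ 0)
    (L₁ L₂ : Submodule ℂ (Fin 5 → ℂ)) (h₁ : Module.finrank ℂ ↥L₁ = 2)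
    (h₂ : Module.finrank ℂ ↥L₂ = 2)
    (hf₁ : ∀ u ∈ L₁, MvPolynomial.eval u f = 0) (hf₂ : ∀ u ∈ L₂, MvPolynomial.eval u f = 0)
    (hne : L₁ ≠ L₂) (hmeet : L₁ ⊓ L₂ ≠ ⊥) :
    ∃ G : Set (Submodule ℂ (Fin 5 → ℂ)), G.Finite ∧
      (∀ g ∈ G, Module.finrank ℂ ↥g = 1 ∧ g ≤ L₁) ∧
      ∀ L : Submodule ℂ (Fin 5 → ℂ), Module.finrank ℂ ↥L = 2 →
        (∀ u ∈ L, MvPolynomial.eval u f = 0) →
        L ⊓ L₁ ≠ ⊥ → L ⊓ L₂ ≠ ⊥ → ∃ g ∈ G, g ≤ L := by
  classical
  obtain ⟨p, hpmem, hp0⟩ := Submodule.exists_mem_ne_zero_of_ne_bot hmeet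
  have hp1 : p ∈ L₁ := (Submodule.mem_inf.mp hpmem).1
  have hp2 : p ∈ L₂ := (Submodule.mem_inf.mp hpmem).2
  obtain ⟨e₁, he₁, hind₁, hspan₁⟩ := exists_basis_two L₁ h₁ p hp1 hp0
  obtain ⟨e₂, he₂, hind₂, hspan₂⟩ := exists_basis_two L₂ h₂ p hp2 hp0
  have hppe₁ : T f p p e₁ = 0 := (line_cond hf L₁ hf₁ hp1 he₁).1
  have hppe₂ : T f p p e₂ = 0 := (line_cond hf L₂ hf₂ hp2 he₂).1
  have hpe₂e₂ : T f p e₂ e₂ = 0 := (line_cond hf L₂ hf₂ hp2 he₂).2
  obtain ⟨A, hA⟩ : ∃ A, A = T f p e₁ e₂ := ⟨_, rfl⟩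
  obtain ⟨B, hB⟩ : ∃ B, B = T f e₁ e₁ e₂ := ⟨_, rfl⟩
  obtain ⟨C, hC⟩ : ∃ C, C = T f e₁ e₂ e₂ := ⟨_, rfl⟩
  have hxxy : ∀ a b a' c : ℂ,
      T f (a • p + b • e₁) (a • p + b • e₁) (a' • p + c • e₂) =
        c * (2 * a * b * A + b ^ 2 * B) := by
    intro a b a' c
    have hx : a • p + b • e₁ ∈ L₁ := L₁.add_mem (L₁.smul_mem a hp1) (L₁.smul_mem b he₁)
    rw [T_add_right, T_smul_right, T_smul_right, (line_cond hf L₁ hf₁ hx hp1).1, mul_zero,
      zero_add, T_comm23, T_comm12, quad_expand]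
    have c1 : T f e₂ p p = 0 := by
      rw [T_comm12, T_comm23]
      exact hppe₂
    have c2 : T f e₂ p e₁ = A := by rw [hA, T_comm12, T_comm23]
    have c3 : T f e₂ e₁ e₁ = B := by rw [hB, T_comm12, T_comm23]
    rw [c1, c2, c3]
    ring
  have hxyy : ∀ a b a' c : ℂ,
      T f (a • p + b • e₁) (a' • p + c • e₂) (a' • p + c • e₂) =
        b * (2 * a' * c * A + c ^ 2 * C) := by
    intro a b a' c
    have hy : a' • p + c • e₂ ∈ L₂ := L₂.add_mem (L₂.smul_mem a' hp2) (L₂.smul_mem c he₂)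
    rw [T_add_left, T_smul_left, T_smul_left]
    have c0 : T f p (a' • p + c • e₂) (a' • p + c • e₂) = 0 := by
      have h3 := (line_cond hf L₂ hf₂ hy hp2).1
      rw [T_comm23, T_comm12] at h3
      exact h3
    rw [c0, mul_zero, zero_add, quad_expand]
    have c1 : T f e₁ p p = 0 := by
      rw [T_comm12, T_comm23]
      exact hppe₁
    have c2 : T f e₁ p e₂ = A := by rw [hA, T_comm12]
    rw [c1, c2, ← hC]
    ring
  have hABC : ¬ (A = 0 ∧ B = 0 ∧ C = 0) := by
    rintro ⟨hA0, hB0, hC0⟩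
    have hPi : ∀ u ∈ L₁ ⊔ L₂, eval u f = 0 := by
      intro u hu
      obtain ⟨x, hx, y, hy, rfl⟩ := Submodule.mem_sup.mp hu
      obtain ⟨a, b, rfl⟩ := hspan₁ x hx
      obtain ⟨a', c, rfl⟩ := hspan₂ y hy
      have h1 := eval_expand hf (a • p + b • e₁) (a' • p + c • e₂) 1
      rw [one_smul] at h1
      rw [h1, hf₁ _ hx, hf₂ _ hy, hxxy, hxyy, hA0, hB0, hC0]
      ring
    have hsmPi : ∀ u ∈ L₁ ⊔ L₂, u ≠ 0 → ∃ i, eval u (pderiv i f) ≠ 0 :=
      fun u hu hu0 => hsm u hu0 (hPi u hu)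
    have h3 : 2 * Module.finrank ℂ ↥(L₁ ⊔ L₂) ≤ 4 + 1 :=
      Groth.Agent.S14372.result ℂ 4 3 (by norm_num) f hf (L₁ ⊔ L₂) hPi hsmPi
    have hlt : L₁ < L₁ ⊔ L₂ := by
      refine lt_of_le_of_ne le_sup_left ?_
      intro heq
      have hle : L₂ ≤ L₁ := by
        rw [heq]
        exact le_sup_right
      have h6 : L₂ = L₁ := Submodule.eq_of_le_of_finrank_eq hle (h₂.trans h₁.symm)
      exact hne h6.symm
    have h4 := Submodule.finrank_lt_finrank_of_lt hlt
    omega
  obtain ⟨s₀, hs₀⟩ : ∃ s₀ : ℂ, s₀ = -B / (2 * A) := ⟨_, rfl⟩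
  refine ⟨{Submodule.span ℂ {p}, Submodule.span ℂ {s₀ • p + e₁}},
    Set.Finite.insert _ (Set.finite_singleton _), ?_, ?_⟩
  · intro g hg
    rcases hg with rfl | rfl
    · exact ⟨finrank_span_singleton hp0, by
        rw [Submodule.span_singleton_le_iff_mem]
        exact hp1⟩
    · have hq0 : s₀ • p + e₁ ≠ 0 := by
        intro h0
        have h5 := hind₁ s₀ 1 (by rw [one_smul]; exact h0)
        exact one_ne_zero h5.2
      exact ⟨finrank_span_singleton hq0, by
        rw [Submodule.span_singleton_le_iff_mem]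
        exact L₁.add_mem (L₁.smul_mem _ hp1) he₁⟩
  · intro L hL hfL hL1 hL2
    by_cases hpL : p ∈ L
    · exact ⟨Submodule.span ℂ {p}, Set.mem_insert _ _, by
        rw [Submodule.span_singleton_le_iff_mem]
        exact hpL⟩
    · refine ⟨Submodule.span ℂ {s₀ • p + e₁},
        Set.mem_insert_of_mem _ (Set.mem_singleton _), ?_⟩
      rw [Submodule.span_singleton_le_iff_mem]
      obtain ⟨q, hqmem, hq0⟩ := Submodule.exists_mem_ne_zero_of_ne_bot hL1
      obtain ⟨hqL, hqL1⟩ := Submodule.mem_inf.mp hqmem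
      obtain ⟨a, b, rfl⟩ := hspan₁ q hqL1
      have hb : b ≠ 0 := by
        rintro rfl
        rw [zero_smul, add_zero] at hqL hq0
        have ha : a ≠ 0 := by
          rintro rfl
          exact hq0 (zero_smul _ _)
        apply hpL
        have h5 := L.smul_mem a⁻¹ hqL
        rwa [smul_smul, inv_mul_cancel₀ ha, one_smul] at h5
      obtain ⟨r, hrmem, hr0⟩ := Submodule.exists_mem_ne_zero_of_ne_bot hL2
      obtain ⟨hrL, hrL2⟩ := Submodule.mem_inf.mp hrmem
      obtain ⟨a', c, rfl⟩ := hspan₂ r hrL2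
      have hc : c ≠ 0 := by
        rintro rfl
        rw [zero_smul, add_zero] at hrL hr0
        have ha : a' ≠ 0 := by
          rintro rfl
          exact hr0 (zero_smul _ _)
        apply hpL
        have h5 := L.smul_mem a'⁻¹ hrL
        rwa [smul_smul, inv_mul_cancel₀ ha, one_smul] at h5
      have h1 := (line_cond hf L hfL hqL hrL).1
      have h2 := (line_cond hf L hfL hqL hrL).2
      rw [hxxy] at h1
      rw [hxyy] at h2
      have h1' : 2 * a * A + b * B = 0 := by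
        have h5 : c * b * (2 * a * A + b * B) = 0 := by linear_combination h1
        exact (mul_eq_zero.mp h5).resolve_left (mul_ne_zero hc hb)
      have h2' : 2 * a' * A + c * C = 0 := by
        have h5 : b * c * (2 * a' * A + c * C) = 0 := by linear_combination h2
        exact (mul_eq_zero.mp h5).resolve_left (mul_ne_zero hb hc)
      have hA0 : A ≠ 0 := by
        intro hA0
        apply hABC
        rw [hA0, mul_zero, zero_add] at h1' h2'
        exact ⟨hA0, (mul_eq_zero.mp h1').resolve_left hb, (mul_eq_zero.mp h2').resolve_left hc⟩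
      have hs : b⁻¹ * a = s₀ := by
        rw [hs₀, eq_div_iff (mul_ne_zero two_ne_zero hA0)]
        linear_combination b⁻¹ * h1' - B * (inv_mul_cancel₀ hb)
      have h5 := L.smul_mem b⁻¹ hqL
      rw [smul_add, smul_smul, smul_smul, inv_mul_cancel₀ hb, one_smul, hs] at h5
      exact h5

end Groth.Agent.H91.CubicLines
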