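import Groth.Agent.H91.DiagGa

/-! Over an affine base `Spec R`, every homomorphism `D(M) ⟶ 𝔾_a` is trivial (continued). -/

set_option autoImplicit false
universe u
open CategoryTheory CategoryTheory.Limits MonoidalCategory CartesianMonoidalCategory MonObj AlgebraicGeometry Opposite
open scoped TensorProduct

noncomputable section

namespace Groth.Agent.H91.DiagGa

open GmPts (baseZ toBaseZ)
open Groth.Agent.H91.GaDict Groth.Agent.H91.PrimZero

variable (M : Type) [AddCommGroup M] (R : Type u) [CommRing R]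

set_option backward.isDefEq.respectTransparency false in
/-- induction principle for global functions on `Spec ℤ[M] ×_{Spec ℤ} Spec R`. -/
theorem pullback_induction (g : Spec (CommRingCat.of R) ⟶ baseZ.{u})
    (hg : g = Spec.map (CommRingCat.ofHom (cf R)))
    (Pred : Γ(pullback (Red.diag (ULift.{u} ℤ) M).hom g, ⊤) → Prop)
    (hpure : ∀ (a : kM.{u} M) (r : R), Pred ((pullback.fst (Red.diag (ULift.{u} ℤ) M).hom g).appTop ((kMIso M).inv a) *
      (pullback.snd (Red.diag (ULift.{u} ℤ) M).hom g).appTop ((Scheme.ΓSpecIso (CommRingCat.of R)).inv r)))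
    (hadd : ∀ x y, Pred x → Pred y → Pred (x + y)) : ∀ F, Pred F := by
  subst hg
  letI : Algebra (ULift.{u} ℤ) R := (cf R).toAlgebra
  let ψ := pullbackSpecIso (ULift.{u} ℤ) (kM.{u} M) R
  have h1 := pullbackSpecIso_hom_fst (ULift.{u} ℤ) (kM.{u} M) R
  have h2 := pullbackSpecIso_hom_snd (ULift.{u} ℤ) (kM.{u} M) R
  have hpure' : ∀ (a : kM.{u} M) (r : R), Pred
      ((pullback.fst (Spec.map (CommRingCat.ofHom (algebraMap (ULift.{u} ℤ) (kM.{u} M))))
        (Spec.map (CommRingCat.ofHom (algebraMap (ULift.{u} ℤ) R)))).appTop ((kMIso M).inv a) *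
      (pullback.snd (Spec.map (CommRingCat.ofHom (algebraMap (ULift.{u} ℤ) (kM.{u} M))))
        (Spec.map (CommRingCat.ofHom (algebraMap (ULift.{u} ℤ) R)))).appTop
          ((Scheme.ΓSpecIso (CommRingCat.of R)).inv r)) := hpure
  intro F
  have hF : F = ψ.hom.appTop (ψ.inv.appTop F) := by
    rw [← GmPts.appTop_comp_apply, Iso.hom_inv_id]
    simp
  obtain ⟨z, hz⟩ : ∃ z, ψ.inv.appTop F = (Scheme.ΓSpecIso _).inv z :=
    ⟨(Scheme.ΓSpecIso _).hom (ψ.inv.appTop F), by simp⟩
  rw [hF, hz]
  clear hF hz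
  induction z using TensorProduct.induction_on with
  | zero =>
    have := hpure 0 0
    simpa using this
  | tmul a r =>
    have hp := hpure' a r
    rw [← h1, ← h2, GmPts.appTop_comp_apply, GmPts.appTop_comp_apply, specMap_appTop_ΓSpecIso_inv,
      specMap_appTop_ΓSpecIso_inv, ← map_mul, ← map_mul] at hp
    refine (congrArg (fun z => Pred ((ConcreteCategory.hom ψ.hom.appTop)
      ((ConcreteCategory.hom (Scheme.ΓSpecIso _).inv) z))) ?_).mpr hp
    simp only [CommRingCat.hom_ofHom]
    simp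
  | add x y hx hy =>
    rw [map_add, map_add]
    exact hadd _ _ hx hy

variable {R}

theorem Xi_id_surjective :
    Function.Surjective (Xi M (𝟙 (Red.DS (Spec (CommRingCat.of R)) M))) := by
  refine pullback_induction M R (toBaseZ (Spec (CommRingCat.of R))) (specULiftZIsTerminal.hom_ext _ _)
    (fun F => ∃ G, Xi M (𝟙 (Red.DS (Spec (CommRingCat.of R)) M)) G = F) ?_ ?_
  · intro a r
    refine ⟨MonoidAlgebra.mapRingHom (Multiplicative M) (cf R) a * MonoidAlgebra.single 1 r, ?_⟩
    rw [map_mul]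
    congr 1
    · have := DFunLike.congr_fun (Xi_comp_map M (𝟙 (Red.DS (Spec (CommRingCat.of R)) M))) a
      rw [RingHom.comp_apply] at this
      rw [this]
      change ((kMIso M).inv ≫ ((𝟙 (Red.DS (Spec (CommRingCat.of R)) M) : _ ⟶ _).left ≫
        pullback.fst (Red.diag (ULift.{u} ℤ) M).hom (toBaseZ _)).appTop).hom a = _
      rw [Over.id_left, Category.id_comp]
      rfl
    · rw [Xi_single, ← MonoidAlgebra.one_def, map_one, _root_.mul_one]
      rfl
  · rintro x y ⟨Gx, rfl⟩ ⟨Gy, rfl⟩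
    exact ⟨Gx + Gy, map_add _ _ _⟩


section testpoints

/-- the test ring `R[M × M]`. -/
abbrev RMM (R : Type u) [CommRing R] (M : Type) [AddCommGroup M] : Type u :=
  MonoidAlgebra R (Multiplicative (M × M))

/-- the test object `Spec R[M × M]` over `Spec R`. -/
abbrev TT (R : Type u) [CommRing R] (M : Type) [AddCommGroup M] : Over (Spec (CommRingCat.of R)) :=
  Over.mk (Spec.map (CommRingCat.ofHom (algebraMap R (RMM R M))))

/-- the point of `D(M)` with values in `Spec R[M × M]` attached to a ring hom. -/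
def pt (ψ : kM.{u} M →+* RMM R M) : TT R M ⟶ Red.DS (Spec (CommRingCat.of R)) M :=
  Over.homMk (pullback.lift (Spec.map (CommRingCat.ofHom ψ)) (TT R M).hom
    (specULiftZIsTerminal.hom_ext _ _)) (pullback.lift_snd _ _ _)

abbrev rmmIso : Γ(Spec (CommRingCat.of (RMM R M)), ⊤) ≅ CommRingCat.of (RMM R M) :=
  Scheme.ΓSpecIso (CommRingCat.of (RMM R M))

theorem cHom_pt (ψ : kM.{u} M →+* RMM R M) (a : kM.{u} M) :
    cHom M (pt M ψ) a = (rmmIso M (R := R)).inv (ψ a) := by
  change ((pt M ψ).left ≫ pullback.fst (Red.diag (ULift.{u} ℤ) M).hom (toBaseZ _)).appTop ((kMIso M).inv a) = _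
  have : (pt M ψ).left ≫ pullback.fst (Red.diag (ULift.{u} ℤ) M).hom (toBaseZ _) =
      Spec.map (CommRingCat.ofHom ψ) := pullback.lift_fst _ _ _
  rw [this]
  exact specMap_appTop_ΓSpecIso_inv (CommRingCat.ofHom ψ) a

theorem sHom_TT (r : R) : sHom R (TT R M) r = (rmmIso M (R := R)).inv (algebraMap R (RMM R M) r) := by
  change (Spec.map (CommRingCat.ofHom (algebraMap R (RMM R M)))).appTop
    ((Scheme.ΓSpecIso (CommRingCat.of R)).inv r) = _
  exact specMap_appTop_ΓSpecIso_inv (CommRingCat.ofHom (algebraMap R (RMM R M))) r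

/-- the ring hom `ℤ[M] → R[M × M]` induced by a map of monoids. -/
def psiOf (j : Multiplicative M →* Multiplicative (M × M)) : kM.{u} M →+* RMM R M :=
  (MonoidAlgebra.mapDomainRingHom R j).comp (MonoidAlgebra.mapRingHom (Multiplicative M) (cf R))

theorem psiOf_single (j : Multiplicative M →* Multiplicative (M × M)) (a : Multiplicative M) :
    psiOf M (R := R) j (MonoidAlgebra.single a 1) = MonoidAlgebra.single (j a) 1 := by
  simp [psiOf]

theorem Xi_eq_of (t : TT R M ⟶ Red.DS (Spec (CommRingCat.of R)) M)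
    (j : Multiplicative M →* Multiplicative (M × M))
    (h : ∀ a : Multiplicative M, cHom M t (MonoidAlgebra.single a 1) =
      (rmmIso M (R := R)).inv (MonoidAlgebra.single (j a) 1)) :
    Xi M t = (rmmIso M (R := R)).inv.hom.comp (MonoidAlgebra.mapDomainRingHom R j) := by
  refine MonoidAlgebra.ringHom_ext (fun r => ?_) (fun a => ?_)
  · rw [Xi_single, ← MonoidAlgebra.one_def, map_one, _root_.mul_one, sHom_TT, RingHom.comp_apply]
    congr 1
    simp [MonoidAlgebra.coe_algebraMap]
  · rw [Xi_single, map_one, _root_.one_mul, h, RingHom.comp_apply]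
    congr 1
    simp

theorem Xi_pt (j : Multiplicative M →* Multiplicative (M × M)) :
    Xi M (pt M (psiOf M (R := R) j)) =
      (rmmIso M (R := R)).inv.hom.comp (MonoidAlgebra.mapDomainRingHom R j) :=
  Xi_eq_of M _ j (fun a => by rw [cHom_pt, psiOf_single])

theorem Xi_mul :
    Xi M (pt M (psiOf M (R := R) (i1 M)) * pt M (psiOf M (R := R) (i2 M))) =
      (rmmIso M (R := R)).inv.hom.comp (MonoidAlgebra.mapDomainRingHom R (iD M)) := by
  refine Xi_eq_of M _ (iD M) (fun a => ?_)
  obtain ⟨m, rfl⟩ := Multiplicative.ofAdd.surjective a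
  haveI := Groth.Agent.H91.KummerKer.chi_isMonHom (Spec (CommRingCat.of R)) m
  rw [← gmFn_chi, MonObj.mul_comp (pt M (psiOf M (R := R) (i1 M))) (pt M (psiOf M (R := R) (i2 M)))
    (Red.chi (Spec (CommRingCat.of R)) m), GmPts.gmFn_mul, gmFn_chi, gmFn_chi, cHom_pt, cHom_pt, psiOf_single,
    psiOf_single, ← map_mul, MonoidAlgebra.single_mul_single, _root_.mul_one, ← iD_eq_mul]

/-- Over an affine base every homomorphism `D(M) ⟶ 𝔾_a` is trivial. -/
theorem hom_eq_one (w : Red.DS (Spec (CommRingCat.of R)) M ⟶ Red.Ga (Spec (CommRingCat.of R)))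
    [IsMonHom w] : w = 1 := by
  apply eq_one_of_gaFn_eq_zero
  obtain ⟨G, hG⟩ := Xi_id_surjective M (R := R) (Red.gaFn w)
  have key : ∀ t : TT R M ⟶ Red.DS (Spec (CommRingCat.of R)) M, Red.gaFn (t ≫ w) = Xi M t G := by
    intro t
    rw [gaFn_comp, ← hG]
    have := DFunLike.congr_fun (Xi_comp M t (𝟙 _)) G
    rw [Category.comp_id] at this
    rw [this]
    rfl
  have h := key (pt M (psiOf M (R := R) (i1 M)) * pt M (psiOf M (R := R) (i2 M)))
  rw [MonObj.mul_comp (pt M (psiOf M (R := R) (i1 M))) (pt M (psiOf M (R := R) (i2 M))) w,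
    gaFn_mul, key, key, Xi_pt, Xi_pt, Xi_mul] at h
  simp only [RingHom.comp_apply] at h
  rw [← map_add] at h
  have hinj : Function.Injective ((rmmIso M (R := R)).inv.hom) := by
    intro x y hxy
    have := congrArg (rmmIso M (R := R)).hom.hom hxy
    simpa using this
  have h' := hinj h
  have hG0 : G = 0 := prim_eq_zero R M G h'.symm
  rw [← hG, hG0, map_zero]

end testpoints

end Groth.Agent.H91.DiagGa
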