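import Mathlib
import Groth.Prelude.Def_EssDim

set_option autoImplicit false
universe w u

open CategoryTheory AlgebraicGeometry Opposite

namespace Groth.Agent.H91.EssDimBC

section Alg

variable {k K L : Type u} [Field k] [Field K] [Field L] [Algebra k K] [Algebra K L] [Algebra k L]
  [IsScalarTower k K L]

/-- The inclusion of an intermediate field `E` of `L/k` into the compositum `K(E)`. -/
noncomputable def incl (E : IntermediateField k L) :
    E →+* IntermediateField.adjoin K (E : Set L) where
  toFun x := ⟨x.1, IntermediateField.subset_adjoin K _ x.2⟩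
  map_one' := rfl
  map_mul' _ _ := rfl
  map_zero' := rfl
  map_add' _ _ := rfl

theorem incl_injective (E : IntermediateField k L) : Function.Injective (incl (K := K) E) := by
  intro a b h
  apply Subtype.ext
  exact congrArg (fun z : IntermediateField.adjoin K (E : Set L) => (z : L)) h

theorem incl_algebraMap (E : IntermediateField k L) (r : k) :
    incl (K := K) E (algebraMap k E r) =
      algebraMap K (IntermediateField.adjoin K (E : Set L)) (algebraMap k K r) := by
  apply Subtype.ext
  change algebraMap k L r = algebraMap K L (algebraMap k K r)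
  rw [← IsScalarTower.algebraMap_apply]

theorem trdeg_adjoin_le (E : IntermediateField k L) :
    Algebra.trdeg K (IntermediateField.adjoin K (E : Set L)) ≤ Algebra.trdeg k E := by
  obtain ⟨s, hs⟩ := exists_isTranscendenceBasis k E
  set E' := IntermediateField.adjoin K (E : Set L) with hE'
  set ι : E →+* E' := incl (K := K) E with hι
  set t : Set E' := ι '' s with ht
  set D := Algebra.adjoin K t with hD
  set A₀ := Algebra.adjoin k (Set.range ((↑) : s → E)) with hA₀
  have halg₀ : Algebra.IsAlgebraic A₀ E := hs.isAlgebraic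
  have hmem : ∀ a ∈ A₀, ι a ∈ D := by
    intro a ha
    induction ha using Algebra.adjoin_induction with
    | mem x hx =>
      obtain ⟨y, rfl⟩ := hx
      exact Algebra.subset_adjoin ⟨y.1, y.2, rfl⟩
    | algebraMap r =>
      rw [hι, incl_algebraMap]
      exact D.algebraMap_mem _
    | add x y _ _ hx hy =>
      rw [map_add]; exact D.add_mem hx hy
    | mul x y _ _ hx hy =>
      rw [map_mul]; exact D.mul_mem hx hy
  let f : A₀ →+* D :=
    { toFun := fun a => ⟨ι a.1, hmem a.1 a.2⟩
      map_one' := Subtype.ext (map_one ι)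
      map_mul' := fun a b => Subtype.ext (map_mul ι a.1 b.1)
      map_zero' := Subtype.ext (map_zero ι)
      map_add' := fun a b => Subtype.ext (map_add ι a.1 b.1) }
  have hf : Function.Injective f := by
    intro a b h
    apply Subtype.ext
    apply incl_injective (K := K) E
    exact congrArg (fun z : D => (z : E')) h
  have key : ∀ x : E, IsAlgebraic D (ι x) := by
    intro x
    exact IsAlgebraic.ringHom_of_comp_eq f ι (halg₀.isAlgebraic x) hf (RingHom.ext fun a => rfl)
  have hall : ∀ (x : L) (hx : x ∈ E'), IsAlgebraic D (⟨x, hx⟩ : E') := by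
    intro x hx
    induction hx using IntermediateField.adjoin_induction with
    | mem x hx => exact key ⟨x, hx⟩
    | algebraMap r =>
      have : (⟨algebraMap K L r, IntermediateField.algebraMap_mem _ _⟩ : E') =
          algebraMap D E' (algebraMap K D r) := rfl
      rw [this]
      exact isAlgebraic_algebraMap _
    | add x y hx hy hx' hy' =>
      exact IsAlgebraic.add hx' hy'
    | inv x hx hx' =>
      exact IsAlgebraic.inv hx'
    | mul x y hx hy hx' hy' =>
      exact IsAlgebraic.mul hx' hy'
  have : Algebra.IsAlgebraic D E' := ⟨fun x => hall x.1 x.2⟩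
  calc Algebra.trdeg K E' ≤ Cardinal.mk t := Algebra.IsAlgebraic.trdeg_le_cardinalMk K t
    _ ≤ Cardinal.mk s := Cardinal.mk_image_le
    _ = Algebra.trdeg k E := hs.cardinalMk_eq_trdeg

end Alg

section Cat

open EssDim

variable {k K : Type u} [Field k] [Field K] [Algebra k K]
  (P : (Over (Spec (CommRingCat.of k)))ᵒᵖ ⥤ Type w)

/-- the structure morphism `Spec K ⟶ Spec k` -/
noncomputable abbrev gK (k K : Type u) [Field k] [Field K] [Algebra k K] :
    Spec (CommRingCat.of K) ⟶ Spec (CommRingCat.of k) :=
  Spec.map (CommRingCat.ofHom (algebraMap k K))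

variable {L : Type u} [Field L] [Algebra K L] [Algebra k L] [IsScalarTower k K L]

/-- `Spec L` over `Spec K`, viewed over `Spec k`, is `Spec L` over `Spec k`. -/
noncomputable def eL (k K L : Type u) [Field k] [Field K] [Algebra k K]
    [Field L] [Algebra K L] [Algebra k L] [IsScalarTower k K L] :
    (Over.map (gK k K)).obj (SGA7.pt (K := K) L) ≅ SGA7.pt (K := k) L :=
  Over.isoMk (Iso.refl _) (by
    change 𝟙 _ ≫ Spec.map _ = Spec.map _ ≫ Spec.map _
    rw [Category.id_comp, ← Spec.map_comp, ← CommRingCat.ofHom_comp,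
      ← IsScalarTower.algebraMap_eq])

/-- the morphism `Spec K(E) ⟶ Spec E` over `Spec k`. -/
noncomputable def rho (E : IntermediateField k L) :
    (Over.map (gK k K)).obj (SGA7.pt (K := K) (IntermediateField.adjoin K (E : Set L))) ⟶
      SGA7.pt (K := k) E :=
  Over.homMk (Spec.map (CommRingCat.ofHom (incl (K := K) E))) (by
    change Spec.map _ ≫ Spec.map _ = Spec.map _ ≫ Spec.map _
    rw [← Spec.map_comp, ← Spec.map_comp, ← CommRingCat.ofHom_comp, ← CommRingCat.ofHom_comp]
    congr 2
    exact RingHom.ext fun r => incl_algebraMap (K := K) E r)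

theorem rho_fac (E : IntermediateField k L) :
    (Over.map (gK k K)).map (resPt (IntermediateField.adjoin K (E : Set L)).val) ≫ rho (K := K) E =
      (eL k K L).hom ≫ resPt E.val := by
  ext : 1
  change Spec.map _ ≫ Spec.map _ = 𝟙 _ ≫ Spec.map _
  rw [Category.id_comp, ← Spec.map_comp, ← CommRingCat.ofHom_comp]
  rfl

theorem edAt_le (ξ : FPt ((Over.map (gK k K)).op ⋙ P) L) :
    edAt ((Over.map (gK k K)).op ⋙ P) ξ ≤ edAt P (P.map (eL k K L).inv.op ξ) := by
  refine le_iInf ?_
  rintro ⟨E, ξ₀, hξ₀⟩
  have hdesc : Descends ((Over.map (gK k K)).op ⋙ P) ξ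
      (IntermediateField.adjoin K (E : Set L)) := by
    refine ⟨P.map (rho (K := K) E).op ξ₀, ?_⟩
    change P.map ((Over.map (gK k K)).map (resPt _)).op (P.map (rho (K := K) E).op ξ₀) = ξ
    have h1 : ξ = P.map (eL k K L).hom.op (P.map (eL k K L).inv.op ξ) := by
      rw [← FunctorToTypes.map_comp_apply, ← op_comp, Iso.hom_inv_id, op_id,
        FunctorToTypes.map_id_apply]
    rw [h1, ← hξ₀]
    change _ = P.map (eL k K L).hom.op (P.map (resPt E.val).op ξ₀)
    rw [← FunctorToTypes.map_comp_apply, ← FunctorToTypes.map_comp_apply, ← op_comp, ← op_comp,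
      rho_fac]
  refine (edAt_le_of_descends hdesc).trans ?_
  exact OrderHomClass.mono Cardinal.toENat (trdeg_adjoin_le (K := K) E)

theorem ed_baseChange_le (k K : Type u) [Field k] [Field K] [Algebra k K]
    (P : (Over (Spec (CommRingCat.of k)))ᵒᵖ ⥤ Type w) :
    EssDim.ed (k := K) ((Over.map (Spec.map (CommRingCat.ofHom (algebraMap k K)))).op ⋙ P) ≤
      EssDim.ed P := by
  refine iSup_le fun L => iSup_le fun _ => iSup_le fun _ => iSup_le fun ξ => ?_
  letI : Algebra k L := ((algebraMap K L).comp (algebraMap k K)).toAlgebra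
  haveI : IsScalarTower k K L := IsScalarTower.of_algebraMap_eq (fun _ => rfl)
  exact (WithBot.coe_le_coe.mpr (edAt_le P ξ)).trans (edAt_le_ed _)

end Cat

end Groth.Agent.H91.EssDimBC
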