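import Mathlib

/-! Structure of schemes étale over a separably closed field: discrete, a disjoint union of copies
of `Spec K`. Consequences: `K`-points are jointly epimorphic; morphisms from connected schemes are
constant. -/

set_option autoImplicit false
universe u
open CategoryTheory CategoryTheory.Limits AlgebraicGeometry TopologicalSpace

namespace Groth.Agent.H91.EtAlgCl

section ring
variable {K : Type u} [Field K] [IsSepClosed K] {A : Type u} [CommRing A]

theorem isArtinianRing_of_etale (φ : K →+* A) (hφ : φ.Etale) : IsArtinianRing A := by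
  algebraize [φ]
  haveI : Algebra.Etale K A := hφ
  haveI : Module.Finite K A := Algebra.FormallyUnramified.finite_of_free K A
  exact isArtinian_of_tower K inferInstance

theorem bijective_of_etale_of_unique (φ : K →+* A) (hφ : φ.Etale) [Unique (PrimeSpectrum A)] :
    Function.Bijective φ := by
  algebraize [φ]
  haveI : Algebra.Etale K A := hφ
  let e : A ≃ₐ[K] K :=
    (Algebra.FormallyEtale.equivPiOfIsSepClosed K A).trans (AlgEquiv.funUnique K (PrimeSpectrum A) K)
  have h : ∀ a : K, φ a = e.symm a := by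
    intro a
    have h1 : e.symm (algebraMap K K a) = algebraMap K A a := e.symm.commutes a
    have h2 : algebraMap K K a = a := rfl
    have h3 : algebraMap K A a = φ a := rfl
    rw [← h3, ← h1, h2]
  have h' : (φ : K → A) = e.symm := funext h
  rw [h']
  exact e.symm.bijective

end ring

section scheme
variable {K : Type u} [Field K] [IsSepClosed K] {Y : Scheme.{u}}
  (p : Y ⟶ Spec (CommRingCat.of K))

/-- the structure ring map `K → Γ(Y, V)`. -/
noncomputable def strMap (V : Y.Opens) : K →+* Γ(Y, V) :=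
  (p.appLE ⊤ V (fun _ _ => trivial)).hom.comp (Scheme.ΓSpecIso (CommRingCat.of K)).inv.hom

theorem strMap_etale [Etale p] (V : Y.Opens) (hV : IsAffineOpen V) : (strMap p V).Etale := by
  unfold strMap
  refine RingHom.Etale.stableUnderComposition _ _ (RingHom.Etale.of_bijective ?_)
    (Etale.etale_appLE p (isAffineOpen_top _) hV _)
  exact ConcreteCategory.bijective_of_isIso (Scheme.ΓSpecIso (CommRingCat.of K)).inv

theorem isLocallyArtinian [Etale p] : IsLocallyArtinian Y :=
  ⟨fun U => isArtinianRing_of_etale (strMap p U.1) (strMap_etale p U.1 U.2)⟩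

theorem discreteTopology [Etale p] : DiscreteTopology Y := by
  haveI := isLocallyArtinian p
  infer_instance

/-- a morphism from an affine scheme to `Spec R` which is an isomorphism on global sections is an
isomorphism. -/
theorem isIso_of_isAffine_of_isIso_appTop {X : Scheme.{u}} [IsAffine X] {R : CommRingCat.{u}}
    (f : X ⟶ Spec R) [IsIso f.appTop] : IsIso f := by
  have h : f = X.toSpecΓ ≫ Spec.map f.appTop ≫ inv (Spec R).toSpecΓ := by
    rw [← Category.assoc, ← Scheme.toSpecΓ_naturality, Category.assoc, IsIso.hom_inv_id,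
      Category.comp_id]
  rw [h]
  infer_instance

end scheme

section points
variable {K : Type u} [Field K] [IsSepClosed K] {Y : Scheme.{u}}
  (p : Y ⟶ Spec (CommRingCat.of K)) [DiscreteTopology Y]

/-- the open subscheme `{y}` of a discrete scheme. -/
def ptOpen (y : Y) : Y.Opens := ⟨{y}, isOpen_discrete _⟩

theorem isAffineOpen_ptOpen (y : Y) : IsAffineOpen (ptOpen y) := by
  obtain ⟨W, hW, hyW, hWU⟩ := exists_isAffineOpen_mem_and_subset (x := y) (U := ptOpen y) rfl
  have h : W = ptOpen y := by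
    apply le_antisymm (fun z hz => hWU hz)
    intro z hz
    have hz' : z = y := hz
    rw [hz']
    exact hyW
  rw [← h]
  exact hW

theorem isIso_of_unique {X : Scheme.{u}} [IsAffine X] [Unique X]
    (f : X ⟶ Spec (CommRingCat.of K)) [Etale f] : IsIso f := by
  haveI : Unique (PrimeSpectrum Γ(X, ⊤)) := X.isoSpec.hom.homeomorph.symm.toEquiv.unique
  have haff : IsAffineOpen (f ⁻¹ᵁ ⊤) := isAffineOpen_top X
  have het : f.appTop.hom.Etale := by
    have h0 := Etale.etale_appLE f (isAffineOpen_top _) haff le_rfl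
    rw [← Scheme.Hom.app_eq_appLE] at h0
    exact h0
  have het2 : (f.appTop.hom.comp (Scheme.ΓSpecIso (CommRingCat.of K)).inv.hom).Etale :=
    RingHom.Etale.stableUnderComposition _ _ (RingHom.Etale.of_bijective
      (ConcreteCategory.bijective_of_isIso (Scheme.ΓSpecIso (CommRingCat.of K)).inv)) het
  have hbij := bijective_of_etale_of_unique _ het2
  haveI : IsIso f.appTop := by
    rw [ConcreteCategory.isIso_iff_bijective]
    have h1 : Function.Bijective
        ((f.appTop.hom.comp (Scheme.ΓSpecIso (CommRingCat.of K)).inv.hom) ∘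
          (Scheme.ΓSpecIso (CommRingCat.of K)).hom.hom) :=
      hbij.comp (ConcreteCategory.bijective_of_isIso (Scheme.ΓSpecIso (CommRingCat.of K)).hom)
    have h2 : ((f.appTop.hom.comp (Scheme.ΓSpecIso (CommRingCat.of K)).inv.hom) ∘
          (Scheme.ΓSpecIso (CommRingCat.of K)).hom.hom) = f.appTop.hom := by
      funext a
      simp
    rw [h2] at h1
    exact h1
  exact isIso_of_isAffine_of_isIso_appTop _

theorem isIso_ptOpen [Etale p] (y : Y) : IsIso ((ptOpen y).ι ≫ p) := by
  haveI : IsAffine (ptOpen y).toScheme := isAffineOpen_ptOpen y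
  haveI : Subsingleton (ptOpen y).toScheme :=
    ⟨fun a b => Subtype.ext ((show a.1 = y from a.2).trans (show b.1 = y from b.2).symm)⟩
  haveI : Unique (ptOpen y).toScheme := @uniqueOfSubsingleton _ this (⟨y, rfl⟩ : ↥(ptOpen y))
  exact isIso_of_unique _

/-- the `K`-point at `y`. -/
noncomputable def kpt [Etale p] (y : Y) : Spec (CommRingCat.of K) ⟶ Y :=
  haveI := isIso_ptOpen p y
  inv ((ptOpen y).ι ≫ p) ≫ (ptOpen y).ι

theorem kpt_p [Etale p] (y : Y) : kpt p y ≫ p = 𝟙 _ := by
  haveI := isIso_ptOpen p y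
  unfold kpt
  rw [Category.assoc, IsIso.inv_hom_id]

theorem ι_eq [Etale p] (y : Y) : (ptOpen y).ι = ((ptOpen y).ι ≫ p) ≫ kpt p y := by
  haveI := isIso_ptOpen p y
  unfold kpt
  rw [IsIso.hom_inv_id_assoc]

/-- `K`-points of a scheme étale over a separably closed field are jointly epimorphic. -/
theorem hom_ext_kpoints [Etale p] {Z : Scheme.{u}} (f g : Y ⟶ Z)
    (h : ∀ k : Spec (CommRingCat.of K) ⟶ Y, k ≫ p = 𝟙 _ → k ≫ f = k ≫ g) : f = g := by
  have hcov : TopologicalSpace.IsOpenCover (fun y : Y => ptOpen y) := by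
    refine TopologicalSpace.IsOpenCover.mk ?_
    rw [eq_top_iff]
    intro x _
    exact TopologicalSpace.Opens.mem_iSup.mpr ⟨x, rfl⟩
  apply (Y.openCoverOfIsOpenCover _ hcov).hom_ext
  intro y
  change (ptOpen y).ι ≫ f = (ptOpen y).ι ≫ g
  calc (ptOpen y).ι ≫ f = (((ptOpen y).ι ≫ p) ≫ kpt p y) ≫ f := by rw [← ι_eq]
    _ = ((ptOpen y).ι ≫ p) ≫ (kpt p y ≫ f) := Category.assoc _ _ _
    _ = ((ptOpen y).ι ≫ p) ≫ (kpt p y ≫ g) := by rw [h _ (kpt_p p y)]
    _ = (((ptOpen y).ι ≫ p) ≫ kpt p y) ≫ g := (Category.assoc _ _ _).symm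
    _ = (ptOpen y).ι ≫ g := by rw [← ι_eq]

/-- a morphism from a connected scheme to a scheme étale over a separably closed field is
constant. -/
theorem const_of_preconnected [Etale p] {X : Scheme.{u}} [PreconnectedSpace X] (h : X ⟶ Y) (x₀ : X)
    (k₀ : Spec (CommRingCat.of K) ⟶ Y) (hk₀ : k₀ ≫ p = 𝟙 _) (hx : ∃ z, k₀.base z = h.base x₀) :
    h = (h ≫ p) ≫ k₀ := by
  haveI := isIso_ptOpen p (h.base x₀)
  have hconst : ∀ x, h.base x = h.base x₀ := fun x =>
    PreconnectedSpace.constant ‹PreconnectedSpace X› h.continuous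
  have hk : k₀ = kpt p (h.base x₀) := by
    obtain ⟨z, hz⟩ := hx
    have hr : Set.range k₀.base ⊆ Set.range (ptOpen (h.base x₀)).ι.base := by
      rintro _ ⟨w, rfl⟩
      have hw : w = z := Subsingleton.elim _ _
      rw [hw, hz, Scheme.Opens.range_ι]
      rfl
    have hk' : IsOpenImmersion.lift (ptOpen (h.base x₀)).ι k₀ hr ≫ (ptOpen (h.base x₀)).ι = k₀ :=
      IsOpenImmersion.lift_fac _ _ _
    have h1 : IsOpenImmersion.lift (ptOpen (h.base x₀)).ι k₀ hr ≫ ((ptOpen (h.base x₀)).ι ≫ p) = 𝟙 _ := by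
      rw [← Category.assoc, hk', hk₀]
    have h2 : IsOpenImmersion.lift (ptOpen (h.base x₀)).ι k₀ hr = inv ((ptOpen (h.base x₀)).ι ≫ p) := by
      rw [← cancel_mono ((ptOpen (h.base x₀)).ι ≫ p), h1, IsIso.inv_hom_id]
    rw [← hk', h2]
    rfl
  have hr : Set.range h.base ⊆ Set.range (ptOpen (h.base x₀)).ι.base := by
    rintro _ ⟨x, rfl⟩
    rw [hconst x, Scheme.Opens.range_ι]
    rfl
  have hh' : IsOpenImmersion.lift (ptOpen (h.base x₀)).ι h hr ≫ (ptOpen (h.base x₀)).ι = h :=
    IsOpenImmersion.lift_fac _ _ _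
  rw [hk]
  calc h = IsOpenImmersion.lift (ptOpen (h.base x₀)).ι h hr ≫ (ptOpen (h.base x₀)).ι := hh'.symm
    _ = IsOpenImmersion.lift (ptOpen (h.base x₀)).ι h hr ≫
        (((ptOpen (h.base x₀)).ι ≫ p) ≫ kpt p (h.base x₀)) := by rw [← ι_eq]
    _ = (h ≫ p) ≫ kpt p (h.base x₀) := by
        rw [← Category.assoc, ← Category.assoc, hh']

end points

end Groth.Agent.H91.EtAlgCl
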