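import Groth.Agent.H17.FittSheaf
import Groth.Agent.H8.FreeMod
import Groth.Agent.H8.FPAffine
import Groth.Agent.H34.Fitting2
import Groth.Prelude.Def_BlowUp2
import Groth.Prelude.Def_CohB1

/-! Fitting ideal sheaf of a finitely presented module is of finite type; its support misses the
open set where the module is locally free of the given rank. -/

set_option autoImplicit false
universe u
open CategoryTheory AlgebraicGeometry TopologicalSpace Opposite

namespace Groth.Agent.H91.FittFT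

theorem isFiniteTypeIdeal_fittSheaf {X : Scheme.{u}} (F : X.Modules) (hF : CohB1.IsFP F) (r : ℕ) :
    BlowUp.IsFiniteTypeIdeal (Fitt.sheafIdeal F r) := by
  haveI : SheafOfModules.IsFinitePresentation (R := X.ringCatSheaf) F := hF
  intro U
  rw [Groth.Agent.H17.FittSheaf.sheafIdeal_ideal F r U]
  haveI : Module.FinitePresentation Γ(X, U.1) Γ(F, U.1) :=
    Groth.Agent.H8.finitePresentation_sections_of_isAffineOpen F U.2
  exact Groth.Agent.H34.Fit.fittIdeal_fg r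

/-- ring level: the `r`-th Fitting ideal of a module generated by `r` elements is the unit ideal. -/
theorem fitt_eq_top_of_span {R : Type u} [CommRing R] {M : Type u} [AddCommGroup M] [Module R M]
    (r : ℕ) (x : Fin r → M) (hx : Submodule.span R (Set.range x) = ⊤) : Fitt.ideal R M r = ⊤ := by
  rw [Ideal.eq_top_iff_one]
  refine Ideal.subset_span ⟨r, x, 1, hx, ?_, ?_⟩
  · intro i hi
    simp at hi
  · simp

/-- sections of `F` over an open inside an open `U` where `F|_U` is free of rank `r` are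
generated by `r` elements. -/
theorem exists_span_of_restrict_iso {X : Scheme.{u}} (F : X.Modules) {U : X.Opens} {r : ℕ}
    (e : F.restrict U.ι ≅ FlatMod.freeMod (↑U) r) (V : U.toScheme.Opens) :
    ∃ x : Fin r → Γ(F, U.ι ''ᵁ V), Submodule.span Γ(X, U.ι ''ᵁ V) (Set.range x) = ⊤ := by
  let E := Groth.Agent.H8.sectionsEquivOfRestrictIso F e V
  refine ⟨fun i => E.symm (Pi.single i 1), ?_⟩
  have h1 : Submodule.span Γ(X, U.ι ''ᵁ V) (Set.range (Pi.basisFun Γ(X, U.ι ''ᵁ V) (Fin r))) = ⊤ :=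
    (Pi.basisFun Γ(X, U.ι ''ᵁ V) (Fin r)).span_eq
  have h2 : (fun i => E.symm (Pi.single i 1)) =
      (E.symm : (Fin r → Γ(X, U.ι ''ᵁ V)) →ₗ[Γ(X, U.ι ''ᵁ V)] Γ(F, U.ι ''ᵁ V)) ∘
        (Pi.basisFun Γ(X, U.ι ''ᵁ V) (Fin r)) := by
    funext i
    simp [Pi.basisFun_apply]
  rw [h2, Set.range_comp, ← Submodule.map_span, h1, Submodule.map_top,
    LinearMap.range_eq_top.mpr E.symm.surjective]

/-- transfer of a generating family from `Γ(F|_U, W)` over `Γ(U, W)` to `Γ(F, U.ι ''ᵁ W)` over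
`Γ(X, U.ι ''ᵁ W)` (the same underlying sets and operations). -/
theorem span_transfer {X : Scheme.{u}} (F : X.Modules) {U : X.Opens} {r : ℕ} (W : U.toScheme.Opens)
    (x : Fin r → Γ(F.restrict U.ι, W))
    (hx : Submodule.span Γ(↑U, W) (Set.range x) = ⊤) :
    Submodule.span Γ(X, U.ι ''ᵁ W) (Set.range (fun i => (show Γ(F, U.ι ''ᵁ W) from x i))) = ⊤ := by
  let N : Submodule Γ(X, U.ι ''ᵁ W) Γ(F, U.ι ''ᵁ W) :=
    Submodule.span Γ(X, U.ι ''ᵁ W) (Set.range (fun i => (show Γ(F, U.ι ''ᵁ W) from x i)))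
  let N' : Submodule Γ(↑U, W) Γ(F.restrict U.ι, W) :=
    { carrier := {m | (show Γ(F, U.ι ''ᵁ W) from m) ∈ N}
      add_mem' := fun {a b} ha hb => N.add_mem ha hb
      zero_mem' := N.zero_mem
      smul_mem' := fun c m hm => by
        have h' : (show Γ(F, U.ι ''ᵁ W) from (c • m)) =
            (@id Γ(X, U.ι ''ᵁ W) c) • (@id Γ(F, U.ι ''ᵁ W) m) :=
          Groth.Agent.H8.smul_restrict_ι F W (@id Γ(X, U.ι ''ᵁ W) c) (@id Γ(F, U.ι ''ᵁ W) m)
        change (show Γ(F, U.ι ''ᵁ W) from (c • m)) ∈ N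
        rw [h']
        exact N.smul_mem _ hm }
  have hle : Submodule.span Γ(↑U, W) (Set.range x) ≤ N' := by
    rw [Submodule.span_le]
    rintro _ ⟨i, rfl⟩
    change (show Γ(F, U.ι ''ᵁ W) from x i) ∈ N
    exact Submodule.subset_span (s := Set.range (fun i => (show Γ(F, U.ι ''ᵁ W) from x i))) ⟨i, rfl⟩
  rw [hx] at hle
  rw [eq_top_iff]
  intro m _
  exact hle (Submodule.mem_top (x := (show Γ(F.restrict U.ι, W) from m)))

theorem disjoint_support_fittSheaf {X : Scheme.{u}} (F : X.Modules) [F.IsQuasicoherent]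
    [SheafOfModules.IsFiniteType (R := X.ringCatSheaf) F] (U : X.Opens) (r : ℕ)
    (hfree : FlatMod.IsFinLocFreeOfRank r (F.restrict U.ι)) :
    Disjoint ((Fitt.sheafIdeal F r).support : Set X) (U : Set X) := by
  rw [Set.disjoint_left]
  intro x hxs hxU
  obtain ⟨U', hxU', ⟨e⟩⟩ := hfree ⟨x, hxU⟩
  -- an affine open neighbourhood of `x` inside the image of `U'`
  have hxO : x ∈ U.ι ''ᵁ U' := ⟨⟨x, hxU⟩, hxU', rfl⟩
  obtain ⟨WX, haff, hxW, hWO⟩ :=
    (Opens.isBasis_iff_nbhd.mp X.isBasis_affineOpens) hxO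
  have hWU : WX ≤ U := hWO.trans (by
    rintro _ ⟨y, -, rfl⟩
    exact y.2)
  obtain ⟨V', rfl⟩ : ∃ V' : U.toScheme.Opens, WX = U.ι ''ᵁ V' :=
    ⟨U.ι ⁻¹ᵁ WX, by
      rw [Scheme.Hom.image_preimage_eq_opensRange_inf, Scheme.Opens.opensRange_ι]
      exact (inf_eq_right.mpr hWU).symm⟩
  have hV'U' : V' ≤ U' := (Scheme.Hom.image_le_image_iff U.ι V' U').mp hWO
  obtain ⟨V'', rfl⟩ : ∃ V'' : U'.toScheme.Opens, V' = U'.ι ''ᵁ V'' :=
    ⟨U'.ι ⁻¹ᵁ V', by
      rw [Scheme.Hom.image_preimage_eq_opensRange_inf, Scheme.Opens.opensRange_ι]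
      exact (inf_eq_right.mpr hV'U').symm⟩
  obtain ⟨y, hy⟩ := exists_span_of_restrict_iso (F.restrict U.ι) e V''
  have hspan := span_transfer F (U'.ι ''ᵁ V'') y hy
  have htop := fitt_eq_top_of_span r _ hspan
  have hmem := (Scheme.IdealSheafData.mem_support_iff_of_mem
    (I := Fitt.sheafIdeal F r) (U := ⟨U.ι ''ᵁ (U'.ι ''ᵁ V''), haff⟩) hxW).mp hxs
  rw [Groth.Agent.H17.FittSheaf.sheafIdeal_ideal F r ⟨U.ι ''ᵁ (U'.ι ''ᵁ V''), haff⟩] at hmem
  rw [Scheme.mem_zeroLocus_iff] at hmem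
  have h1 := hmem 1 (by rw [htop]; trivial)
  rw [Scheme.basicOpen_one] at h1
  exact h1 hxW

end Groth.Agent.H91.FittFT
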