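import Groth.Agent.H25.DX4

/-!
# Attractors of a quotient-type monoid map as fixed points (abstract form, helper91)

`i : G ⟶ B` a monoid morphism with all `i ▷ T` epimorphisms (epi-versions of `H25.DX4`), and the
identification of `eqvHom ((regular B).restrict i) a` with the fixed points of a "kernel" `κ : K ⟶ G`.
-/

open CategoryTheory AlgebraicGeometry MonoidalCategory CartesianMonoidalCategory MonObj Opposite
open Magnet Magnet.MonAct

universe u

namespace Groth.Agent.H91.FixAbs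

open Groth.Agent.H25.DX4

variable {S : Scheme.{u}} {B G K X : Over S} [MonObj B] [MonObj G] [MonObj K]

theorem evalAt_injective' (i : G ⟶ B) [IsMonHom i] (hepi : ∀ T : Over S, Epi (i ▷ T))
    (a : MonAct G X) (T : Over S) (φ ψ : (eqvHom ((regular B).restrict i) a).obj (op T))
    (h : (eqvHom.evalAt ((regular B).restrict i) a η[B]).app (op T) φ =
      (eqvHom.evalAt ((regular B).restrict i) a η[B]).app (op T) ψ) : φ = ψ := by
  haveI := hepi T
  apply Subtype.ext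
  apply (cancel_epi (i ▷ T)).1
  rw [whisker_comp_eq i a T φ, whisker_comp_eq i a T ψ, h]

set_option maxHeartbeats 400000 in
theorem mem_range_evalAt_iff' (i : G ⟶ B) [IsMonHom i] (hepi : ∀ T : Over S, Epi (i ▷ T))
    (a : MonAct G X) (T : Over S) (x : T ⟶ X) :
    (∃ φ : (eqvHom ((regular B).restrict i) a).obj (op T),
        (eqvHom.evalAt ((regular B).restrict i) a η[B]).app (op T) φ = x) ↔
      ∃ φ : B ⊗ T ⟶ X, (i ▷ T) ≫ φ = (G ◁ x) ≫ a.act := by
  constructor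
  · rintro ⟨φ, rfl⟩
    exact ⟨φ.1, whisker_comp_eq i a T φ⟩
  · rintro ⟨φ₀, h⟩
    have horb : ∀ {T' : Over S} (g : T' ⟶ G) (t : T' ⟶ T),
        lift (g ≫ i) t ≫ φ₀ = lift g (t ≫ x) ≫ a.act := by
      intro T' g t
      rw [← lift_whiskerRight_assoc, h, lift_whiskerLeft_assoc]
    -- the universal instance of equivariance, on `B ⊗ (T ⊗ G)`
    have hLR : lift (lift (snd B (T ⊗ G) ≫ snd T G) (fst B (T ⊗ G)) ≫
          ((regular B).restrict i).act) (snd B (T ⊗ G) ≫ fst T G) ≫ φ₀ =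
        lift (snd B (T ⊗ G) ≫ snd T G)
          (lift (fst B (T ⊗ G)) (snd B (T ⊗ G) ≫ fst T G) ≫ φ₀) ≫ a.act := by
      haveI := hepi (T ⊗ G)
      apply (cancel_epi (i ▷ (T ⊗ G))).1
      apply hom_ext_lift₂
      intro T'' g' s
      have eL : lift g' s ≫ (i ▷ (T ⊗ G)) ≫
          lift (lift (snd B (T ⊗ G) ≫ snd T G) (fst B (T ⊗ G)) ≫
            ((regular B).restrict i).act) (snd B (T ⊗ G) ≫ fst T G) ≫ φ₀ =
          lift (s ≫ snd T G) (lift g' ((s ≫ fst T G) ≫ x) ≫ a.act) ≫ a.act := by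
        simp only [lift_whiskerRight_assoc, comp_lift_assoc, lift_fst, lift_snd, lift_fst_assoc,
          lift_snd_assoc]
        rw [lift_restrict_act, lift_regular_act, ← MonObj.mul_comp, horb, a.lift_mul_act]
      have eR : lift g' s ≫ (i ▷ (T ⊗ G)) ≫
          lift (snd B (T ⊗ G) ≫ snd T G)
            (lift (fst B (T ⊗ G)) (snd B (T ⊗ G) ≫ fst T G) ≫ φ₀) ≫ a.act =
          lift (s ≫ snd T G) (lift g' ((s ≫ fst T G) ≫ x) ≫ a.act) ≫ a.act := by
        simp only [lift_whiskerRight_assoc, comp_lift_assoc, lift_fst, lift_snd, lift_fst_assoc,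
          lift_snd_assoc]
        rw [horb]
      rw [eL, eR]
    have hpts : ∀ (T' : Over S) (g : T' ⟶ G) (b : T' ⟶ B) (t : T' ⟶ T),
        lift (lift g b ≫ ((regular B).restrict i).act) t ≫ φ₀ =
          lift g (lift b t ≫ φ₀) ≫ a.act := by
      intro T' g b t
      have h2 := congrArg (fun f => lift b (lift t g) ≫ f) hLR
      simp only [comp_lift_assoc, lift_fst, lift_snd, lift_fst_assoc, lift_snd_assoc] at h2
      exact h2
    refine ⟨⟨φ₀, (mem_eqvHom_iff φ₀).mpr hpts⟩, ?_⟩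
    change lift (toUnit T ≫ η[B]) (𝟙 T) ≫ φ₀ = x
    have h1 : toUnit T ≫ η[B] = (toUnit T ≫ η[G]) ≫ i := by
      rw [Category.assoc, IsMonHom.one_hom]
    rw [h1, horb, Category.id_comp, ← Hom.one_def, a.lift_one_act]

section Fix

variable (i : G ⟶ B) [IsMonHom i] (κ : K ⟶ G) [IsMonHom κ] (a : MonAct G X)

theorem evalAt_fixed (hκ : κ ≫ i = toUnit K ≫ η[B]) (T : (Over S)ᵒᵖ)
    (φ : (eqvHom ((regular B).restrict i) a).obj T) (T' : Over S) (t : T' ⟶ unop T) (k : T' ⟶ K) :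
    lift k (t ≫ (eqvHom.evalAt ((regular B).restrict i) a η[B]).app T φ) ≫ (a.restrict κ).act =
      t ≫ (eqvHom.evalAt ((regular B).restrict i) a η[B]).app T φ := by
  have hφ := (mem_eqvHom_iff φ.1).mp φ.2
  have hx : t ≫ (eqvHom.evalAt ((regular B).restrict i) a η[B]).app T φ =
      lift (toUnit T' ≫ η[B]) t ≫ φ.1 := by
    change t ≫ lift (toUnit (unop T) ≫ η[B]) (𝟙 (unop T)) ≫ φ.1 = _
    rw [← Category.assoc t, comp_lift, Category.comp_id, ← Category.assoc t,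
      toUnit_unique (t ≫ toUnit (unop T)) (toUnit T')]
  rw [hx, lift_restrict_act, ← hφ T' (k ≫ κ) (toUnit T' ≫ η[B]) t]
  congr 2
  rw [lift_restrict_act, lift_regular_act, Category.assoc, hκ, ← Category.assoc,
    toUnit_unique (k ≫ toUnit K) (toUnit T'), ← Hom.one_def, _root_.one_mul]

/-- evaluation at the unit, as a map to the fixed points of the kernel. -/
noncomputable def toFix (hκ : κ ≫ i = toUnit K ≫ η[B]) :
    eqvHom ((regular B).restrict i) a ⟶ fixedPsh (a.restrict κ) where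
  app T := TypeCat.ofHom fun φ =>
    ⟨(eqvHom.evalAt ((regular B).restrict i) a η[B]).app T φ,
      fun T' t k => evalAt_fixed i κ a hκ T φ T' t k⟩
  naturality T T' t := ConcreteCategory.hom_ext _ _ fun φ => Subtype.ext (by
    change lift (toUnit (unop T') ≫ η[B]) (𝟙 (unop T')) ≫ (B ◁ t.unop) ≫ φ.1 =
      t.unop ≫ lift (toUnit (unop T) ≫ η[B]) (𝟙 (unop T)) ≫ φ.1
    rw [lift_whiskerLeft_assoc, ← Category.assoc t.unop, comp_lift, Category.comp_id,
      Category.id_comp, ← Category.assoc t.unop,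
      toUnit_unique (t.unop ≫ toUnit (unop T)) (toUnit (unop T'))])

theorem toFix_ι (hκ : κ ≫ i = toUnit K ≫ η[B]) :
    toFix i κ a hκ ≫ fixedPshι _ = eqvHom.evalAt ((regular B).restrict i) a η[B] := by
  ext T φ
  rfl

set_option maxHeartbeats 400000 in
theorem isIso_toFix (hκ : κ ≫ i = toUnit K ≫ η[B])
    (hepi : ∀ T : Over S, Epi (i ▷ T))
    (hdesc : ∀ (T : Over S) (ψ : G ⊗ T ⟶ X),
      (∀ (T' : Over S) (g₁ g₂ : T' ⟶ G) (t : T' ⟶ T), g₁ ≫ i = g₂ ≫ i →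
        lift g₁ t ≫ ψ = lift g₂ t ≫ ψ) → ∃ φ : B ⊗ T ⟶ X, (i ▷ T) ≫ φ = ψ)
    (hker : ∀ (T' : Over S) (g₁ g₂ : T' ⟶ G), g₁ ≫ i = g₂ ≫ i →
      ∃ k : T' ⟶ K, g₂ = g₁ * (k ≫ κ)) :
    IsIso (toFix i κ a hκ) := by
  apply (config := {allowSynthFailures := true}) NatIso.isIso_of_isIso_app
  intro T
  rw [isIso_iff_bijective]
  constructor
  · intro φ ψ h
    apply evalAt_injective' i hepi a (unop T)
    exact congrArg Subtype.val h
  · intro x
    have hx := x.2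
    obtain ⟨φ₀, hφ₀⟩ := hdesc (unop T) ((G ◁ x.1) ≫ a.act) (by
      intro T' g₁ g₂ t h
      obtain ⟨k, rfl⟩ := hker T' g₁ g₂ h
      rw [lift_whiskerLeft_assoc, lift_whiskerLeft_assoc, a.lift_mul_act, ← lift_restrict_act,
        hx T' t k])
    obtain ⟨φ, hφ⟩ := (mem_range_evalAt_iff' i hepi a (unop T) x.1).mpr ⟨φ₀, hφ₀⟩
    exact ⟨φ, Subtype.ext hφ⟩

theorem exists_iso (hκ : κ ≫ i = toUnit K ≫ η[B])
    (hepi : ∀ T : Over S, Epi (i ▷ T))
    (hdesc : ∀ (T : Over S) (ψ : G ⊗ T ⟶ X),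
      (∀ (T' : Over S) (g₁ g₂ : T' ⟶ G) (t : T' ⟶ T), g₁ ≫ i = g₂ ≫ i →
        lift g₁ t ≫ ψ = lift g₂ t ≫ ψ) → ∃ φ : B ⊗ T ⟶ X, (i ▷ T) ≫ φ = ψ)
    (hker : ∀ (T' : Over S) (g₁ g₂ : T' ⟶ G), g₁ ≫ i = g₂ ≫ i →
      ∃ k : T' ⟶ K, g₂ = g₁ * (k ≫ κ)) :
    ∃ e : eqvHom ((regular B).restrict i) a ≅ fixedPsh (a.restrict κ),
      e.hom ≫ fixedPshι _ = eqvHom.evalAt ((regular B).restrict i) a η[B] := by
  haveI := isIso_toFix i κ a hκ hepi hdesc hker
  exact ⟨asIso (toFix i κ a hκ), toFix_ι i κ a hκ⟩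

end Fix

end Groth.Agent.H91.FixAbs
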