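import Groth.Agent.H91.FixGeo
import Groth.Agent.H26.Fix_KER
import Groth.Agent.H91.FixZero
import Groth.Agent.H91.FixFFG
import Groth.Agent.H26.Fix_FFA

/-! The attractor of a subgroup magnet is the fixed-point functor of the dual quotient (helper91). -/

set_option autoImplicit false
universe u
open CategoryTheory Limits AlgebraicGeometry MonoidalCategory CartesianMonoidalCategory MonObj Opposite
open Magnet Magnet.MonAct
open Groth.Agent.H91.MagnetDense Groth.Agent.H91.FixAbs Groth.Agent.H91.FixGeo
open Groth.Agent.H26.Fix_KER Groth.Agent.H91.FixZero Groth.Agent.H91.FixFFG Groth.Agent.H26.Fix_FFA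

namespace Groth.Agent.H91.FixMain

theorem mk_comp_subtype (M : Type) [AddCommGroup M] (Z : AddSubgroup M) :
    (QuotientAddGroup.mk' Z).comp Z.toAddSubmonoid.subtype = 0 := by
  ext z
  exact (QuotientAddGroup.eq_zero_iff _).2 z.2

set_option maxHeartbeats 400000 in
theorem main (S : Scheme.{u}) (M : Type) [AddCommGroup M]
    (Z : AddSubgroup M) (X : Over S) (a : AlgGrp.Action (Red.DS S M) X) :
    ∃ e : Magnet.attr (Magnet.MonAct.ofAction a) Z.toAddSubmonoid ≅
        Magnet.MonAct.fixedPsh ((Magnet.MonAct.ofAction a).restrict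
          (Magnet.AMonS.map S (QuotientAddGroup.mk' Z))),
      e.hom ≫ Magnet.MonAct.fixedPshι _ =
        Magnet.attrToX (Magnet.MonAct.ofAction a) Z.toAddSubmonoid := by
  have hff := faithfullyFlat_phi_subgroup.{u} M Z
  have hEE : ∀ T : Over S, EffectiveEpi (AMonS.map S Z.toAddSubmonoid.subtype ▷ T).left := by
    intro T
    obtain ⟨h1, h2⟩ := ff_whisker (S := S) Z.toAddSubmonoid.subtype hff T
    haveI := isAffineHom_whisker S Z.toAddSubmonoid.subtype T
    infer_instance
  have hκ : AMonS.map S (QuotientAddGroup.mk' Z) ≫ AMonS.map S Z.toAddSubmonoid.subtype =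
      toUnit (AMonS S (M ⧸ Z)) ≫ η[AMonS S Z.toAddSubmonoid] := by
    rw [← AMonS.map_comp, mk_comp_subtype, AMonS_map_zero]
  exact exists_iso (AMonS.map S Z.toAddSubmonoid.subtype) (AMonS.map S (QuotientAddGroup.mk' Z))
    (Magnet.MonAct.ofAction a) hκ
    (fun T => by haveI := hEE T; exact epi_of_effectiveEpi_left _)
    (fun T ψ h => by haveI := hEE T; exact hdesc_whisker _ T ψ h)
    (fun T' g₁ g₂ h => exists_ker_pt Z g₁ g₂ h)

end Groth.Agent.H91.FixMain
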