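import Mathlib
import Groth.Agent.H91.A1Pts

/-!
# Agreement on a neighbourhood of the zero section (helper91)
-/

set_option autoImplicit false
universe u
open CategoryTheory Limits AlgebraicGeometry MonoidalCategory CartesianMonoidalCategory MonObj
open Magnet Magnet.MonAct
open scoped TensorProduct
open Groth.Agent.H91.MagnetDense Groth.Agent.H91.A1Ring Groth.Agent.H91.AMonPt
open Groth.Agent.H91.A1Pts

namespace Groth.Agent.H91.FormalInj

attribute [local instance 10] algZ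

variable {S : Scheme.{u}} {B : Type u} [CommRing B] {t : Spec (CommRingCat.of B) ⟶ S}
variable {T : Over S}

theorem ptM_pow (m : T ⟶ AMonS S N1) (n : ℕ) : ptM (m ^ (n + 1)) t0 = ptM m t0 ^ (n + 1) := by
  induction n with
  | zero => rw [zero_add, pow_one, pow_one]
  | succ n ih =>
    rw [pow_succ m (n + 1), pow_succ (ptM m t0) (n + 1), ← ih]
    exact ptM_mul_single _ _ _

/-- nilpotent coordinate gives a nilpotent element of the monoid of points. -/
theorem nilp_of (m : T ⟶ AMonS S N1) (n : ℕ) (hn : ptM m t0 ^ (n + 1) = 0)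
    (m' : T ⟶ AMonS S N1) : m ^ (n + 1) * m' = m ^ (n + 1) := by
  apply ptM_ext
  apply A1Ring.hom_ext
  have h1 : ptM (m ^ (n + 1) * m') t0 = ptM (m ^ (n + 1)) t0 * ptM m' t0 := ptM_mul_single _ _ _
  rw [h1, ptM_pow, hn, zero_mul]

/-- the hypothesis of the statement in terms of points of `PB t`. -/
theorem hloc_of {X : Over S} (δ₁ δ₂ : PB t ⟶ X)
    (h : ∀ (T : Over S) (m : T ⟶ AMonS S N1) (t' : T ⟶ Over.mk t),
      (∃ n : ℕ, ∀ m' : T ⟶ AMonS S N1, m ^ (n + 1) * m' = m ^ (n + 1)) →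
      lift m t' ≫ δ₁ = lift m t' ≫ δ₂)
    (T : Over S) (τ : T ⟶ PB t) (n : ℕ) (hn : evP τ tC ^ (n + 1) = 0) : τ ≫ δ₁ = τ ≫ δ₂ := by
  have hτ : τ = lift (τ ≫ fst (AMonS S N1) (Over.mk t)) (τ ≫ snd (AMonS S N1) (Over.mk t)) := by
    apply CartesianMonoidalCategory.hom_ext <;> simp
  rw [hτ]
  apply h
  refine ⟨n, fun m' => nilp_of _ n ?_ m'⟩
  rw [← evP_tC]
  exact hn

section Agree

variable {X : Over S} (δ₁ δ₂ : PB t ⟶ X)
  (hloc : ∀ (T : Over S) (τ : T ⟶ PB t) (n : ℕ), evP τ tC ^ (n + 1) = 0 → τ ≫ δ₁ = τ ≫ δ₂)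
  (U : X.left.Opens) (hU : IsAffineOpen U) (g₀ : C B)
  (hg₁ : ∀ z : Spec (CommRingCat.of (C B)), g₀ ∉ PrimeSpectrum.asIdeal z →
    ((eB t).hom ≫ δ₁.left) z ∈ U)
  (hg₂ : ∀ z : Spec (CommRingCat.of (C B)), g₀ ∉ PrimeSpectrum.asIdeal z →
    ((eB t).hom ≫ δ₂.left) z ∈ U)

/-- the localisation. -/
abbrev C' (g₀ : C B) : Type u := Localization.Away (g₀ * (incl (ε₀ g₀) : C B))

/-- the localisation map. -/
noncomputable def locC (g₀ : C B) : CommRingCat.of (C B) ⟶ CommRingCat.of (C' g₀) :=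
  CommRingCat.ofHom (algebraMap (C B) (C' g₀))

/-- the localisation map as a ring hom. -/
noncomputable abbrev loc (g₀ : C B) : C B →+* C' g₀ := (locC g₀).hom

theorem isUnit_loc (g₀ : C B) : IsUnit (loc g₀ (g₀ * (incl (ε₀ g₀) : C B))) := by
  exact IsLocalization.Away.algebraMap_isUnit (g₀ * (incl (ε₀ g₀) : C B))

/-- the open immersion `Spec C' → PB t`. -/
noncomputable def w' (t : Spec (CommRingCat.of B) ⟶ S) (g₀ : C B) :
    Spec (CommRingCat.of (C' g₀)) ⟶ (PB t).left :=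
  Spec.map (locC g₀) ≫ (eB t).hom

theorem not_mem_of_w' (z' : Spec (CommRingCat.of (C' g₀))) :
    g₀ ∉ PrimeSpectrum.asIdeal
      ((Spec.map (locC g₀)) z') := by
  intro hmem
  have h1 : loc g₀ g₀ ∈ PrimeSpectrum.asIdeal z' := hmem
  have hunit := isUnit_loc g₀
  rw [map_mul] at hunit
  have h2 : loc g₀ g₀ * loc g₀ (incl (ε₀ g₀) : C B) ∈ PrimeSpectrum.asIdeal z' :=
    Ideal.mul_mem_right _ _ h1
  exact (PrimeSpectrum.isPrime z').ne_top (Ideal.eq_top_of_isUnit_mem _ h2 hunit)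

include hloc hU hg₁ hg₂ in
theorem agree_on_W : w' t g₀ ≫ δ₁.left = w' t g₀ ≫ δ₂.left := by
  have hr₁ : Set.range (w' t g₀ ≫ δ₁.left) ⊆ Set.range U.ι := by
    rw [Scheme.Opens.range_ι]
    rintro _ ⟨z', rfl⟩
    exact hg₁ _ (not_mem_of_w' g₀ z')
  have hr₂ : Set.range (w' t g₀ ≫ δ₂.left) ⊆ Set.range U.ι := by
    rw [Scheme.Opens.range_ι]
    rintro _ ⟨z', rfl⟩
    exact hg₂ _ (not_mem_of_w' g₀ z')
  let ρ₁ := IsOpenImmersion.lift U.ι (w' t g₀ ≫ δ₁.left) hr₁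
  let ρ₂ := IsOpenImmersion.lift U.ι (w' t g₀ ≫ δ₂.left) hr₂
  have hρ₁ : ρ₁ ≫ U.ι = w' t g₀ ≫ δ₁.left := IsOpenImmersion.lift_fac _ _ _
  have hρ₂ : ρ₂ ≫ U.ι = w' t g₀ ≫ δ₂.left := IsOpenImmersion.lift_fac _ _ _
  suffices hρ : ρ₁ = ρ₂ by rw [← hρ₁, ← hρ₂, hρ]
  haveI : IsAffine U.toScheme := hU
  apply ext_of_isAffine
  apply CommRingCat.hom_ext
  apply RingHom.ext
  intro s
  -- the difference
  obtain ⟨ν, hν⟩ := exists_decomp g₀
  have key : ∀ n : ℕ, Spec.map (CommRingCat.ofHom (Ideal.Quotient.mk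
      (Ideal.span {loc g₀ (tC : C B) ^ (n + 1)}))) ≫ ρ₁ =
      Spec.map (CommRingCat.ofHom (Ideal.Quotient.mk
      (Ideal.span {loc g₀ (tC : C B) ^ (n + 1)}))) ≫ ρ₂ := by
    intro n
    rw [← cancel_mono U.ι, Category.assoc, Category.assoc, hρ₁, hρ₂]
    let ev : C B →+* (C' g₀ ⧸ Ideal.span {loc g₀ (tC : C B) ^ (n + 1)}) :=
      (Ideal.Quotient.mk _).comp (loc g₀)
    have hev0 : ev tC ^ (n + 1) = 0 := by
      change (Ideal.Quotient.mk _ (loc g₀ (tC : C B))) ^ (n + 1) = 0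
      exact (map_pow _ _ _).symm.trans
        (Ideal.Quotient.eq_zero_iff_mem.mpr (Ideal.mem_span_singleton_self _))
    have hev : evP (τev t ev) tC ^ (n + 1) = 0 := by
      rw [evP_τev]
      exact (map_pow _ _ _).symm.trans ((congrArg _ hev0).trans (map_zero _))
    have h1 := hloc _ (τev t ev) n hev
    have h2 : (τev t ev).left ≫ δ₁.left = (τev t ev).left ≫ δ₂.left := by
      rw [← Over.comp_left, ← Over.comp_left, h1]
    have h3 : (τev t ev).left = Spec.map (CommRingCat.ofHom (Ideal.Quotient.mk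
        (Ideal.span {loc g₀ (tC : C B) ^ (n + 1)}))) ≫ w' t g₀ := by
      change ζ t ev = _
      rw [ζ, w', ← Category.assoc, ← Spec.map_comp]
      rfl
    rw [h3, Category.assoc, Category.assoc] at h2
    exact h2
  have hx : ∀ n : ℕ, ∃ x' : C' g₀,
      (Scheme.ΓSpecIso (CommRingCat.of (C' g₀))).hom.hom (ρ₁.appTop.hom s - ρ₂.appTop.hom s) =
        loc g₀ (tC : C B) ^ n * x' := by
    intro n
    cases n with
    | zero => exact ⟨_, by rw [pow_zero, _root_.one_mul]⟩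
    | succ n =>
      have h1 := key n
      have h2 : (Spec.map (CommRingCat.ofHom (Ideal.Quotient.mk
          (Ideal.span {loc g₀ (tC : C B) ^ (n + 1)})))).appTop.hom
            (ρ₁.appTop.hom s - ρ₂.appTop.hom s) = 0 := by
        rw [map_sub, sub_eq_zero]
        have e1 := congrArg (fun f => f.appTop.hom s) h1
        simpa [Scheme.Hom.comp_appTop] using e1
      have nat := Scheme.ΓSpecIso_naturality (CommRingCat.ofHom (Ideal.Quotient.mk
          (Ideal.span {loc g₀ (tC : C B) ^ (n + 1)})))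
      have h3 := congrArg (fun f => f.hom (ρ₁.appTop.hom s - ρ₂.appTop.hom s)) nat
      simp only [CommRingCat.hom_comp, RingHom.comp_apply] at h3
      rw [h2, map_zero] at h3
      have h4 : (Scheme.ΓSpecIso (CommRingCat.of (C' g₀))).hom.hom
          (ρ₁.appTop.hom s - ρ₂.appTop.hom s) ∈
          Ideal.span {loc g₀ (tC : C B) ^ (n + 1)} :=
        Ideal.Quotient.eq_zero_iff_mem.mp h3.symm
      obtain ⟨x', hx'⟩ := Ideal.mem_span_singleton'.mp h4
      exact ⟨x', by rw [← hx', mul_comm]⟩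
  have hzero := sep_abs (tC : C B) g₀ (incl (ε₀ g₀)) ν hν (fun c => sepH (ε₀ g₀) c) (C' g₀) _ hx
  have hinj : Function.Injective (Scheme.ΓSpecIso (CommRingCat.of (C' g₀))).hom.hom :=
    (ConcreteCategory.bijective_of_isIso (Scheme.ΓSpecIso (CommRingCat.of (C' g₀))).hom).1
  have := hinj (hzero.trans (map_zero _).symm)
  exact sub_eq_zero.mp this

end Agree

end Groth.Agent.H91.FormalInj
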