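import Mathlib
import Groth.Agent.H91.FormalInj1
import Groth.Agent.H91.A1Flat

/-!
# The flat family member through a point (helper91)
-/

set_option autoImplicit false
universe u
open CategoryTheory Limits AlgebraicGeometry MonoidalCategory CartesianMonoidalCategory MonObj
open Magnet Magnet.MonAct Opposite
open scoped TensorProduct
open Groth.Agent.H91.MagnetDense Groth.Agent.H91.A1Ring Groth.Agent.H91.AMonPt
open Groth.Agent.H91.A1Pts

namespace Groth.Agent.H91.FormalInj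

attribute [local instance 10] algZ

variable {S : Scheme.{u}} {B : Type u} [CommRing B] (t : Spec (CommRingCat.of B) ⟶ S) (g₀ : C B)

/-- the open piece as an object over `S`. -/
noncomputable abbrev W0 : Over S := Over.mk (w' t g₀ ≫ (PB t).hom)

/-- its inclusion. -/
noncomputable def wO : W0 t g₀ ⟶ PB t := Over.homMk (w' t g₀) rfl

instance : IsOpenImmersion (w' t g₀) := by
  unfold w' locC
  infer_instance

instance : IsOpenImmersion (wO t g₀).left := by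
  change IsOpenImmersion (w' t g₀)
  infer_instance

section Equiv

variable {t g₀}
variable {X : Over S} (a : MonAct (AMonS S ℤ) X)

theorem agree_act (δ₁ δ₂ : (attr a N1).obj (op (Over.mk t)))
    (hW : wO t g₀ ≫ δ₁.1 = wO t g₀ ≫ δ₂.1) :
    ((AMonS S ℤ ◁ wO t g₀) ≫ (ρP t).act) ≫ δ₁.1 = ((AMonS S ℤ ◁ wO t g₀) ≫ (ρP t).act) ≫ δ₂.1 := by
  have h1 : (ρP t).act ≫ δ₁.1 = (AMonS S ℤ ◁ δ₁.1) ≫ a.act := δ₁.2
  have h2 : (ρP t).act ≫ δ₂.1 = (AMonS S ℤ ◁ δ₂.1) ≫ a.act := δ₂.2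
  rw [Category.assoc, Category.assoc, h1, h2, ← MonoidalCategory.whiskerLeft_comp_assoc,
    ← MonoidalCategory.whiskerLeft_comp_assoc, hW]

end Equiv

section Points

variable {t g₀}
variable {K : Type u} [Field K]

/-- lifting a point into the open piece. -/
theorem exists_lift (ev₁ ev' : C B →+* K) (h : ev₁.comp incl = ev'.comp incl)
    (hg : ev' g₀ ≠ 0) (hb : ev' (incl (ε₀ g₀)) ≠ 0) :
    ∃ ω : Tev t ev₁ ⟶ W0 t g₀, ω ≫ wO t g₀ = τev' t ev₁ ev' h := by
  let evC : CommRingCat.of (C B) ⟶ CommRingCat.of K := CommRingCat.ofHom ev'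
  have hunit : IsUnit (evC.hom (g₀ * (incl (ε₀ g₀) : C B))) := by
    change IsUnit (ev' (g₀ * (incl (ε₀ g₀) : C B)))
    rw [map_mul]
    exact (mul_ne_zero hg hb).isUnit
  let evl : C' g₀ →+* K := IsLocalization.Away.lift (g₀ * (incl (ε₀ g₀) : C B)) hunit
  have hevl : locC g₀ ≫ CommRingCat.ofHom evl = evC := by
    apply CommRingCat.hom_ext
    exact IsLocalization.Away.lift_comp (g₀ * (incl (ε₀ g₀) : C B)) hunit
  have hζ : Spec.map (CommRingCat.ofHom evl) ≫ w' t g₀ = ζ t ev' := by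
    rw [w', ← Category.assoc, ← Spec.map_comp, hevl]
    rfl
  refine ⟨Over.homMk (Spec.map (CommRingCat.ofHom evl)) ?_, ?_⟩
  · change Spec.map (CommRingCat.ofHom evl) ≫ w' t g₀ ≫ (PB t).hom = ζ t ev₁ ≫ (PB t).hom
    rw [← Category.assoc, hζ]
    exact (ζ_hom_eq t ev₁ ev' h).symm
  · apply Over.OverMorphism.ext
    exact hζ

variable (t g₀) in
/-- the flat morphism `D(ℤ) × W₀ → A(ℕ·1) × Spec B`. -/
noncomputable abbrev mW : AMonS S ℤ ⊗ W0 t g₀ ⟶ PB t := (AMonS S ℤ ◁ wO t g₀) ≫ (ρP t).act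

theorem mem_range_of_point (ev₁ : C B →+* K) (q : Tev t ev₁ ⟶ AMonS S ℤ ⊗ W0 t g₀)
    (hq : q ≫ mW t g₀ = τev t ev₁) (pt : Spec (CommRingCat.of K)) :
    ζ t ev₁ pt ∈ Set.range (mW t g₀).left := by
  refine ⟨q.left pt, ?_⟩
  have : q.left ≫ (mW t g₀).left = ζ t ev₁ := by
    rw [← Over.comp_left, hq]
    rfl
  rw [← Scheme.Hom.comp_apply, this]

/-- case `λ = 0`. -/
theorem range_case0 (ev₀ : C B →+* K) (h0 : ev₀ tC = 0) (hb : ev₀ (incl (ε₀ g₀)) ≠ 0)
    (pt : Spec (CommRingCat.of K)) : ζ t ev₀ pt ∈ Set.range (mW t g₀).left := by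
  obtain ⟨ν, hν⟩ := exists_decomp g₀
  have hg : ev₀ g₀ ≠ 0 := by
    have h1 : ev₀ g₀ = ev₀ (incl (ε₀ g₀) + tC * ν) := congrArg ev₀ hν
    rw [h1, map_add, map_mul, h0, zero_mul, add_zero]
    exact hb
  obtain ⟨ω, hω⟩ := exists_lift (t := t) (g₀ := g₀) ev₀ ev₀ rfl hg hb
  refine mem_range_of_point ev₀ (lift 1 ω) ?_ pt
  rw [lift_whiskerLeft_assoc, (ρP t).lift_one_act, hω]
  rfl

/-- case `λ ≠ 0`. -/
theorem range_case1 (ev₀ : C B →+* K) (h0 : ev₀ tC ≠ 0) (hb : ev₀ (incl (ε₀ g₀)) ≠ 0)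
    (pt : Spec (CommRingCat.of (AlgebraicClosure K))) :
    ζ t ((algebraMap K (AlgebraicClosure K)).comp ev₀) pt ∈ Set.range (mW t g₀).left := by
  let ik : K →+* AlgebraicClosure K := algebraMap K (AlgebraicClosure K)
  let qp : Polynomial K := (Ψ g₀).map (ev₀.comp incl)
  have hq0 : qp.coeff 0 ≠ 0 := by
    rw [Polynomial.coeff_map]
    exact hb
  obtain ⟨c, hc0, hc⟩ := exists_nonroot qp hq0
  let ev₁ : C B →+* AlgebraicClosure K := ik.comp ev₀
  let ev' : C B →+* AlgebraicClosure K := mkEv (ik.comp (ev₀.comp incl)) c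
  have hincl : ev₁.comp incl = ev'.comp incl := by
    apply RingHom.ext
    intro b
    exact (mkEv_incl (ik.comp (ev₀.comp incl)) c b).symm
  have hg : ev' g₀ ≠ 0 := by
    have h1 : ev' g₀ = Polynomial.eval₂ ik c qp := by
      change Polynomial.eval₂ (ik.comp (ev₀.comp incl)) c (Ψ g₀) = _
      rw [Polynomial.eval₂_map]
    rw [h1]
    exact hc
  have hb' : ev' (incl (ε₀ g₀)) ≠ 0 := by
    rw [mkEv_incl]
    exact (map_ne_zero ik).mpr hb
  obtain ⟨ω, hω⟩ := exists_lift (t := t) (g₀ := g₀) ev₁ ev' hincl hg hb'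
  -- the unit
  have hu0 : ik (ev₀ tC) / c ≠ 0 := div_ne_zero ((map_ne_zero ik).mpr h0) hc0
  let u : (AlgebraicClosure K)ˣ := Units.mk0 _ hu0
  let uΓ : (Γ((Tev t ev₁).left, ⊤))ˣ :=
    Units.map (Scheme.ΓSpecIso (CommRingCat.of (AlgebraicClosure K))).inv.hom.toMonoidHom u
  obtain ⟨gpt, hgpt⟩ := exists_gpt (S := S) (T := Tev t ev₁) uΓ
  refine mem_range_of_point ev₁ (lift gpt ω) ?_ pt
  rw [lift_whiskerLeft_assoc, hω]
  apply pt_ext
  · rw [evP_act_tC, hgpt, evP_homMk, evP_τev, mkEv_tC]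
    change (Scheme.ΓSpecIso (CommRingCat.of (AlgebraicClosure K))).inv.hom (ik (ev₀ tC) / c) *
      (Scheme.ΓSpecIso (CommRingCat.of (AlgebraicClosure K))).inv.hom c =
      (Scheme.ΓSpecIso (CommRingCat.of (AlgebraicClosure K))).inv.hom (ik (ev₀ tC))
    rw [← map_mul, div_mul_cancel₀ _ hc0]
  · rw [act_snd]
    apply Over.OverMorphism.ext
    change ζ t ev' ≫ (snd (AMonS S N1) (Over.mk t)).left = ζ t ev₁ ≫ (snd (AMonS S N1) (Over.mk t)).left
    rw [ζ, ζ, Category.assoc, Category.assoc, eB_snd, ← Spec.map_comp, ← Spec.map_comp]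
    congr 1
    apply CommRingCat.hom_ext
    exact hincl.symm

end Points

end Groth.Agent.H91.FormalInj
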