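import Groth.Agent.H91.UnitsDense2

/-!
# Equivariant maps out of a monoid with zero into an open stable subscheme (helper91)
-/

open CategoryTheory Limits AlgebraicGeometry MonoidalCategory CartesianMonoidalCategory MonObj Opposite
open Magnet Magnet.MonAct

universe u

namespace Groth.Agent.H91.UnitsDense

theorem mem_range_whiskerLeft {S : Scheme.{u}} (G : Over S) {Y Y' : Over S} (f : Y ⟶ Y')
    (q : (G ⊗ Y').left) (hq : (pullback.snd G.hom Y'.hom) q ∈ Set.range f.left) :
    q ∈ Set.range (G ◁ f).left := by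
  rw [Over.whiskerLeft_left, Scheme.Pullback.range_map]
  refine ⟨⟨(pullback.fst G.hom Y'.hom) q, rfl⟩, hq⟩

section

variable {S : Scheme.{u}} (M G X U : Over S) [MonObj M] [MonObj G] (i : G ⟶ M) [IsMonHom i]

/-- The preimage of a stable open under an equivariant map is stable. -/
theorem stable_preimage (aX : MonAct G X) (aU : MonAct G U) (j : U ⟶ X) [IsOpenImmersion j.left]
    (hj : IsEquivariant aU aX j) (T : Over S) (φ : M ⊗ T ⟶ X)
    (hφ : IsEquivariant (((regular M).restrict i).prod (trivial G T)) aX φ) :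
    (snd G (M ⊗ T)).left ⁻¹ᵁ (φ.left ⁻¹ᵁ j.left.opensRange) ≤
      ((((regular M).restrict i).prod (trivial G T)).act).left ⁻¹ᵁ
        (φ.left ⁻¹ᵁ j.left.opensRange) := by
  intro p hp
  have hp' : φ.left ((snd G (M ⊗ T)).left p) ∈ Set.range j.left := hp
  change φ.left (((((regular M).restrict i).prod (trivial G T)).act).left p) ∈ Set.range j.left
  have e1 : φ.left (((((regular M).restrict i).prod (trivial G T)).act).left p) =
      aX.act.left ((G ◁ φ).left p) := by
    rw [← Scheme.Hom.comp_apply, ← Scheme.Hom.comp_apply, ← Over.comp_left, ← Over.comp_left]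
    unfold IsEquivariant at hφ
    rw [hφ]
  have e2 : (pullback.snd G.hom X.hom) ((G ◁ φ).left p) = φ.left ((snd G (M ⊗ T)).left p) := by
    rw [← Scheme.Hom.comp_apply, ← Scheme.Hom.comp_apply, Over.whiskerLeft_left_snd, Over.snd_left]
  obtain ⟨q', hq'⟩ := mem_range_whiskerLeft G j ((G ◁ φ).left p) (by rw [e2]; exact hp')
  rw [e1, ← hq', ← Scheme.Hom.comp_apply, ← Over.comp_left]
  unfold IsEquivariant at hj
  rw [← hj, Over.comp_left, Scheme.Hom.comp_apply]
  exact ⟨_, rfl⟩

end

end Groth.Agent.H91.UnitsDense
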