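import Mathlib
import Groth.Agent.H91.FormalInj2
import Groth.Agent.H91.UnitsDense3

/-!
# Injectivity of `D_X → formal D_X` (helper91)
-/

set_option autoImplicit false
universe u
open CategoryTheory Limits AlgebraicGeometry MonoidalCategory CartesianMonoidalCategory MonObj
open Magnet Magnet.MonAct Opposite
open scoped TensorProduct
open Groth.Agent.H91.MagnetDense Groth.Agent.H91.A1Ring Groth.Agent.H91.AMonPt
open Groth.Agent.H91.A1Pts

namespace Groth.Agent.H91.FormalInj

attribute [local instance 10] algZ

variable {k : Type u} [Field k]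

theorem flat_mW {B : Type u} [CommRing B] (t : Spec (CommRingCat.of B) ⟶ Spec (CommRingCat.of k))
    (g₀ : C B) : Flat (mW t g₀).left := by
  have h1 : Flat (ρP t).act.left :=
    A1Flat.flat_act (G := Red.DS (Spec (CommRingCat.of k)) ℤ) (ρP t)
  have h2 : IsOpenImmersion (AMonS (Spec (CommRingCat.of k)) ℤ ◁ wO t g₀).left := by
    rw [Over.whiskerLeft_left]
    infer_instance
  rw [Over.comp_left]
  infer_instance

theorem asIdeal_of_field {K : Type u} [Field K] {R : Type u} [CommRing R] (ev : R →+* K)
    (pt : Spec (CommRingCat.of K)) (c : R) :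
    c ∈ PrimeSpectrum.asIdeal ((Spec.map (CommRingCat.ofHom ev)) pt) ↔ ev c = 0 := by
  change ev c ∈ PrimeSpectrum.asIdeal pt ↔ _
  have : PrimeSpectrum.asIdeal pt = ⊥ := by
    haveI := PrimeSpectrum.isPrime pt
    exact Ideal.eq_bot_of_prime _
  rw [this, Ideal.mem_bot]

end Groth.Agent.H91.FormalInj
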