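import Mathlib
import Groth.Agent.H91.FormalInj3

/-!
# Injectivity of `D_X → formal D_X`: the local member (helper91)
-/

set_option autoImplicit false
universe u
open CategoryTheory Limits AlgebraicGeometry MonoidalCategory CartesianMonoidalCategory MonObj
open Magnet Magnet.MonAct Opposite
open scoped TensorProduct
open Groth.Agent.H91.MagnetDense Groth.Agent.H91.A1Ring Groth.Agent.H91.AMonPt
open Groth.Agent.H91.A1Pts

namespace Groth.Agent.H91.FormalInj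

attribute [local instance 10] algZ

variable {k : Type u} [Field k]

/-- projection to the zero section, on ring homs. -/
noncomputable def evz {B : Type u} [CommRing B] {K : Type u} [CommRing K] (ev₀ : C B →+* K) :
    C B →+* K := ev₀.comp ((incl : B →+* C B).comp ε₀)

theorem evz_apply {B : Type u} [CommRing B] {K : Type u} [CommRing K] (ev₀ : C B →+* K) (c : C B) :
    evz ev₀ c = ev₀ (incl (ε₀ c)) := rfl

set_option maxHeartbeats 400000 in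
theorem local_member_aux {B : Type u} [CommRing B]
    (t : Spec (CommRingCat.of B) ⟶ Spec (CommRingCat.of k))
    {X : Over (Spec (CommRingCat.of k))} (a : MonAct (AMonS (Spec (CommRingCat.of k)) ℤ) X)
    (δ₁ δ₂ : (attr a N1).obj (op (Over.mk t)))
    (hloc : ∀ (T : Over (Spec (CommRingCat.of k))) (τ : T ⟶ PB t) (n : ℕ),
      evP τ tC ^ (n + 1) = 0 → τ ≫ δ₁.1 = τ ≫ δ₂.1)
    (K : Type u) [Field K] (ev₀ : C B →+* K) (pt₀ : Spec (CommRingCat.of K)) :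
    ∃ (Q : Scheme.{u}) (m : Q ⟶ (PB t).left), Flat m ∧ ζ t ev₀ pt₀ ∈ Set.range m ∧
      m ≫ δ₁.1.left = m ≫ δ₂.1.left := by
  have hevz : evP (τev t (evz ev₀)) tC ^ (0 + 1) = 0 := by
    rw [evP_τev, zero_add, pow_one, evz_apply, ε₀_tC, map_zero, map_zero, map_zero]
  have hz := hloc _ (τev t (evz ev₀)) 0 hevz
  have hz' : ζ t (evz ev₀) ≫ δ₁.1.left = ζ t (evz ev₀) ≫ δ₂.1.left :=
    congrArg (fun f => f.left) hz
  obtain ⟨z₀, hz₀def⟩ : ∃ z : Spec (CommRingCat.of (C B)),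
      z = (Spec.map (CommRingCat.ofHom (evz ev₀))) pt₀ := ⟨_, rfl⟩
  have e1 : ((eB t).hom ≫ δ₁.1.left) z₀ = (ζ t (evz ev₀) ≫ δ₁.1.left) pt₀ := by
    rw [hz₀def, ← Scheme.Hom.comp_apply, ζ, Category.assoc]
  have e2 : ((eB t).hom ≫ δ₂.1.left) z₀ = (ζ t (evz ev₀) ≫ δ₂.1.left) pt₀ := by
    rw [hz₀def, ← Scheme.Hom.comp_apply, ζ, Category.assoc]
  have hz₀ : ((eB t).hom ≫ δ₁.1.left) z₀ = ((eB t).hom ≫ δ₂.1.left) z₀ := by
    rw [e1, e2, hz']
  obtain ⟨_, ⟨U, hU, rfl⟩, hxU, -⟩ := X.left.isBasis_affineOpens.exists_subset_of_mem_open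
    (Set.mem_univ (((eB t).hom ≫ δ₁.1.left) z₀)) isOpen_univ
  have hzΩ : z₀ ∈ (((eB t).hom ≫ δ₁.1.left) ⁻¹ᵁ U ⊓ ((eB t).hom ≫ δ₂.1.left) ⁻¹ᵁ U :
      (Spec (CommRingCat.of (C B))).Opens) :=
    ⟨hxU, by change ((eB t).hom ≫ δ₂.1.left) z₀ ∈ U; rw [← hz₀]; exact hxU⟩
  obtain ⟨_, ⟨g₀, rfl⟩, hzg, hsub⟩ :=
    PrimeSpectrum.isTopologicalBasis_basic_opens.exists_subset_of_mem_open hzΩ
      (((eB t).hom ≫ δ₁.1.left) ⁻¹ᵁ U ⊓ ((eB t).hom ≫ δ₂.1.left) ⁻¹ᵁ U :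
      (Spec (CommRingCat.of (C B))).Opens).isOpen
  have hzg'' : z₀ ∈ (PrimeSpectrum.basicOpen g₀ : Set (PrimeSpectrum (C B))) := hzg
  have hzg' : g₀ ∉ PrimeSpectrum.asIdeal z₀ := (PrimeSpectrum.mem_basicOpen g₀ z₀).mp hzg''
  have hbot : PrimeSpectrum.asIdeal pt₀ = ⊥ := by
    haveI := PrimeSpectrum.isPrime pt₀
    exact Ideal.eq_bot_of_prime _
  have hb' : evz ev₀ g₀ ≠ 0 := by
    intro hcon
    apply hzg'
    rw [hz₀def]
    change evz ev₀ g₀ ∈ PrimeSpectrum.asIdeal pt₀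
    rw [hbot]
    exact hcon
  have hb : ev₀ (incl (ε₀ g₀)) ≠ 0 := by
    rw [← evz_apply]
    exact hb'
  have hg₁ : ∀ z : Spec (CommRingCat.of (C B)), g₀ ∉ PrimeSpectrum.asIdeal z →
      ((eB t).hom ≫ δ₁.1.left) z ∈ U := fun z hz =>
    (hsub (SetLike.mem_coe.mpr ((PrimeSpectrum.mem_basicOpen g₀ z).mpr hz))).1
  have hg₂ : ∀ z : Spec (CommRingCat.of (C B)), g₀ ∉ PrimeSpectrum.asIdeal z →
      ((eB t).hom ≫ δ₂.1.left) z ∈ U := fun z hz =>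
    (hsub (SetLike.mem_coe.mpr ((PrimeSpectrum.mem_basicOpen g₀ z).mpr hz))).2
  have hW' := agree_on_W δ₁.1 δ₂.1 hloc U hU g₀ hg₁ hg₂
  have hW : wO t g₀ ≫ δ₁.1 = wO t g₀ ≫ δ₂.1 := Over.OverMorphism.ext hW'
  have hact := agree_act a δ₁ δ₂ hW
  refine ⟨_, (mW t g₀).left, flat_mW t g₀, ?_, congrArg (fun f => f.left) hact⟩
  by_cases h0 : ev₀ tC = 0
  · exact range_case0 (t := t) (g₀ := g₀) ev₀ h0 hb pt₀
  · obtain ⟨pt₁⟩ : Nonempty (Spec (CommRingCat.of (AlgebraicClosure K))) :=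
      ⟨(⟨⊥, Ideal.isPrime_bot⟩ : PrimeSpectrum (AlgebraicClosure K))⟩
    have := range_case1 (t := t) (g₀ := g₀) ev₀ h0 hb pt₁
    have e : ζ t ((algebraMap K (AlgebraicClosure K)).comp ev₀) =
        Spec.map (CommRingCat.ofHom (algebraMap K (AlgebraicClosure K))) ≫ ζ t ev₀ := by
      rw [ζ, ζ, ← Category.assoc, ← Spec.map_comp]
      rfl
    rw [e, Scheme.Hom.comp_apply] at this
    have hpt : (Spec.map (CommRingCat.ofHom (algebraMap K (AlgebraicClosure K)))) pt₁ = pt₀ :=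
      Subsingleton.elim (α := PrimeSpectrum K) _ _
    rw [hpt] at this
    exact this

end Groth.Agent.H91.FormalInj
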