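import Mathlib
import Groth.Agent.H91.FormalInj4
import Groth.Agent.H91.UnitsDense3

/-!
# Injectivity of `D_X → formal D_X` (helper91)
-/

set_option autoImplicit false
universe u
open CategoryTheory Limits AlgebraicGeometry MonoidalCategory CartesianMonoidalCategory MonObj
open Magnet Magnet.MonAct Opposite
open scoped TensorProduct
open Groth.Agent.H91.MagnetDense Groth.Agent.H91.A1Ring Groth.Agent.H91.AMonPt
open Groth.Agent.H91.A1Pts

namespace Groth.Agent.H91.FormalInj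

attribute [local instance 10] algZ

variable {k : Type u} [Field k]

set_option maxHeartbeats 400000 in
theorem local_member {B : Type u} [CommRing B] (t : Spec (CommRingCat.of B) ⟶ Spec (CommRingCat.of k))
    {X : Over (Spec (CommRingCat.of k))} (a : MonAct (AMonS (Spec (CommRingCat.of k)) ℤ) X)
    (δ₁ δ₂ : (attr a N1).obj (op (Over.mk t)))
    (h : ∀ (T : Over (Spec (CommRingCat.of k))) (m : T ⟶ AMonS (Spec (CommRingCat.of k)) N1)
      (t' : T ⟶ Over.mk t),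
      (∃ n : ℕ, ∀ m' : T ⟶ AMonS (Spec (CommRingCat.of k)) N1, m ^ (n + 1) * m' = m ^ (n + 1)) →
      lift m t' ≫ δ₁.1 = lift m t' ≫ δ₂.1)
    (p' : (PB t).left) :
    ∃ (Q : Scheme.{u}) (m : Q ⟶ (PB t).left), Flat m ∧ p' ∈ Set.range m ∧
      m ≫ δ₁.1.left = m ≫ δ₂.1.left := by
  have hloc := hloc_of δ₁.1 δ₂.1 h
  obtain ⟨φ₀, hφ₀⟩ : ∃ φ : CommRingCat.of (C B) ⟶ (PB t).left.residueField p',
      Spec.map φ = (PB t).left.fromSpecResidueField p' ≫ (eB t).inv :=
    ⟨Spec.preimage _, Spec.map_preimage _⟩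
  have hζ₀ : ζ t φ₀.hom = (PB t).left.fromSpecResidueField p' := by
    change Spec.map (CommRingCat.ofHom φ₀.hom) ≫ (eB t).hom = _
    have : CommRingCat.ofHom φ₀.hom = φ₀ := rfl
    rw [this, hφ₀, Category.assoc, Iso.inv_hom_id, Category.comp_id]
  obtain ⟨pt₀⟩ : Nonempty (Spec (CommRingCat.of ((PB t).left.residueField p'))) :=
    ⟨(⟨⊥, Ideal.isPrime_bot⟩ : PrimeSpectrum ((PB t).left.residueField p'))⟩
  obtain ⟨Q, m, hm1, hm2, hm3⟩ := local_member_aux t a δ₁ δ₂ hloc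
    ((PB t).left.residueField p') φ₀.hom pt₀
  refine ⟨Q, m, hm1, ?_, hm3⟩
  rw [hζ₀] at hm2
  have e : ((PB t).left.fromSpecResidueField p') pt₀ = p' :=
    Scheme.fromSpecResidueField_apply _ pt₀
  rw [e] at hm2
  exact hm2

set_option maxHeartbeats 400000 in
theorem main (X Y : Over (Spec (CommRingCat.of k)))
    (a : MonAct (AMonS (Spec (CommRingCat.of k)) ℤ) X)
    (γ₁ γ₂ : (attr a N1).obj (op Y))
    (h : ∀ (T : Over (Spec (CommRingCat.of k))) (m : T ⟶ AMonS (Spec (CommRingCat.of k)) N1)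
      (t' : T ⟶ Y),
      (∃ n : ℕ, ∀ m' : T ⟶ AMonS (Spec (CommRingCat.of k)) N1, m ^ (n + 1) * m' = m ^ (n + 1)) →
      lift m t' ≫ γ₁.1 = lift m t' ≫ γ₂.1) : γ₁ = γ₂ := by
  apply Subtype.ext
  apply Over.OverMorphism.ext
  apply A1Flat.eq_of_flat_cover
  intro p
  obtain ⟨_, ⟨V, hV, rfl⟩, hyV, -⟩ := Y.left.isBasis_affineOpens.exists_subset_of_mem_open
    (Set.mem_univ ((pullback.snd (AMonS (Spec (CommRingCat.of k)) N1).hom Y.hom) p)) isOpen_univ
  have hV' : IsAffineOpen V := hV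
  let t : Spec (CommRingCat.of Γ(Y.left, V)) ⟶ Spec (CommRingCat.of k) := hV'.fromSpec ≫ Y.hom
  let j : Over.mk t ⟶ Y := Over.homMk hV'.fromSpec rfl
  have hjr : Set.range j.left = V := hV'.range_fromSpec
  have hp : p ∈ Set.range (AMonS (Spec (CommRingCat.of k)) N1 ◁ j).left :=
    UnitsDense.mem_range_whiskerLeft (AMonS (Spec (CommRingCat.of k)) N1) j p (by rw [hjr]; exact hyV)
  obtain ⟨p', hp'⟩ := hp
  have h' : ∀ (T : Over (Spec (CommRingCat.of k))) (m : T ⟶ AMonS (Spec (CommRingCat.of k)) N1)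
      (t' : T ⟶ Over.mk t),
      (∃ n : ℕ, ∀ m' : T ⟶ AMonS (Spec (CommRingCat.of k)) N1, m ^ (n + 1) * m' = m ^ (n + 1)) →
      lift m t' ≫ ((attr a N1).map j.op γ₁).1 = lift m t' ≫ ((attr a N1).map j.op γ₂).1 := by
    intro T m t' hn
    change lift m t' ≫ (AMonS (Spec (CommRingCat.of k)) N1 ◁ j) ≫ γ₁.1 =
      lift m t' ≫ (AMonS (Spec (CommRingCat.of k)) N1 ◁ j) ≫ γ₂.1
    rw [lift_whiskerLeft_assoc, lift_whiskerLeft_assoc]
    exact h T m (t' ≫ j) hn
  obtain ⟨Q, m, hm1, ⟨q, hq⟩, hm3⟩ := local_member t a ((attr a N1).map j.op γ₁)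
    ((attr a N1).map j.op γ₂) h' p'
  have hoi : IsOpenImmersion (AMonS (Spec (CommRingCat.of k)) N1 ◁ j).left := by
    rw [Over.whiskerLeft_left]
    have : IsOpenImmersion j.left := by
      change IsOpenImmersion hV'.fromSpec
      infer_instance
    infer_instance
  refine ⟨Q, m ≫ (AMonS (Spec (CommRingCat.of k)) N1 ◁ j).left, inferInstance, ⟨q, ?_⟩, ?_⟩
  · rw [Scheme.Hom.comp_apply, hq, hp']
  · have e1 : ((attr a N1).map j.op γ₁).1.left =
        (AMonS (Spec (CommRingCat.of k)) N1 ◁ j).left ≫ γ₁.1.left := rfl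
    have e2 : ((attr a N1).map j.op γ₂).1.left =
        (AMonS (Spec (CommRingCat.of k)) N1 ◁ j).left ≫ γ₂.1.left := rfl
    rw [e1, e2] at hm3
    rw [Category.assoc, Category.assoc]
    exact hm3

end Groth.Agent.H91.FormalInj
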