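import Groth.Agent.H92.AdeqFlat1

/-! Degree-one Amitsur exactness in additive cocycle form (helper91). -/

set_option autoImplicit false
universe u
open TensorProduct

namespace Groth.Agent.H91.GaH1Alg

open Groth.Agent.H92.AdeqFlat Groth.Agent.H92.AdeqFlat1

theorem exists_cobound (A B : Type u) [CommRing A] [CommRing B] [Algebra A B]
    [Module.FaithfullyFlat A B] (w : B ⊗[A] B)
    (hw : d2 A B w + d0 A B w = d1 A B w) :
    ∃ b : B, w = b ⊗ₜ[A] (1 : B) - (1 : B) ⊗ₜ[A] b := by
  have h0 : εM A B A (w ⊗ₜ[A] (1 : A)) = 0 := by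
    have : εlin A B w = 0 := by
      show ((d0 A B).toLinearMap - (d1 A B).toLinearMap + (d2 A B).toLinearMap) w = 0
      simp only [LinearMap.add_apply, LinearMap.sub_apply, AlgHom.toLinearMap_apply]
      rw [← hw]; abel
    show (εlin A B).rTensor A (w ⊗ₜ[A] (1 : A)) = 0
    rw [LinearMap.rTensor_tmul, this, TensorProduct.zero_tmul]
  obtain ⟨y, hy⟩ := (amitsur_exact1 A B A (w ⊗ₜ[A] (1 : A))).1 h0
  refine ⟨TensorProduct.rid A B y, ?_⟩
  have hy' : y = (TensorProduct.rid A B y) ⊗ₜ[A] (1 : A) := by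
    rw [← TensorProduct.rid_symm_apply, LinearEquiv.symm_apply_apply]
  rw [hy', δM_tmul] at hy
  have := congrArg (TensorProduct.rid A (B ⊗[A] B)) hy
  rw [TensorProduct.rid_tmul, TensorProduct.rid_tmul, one_smul, one_smul] at this
  exact this.symm

end Groth.Agent.H91.GaH1Alg
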