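import Groth.Statements.S6006
import Groth.Agent.H40.FpqcMap
import Groth.Agent.H91.GaH1Alg
import Groth.Agent.H91.GaDict
import Groth.Agent.H91.GaPt

/-! Descent of sections of a `𝔾_a`-pseudo-torsor along a faithfully flat map of affines (helper91). -/

set_option autoImplicit false
universe u
open CategoryTheory CategoryTheory.Limits AlgebraicGeometry MonoidalCategory CartesianMonoidalCategory MonObj
open SGA1
open scoped TensorProduct

noncomputable section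

namespace Groth.Agent.H91.GaH1Core

open Groth.Agent.H40.FpqcFam Groth.Agent.H92.AdeqFlat1 Groth.Agent.H91.GaDict Groth.Agent.H91.GaPt
open Groth.Agent.H91.GaH1Alg

section Cocycle

variable {S : Scheme.{u}} {X : Over S} {a : AlgGrp.Action (Red.Ga S) X}

/-- cocycle identity of the division map -/
theorem dv_cocycle (hps : NonAbH1.IsPseudoTorsorSch a) {T : Over S} (x y z : T ⟶ X) :
    (lift x y ≫ dv hps) * (lift y z ≫ dv hps) = lift x z ≫ dv hps := by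
  apply act_free hps _ _ z
  rw [AlgGrp.Action.lift_mul_act, dv_act, dv_act, dv_act]

end Cocycle

section Rings

variable (A B : Type u) [CommRing A] [CommRing B] [Algebra A B]

def iA : CommRingCat.of A ⟶ CommRingCat.of B := CommRingCat.ofHom (algebraMap A B)
def i₁ : CommRingCat.of B ⟶ CommRingCat.of (B ⊗[A] B) :=
  CommRingCat.ofHom Algebra.TensorProduct.includeLeftRingHom
def i₂ : CommRingCat.of B ⟶ CommRingCat.of (B ⊗[A] B) :=
  CommRingCat.ofHom (Algebra.TensorProduct.includeRight (R := A) (A := B) (B := B)).toRingHom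
def D0 : CommRingCat.of (B ⊗[A] B) ⟶ CommRingCat.of ((B ⊗[A] B) ⊗[A] B) :=
  CommRingCat.ofHom (d0 A B).toRingHom
def D1 : CommRingCat.of (B ⊗[A] B) ⟶ CommRingCat.of ((B ⊗[A] B) ⊗[A] B) :=
  CommRingCat.ofHom (d1 A B).toRingHom
def D2 : CommRingCat.of (B ⊗[A] B) ⟶ CommRingCat.of ((B ⊗[A] B) ⊗[A] B) :=
  CommRingCat.ofHom (d2 A B).toRingHom

theorem iA_i₂ : iA A B ≫ i₂ A B = iA A B ≫ i₁ A B := by
  ext x
  show (1 : B) ⊗ₜ[A] (algebraMap A B x) = (algebraMap A B x) ⊗ₜ[A] (1 : B)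
  rw [Algebra.algebraMap_eq_smul_one, TensorProduct.tmul_smul, TensorProduct.smul_tmul']

theorem iA_i₁_eq : iA A B ≫ i₁ A B = CommRingCat.ofHom (algebraMap A (B ⊗[A] B)) := by
  ext x
  show (algebraMap A B x) ⊗ₜ[A] (1 : B) = algebraMap A (B ⊗[A] B) x
  rw [Algebra.TensorProduct.algebraMap_apply]

theorem base_D0 : iA A B ≫ i₁ A B ≫ D0 A B = iA A B ≫ i₁ A B ≫ D2 A B := by
  rw [← Category.assoc, ← Category.assoc, iA_i₁_eq]
  ext x
  show d0 A B (algebraMap A _ x) = d2 A B (algebraMap A _ x)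
  rw [AlgHom.commutes, AlgHom.commutes]

theorem base_D1 : iA A B ≫ i₁ A B ≫ D1 A B = iA A B ≫ i₁ A B ≫ D2 A B := by
  rw [← Category.assoc, ← Category.assoc, iA_i₁_eq]
  ext x
  show d1 A B (algebraMap A _ x) = d2 A B (algebraMap A _ x)
  rw [AlgHom.commutes, AlgHom.commutes]

theorem i₁_D1 : i₁ A B ≫ D1 A B = i₁ A B ≫ D2 A B := by
  ext b
  show d1 A B (b ⊗ₜ[A] (1 : B)) = d2 A B (b ⊗ₜ[A] (1 : B))
  rw [d1_tmul, d2_tmul]

theorem i₁_D0 : i₁ A B ≫ D0 A B = i₂ A B ≫ D2 A B := by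
  ext b
  show d0 A B (b ⊗ₜ[A] (1 : B)) = d2 A B ((1 : B) ⊗ₜ[A] b)
  rw [d0_tmul, d2_tmul]

theorem i₂_D0 : i₂ A B ≫ D0 A B = i₂ A B ≫ D1 A B := by
  ext b
  show d0 A B ((1 : B) ⊗ₜ[A] b) = d1 A B ((1 : B) ⊗ₜ[A] b)
  rw [d0_tmul, d1_tmul]

end Rings

section Objs

variable {S : Scheme.{u}} {A B : Type u} [CommRing A] [CommRing B] [Algebra A B]
  (f' : Spec (CommRingCat.of A) ⟶ S)

def OB : Over S := Over.mk (Spec.map (iA A B) ≫ f')
def O₂ : Over S := Over.mk (Spec.map (iA A B ≫ i₁ A B) ≫ f')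
def O₃ : Over S := Over.mk (Spec.map (iA A B ≫ i₁ A B ≫ D2 A B) ≫ f')

def P₁ : O₂ (B := B) f' ⟶ OB (B := B) f' := Over.homMk (Spec.map (i₁ A B)) (by
  show Spec.map (i₁ A B) ≫ Spec.map (iA A B) ≫ f' = Spec.map (iA A B ≫ i₁ A B) ≫ f'
  rw [← Spec.map_comp_assoc])

def P₂ : O₂ (B := B) f' ⟶ OB (B := B) f' := Over.homMk (Spec.map (i₂ A B)) (by
  show Spec.map (i₂ A B) ≫ Spec.map (iA A B) ≫ f' = Spec.map (iA A B ≫ i₁ A B) ≫ f'
  rw [← Spec.map_comp_assoc, iA_i₂])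

def E0 : O₃ (B := B) f' ⟶ O₂ (B := B) f' := Over.homMk (Spec.map (D0 A B)) (by
  show Spec.map (D0 A B) ≫ Spec.map (iA A B ≫ i₁ A B) ≫ f' = Spec.map (iA A B ≫ i₁ A B ≫ D2 A B) ≫ f'
  rw [← Spec.map_comp_assoc, Category.assoc, base_D0])

def E1 : O₃ (B := B) f' ⟶ O₂ (B := B) f' := Over.homMk (Spec.map (D1 A B)) (by
  show Spec.map (D1 A B) ≫ Spec.map (iA A B ≫ i₁ A B) ≫ f' = Spec.map (iA A B ≫ i₁ A B ≫ D2 A B) ≫ f'
  rw [← Spec.map_comp_assoc, Category.assoc, base_D1])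

def E2 : O₃ (B := B) f' ⟶ O₂ (B := B) f' := Over.homMk (Spec.map (D2 A B)) (by
  show Spec.map (D2 A B) ≫ Spec.map (iA A B ≫ i₁ A B) ≫ f' = Spec.map (iA A B ≫ i₁ A B ≫ D2 A B) ≫ f'
  rw [← Spec.map_comp_assoc, Category.assoc])

@[reassoc]
theorem E1_P₁ : E1 (B := B) f' ≫ P₁ f' = E2 f' ≫ P₁ f' := by
  apply Over.OverMorphism.ext
  show Spec.map (D1 A B) ≫ Spec.map (i₁ A B) = Spec.map (D2 A B) ≫ Spec.map (i₁ A B)
  rw [← Spec.map_comp, ← Spec.map_comp, i₁_D1]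

@[reassoc]
theorem E0_P₁ : E0 (B := B) f' ≫ P₁ f' = E2 f' ≫ P₂ f' := by
  apply Over.OverMorphism.ext
  show Spec.map (D0 A B) ≫ Spec.map (i₁ A B) = Spec.map (D2 A B) ≫ Spec.map (i₂ A B)
  rw [← Spec.map_comp, ← Spec.map_comp, i₁_D0]

@[reassoc]
theorem E0_P₂ : E0 (B := B) f' ≫ P₂ f' = E1 f' ≫ P₂ f' := by
  apply Over.OverMorphism.ext
  show Spec.map (D0 A B) ≫ Spec.map (i₂ A B) = Spec.map (D1 A B) ≫ Spec.map (i₂ A B)
  rw [← Spec.map_comp, ← Spec.map_comp, i₂_D0]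

end Objs

theorem ΓSpec_nat {R R' : CommRingCat.{u}} (φ : R ⟶ R') (x : Γ(Spec R, ⊤)) :
    (Scheme.ΓSpecIso R').hom ((Spec.map φ).appTop x) = φ ((Scheme.ΓSpecIso R).hom x) :=
  ConcreteCategory.congr_hom (Scheme.ΓSpecIso_naturality φ) x

section Main

variable {S : Scheme.{u}} {X : Over S} {a : AlgGrp.Action (Red.Ga S) X}
  (hps : NonAbH1.IsPseudoTorsorSch a)
  {A B : Type u} [CommRing A] [CommRing B] [Algebra A B]
  (f' : Spec (CommRingCat.of A) ⟶ S) (σB : OB (B := B) f' ⟶ X)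

/-- the difference cocycle -/
def gco : O₂ (B := B) f' ⟶ Red.Ga S := lift (P₁ f' ≫ σB) (P₂ f' ≫ σB) ≫ dv hps

theorem gco_cocycle :
    (E2 f' ≫ gco hps f' σB) * (E0 f' ≫ gco hps f' σB) = E1 f' ≫ gco hps f' σB := by
  unfold gco
  rw [comp_lift_assoc, comp_lift_assoc, comp_lift_assoc, E0_P₁_assoc, E0_P₂_assoc, E1_P₁_assoc]
  exact dv_cocycle hps _ _ _

/-- the function of the cocycle -/
def ghat : B ⊗[A] B :=
  (Scheme.ΓSpecIso (CommRingCat.of (B ⊗[A] B))).hom (Red.gaFn (gco hps f' σB))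

theorem ghat_cocycle :
    d2 A B (ghat hps f' σB) + d0 A B (ghat hps f' σB) = d1 A B (ghat hps f' σB) := by
  have h := congrArg Red.gaFn (gco_cocycle hps f' σB)
  rw [gaFn_mul, gaFn_comp, gaFn_comp, gaFn_comp] at h
  have h' : (Scheme.ΓSpecIso (CommRingCat.of ((B ⊗[A] B) ⊗[A] B))).hom
        ((Spec.map (D2 A B)).appTop (Red.gaFn (gco hps f' σB))) +
      (Scheme.ΓSpecIso (CommRingCat.of ((B ⊗[A] B) ⊗[A] B))).hom
        ((Spec.map (D0 A B)).appTop (Red.gaFn (gco hps f' σB))) =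
      (Scheme.ΓSpecIso (CommRingCat.of ((B ⊗[A] B) ⊗[A] B))).hom
        ((Spec.map (D1 A B)).appTop (Red.gaFn (gco hps f' σB))) := by
    rw [← map_add]
    exact congrArg _ h
  rw [ΓSpec_nat, ΓSpec_nat, ΓSpec_nat] at h'
  exact h'

end Main

section Descent

variable {S : Scheme.{u}} {X : Over S} {a : AlgGrp.Action (Red.Ga S) X}
  (hps : NonAbH1.IsPseudoTorsorSch a)
  {A B : Type u} [CommRing A] [CommRing B] [Algebra A B]
  (f' : Spec (CommRingCat.of A) ⟶ S)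

theorem ΓSpec_hom_inv (R : CommRingCat.{u}) (r : R) :
    (Scheme.ΓSpecIso R).hom ((Scheme.ΓSpecIso R).inv r) = r := by
  rw [← CommRingCat.comp_apply, Iso.inv_hom_id]; rfl

include hps in
set_option maxHeartbeats 400000 in
theorem core_alg [Module.FaithfullyFlat A B] (σ : Spec (CommRingCat.of B) ⟶ X.left)
    (hσ : σ ≫ X.hom = Spec.map (iA A B) ≫ f') :
    ∃ s : Spec (CommRingCat.of A) ⟶ X.left, s ≫ X.hom = f' := by
  obtain ⟨σB, hσB⟩ : ∃ σB : OB (B := B) f' ⟶ X, σB.left = σ := ⟨Over.homMk σ hσ, rfl⟩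
  obtain ⟨b, hb⟩ := exists_cobound A B _ (ghat_cocycle hps f' σB)
  obtain ⟨c, hc⟩ : ∃ c : OB (B := B) f' ⟶ Red.Ga S,
      Red.gaFn c = (Scheme.ΓSpecIso (CommRingCat.of B)).inv (-b) := exists_ga_of_fn _
  have hmul : (P₁ f' ≫ c) * gco hps f' σB = P₂ f' ≫ c := by
    apply gaFn_injective
    rw [gaFn_mul, gaFn_comp, gaFn_comp, hc]
    obtain ⟨gm, hgm⟩ : ∃ gm : Γ(Spec (CommRingCat.of (B ⊗[A] B)), ⊤),
        gm = Red.gaFn (gco hps f' σB) := ⟨_, rfl⟩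
    have hgm2 : (Scheme.ΓSpecIso (CommRingCat.of (B ⊗[A] B))).hom gm = ghat hps f' σB := by
      rw [hgm]; rfl
    have key : (Spec.map (i₁ A B)).appTop ((Scheme.ΓSpecIso (CommRingCat.of B)).inv (-b)) + gm =
        (Spec.map (i₂ A B)).appTop ((Scheme.ΓSpecIso (CommRingCat.of B)).inv (-b)) := by
      apply (ConcreteCategory.bijective_of_isIso
        (Scheme.ΓSpecIso (CommRingCat.of (B ⊗[A] B))).hom).1
      rw [map_add, ΓSpec_nat, ΓSpec_nat, hgm2, hb, ΓSpec_hom_inv]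
      show (-b) ⊗ₜ[A] (1 : B) + (b ⊗ₜ[A] (1 : B) - (1 : B) ⊗ₜ[A] b) = (1 : B) ⊗ₜ[A] (-b)
      rw [TensorProduct.neg_tmul, TensorProduct.tmul_neg]; abel
    subst hgm
    exact key
  have heq : P₁ f' ≫ (lift c σB ≫ a.act) = P₂ f' ≫ (lift c σB ≫ a.act) := by
    rw [comp_lift_assoc, comp_lift_assoc, ← hmul, AlgGrp.Action.lift_mul_act,
      show lift (gco hps f' σB) (P₂ f' ≫ σB) ≫ a.act = P₁ f' ≫ σB from dv_act hps _ _]
  have hflat : Flat (Spec.map (iA A B)) := by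
    rw [HasRingHomProperty.Spec_iff (P := @Flat)]
    exact RingHom.flat_algebraMap_iff.mpr inferInstance
  have hsurj : Surjective (Spec.map (iA A B)) :=
    (surjective_iff _).2 (PrimeSpectrum.comap_surjective_of_faithfullyFlat (A := A) (B := B))
  have hpb : IsPullback (Spec.map (i₁ A B)) (Spec.map (i₂ A B)) (Spec.map (iA A B))
      (Spec.map (iA A B)) :=
    isPullback_SpecMap_of_isPushout _ _ _ _ (CommRingCat.isPushout_tensorProduct A B B)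
  obtain ⟨σ', hσ'⟩ : ∃ σ' : OB (B := B) f' ⟶ X, σ' = lift c σB ≫ a.act := ⟨_, rfl⟩
  rw [← hσ'] at heq
  have h1 : Spec.map (i₁ A B) ≫ σ'.left = Spec.map (i₂ A B) ≫ σ'.left :=
    congrArg (fun m => m.left) heq
  have hdesc : ∀ {Z : Scheme.{u}} (g₁ g₂ : Z ⟶ Spec (CommRingCat.of B)),
      g₁ ≫ Spec.map (iA A B) = g₂ ≫ Spec.map (iA A B) → g₁ ≫ σ'.left = g₂ ≫ σ'.left := by
    intro Z g₁ g₂ hg
    calc g₁ ≫ σ'.left = (hpb.lift g₁ g₂ hg ≫ Spec.map (i₁ A B)) ≫ σ'.left := by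
          rw [hpb.lift_fst]
      _ = (hpb.lift g₁ g₂ hg ≫ Spec.map (i₂ A B)) ≫ σ'.left := by
          rw [Category.assoc, h1, Category.assoc]
      _ = g₂ ≫ σ'.left := by rw [hpb.lift_snd]
  refine ⟨EffectiveEpi.desc (Spec.map (iA A B)) σ'.left hdesc, ?_⟩
  rw [← cancel_epi (Spec.map (iA A B)), EffectiveEpi.fac_assoc]
  exact Over.w σ'

end Descent

theorem core_affine {S : Scheme.{u}} (X : Over S) (a : AlgGrp.Action (Red.Ga S) X)
    (hps : NonAbH1.IsPseudoTorsorSch a) {U W : Scheme.{u}} [IsAffine U] [IsAffine W]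
    (q : W ⟶ U) [Flat q] [Surjective q] (f' : U ⟶ S) (σ : W ⟶ X.left)
    (hσ : σ ≫ X.hom = q ≫ f') : ∃ s : U ⟶ X.left, s ≫ X.hom = f' := by
  have hff : q.appTop.hom.FaithfullyFlat :=
    (Flat.flat_and_surjective_iff_faithfullyFlat_of_isAffine q).1 ⟨inferInstance, inferInstance⟩
  algebraize [q.appTop.hom]
  have hq : Spec.map (iA Γ(U, ⊤) Γ(W, ⊤)) = Spec.map q.appTop := rfl
  obtain ⟨s, hs⟩ := core_alg hps (A := Γ(U, ⊤)) (B := Γ(W, ⊤)) (U.isoSpec.inv ≫ f')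
    (W.isoSpec.inv ≫ σ) (by
      rw [Category.assoc, hσ, hq]
      exact (Scheme.isoSpec_inv_naturality_assoc q f').symm)
  exact ⟨U.isoSpec.hom ≫ s, by rw [Category.assoc, hs, Iso.hom_inv_id_assoc]⟩

end Groth.Agent.H91.GaH1Core
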