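import Groth.Agent.H91.GaH1Core
import Groth.Agent.H64.GaH1Cover

/-! `𝔾_a`-torsors for the fpqc topology are Zariski-locally trivial (helper91; (COVER) by helper64). -/

set_option autoImplicit false
universe u
open CategoryTheory CategoryTheory.Limits AlgebraicGeometry
open SGA1

namespace Groth.Agent.H91.GaH1Main

theorem main {S : Scheme.{u}} (X : Over S)
    (a : AlgGrp.Action (Red.Ga S) X) (h : NonAbH1.IsTorsorFor Scheme.fpqcPrecoverage a) :
    NonAbH1.IsTorsorFor Scheme.zariskiPrecoverage a := by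
  obtain ⟨hps, R, hR, hsec⟩ := h
  refine ⟨hps, (S.affineCover).presieve₀, (S.affineCover).mem₀, ?_⟩
  intro S' f hf
  obtain ⟨i⟩ := hf
  obtain ⟨W, hW, q, hq, hq', hX⟩ :=
    Groth.Agent.H64.GaH1Cover.exists_affine_ff R hR (S.affineCover.f i)
  obtain ⟨σ, hσ⟩ := hX X hsec
  exact Groth.Agent.H91.GaH1Core.core_affine X a hps q (S.affineCover.f i) σ hσ

end Groth.Agent.H91.GaH1Main
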