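import Groth.Agent.H91.Pf6

/-!
Existence of a smooth point which is not a T-point on an irreducible cubic surface which is not a
cone (over an algebraically closed field): generalities and the case of a smooth surface.
-/

namespace Groth.Agent.H91.KL

open MvPolynomial Groth.Agent.H91.CubicK Groth.Agent.H91.Polar Groth.Agent.H91.TPt

set_option linter.unusedSectionVars false
set_option linter.unusedVariables false

noncomputable section

variable {K : Type*} [Field K] [CharZero K] {F : MvPolynomial (Fin 4) K}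

/-- the linear functional `y ↦ T F u v y` -/
def Tdual (F : MvPolynomial (Fin 4) K) (u v : Fin 4 → K) : Module.Dual K (Fin 4 → K) where
  toFun y := T F u v y
  map_add' y z := T_add_right F u v y z
  map_smul' c y := by simp [T_smul_right]

theorem Tdual_apply (u v y : Fin 4 → K) : Tdual F u v y = T F u v y := rfl

theorem cubic_zero [IsAlgClosed K] (c3 c2 c1 c0 : K) :
    ∃ p r : K, (p ≠ 0 ∨ r ≠ 0) ∧
      c3 * p ^ 3 + c2 * p ^ 2 * r + c1 * p * r ^ 2 + c0 * r ^ 3 = 0 := by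
  obtain ⟨α₁, β₁, α₂, β₂, α₃, β₃, h⟩ := binary_cubic_factor c3 c2 c1 c0
  by_cases h1 : α₁ = 0 ∧ β₁ = 0
  · refine ⟨1, 0, Or.inl one_ne_zero, ?_⟩
    rw [h, h1.1, h1.2]; ring
  · refine ⟨β₁, -α₁, ?_, ?_⟩
    · by_contra hc
      push Not at hc
      exact h1 ⟨neg_eq_zero.mp hc.2, hc.1⟩
    · rw [h]; ring

theorem exists_point [IsAlgClosed K] (hF : F.IsHomogeneous 3) :
    ∃ b : Fin 4 → K, b ≠ 0 ∧ eval b F = 0 := by
  obtain ⟨p, r, hpr, h⟩ := cubic_zero (eval (Pi.single 0 1 : Fin 4 → K) F)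
    (3 * T F (Pi.single 0 1) (Pi.single 0 1) (Pi.single 1 1))
    (3 * T F (Pi.single 0 1) (Pi.single 1 1) (Pi.single 1 1))
    (eval (Pi.single 1 1 : Fin 4 → K) F)
  refine ⟨p • Pi.single 0 1 + r • Pi.single 1 1, ?_, ?_⟩
  · intro h0
    have h00 := congrFun h0 0
    have h01 := congrFun h0 1
    simp at h00 h01
    rcases hpr with hp | hr
    · exact hp h00
    · exact hr h01
  · rw [cube_expand hF]; linear_combination h

theorem indep_of_not_mem_span {b m : Fin 4 → K} (hb0 : b ≠ 0)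
    (hmb : m ∉ Submodule.span K {b}) : ∀ s t : K, s • b + t • m = 0 → s = 0 ∧ t = 0 := by
  intro s t hst
  have ht : t = 0 := by
    by_contra ht
    apply hmb
    rw [Submodule.mem_span_singleton]
    refine ⟨-(t⁻¹ * s), ?_⟩
    have h1 : t • m = -(s • b) := eq_neg_of_add_eq_zero_right hst
    calc (-(t⁻¹ * s)) • b = t⁻¹ • (-(s • b)) := by rw [neg_smul, mul_smul, smul_neg]
      _ = t⁻¹ • (t • m) := by rw [h1]
      _ = m := by rw [smul_smul, inv_mul_cancel₀ ht, one_smul]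
  subst ht
  rw [zero_smul, add_zero] at hst
  exact ⟨(smul_eq_zero.mp hst).resolve_right hb0, rfl⟩

/-- a T-point lies on a line contained in the surface -/
theorem tp_second (hF : F.IsHomogeneous 3) (b : Fin 4 → K) (h : tpP F b) :
    ∃ m : Fin 4 → K, (∀ s t : K, s • b + t • m = 0 → s = 0 ∧ t = 0) ∧
      ∀ s t : K, eval (s • b + t • m) F = 0 := by
  obtain ⟨hb0, hFb, hsm, L₁, L₂, L₃, hL₁, hL₂, hL₃, hmem⟩ := h
  obtain ⟨μ₁, hμ₁⟩ := exists_dual_of_homog1 L₁ hL₁
  obtain ⟨μ₂, hμ₂⟩ := exists_dual_of_homog1 L₂ hL₂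
  obtain ⟨μ₃, hμ₃⟩ := exists_dual_of_homog1 L₃ hL₃
  rw [Ideal.mem_span_singleton] at hmem
  obtain ⟨R, hR⟩ := hmem
  have hbb : T F b b b = 0 := by rw [← eval_eq_T hF, hFb]
  have key : ∀ x, T F b b x = 0 → eval x F = μ₁ x * μ₂ x * μ₃ x := by
    intro x hx
    have h1 := congrArg (eval x) hR
    simp only [map_sub, map_mul] at h1
    rw [hμ₁, hμ₂, hμ₃, eval_tangent hF b x, hx, mul_zero, zero_mul] at h1
    exact sub_eq_zero.mp h1
  have aux : ∀ μ : Module.Dual K (Fin 4 → K), μ b = 0 →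
      (∀ x, T F b b x = 0 → μ x = 0 → eval x F = 0) →
      ∃ m : Fin 4 → K, (∀ s t : K, s • b + t • m = 0 → s = 0 ∧ t = 0) ∧
        ∀ s t : K, eval (s • b + t • m) F = 0 := by
    intro μ hμb hvan
    obtain ⟨Λ, hΛ⟩ : ∃ Λ : (Fin 4 → K) →ₗ[K] (K × K), ∀ x, Λ x = (T F b b x, μ x) :=
      ⟨LinearMap.prod (Tdual F b b) μ, fun x => rfl⟩
    have hker : 2 ≤ Module.finrank K (LinearMap.ker Λ) := by
      have h1 := LinearMap.finrank_range_add_finrank_ker Λ
      have h2 : Module.finrank K (LinearMap.range Λ) ≤ 2 := by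
        have h3 := (LinearMap.range Λ).finrank_le
        rw [Module.finrank_prod, Module.finrank_self] at h3
        exact h3
      rw [Module.finrank_fin_fun] at h1
      omega
    have hnle : ¬ LinearMap.ker Λ ≤ Submodule.span K {b} := by
      intro hle
      have h3 := Submodule.finrank_mono hle
      rw [finrank_span_singleton hb0] at h3
      omega
    obtain ⟨m, hmk, hmb⟩ := SetLike.not_le_iff_exists.mp hnle
    have hm : T F b b m = 0 ∧ μ m = 0 := by
      rw [LinearMap.mem_ker, hΛ] at hmk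
      exact ⟨(Prod.mk.inj hmk).1, (Prod.mk.inj hmk).2⟩
    refine ⟨m, indep_of_not_mem_span hb0 hmb, ?_⟩
    intro s t
    apply hvan
    · rw [T_add_right, T_smul_right, T_smul_right, hbb, hm.1]; ring
    · rw [map_add, map_smul, map_smul, hμb, hm.2]; simp
  have P3 : μ₁ b * μ₂ b * μ₃ b = 0 := by rw [← key b hbb, hFb]
  rcases mul_eq_zero.mp P3 with h12 | h3
  · rcases mul_eq_zero.mp h12 with h1 | h2
    · exact aux μ₁ h1 (fun x hx hμx => by rw [key x hx, hμx]; ring)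
    · exact aux μ₂ h2 (fun x hx hμx => by rw [key x hx, hμx]; ring)
  · exact aux μ₃ h3 (fun x hx hμx => by rw [key x hx, hμx]; ring)

theorem T_a_phi (D : Tri.LineData F) (n : Fin 4 → K) (s t : K) (z : Fin 3 → K) :
    3 * T F (s • D.e₀ + t • D.e₁) (D.phi n z) (D.phi n z) = z 2 * D.B n ![s, t, 0] z := by
  have t1 : T F D.e₁ D.e₀ D.e₀ = 0 := by rw [Tri.T_rot]; exact D.h001
  have t2 : T F D.e₁ D.e₀ D.e₁ = 0 := by rw [Tri.T_rot]; exact D.h011
  have t3 : T F D.e₁ D.e₀ n = T F D.e₀ D.e₁ n := T_comm12 F _ _ _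
  rw [Tri.LineData.phi_apply, T_add_left, T_smul_left, T_smul_left, Tri.quad_expand3,
    Tri.quad_expand3, D.h000, D.h011, D.h001, t1, D.h111, t2, t3]
  unfold Tri.LineData.B Tri.bil Tri.LineData.ga Tri.LineData.gb Tri.LineData.gc Tri.LineData.gd
    Tri.LineData.ge Tri.LineData.gf
  simp only [Matrix.cons_val]
  ring

theorem T_aa_phi (D : Tri.LineData F) (n : Fin 4 → K) (s t : K) (z : Fin 3 → K) :
    T F (s • D.e₀ + t • D.e₁) (s • D.e₀ + t • D.e₁) (D.phi n z) =
      z 2 * T F (s • D.e₀ + t • D.e₁) (s • D.e₀ + t • D.e₁) n := by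
  have t1 : T F D.e₁ D.e₀ D.e₀ = 0 := by rw [Tri.T_rot]; exact D.h001
  have t2 : T F D.e₁ D.e₀ D.e₁ = 0 := by rw [Tri.T_rot]; exact D.h011
  have t4 : T F D.e₁ D.e₁ D.e₀ = 0 := by rw [← Tri.T_rot]; exact D.h011
  have t5 : T F D.e₀ D.e₁ D.e₀ = 0 := by rw [T_comm23]; exact D.h001
  rw [Tri.LineData.phi_apply]
  simp only [T_add_left, T_add_mid, T_add_right, T_smul_left, T_smul_mid, T_smul_right,
    D.h000, D.h001, D.h011, D.h111, t1, t2, t4, t5]
  ring

theorem B_smul_right (D : Tri.LineData F) (n : Fin 4 → K) (x y : Fin 3 → K) (c : K) :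
    D.B n x (c • y) = c * D.B n x y := by
  unfold Tri.LineData.B
  rw [Tri.bil_smul_right]

/-- a point of a line of the surface at which a plane through the line with smooth residual
conic is tangent is not a T-point -/
theorem nonT_of_conic [IsAlgClosed K] (hF : F.IsHomogeneous 3) (hirr : Irreducible F)
    (D : Tri.LineData F) (n : Fin 4 → K) (s t : K) (hst : s ≠ 0 ∨ t ≠ 0)
    (hT : T F (s • D.e₀ + t • D.e₁) (s • D.e₀ + t • D.e₁) n = 0) (hΔ : D.Delta n ≠ 0) :
    ¬ tpP F (s • D.e₀ + t • D.e₁) := by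
  intro htp
  have hκ0 : (![s, t, 0] : Fin 3 → K) ≠ 0 := by
    intro h
    have h0 := congrFun h 0
    have h1 := congrFun h 1
    simp only [Matrix.cons_val, Pi.zero_apply] at h0 h1
    rcases hst with h' | h'
    · exact h' h0
    · exact h' h1
  have hTan : ∀ z : Fin 3 → K,
      T F (s • D.e₀ + t • D.e₁) (s • D.e₀ + t • D.e₁) (D.phi n z) = 0 := by
    intro z
    rw [T_aa_phi, hT, mul_zero]
  obtain ⟨e3, he3⟩ : ∃ e3 : Fin 3 → K, e3 2 = 1 := ⟨![0, 0, 1], by simp⟩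
  obtain ⟨κ, hκ⟩ : ∃ κ : Fin 3 → K, κ = ![s, t, 0] := ⟨_, rfl⟩
  rw [← hκ] at hκ0
  have hQ : ∀ z : Fin 3 → K,
      3 * T F (s • D.e₀ + t • D.e₁) (D.phi n z) (D.phi n z) = z 2 * D.B n κ z := by
    intro z
    rw [hκ]
    exact T_a_phi D n s t z
  rcases tp_struct hF hirr _ htp with h1 | ⟨G, β, hβ, hG⟩
  · have hB : ∀ w : Fin 3 → K, w 2 ≠ 0 → D.B n κ w = 0 := by
      intro w hw
      have h2 := hQ w
      rw [h1 (D.phi n w) (hTan w), mul_zero] at h2
      exact (mul_eq_zero.mp h2.symm).resolve_left hw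
    have hB' : ∀ w : Fin 3 → K, D.B n κ w = 0 := by
      intro w
      by_cases hw : w 2 = 0
      · have h3 := D.B_add_right n κ w e3
        have h4 : D.B n κ (w + e3) = 0 := by
          apply hB
          rw [Pi.add_apply, hw, he3, zero_add]
          exact one_ne_zero
        have h5 : D.B n κ e3 = 0 := by
          apply hB
          rw [he3]; exact one_ne_zero
        rw [h4, h5, add_zero] at h3
        exact h3.symm
      · exact hB w hw
    exact hΔ (D.Delta_eq_zero_of_rad hκ0 (D.isRad_of_B hB'))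
  · obtain ⟨g, hg⟩ : ∃ g : Module.Dual K (Fin 3 → K), ∀ z, g z = G (D.phi n z) :=
      ⟨G.comp (D.phi n), fun z => rfl⟩
    have hid : ∀ z : Fin 3 → K, z 2 * (β * D.B n z z - 2 * D.B n κ z * g z) = 0 := by
      intro z
      have h2 := hG (D.phi n z) (hTan z)
      have h3 := D.eval_phi hF n z
      have h4 := hQ z
      rw [hg]
      linear_combination (-β) * h3 + 2 * h2 + 2 * G (D.phi n z) * h4
    have hP : ∀ z : Fin 3 → K, β * D.B n z z = 2 * D.B n κ z * g z := by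
      intro z
      have hcub : ∀ τ : K, τ ^ 3 * (β * D.B n e3 e3 - 2 * D.B n κ e3 * g e3)
          + τ ^ 2 * ((2 * β * D.B n z e3 - 2 * (D.B n κ z * g e3 + D.B n κ e3 * g z))
              + z 2 * (β * D.B n e3 e3 - 2 * D.B n κ e3 * g e3))
          + τ * ((β * D.B n z z - 2 * D.B n κ z * g z)
              + z 2 * (2 * β * D.B n z e3 - 2 * (D.B n κ z * g e3 + D.B n κ e3 * g z)))
          + z 2 * (β * D.B n z z - 2 * D.B n κ z * g z) = 0 := by
        intro τ
        have h5 := hid ((1 : K) • z + τ • e3)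
        rw [D.B_comb, D.B_add_right, B_smul_right, B_smul_right, map_add, map_smul,
          map_smul] at h5
        simp only [Pi.add_apply, Pi.smul_apply, smul_eq_mul, he3] at h5
        linear_combination h5
      obtain ⟨c0, c1, c2, c3⟩ := cubic_coeffs hcub
      have hp1 : 2 * β * D.B n z e3 - 2 * (D.B n κ z * g e3 + D.B n κ e3 * g z) = 0 := by
        rw [c3, mul_zero, add_zero] at c2
        exact c2
      rw [hp1, mul_zero, add_zero] at c1
      linear_combination c1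
    obtain ⟨φ₁, hφ₁⟩ : ∃ φ₁ : Module.Dual K (Fin 3 → K), ∀ w, φ₁ w = D.B n κ w :=
      ⟨{ toFun := fun w => D.B n κ w
         map_add' := fun w w' => D.B_add_right n κ w w'
         map_smul' := fun c w => by simp [B_smul_right] }, fun w => rfl⟩
    obtain ⟨Λ, hΛ⟩ : ∃ Λ : (Fin 3 → K) →ₗ[K] (K × K), ∀ x, Λ x = (φ₁ x, g x) :=
      ⟨LinearMap.prod φ₁ g, fun x => rfl⟩
    have hker : LinearMap.ker Λ ≠ ⊥ := by
      apply LinearMap.ker_ne_bot_of_finrank_lt
      rw [Module.finrank_prod, Module.finrank_self, Module.finrank_fin_fun]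
      norm_num
    obtain ⟨κ', hκ'mem, hκ'0⟩ := (Submodule.ne_bot_iff _).mp hker
    have hk : D.B n κ κ' = 0 ∧ g κ' = 0 := by
      rw [LinearMap.mem_ker, hΛ, hφ₁] at hκ'mem
      exact ⟨(Prod.mk.inj hκ'mem).1, (Prod.mk.inj hκ'mem).2⟩
    have hrad : ∀ w, D.B n κ' w = 0 := by
      intro w
      have hp := hP ((1 : K) • κ' + (1 : K) • w)
      have hm := hP ((1 : K) • κ' + (-1 : K) • w)
      rw [D.B_comb, D.B_add_right, B_smul_right, B_smul_right, map_add, map_smul, map_smul,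
        hk.1, hk.2] at hp hm
      simp only [smul_eq_mul] at hp hm
      have h4 : 4 * β * D.B n κ' w = 0 := by linear_combination hp - hm
      have h4β : (4 : K) * β ≠ 0 := mul_ne_zero (by norm_num) hβ
      exact (mul_eq_zero.mp h4).resolve_left h4β
    exact hΔ (D.Delta_eq_zero_of_rad hκ'0 (D.isRad_of_B hrad))

/-- a smooth cubic surface has a point which is not a T-point -/
theorem partA [IsAlgClosed K] (hF : F.IsHomogeneous 3) (hirr : Irreducible F)
    (hsm : ∀ v : Fin 4 → K, v ≠ 0 → eval v F = 0 → ∃ i : Fin 4, eval v (pderiv i F) ≠ 0) :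
    ∃ a : Fin 4 → K, a ≠ 0 ∧ eval a F = 0 ∧ (∃ i : Fin 4, eval a (pderiv i F) ≠ 0) ∧
      ¬ tpP F a := by
  obtain ⟨b, hb0, hFb⟩ := exists_point hF
  by_cases htp : tpP F b
  · obtain ⟨m, hind, hline⟩ := tp_second hF b htp
    have hc : ∀ τ : K, τ ^ 3 * eval b F + τ ^ 2 * (3 * T F b b m) + τ * (3 * T F b m m)
        + eval m F = 0 := by
      intro τ
      rw [← eval_expand hF]
      have h1 := hline τ 1
      rwa [one_smul] at h1
    obtain ⟨c0, c1, c2, c3⟩ := cubic_coeffs hc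
    have h3 : (3 : K) ≠ 0 := three_ne_zero
    obtain ⟨D₀, hD0, hD1⟩ : ∃ D₀ : Tri.LineData F, D₀.e₀ = b ∧ D₀.e₁ = m :=
      ⟨{ e₀ := b, e₁ := m
         h000 := by rw [← eval_eq_T hF]; exact hFb
         h001 := (mul_eq_zero.mp c2).resolve_left h3
         h011 := (mul_eq_zero.mp c1).resolve_left h3
         h111 := by rw [← eval_eq_T hF]; exact c0 }, rfl, rfl⟩
    have hL : Module.finrank K D₀.Lsub = 2 := D₀.finrank_Lsub (by rw [hD0, hD1]; exact hind)
    have hLS : ∀ u ∈ D₀.Lsub, eval u F = 0 := by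
      intro u hu
      obtain ⟨s, t, rfl⟩ := (D₀.mem_Lsub u).mp hu
      exact D₀.eval_line hF s t
    obtain ⟨Fr, hFrL, hΔ⟩ := Tri.exists_good_frame hF hsm D₀.Lsub hL hLS
    obtain ⟨s, t, hst, hq⟩ := quad_zero (T F Fr.e₀ Fr.e₀ Fr.e₂) (T F Fr.e₀ Fr.e₁ Fr.e₂)
      (T F Fr.e₁ Fr.e₁ Fr.e₂)
    have ha0 : s • Fr.e₀ + t • Fr.e₁ ≠ 0 := by
      intro h0
      obtain ⟨hs, ht⟩ := Fr.hind2 s t h0
      rcases hst with h | h
      · exact h hs
      · exact h ht
    have hFa : eval (s • Fr.e₀ + t • Fr.e₁) F = 0 := Fr.toLineData.eval_line hF s t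
    have hTn : T F (s • Fr.e₀ + t • Fr.e₁) (s • Fr.e₀ + t • Fr.e₁) Fr.e₂ = 0 := by
      rw [← Tri.T_rot, quad_expand, Tri.T_rot F Fr.e₂ Fr.e₀ Fr.e₀, Tri.T_rot F Fr.e₂ Fr.e₀ Fr.e₁,
        Tri.T_rot F Fr.e₂ Fr.e₁ Fr.e₁]
      linear_combination hq
    exact ⟨_, ha0, hFa, hsm _ ha0 hFa,
      nonT_of_conic hF hirr Fr.toLineData Fr.e₂ s t hst hTn hΔ⟩
  · exact ⟨b, hb0, hFb, hsm b hb0 hFb, htp⟩

end

end Groth.Agent.H91.KL
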