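import Groth.Agent.H91.KL1

/-!
Existence of a smooth point which is not a T-point: the case of a singular point which is not on a
double line.
-/

namespace Groth.Agent.H91.KL

open MvPolynomial Groth.Agent.H91.CubicK Groth.Agent.H91.Polar Groth.Agent.H91.TPt

set_option linter.unusedSectionVars false
set_option linter.unusedVariables false

noncomputable section

variable {K : Type*} [Field K] [CharZero K] {F : MvPolynomial (Fin 4) K}

/-- three times the polar quadric of the direction `u`, as a polynomial -/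
def polarP (F : MvPolynomial (Fin 4) K) (u : Fin 4 → K) : MvPolynomial (Fin 4) K :=
  ∑ i : Fin 4, u i • pderiv i F

theorem eval_polarP (hF : F.IsHomogeneous 3) (u y : Fin 4 → K) :
    eval y (polarP F u) = 3 * T F u y y := by
  unfold polarP
  rw [map_sum]
  simp only [smul_eval]
  exact dir_deriv hF y u

theorem polarP_homog (hF : F.IsHomogeneous 3) (u : Fin 4 → K) :
    (polarP F u).IsHomogeneous 2 := by
  unfold polarP
  apply IsHomogeneous.sum
  intro i _
  rw [smul_eq_C_mul]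
  exact (hF.pderiv (i := i)).C_mul _

theorem polarP_eq_zero (hF : F.IsHomogeneous 3) (u : Fin 4 → K) (h : ∀ y, T F u y y = 0) :
    polarP F u = 0 := by
  apply MvPolynomial.funext
  intro y
  rw [eval_polarP hF, h, mul_zero, map_zero]

theorem eq_zero_of_dvd_deg2 (hF : F.IsHomogeneous 3) (hF0 : F ≠ 0)
    {P : MvPolynomial (Fin 4) K} (hP : P.totalDegree ≤ 2) (hdvd : F ∣ P) : P = 0 := by
  obtain ⟨R, rfl⟩ := hdvd
  by_contra h
  have hR : R ≠ 0 := fun h0 => h (by rw [h0, mul_zero])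
  rw [totalDegree_mul_of_isDomain hF0 hR, hF.totalDegree hF0] at hP
  omega

theorem eq_C_mul_of_dvd_deg3 (hF : F.IsHomogeneous 3) (hF0 : F ≠ 0)
    {W : MvPolynomial (Fin 4) K} (hW : W.totalDegree ≤ 3) (hdvd : F ∣ W) :
    ∃ κ : K, W = C κ * F := by
  obtain ⟨R, rfl⟩ := hdvd
  by_cases hR : R = 0
  · exact ⟨0, by rw [hR, mul_zero, C_0, zero_mul]⟩
  · rw [totalDegree_mul_of_isDomain hF0 hR, hF.totalDegree hF0] at hW
    have h0 : R.totalDegree = 0 := by omega
    rw [totalDegree_eq_zero_iff_eq_C] at h0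
    exact ⟨coeff 0 R, by rw [mul_comm, ← h0]⟩

/-- the function whose vanishing at `y` is necessary for the point over `y` (in the projection
from the singular point `s₀`) to lie on a line of the surface meeting the line spanned by `s₀`
and `z` -/
def DeltaN (F : MvPolynomial (Fin 4) K) (s₀ z y : Fin 4 → K) : K :=
  4 * T F s₀ z y ^ 2 * eval y F - 6 * T F s₀ z y * T F s₀ y y * T F z y y
    + 3 * T F z z y * T F s₀ y y ^ 2

theorem DeltaN_poly (hF : F.IsHomogeneous 3) (s₀ z : Fin 4 → K) :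
    Pf.IsMvPolyFun (fun y : Fin 4 → K => DeltaN F s₀ z y) := by
  have hc : ∀ c : Fin 4 → K, ∀ i, Pf.IsMvPolyFun (fun _ : Fin 4 → K => c i) :=
    fun c i => Pf.IsMvPolyFun.const (c i)
  have hp : ∀ i, Pf.IsMvPolyFun (fun y : Fin 4 → K => y i) := fun i => Pf.IsMvPolyFun.proj i
  have hα := Pf.IsMvPolyFun.trilin F (u := fun _ => s₀) (v := fun _ => z) (w := fun y => y)
    (hc s₀) (hc z) hp
  have hq := Pf.IsMvPolyFun.trilin F (u := fun _ => s₀) (v := fun y => y) (w := fun y => y)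
    (hc s₀) hp hp
  have hTz := Pf.IsMvPolyFun.trilin F (u := fun _ => z) (v := fun y => y) (w := fun y => y)
    (hc z) hp hp
  have hβ := Pf.IsMvPolyFun.trilin F (u := fun _ => z) (v := fun _ => z) (w := fun y => y)
    (hc z) (hc z) hp
  have hFy := Pf.IsMvPolyFun.evalF hF (u := fun y : Fin 4 → K => y) hp
  unfold DeltaN
  exact ((((Pf.IsMvPolyFun.const 4).mul (hα.pow 2)).mul hFy).sub
    ((((Pf.IsMvPolyFun.const 6).mul hα).mul hq).mul hTz)).add
    (((Pf.IsMvPolyFun.const 3).mul hβ).mul (hq.pow 2))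

theorem DeltaN_comb (s₀ z y : Fin 4 → K) (hs : T F s₀ s₀ y = 0) (lam t : K) :
    DeltaN F s₀ (lam • z + t • s₀) y = lam ^ 2 * DeltaN F s₀ z y := by
  unfold DeltaN
  simp only [T_add_left, T_add_mid, T_smul_left, T_smul_mid]
  rw [T_comm12 F z s₀ y, hs]
  ring

theorem DeltaN_nonvanish (hF : F.IsHomogeneous 3) (hirr : Irreducible F)
    (hcone : ¬ ∃ v : Fin 4 → K, v ≠ 0 ∧ ∑ i : Fin 4, v i • pderiv i F = 0)
    (s₀ z : Fin 4 → K) (hs₀ : s₀ ≠ 0) (hqz : T F s₀ z z = 0)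
    (hΔ : ∀ y, DeltaN F s₀ z y = 0) :
    (∀ y, T F s₀ z y = 0) ∧ (∀ y, T F z z y = 0) := by
  have hF0 : F ≠ 0 := hirr.ne_zero
  have hQne : polarP F s₀ ≠ 0 := fun h => hcone ⟨s₀, hs₀, h⟩
  obtain ⟨αP, hαP⟩ : ∃ αP : MvPolynomial (Fin 4) K, αP = linPoly (Tdual F s₀ z) := ⟨_, rfl⟩
  obtain ⟨βP, hβP⟩ : ∃ βP : MvPolynomial (Fin 4) K, βP = linPoly (Tdual F z z) := ⟨_, rfl⟩
  have eα : ∀ y, eval y αP = T F s₀ z y := fun y => by rw [hαP, eval_linPoly, Tdual_apply]
  have eβ : ∀ y, eval y βP = T F z z y := fun y => by rw [hβP, eval_linPoly, Tdual_apply]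
  have hαh : αP.IsHomogeneous 1 := by rw [hαP]; exact linPoly_homog _
  have hβh : βP.IsHomogeneous 1 := by rw [hβP]; exact linPoly_homog _
  obtain ⟨W, hW⟩ : ∃ W : MvPolynomial (Fin 4) K,
      W = αP * polarP F z + αP * polarP F z - βP * polarP F s₀ := ⟨_, rfl⟩
  have hWh : W.IsHomogeneous 3 := by
    rw [hW]
    exact ((hαh.mul (polarP_homog hF z)).add (hαh.mul (polarP_homog hF z))).sub
      (hβh.mul (polarP_homog hF s₀))
  have hid : 12 * αP ^ 2 * F = polarP F s₀ * W := by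
    apply MvPolynomial.funext
    intro y
    have h1 := hΔ y
    unfold DeltaN at h1
    rw [hW]
    simp only [map_mul, map_sub, map_add, map_pow, eα, eβ, eval_polarP hF, map_ofNat]
    linear_combination 3 * h1
  have hdvd : F ∣ polarP F s₀ * W := ⟨12 * αP ^ 2, by rw [← hid]; ring⟩
  have hα : ∀ y, T F s₀ z y = 0 := by
    rcases hirr.prime.dvd_or_dvd hdvd with h | h
    · exact absurd (eq_zero_of_dvd_deg2 hF hF0 (polarP_homog hF s₀).totalDegree_le h) hQne
    · obtain ⟨κ, hκ⟩ := eq_C_mul_of_dvd_deg3 hF hF0 hWh.totalDegree_le h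
      have h1 : 12 * αP ^ 2 = polarP F s₀ * C κ := by
        apply mul_right_cancel₀ hF0
        rw [hid, hκ]; ring
      have h2 : ∀ y, 12 * T F s₀ z y ^ 2 = 3 * T F s₀ y y * κ := by
        intro y
        have h3 := congrArg (eval y) h1
        simp only [map_mul, map_pow, eα, eval_polarP hF, map_ofNat, eval_C] at h3
        exact h3
      intro y
      have e1 := h2 y
      have e2 := h2 (y + z)
      simp only [T_add_mid, T_add_right] at e2
      rw [hqz, T_comm23 F s₀ y z] at e2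
      have e3 : κ * T F s₀ z y = 0 := by
        linear_combination (-1 / 6 : K) * e2 + (1 / 6 : K) * e1
      have e4 : T F s₀ z y ^ 3 = 0 := by
        linear_combination (1 / 12 : K) * T F s₀ z y * e1 + (1 / 4 : K) * T F s₀ y y * e3
      exact (pow_eq_zero_iff (by norm_num)).mp e4
  refine ⟨hα, ?_⟩
  have hβ0 : βP * polarP F s₀ ^ 2 = 0 := by
    apply MvPolynomial.funext
    intro y
    have h1 := hΔ y
    unfold DeltaN at h1
    rw [hα y] at h1
    simp only [map_mul, map_pow, eβ, eval_polarP hF, map_zero]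
    linear_combination 3 * h1
  have hβP0 : βP = 0 := by
    rcases mul_eq_zero.mp hβ0 with h | h
    · exact h
    · exact absurd ((pow_eq_zero_iff two_ne_zero).mp h) hQne
  intro y
  rw [← eβ, hβP0, map_zero]

/-- the case of a singular point which is not on a double line -/
theorem caseN [IsAlgClosed K] (hF : F.IsHomogeneous 3) (hirr : Irreducible F)
    (hcone : ¬ ∃ v : Fin 4 → K, v ≠ 0 ∧ ∑ i : Fin 4, v i • pderiv i F = 0)
    (s₀ : Fin 4 → K) (hs₀ : s₀ ≠ 0) (hsingP : ∀ i : Fin 4, eval s₀ (pderiv i F) = 0)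
    (hN : ¬ ∃ z : Fin 4 → K, (∀ s t : K, s • s₀ + t • z = 0 → s = 0 ∧ t = 0) ∧
      (∀ y, T F s₀ z y = 0) ∧ (∀ y, T F z z y = 0)) :
    ∃ a : Fin 4 → K, a ≠ 0 ∧ eval a F = 0 ∧ (∃ i : Fin 4, eval a (pderiv i F) ≠ 0) ∧
      ¬ tpP F a := by
  classical
  have hsing : ∀ y, T F s₀ s₀ y = 0 := by
    intro y
    have h := tangent_sum hF s₀ y
    simp only [hsingP, zero_mul, Finset.sum_const_zero] at h
    exact (mul_eq_zero.mp h.symm).resolve_left three_ne_zero
  have hFs₀ : eval s₀ F = 0 := by rw [eval_eq_T hF]; exact hsing s₀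
  obtain ⟨𝒰, h𝒰⟩ : ∃ 𝒰 : Set (Submodule K (Fin 4 → K)),
      𝒰 = {U : Submodule K (Fin 4 → K) | s₀ ∈ U ∧ Module.finrank K U = 2 ∧
        ∀ u ∈ U, eval u F = 0} := ⟨_, rfl⟩
  have hfin : 𝒰.Finite := by
    rw [h𝒰]
    exact Set.finite_of_encard_le_coe (k := 6) (Sing.lines_le_six hF hirr hcone s₀ hs₀ hsingP)
  have hmem𝒰 : ∀ U, U ∈ 𝒰 ↔
      (s₀ ∈ U ∧ Module.finrank K U = 2 ∧ ∀ u ∈ U, eval u F = 0) := by
    intro U; rw [h𝒰]; rfl
  have hz : ∀ U ∈ 𝒰, ∃ z : Fin 4 → K, z ∈ U ∧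
      ∀ s t : K, s • s₀ + t • z = 0 → s = 0 ∧ t = 0 := by
    intro U hU
    obtain ⟨hsU, hU2, -⟩ := (hmem𝒰 U).mp hU
    obtain ⟨v, hvU, hind⟩ := Nod.exists_indep_in_line hU2 hs₀ hsU
    exact ⟨v, hvU, hind⟩
  choose! zU hzU using hz
  have hTb : ∀ y, T F (Pf.Psi F s₀ y) (Pf.Psi F s₀ y) s₀ = 9 * T F s₀ y y ^ 3 := by
    intro y
    unfold Pf.Psi
    rw [← Tri.T_rot F s₀, quad_expand, hsing s₀, hsing y]; ring
  -- a T-point over `y` forces the vanishing of some `DeltaN`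
  have claim : ∀ y : Fin 4 → K, T F s₀ y y ≠ 0 → tpP F (Pf.Psi F s₀ y) →
      ∃ U ∈ 𝒰, DeltaN F s₀ (zU U) y = 0 := by
    intro y hq htp
    obtain ⟨b, hb⟩ : ∃ b, b = Pf.Psi F s₀ y := ⟨_, rfl⟩
    rw [← hb] at htp
    have hTbs : T F b b s₀ ≠ 0 := by
      rw [hb, hTb]; exact mul_ne_zero (by norm_num) (pow_ne_zero 3 hq)
    obtain ⟨m, hind, hline⟩ := tp_second hF b htp
    have hUM : ∀ u ∈ Nod.pairSpan b m, eval u F = 0 := by
      intro u hu
      obtain ⟨s, t, rfl⟩ := Nod.mem_pairSpan.mp hu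
      exact hline s t
    have hbM : b ∈ Nod.pairSpan b m := Nod.left_mem_pairSpan b m
    obtain ⟨s, t, hst, hq0⟩ := quad_zero (T F s₀ b b) (T F s₀ b m) (T F s₀ m m)
    obtain ⟨z, hz⟩ : ∃ z, z = s • b + t • m := ⟨_, rfl⟩
    have hzM : z ∈ Nod.pairSpan b m := by rw [hz]; exact Nod.mem_pairSpan.mpr ⟨s, t, rfl⟩
    have hz0 : z ≠ 0 := by
      intro h0
      rw [hz] at h0
      obtain ⟨h1, h2⟩ := hind s t h0
      rcases hst with h | h
      · exact h h1
      · exact h h2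
    have hqz : T F s₀ z z = 0 := by
      rw [hz, quad_expand]; linear_combination hq0
    have hFz : eval z F = 0 := hUM z hzM
    have hindz : ∀ σ τ : K, σ • s₀ + τ • z = 0 → σ = 0 ∧ τ = 0 := by
      intro σ τ h
      by_cases hσ : σ = 0
      · subst hσ
        rw [zero_smul, zero_add] at h
        exact ⟨rfl, (smul_eq_zero.mp h).resolve_right hz0⟩
      · exfalso
        have hs₀M : s₀ ∈ Nod.pairSpan b m := by
          have h1 : σ • s₀ = -(τ • z) := eq_neg_of_add_eq_zero_left h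
          have h2 : s₀ = (-(σ⁻¹ * τ)) • z := by
            calc s₀ = σ⁻¹ • (σ • s₀) := by rw [smul_smul, inv_mul_cancel₀ hσ, one_smul]
              _ = (-(σ⁻¹ * τ)) • z := by rw [h1, smul_neg, smul_smul, neg_smul]
          rw [h2]
          exact Submodule.smul_mem _ _ hzM
        exact hTbs (line_cond hF _ hUM hbM hs₀M).1
    have hU𝒰 : Nod.pairSpan s₀ z ∈ 𝒰 := by
      rw [hmem𝒰]
      refine ⟨Nod.left_mem_pairSpan _ _, Nod.finrank_pairSpan hindz, ?_⟩
      intro u hu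
      obtain ⟨σ, τ, rfl⟩ := Nod.mem_pairSpan.mp hu
      rw [cube_expand hF, hFs₀, hsing z, hqz, hFz]; ring
    refine ⟨Nod.pairSpan s₀ z, hU𝒰, ?_⟩
    obtain ⟨σ, τ, hστ⟩ := Nod.mem_pairSpan.mp (hzU _ hU𝒰).1
    have hστ' : zU (Nod.pairSpan s₀ z) = τ • z + σ • s₀ := by rw [hστ, add_comm]
    rw [hστ', DeltaN_comb s₀ z y (hsing y)]
    obtain ⟨hbbz, hbzz⟩ := line_cond hF _ hUM hbM hzM
    have h3q : (3 : K) * T F s₀ y y ≠ 0 := mul_ne_zero three_ne_zero hq
    have hβ : T F z z y = 0 := by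
      rw [hb] at hbzz
      unfold Pf.Psi at hbzz
      rw [T_add_left, T_smul_left, T_smul_left, hqz, mul_zero, zero_add,
        Tri.T_rot F y z z] at hbzz
      exact (mul_eq_zero.mp hbzz).resolve_left h3q
    have hrel : 3 * T F s₀ y y * T F z y y = 2 * eval y F * T F s₀ z y := by
      rw [hb] at hbbz
      unfold Pf.Psi at hbbz
      rw [← Tri.T_rot F z, quad_expand, Tri.T_rot F z s₀ s₀, hsing z,
        T_comm12 F z s₀ y] at hbbz
      have h5 : (3 * T F s₀ y y) *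
          (3 * T F s₀ y y * T F z y y - 2 * eval y F * T F s₀ z y) = 0 := by
        linear_combination hbbz
      have h6 := (mul_eq_zero.mp h5).resolve_left h3q
      linear_combination h6
    have hD : DeltaN F s₀ z y = 0 := by
      unfold DeltaN
      rw [hβ]
      linear_combination (-2 * T F s₀ z y) * hrel
    rw [hD, mul_zero]
  -- choice of `y`
  obtain ⟨S, hS⟩ : ∃ S : Finset (Option (Submodule K (Fin 4 → K))),
      S = insert none (hfin.toFinset.image some) := ⟨_, rfl⟩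
  obtain ⟨f, hf⟩ : ∃ f : Option (Submodule K (Fin 4 → K)) → (Fin 4 → K) → K,
      f = fun o => o.elim (fun y => T F s₀ y y) (fun U y => DeltaN F s₀ (zU U) y) := ⟨_, rfl⟩
  have hfpoly : ∀ o ∈ S, Pf.IsMvPolyFun (f o) := by
    intro o _
    rw [hf]
    cases o with
    | none =>
      exact Pf.IsMvPolyFun.trilin F (u := fun _ => s₀) (v := fun y => y) (w := fun y => y)
        (fun i => Pf.IsMvPolyFun.const _) (fun i => Pf.IsMvPolyFun.proj i)
        (fun i => Pf.IsMvPolyFun.proj i)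
    | some U => exact DeltaN_poly hF s₀ (zU U)
  have hfne : ∀ o ∈ S, ∃ y, f o y ≠ 0 := by
    intro o ho
    rw [hf]
    cases o with
    | none =>
      by_contra hcon
      push Not at hcon
      exact hcone ⟨s₀, hs₀, polarP_eq_zero hF s₀ hcon⟩
    | some U =>
      have hU : U ∈ 𝒰 := by
        rw [hS, Finset.mem_insert] at ho
        rcases ho with h | h
        · exact absurd h (by simp)
        · obtain ⟨U', hU', hUU'⟩ := Finset.mem_image.mp h
          rw [← Option.some.inj hUU']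
          exact hfin.mem_toFinset.mp hU'
      by_contra hcon
      push Not at hcon
      obtain ⟨hsU, hU2, hUS⟩ := (hmem𝒰 U).mp hU
      have hqz : T F s₀ (zU U) (zU U) = 0 := (line_cond hF U hUS hsU (hzU U hU).1).2
      obtain ⟨hα, hβ⟩ := DeltaN_nonvanish hF hirr hcone s₀ (zU U) hs₀ hqz hcon
      exact hN ⟨zU U, (hzU U hU).2, hα, hβ⟩
  obtain ⟨y, hy⟩ := Pf.IsMvPolyFun.exists_common_ne_zero S f hfpoly hfne
  have hq : T F s₀ y y ≠ 0 := by
    have h1 := hy none (by rw [hS]; exact Finset.mem_insert_self _ _)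
    rw [hf] at h1
    exact h1
  have hTbs : T F (Pf.Psi F s₀ y) (Pf.Psi F s₀ y) s₀ ≠ 0 := by
    rw [hTb]; exact mul_ne_zero (by norm_num) (pow_ne_zero 3 hq)
  refine ⟨Pf.Psi F s₀ y, Pf.ne_zero_of_T _ s₀ hTbs, Pf.Psi_on hF s₀ y hFs₀ (hsing y),
    Pf.smooth_of_T hF _ s₀ hTbs, ?_⟩
  intro htp
  obtain ⟨U, hU, hD⟩ := claim y hq htp
  have h1 := hy (some U) (by
    rw [hS]
    exact Finset.mem_insert_of_mem (Finset.mem_image_of_mem _ (hfin.mem_toFinset.mpr hU)))
  rw [hf] at h1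
  exact h1 hD

end

end Groth.Agent.H91.KL
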