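import Groth.Agent.H91.KL2

/-!
Existence of a smooth point which is not a T-point: the case of a double line, and the general
statement.
-/

namespace Groth.Agent.H91.KL

open MvPolynomial Groth.Agent.H91.CubicK Groth.Agent.H91.Polar Groth.Agent.H91.TPt

set_option linter.unusedSectionVars false
set_option linter.unusedVariables false

noncomputable section

variable {K : Type*} [Field K] [CharZero K] {F : MvPolynomial (Fin 4) K}

/-- the two polar quadrics of a double line are not proportional at first order -/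
theorem exists_wu (hF : F.IsHomogeneous 3)
    (hcone : ¬ ∃ v : Fin 4 → K, v ≠ 0 ∧ ∑ i : Fin 4, v i • pderiv i F = 0)
    (s₀ z : Fin 4 → K) (hind : ∀ s t : K, s • s₀ + t • z = 0 → s = 0 ∧ t = 0) :
    ∃ w u : Fin 4 → K, T F s₀ w w ≠ 0 ∧
      T F z w w * T F s₀ w u - T F s₀ w w * T F z w u ≠ 0 := by
  classical
  have hs₀ : s₀ ≠ 0 := by
    intro h
    have h1 := hind 1 0 (by rw [h, smul_zero, zero_smul, add_zero])
    exact one_ne_zero h1.1
  obtain ⟨w₀, hw₀⟩ : ∃ w₀, T F s₀ w₀ w₀ ≠ 0 := by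
    by_contra hcon
    push Not at hcon
    exact hcone ⟨s₀, hs₀, polarP_eq_zero hF s₀ hcon⟩
  by_cases hP : ∃ w u : Fin 4 → K, T F z w w * T F s₀ w u - T F s₀ w w * T F z w u ≠ 0
  · obtain ⟨w₁, u₁, hwu⟩ := hP
    have hl : ∀ i, Pf.IsMvPolyFun (fun x : Fin 4 ⊕ Fin 4 → K => x (Sum.inl i)) :=
      fun i => Pf.IsMvPolyFun.proj _
    have hr : ∀ i, Pf.IsMvPolyFun (fun x : Fin 4 ⊕ Fin 4 → K => x (Sum.inr i)) :=
      fun i => Pf.IsMvPolyFun.proj _
    have hc : ∀ c : Fin 4 → K, ∀ i, Pf.IsMvPolyFun (fun _ : Fin 4 ⊕ Fin 4 → K => c i) :=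
      fun c i => Pf.IsMvPolyFun.const _
    have pA := Pf.IsMvPolyFun.trilin F (u := fun _ : Fin 4 ⊕ Fin 4 → K => s₀)
      (v := fun x i => x (Sum.inl i)) (w := fun x i => x (Sum.inl i)) (hc s₀) hl hl
    have pB := Pf.IsMvPolyFun.trilin F (u := fun _ : Fin 4 ⊕ Fin 4 → K => z)
      (v := fun x i => x (Sum.inl i)) (w := fun x i => x (Sum.inl i)) (hc z) hl hl
    have pA' := Pf.IsMvPolyFun.trilin F (u := fun _ : Fin 4 ⊕ Fin 4 → K => s₀)
      (v := fun x i => x (Sum.inl i)) (w := fun x i => x (Sum.inr i)) (hc s₀) hl hr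
    have pB' := Pf.IsMvPolyFun.trilin F (u := fun _ : Fin 4 ⊕ Fin 4 → K => z)
      (v := fun x i => x (Sum.inl i)) (w := fun x i => x (Sum.inr i)) (hc z) hl hr
    have pP := (pB.mul pA').sub (pA.mul pB')
    obtain ⟨f, hf⟩ : ∃ f : Bool → (Fin 4 ⊕ Fin 4 → K) → K,
        f = fun b => cond b
          (fun x => T F s₀ (fun i => x (Sum.inl i)) (fun i => x (Sum.inl i)))
          (fun x => T F z (fun i => x (Sum.inl i)) (fun i => x (Sum.inl i)) *
              T F s₀ (fun i => x (Sum.inl i)) (fun i => x (Sum.inr i)) -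
            T F s₀ (fun i => x (Sum.inl i)) (fun i => x (Sum.inl i)) *
              T F z (fun i => x (Sum.inl i)) (fun i => x (Sum.inr i))) := ⟨_, rfl⟩
    have hfpoly : ∀ b ∈ (Finset.univ : Finset Bool), Pf.IsMvPolyFun (f b) := by
      intro b _
      rw [hf]
      cases b
      · exact pP
      · exact pA
    have hfne : ∀ b ∈ (Finset.univ : Finset Bool), ∃ x, f b x ≠ 0 := by
      intro b _
      rw [hf]
      cases b
      · exact ⟨Sum.elim w₁ u₁, hwu⟩
      · exact ⟨Sum.elim w₀ 0, hw₀⟩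
    obtain ⟨x, hx⟩ := Pf.IsMvPolyFun.exists_common_ne_zero Finset.univ f hfpoly hfne
    have h1 := hx true (Finset.mem_univ _)
    have h2 := hx false (Finset.mem_univ _)
    rw [hf] at h1 h2
    exact ⟨fun i => x (Sum.inl i), fun i => x (Sum.inr i), h1, h2⟩
  · exfalso
    push Not at hP
    have hii : ∀ u, T F s₀ w₀ w₀ * T F z u u - T F z w₀ w₀ * T F s₀ u u = 0 := by
      intro u
      have hc : ∀ τ : K, τ ^ 3 * 0
          + τ ^ 2 * (T F z w₀ u * T F s₀ u u - T F s₀ w₀ u * T F z u u)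
          + τ * (T F z w₀ w₀ * T F s₀ u u - T F s₀ w₀ w₀ * T F z u u)
          + (T F z w₀ w₀ * T F s₀ w₀ u - T F s₀ w₀ w₀ * T F z w₀ u) = 0 := by
        intro τ
        have h := hP (w₀ + τ • u) u
        simp only [T_add_mid, T_add_right, T_smul_mid, T_smul_right] at h
        rw [T_comm23 F s₀ u w₀, T_comm23 F z u w₀] at h
        linear_combination h
      obtain ⟨-, c1, -, -⟩ := cubic_coeffs hc
      linear_combination -c1
    obtain ⟨v, hv⟩ : ∃ v : Fin 4 → K, v = (T F s₀ w₀ w₀) • z + (-(T F z w₀ w₀)) • s₀ :=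
      ⟨_, rfl⟩
    have hv0 : v ≠ 0 := by
      intro h0
      rw [hv, add_comm] at h0
      exact hw₀ (hind _ _ h0).2
    have hvy : ∀ y, T F v y y = 0 := by
      intro y
      obtain ⟨u, rfl⟩ : ∃ u, y = w₀ + u := ⟨y - w₀, by abel⟩
      rw [hv, T_add_left, T_smul_left, T_smul_left]
      simp only [T_add_mid, T_add_right]
      rw [T_comm23 F z u w₀, T_comm23 F s₀ u w₀]
      linear_combination (-2) * hP w₀ u + hii u
    exact hcone ⟨v, hv0, polarP_eq_zero hF v hvy⟩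

/-- the case of a double line -/
theorem caseNN [IsAlgClosed K] (hF : F.IsHomogeneous 3) (hirr : Irreducible F)
    (hcone : ¬ ∃ v : Fin 4 → K, v ≠ 0 ∧ ∑ i : Fin 4, v i • pderiv i F = 0)
    (s₀ z : Fin 4 → K) (hind : ∀ s t : K, s • s₀ + t • z = 0 → s = 0 ∧ t = 0)
    (h11 : ∀ y, T F s₀ s₀ y = 0) (h12 : ∀ y, T F s₀ z y = 0) (h22 : ∀ y, T F z z y = 0) :
    ∃ a : Fin 4 → K, a ≠ 0 ∧ eval a F = 0 ∧ (∃ i : Fin 4, eval a (pderiv i F) ≠ 0) ∧
      ¬ tpP F a := by
  obtain ⟨w, u, hA, hρu⟩ := exists_wu hF hcone s₀ z hind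
  obtain ⟨Aw, hAw⟩ : ∃ Aw : K, Aw = T F s₀ w w := ⟨_, rfl⟩
  obtain ⟨Bw, hBw⟩ : ∃ Bw : K, Bw = T F z w w := ⟨_, rfl⟩
  rw [← hAw] at hA
  rw [← hAw, ← hBw] at hρu
  have h21 : ∀ y, T F z s₀ y = 0 := fun y => by rw [T_comm12]; exact h12 y
  have hFs₀ : eval s₀ F = 0 := by rw [eval_eq_T hF]; exact h11 s₀
  have hFz : eval z F = 0 := by rw [eval_eq_T hF]; exact h22 z
  obtain ⟨r, hr⟩ : ∃ r : Fin 4 → K, r = Bw • s₀ + (-Aw) • z := ⟨_, rfl⟩
  have hrs : ∀ y, T F r s₀ y = 0 := by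
    intro y; rw [hr, T_add_left, T_smul_left, T_smul_left, h11, h21]; ring
  have hrz : ∀ y, T F r z y = 0 := by
    intro y; rw [hr, T_add_left, T_smul_left, T_smul_left, h12, h22]; ring
  have hrr : ∀ y, T F r r y = 0 := by
    intro y
    calc T F r r y = T F r (Bw • s₀ + (-Aw) • z) y := by rw [← hr]
      _ = Bw * T F r s₀ y + (-Aw) * T F r z y := by rw [T_add_mid, T_smul_mid, T_smul_mid]
      _ = 0 := by rw [hrs, hrz]; ring
  have hρ : ∀ y, T F r w y = Bw * T F s₀ w y - Aw * T F z w y := by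
    intro y; rw [hr, T_add_left, T_smul_left, T_smul_left]; ring
  have hR : ∀ y, T F r y y = Bw * T F s₀ y y - Aw * T F z y y := by
    intro y; rw [hr, T_add_left, T_smul_left, T_smul_left]; ring
  have hρw : T F r w w = 0 := by rw [hρ, ← hAw, ← hBw]; ring
  have hρu' : T F r w u ≠ 0 := by rw [hρ]; exact hρu
  obtain ⟨ω, hω⟩ : ∃ ω : Fin 4 → K, ω = (T F r u u) • w + (-(2 * T F r w u)) • u := ⟨_, rfl⟩
  have hRω : T F r ω ω = 0 := by rw [hω, quad_expand, hρw]; ring
  have hρω : T F r w ω ≠ 0 := by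
    have h1 : T F r w ω = -(2 * T F r w u ^ 2) := by
      rw [hω, T_add_right, T_smul_right, T_smul_right, hρw]; ring
    rw [h1]
    exact neg_ne_zero.mpr (mul_ne_zero two_ne_zero (pow_ne_zero 2 hρu'))
  -- the base point
  obtain ⟨x₀, hx₀⟩ : ∃ x₀ : K, x₀ * (3 * Aw) = -(eval w F) :=
    ⟨-(eval w F) / (3 * Aw), div_mul_cancel₀ _ (mul_ne_zero three_ne_zero hA)⟩
  obtain ⟨b, hb⟩ : ∃ b : Fin 4 → K, b = x₀ • s₀ + (1 : K) • w := ⟨_, rfl⟩
  have hFb : eval b F = 0 := by
    rw [hb, cube_expand hF, hFs₀, h11, ← hAw]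
    linear_combination hx₀
  have hsb : T F s₀ b b = Aw := by
    rw [hb, quad_expand, h11, h11, ← hAw]; ring
  have hrb : ∀ y, T F r b y = T F r w y := by
    intro y
    rw [hb, T_add_mid, T_smul_mid, T_smul_mid, hrs]; ring
  have hrbb : T F r b b = 0 := by
    rw [hrb, T_comm23, hrb, hρw]
  obtain ⟨D, hD0, hD1⟩ : ∃ D : Tri.LineData F, D.e₀ = b ∧ D.e₁ = r :=
    ⟨{ e₀ := b, e₁ := r
       h000 := by rw [← eval_eq_T hF]; exact hFb
       h001 := by rw [← Tri.T_rot F r]; exact hrbb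
       h011 := by rw [Tri.T_rot]; exact hrr b
       h111 := hrr r }, rfl, rfl⟩
  -- the choice of the constant `c`
  have hc : ∃ c : K, eval ω F - 3 * c * T F s₀ ω ω ≠ 0 := by
    by_cases hAω : T F s₀ ω ω = 0
    · refine ⟨0, ?_⟩
      rw [hAω, mul_zero, sub_zero]
      intro hFω
      have hBω : T F z ω ω = 0 := by
        have h1 := hR ω
        rw [hRω, hAω, mul_zero, zero_sub] at h1
        have h2 : Aw * T F z ω ω = 0 := by linear_combination h1
        exact (mul_eq_zero.mp h2).resolve_left hA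
      -- the plane spanned by `s₀`, `z`, `ω` would lie on the surface
      have hli : ∀ a b' c d : K, a • s₀ + b' • z + c • ω + d • w = 0 →
          a = 0 ∧ b' = 0 ∧ c = 0 ∧ d = 0 := by
        intro a b' c d h0
        have h1 := congrArg (Tdual F r ω) h0
        have h2 := congrArg (Tdual F r w) h0
        simp only [map_add, map_smul, map_zero, Tdual_apply, smul_eq_mul] at h1 h2
        rw [T_comm23 F r ω s₀, hrs, T_comm23 F r ω z, hrz, hRω, T_comm23 F r ω w] at h1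
        rw [T_comm23 F r w s₀, hrs, T_comm23 F r w z, hrz, hρw] at h2
        have hd : d = 0 := by
          have h3 : d * T F r w ω = 0 := by linear_combination h1
          exact (mul_eq_zero.mp h3).resolve_right hρω
        have hc' : c = 0 := by
          have h3 : c * T F r w ω = 0 := by linear_combination h2
          exact (mul_eq_zero.mp h3).resolve_right hρω
        subst hd hc'
        rw [zero_smul, zero_smul, add_zero, add_zero] at h0
        obtain ⟨ha, hb'⟩ := hind a b' h0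
        exact ⟨ha, hb', rfl, rfl⟩
      obtain ⟨B, hB0, hB1, hB2, hB3⟩ := Sing.exists_basis4 hli
      refine Sing.reducible_of_vanish hirr hF (Tdual F r ω) ?_
      intro x hx
      obtain ⟨a, b', c, d, hx4⟩ : ∃ a b' c d : K, x = a • s₀ + b' • z + c • ω + d • w :=
        ⟨_, _, _, _, by rw [← hB0, ← hB1, ← hB2, ← hB3]; exact Sing.basis_expand B x⟩
      rw [hx4] at hx ⊢
      simp only [map_add, map_smul, Tdual_apply, smul_eq_mul] at hx
      rw [T_comm23 F r ω s₀, hrs, T_comm23 F r ω z, hrz, hRω, T_comm23 F r ω w] at hx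
      have hd : d = 0 := by
        have h3 : d * T F r w ω = 0 := by linear_combination hx
        exact (mul_eq_zero.mp h3).resolve_right hρω
      subst hd
      rw [zero_smul, add_zero, add_comm, eval_expand hF ω _ c, hFω, T_add_right, T_smul_right,
        T_smul_right, ← Tri.T_rot F s₀ ω ω, hAω, ← Tri.T_rot F z ω ω, hBω, quad_expand,
        Tri.T_rot F ω s₀ s₀, h11, Tri.T_rot F ω s₀ z, h12, Tri.T_rot F ω z z, h22,
        cube_expand hF, hFs₀, hFz, h11, h12]
      ring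
    · refine ⟨(eval ω F - 1) / (3 * T F s₀ ω ω), ?_⟩
      have h1 : 3 * ((eval ω F - 1) / (3 * T F s₀ ω ω)) * T F s₀ ω ω = eval ω F - 1 := by
        field_simp
      rw [h1]
      simp
  obtain ⟨c, hc⟩ := hc
  obtain ⟨τ, hτ⟩ : ∃ τ : K, τ * (2 * T F r w ω) = Aw * c - T F b b ω :=
    ⟨(Aw * c - T F b b ω) / (2 * T F r w ω), div_mul_cancel₀ _ (mul_ne_zero two_ne_zero hρω)⟩
  obtain ⟨n, hn⟩ : ∃ n : Fin 4 → K, n = (-c) • s₀ + ω := ⟨_, rfl⟩
  have haay : ∀ y, T F ((1 : K) • b + τ • r) ((1 : K) • b + τ • r) y =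
      T F b b y + 2 * τ * T F r w y := by
    intro y
    rw [← Tri.T_rot F y, quad_expand, Tri.T_rot F y r r, hrr, Tri.T_rot F y b r,
      T_comm12 F b r y, hrb, Tri.T_rot F y b b]
    ring
  have haas : T F ((1 : K) • b + τ • r) ((1 : K) • b + τ • r) s₀ = Aw := by
    rw [haay, ← Tri.T_rot F s₀ b b, hsb, T_comm23 F r w s₀, hrs]; ring
  have haan : T F ((1 : K) • b + τ • r) ((1 : K) • b + τ • r) n = 0 := by
    rw [hn, T_add_right, T_smul_right, haas, haay]
    linear_combination hτ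
  have e_gb : T F b r n = T F r w ω := by
    rw [T_comm12, hrb, hn, T_add_right, T_smul_right, T_comm23 F r w s₀, hrs]; ring
  have e_gc : T F r r n = 0 := hrr n
  have e_ge : T F r n n = 0 := by
    rw [hn]
    simp only [T_add_mid, T_add_right, T_smul_mid, T_smul_right]
    rw [hrs, hrs, T_comm23 F r ω s₀, hrs, hRω]; ring
  have e_gf : T F n n n = eval ω F - 3 * c * T F s₀ ω ω := by
    rw [← eval_eq_T hF, hn, eval_expand hF, hFs₀, h11]; ring
  have hΔ : D.Delta n ≠ 0 := by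
    have h1 : D.Delta n = -(2 * T F n n n) * (6 * T F r w ω) ^ 2 := by
      unfold Tri.LineData.Delta Tri.det3 Tri.LineData.ga Tri.LineData.gb Tri.LineData.gc
        Tri.LineData.gd Tri.LineData.ge Tri.LineData.gf
      rw [hD0, hD1, e_gb, e_gc, e_ge]; ring
    rw [h1, e_gf]
    exact mul_ne_zero (neg_ne_zero.mpr (mul_ne_zero two_ne_zero hc))
      (pow_ne_zero 2 (mul_ne_zero (by norm_num) hρω))
  have hnT := nonT_of_conic hF hirr D n 1 τ (Or.inl one_ne_zero)
    (by rw [hD0, hD1]; exact haan) hΔ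
  rw [hD0, hD1] at hnT
  have hAne : T F ((1 : K) • b + τ • r) ((1 : K) • b + τ • r) s₀ ≠ 0 := by rw [haas]; exact hA
  refine ⟨(1 : K) • b + τ • r, Pf.ne_zero_of_T _ s₀ hAne, ?_, Pf.smooth_of_T hF _ s₀ hAne, hnT⟩
  have h1 := D.eval_line hF 1 τ
  rw [hD0, hD1] at h1
  exact h1

/-- an irreducible cubic surface which is not a cone has a smooth point which is not a
T-point -/
theorem exists_nonT [IsAlgClosed K] (hF : F.IsHomogeneous 3) (hirr : Irreducible F)
    (hcone : ¬ ∃ v : Fin 4 → K, v ≠ 0 ∧ ∑ i : Fin 4, v i • pderiv i F = 0) :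
    ∃ a : Fin 4 → K, a ≠ 0 ∧ eval a F = 0 ∧ (∃ i : Fin 4, eval a (pderiv i F) ≠ 0) ∧
      ¬ tpP F a := by
  by_cases hsm : ∀ v : Fin 4 → K, v ≠ 0 → eval v F = 0 → ∃ i : Fin 4, eval v (pderiv i F) ≠ 0
  · exact partA hF hirr hsm
  · push Not at hsm
    obtain ⟨s₀, hs₀, hFs₀, hsingP⟩ := hsm
    by_cases hN : ∃ z : Fin 4 → K, (∀ s t : K, s • s₀ + t • z = 0 → s = 0 ∧ t = 0) ∧
        (∀ y, T F s₀ z y = 0) ∧ (∀ y, T F z z y = 0)
    · obtain ⟨z, hind, h12, h22⟩ := hN
      have h11 : ∀ y, T F s₀ s₀ y = 0 := by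
        intro y
        have h := tangent_sum hF s₀ y
        simp only [hsingP, zero_mul, Finset.sum_const_zero] at h
        exact (mul_eq_zero.mp h.symm).resolve_left three_ne_zero
      exact caseNN hF hirr hcone s₀ z hind h11 h12 h22
    · exact caseN hF hirr hcone s₀ hs₀ hsingP hN

end

end Groth.Agent.H91.KL
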