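import Groth.Agent.H91.KL3

/-!
A polynomial condition implying that a point of a cubic surface is smooth and not a T-point.
-/

namespace Groth.Agent.H91.KL

open MvPolynomial Groth.Agent.H91.CubicK Groth.Agent.H91.Polar Groth.Agent.H91.TPt

set_option linter.unusedSectionVars false
set_option linter.unusedVariables false

noncomputable section

variable {K : Type*} [Field K] [CharZero K] {F : MvPolynomial (Fin 4) K}

/-- the moving tangent vector at `b` -/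
def wM (F : MvPolynomial (Fin 4) K) (e n b : Fin 4 → K) : Fin 4 → K :=
  T F b b n • e - T F b b e • n

theorem wM_tangent (e n b : Fin 4 → K) : T F b b (wM F e n b) = 0 := by
  unfold wM
  rw [sub_eq_add_neg, ← neg_smul, T_add_right, T_smul_right, T_smul_right]; ring

theorem wM_poly (e n : Fin 4 → K) : Pf.IsMvPolyVec (fun b : Fin 4 → K => wM F e n b) := by
  have hp : Pf.IsMvPolyVec (fun b : Fin 4 → K => b) := fun j => Pf.IsMvPolyFun.proj j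
  have h1 := Pf.IsMvPolyFun.trilin F (u := fun b : Fin 4 → K => b) (v := fun b => b)
    (w := fun _ => n) hp hp (Pf.IsMvPolyVec.const n)
  have h2 := Pf.IsMvPolyFun.trilin F (u := fun b : Fin 4 → K => b) (v := fun b => b)
    (w := fun _ => e) hp hp (Pf.IsMvPolyVec.const e)
  unfold wM
  exact (Pf.IsMvPolyVec.smul h1 (Pf.IsMvPolyVec.const e)).sub
    (Pf.IsMvPolyVec.smul h2 (Pf.IsMvPolyVec.const n))

/-- first pseudo-remainder at `b` -/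
def gR1 (F : MvPolynomial (Fin 4) K) (e₁ e₂ n b : Fin 4 → K) : K :=
  R1 (T F b (wM F e₁ n b) (wM F e₁ n b)) (2 * T F b (wM F e₁ n b) (wM F e₂ n b))
    (T F b (wM F e₂ n b) (wM F e₂ n b))
    (T F (wM F e₁ n b) (wM F e₁ n b) (wM F e₁ n b))
    (3 * T F (wM F e₁ n b) (wM F e₁ n b) (wM F e₂ n b))
    (3 * T F (wM F e₁ n b) (wM F e₂ n b) (wM F e₂ n b))
    (T F (wM F e₂ n b) (wM F e₂ n b) (wM F e₂ n b))

/-- second pseudo-remainder at `b` -/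
def gR0 (F : MvPolynomial (Fin 4) K) (e₁ e₂ n b : Fin 4 → K) : K :=
  R0 (T F b (wM F e₁ n b) (wM F e₁ n b)) (2 * T F b (wM F e₁ n b) (wM F e₂ n b))
    (T F b (wM F e₂ n b) (wM F e₂ n b))
    (T F (wM F e₁ n b) (wM F e₁ n b) (wM F e₁ n b))
    (3 * T F (wM F e₁ n b) (wM F e₁ n b) (wM F e₂ n b))
    (3 * T F (wM F e₁ n b) (wM F e₂ n b) (wM F e₂ n b))
    (T F (wM F e₂ n b) (wM F e₂ n b) (wM F e₂ n b))

theorem gR1_poly (e₁ e₂ n : Fin 4 → K) :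
    Pf.IsMvPolyFun (fun b : Fin 4 → K => gR1 F e₁ e₂ n b) := by
  have hb : Pf.IsMvPolyVec (fun b : Fin 4 → K => b) := fun j => Pf.IsMvPolyFun.proj j
  have hw₁ := wM_poly (F := F) e₁ n
  have hw₂ := wM_poly (F := F) e₂ n
  have q0 := Pf.IsMvPolyFun.trilin F hb hw₁ hw₁
  have q1 := Pf.IsMvPolyFun.trilin F hb hw₁ hw₂
  have q2 := Pf.IsMvPolyFun.trilin F hb hw₂ hw₂
  have c0 := Pf.IsMvPolyFun.trilin F hw₁ hw₁ hw₁
  have c1 := Pf.IsMvPolyFun.trilin F hw₁ hw₁ hw₂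
  have c2 := Pf.IsMvPolyFun.trilin F hw₁ hw₂ hw₂
  have c3 := Pf.IsMvPolyFun.trilin F hw₂ hw₂ hw₂
  unfold gR1 R1
  exact (((q0.pow 2).mul ((Pf.IsMvPolyFun.const 3).mul c2)).sub ((q0.mul q2).mul c0)).sub
    (((Pf.IsMvPolyFun.const 2).mul q1).mul ((q0.mul ((Pf.IsMvPolyFun.const 3).mul c1)).sub
      (((Pf.IsMvPolyFun.const 2).mul q1).mul c0)))

theorem gR0_poly (e₁ e₂ n : Fin 4 → K) :
    Pf.IsMvPolyFun (fun b : Fin 4 → K => gR0 F e₁ e₂ n b) := by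
  have hb : Pf.IsMvPolyVec (fun b : Fin 4 → K => b) := fun j => Pf.IsMvPolyFun.proj j
  have hw₁ := wM_poly (F := F) e₁ n
  have hw₂ := wM_poly (F := F) e₂ n
  have q0 := Pf.IsMvPolyFun.trilin F hb hw₁ hw₁
  have q1 := Pf.IsMvPolyFun.trilin F hb hw₁ hw₂
  have q2 := Pf.IsMvPolyFun.trilin F hb hw₂ hw₂
  have c0 := Pf.IsMvPolyFun.trilin F hw₁ hw₁ hw₁
  have c1 := Pf.IsMvPolyFun.trilin F hw₁ hw₁ hw₂
  have c3 := Pf.IsMvPolyFun.trilin F hw₂ hw₂ hw₂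
  unfold gR0 R0
  exact ((q0.pow 2).mul c3).sub
    (q2.mul ((q0.mul ((Pf.IsMvPolyFun.const 3).mul c1)).sub
      (((Pf.IsMvPolyFun.const 2).mul q1).mul c0)))

/-- near a smooth point which is not a T-point, being smooth and not a T-point is implied by the
non-vanishing of a polynomial -/
theorem exists_G [IsAlgClosed K] (hF : F.IsHomogeneous 3) (hirr : Irreducible F)
    (a : Fin 4 → K) (ha0 : a ≠ 0) (hFa : eval a F = 0)
    (hsm : ∃ i : Fin 4, eval a (pderiv i F) ≠ 0) (hnT : ¬ tpP F a) :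
    ∃ G : MvPolynomial (Fin 4) K, eval a G ≠ 0 ∧
      ∀ b : Fin 4 → K, eval b G ≠ 0 →
        (∃ i : Fin 4, eval b (pderiv i F) ≠ 0) ∧ ¬ tpP F b := by
  have haa : T F a a a = 0 := by rw [← eval_eq_T hF, hFa]
  obtain ⟨fr0⟩ := exists_frame hF a ha0 haa hsm
  obtain ⟨fr, hA⟩ := exists_good_frame fr0 (fr0.N1 hF ha0 hFa hsm hnT)
  have hN2 := fr.N2 hF ha0 hFa hsm hnT
  have hw₁ : wM F fr.e₁ fr.n a = fr.e₁ := by
    unfold wM; rw [fr.hn, fr.h1, one_smul, zero_smul, sub_zero]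
  have hw₂ : wM F fr.e₂ fr.n a = fr.e₂ := by
    unfold wM; rw [fr.hn, fr.h2, one_smul, zero_smul, sub_zero]
  have hR : ¬ (gR1 F fr.e₁ fr.e₂ fr.n a = 0 ∧ gR0 F fr.e₁ fr.e₂ fr.n a = 0) := by
    rintro ⟨hR1, hR0⟩
    unfold gR1 at hR1
    unfold gR0 at hR0
    rw [hw₁, hw₂] at hR1 hR0
    apply hN2
    refine ⟨T F a fr.e₁ fr.e₁ * T F fr.e₁ fr.e₁ fr.e₁,
      T F a fr.e₁ fr.e₁ * (3 * T F fr.e₁ fr.e₁ fr.e₂)
        - 2 * T F a fr.e₁ fr.e₂ * T F fr.e₁ fr.e₁ fr.e₁,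
      T F a fr.e₁ fr.e₁ ^ 2, pow_ne_zero 2 hA, fun p r => ?_⟩
    rw [cube_expand hF, quad_expand, eval_eq_T hF fr.e₁, eval_eq_T hF fr.e₂]
    unfold R1 at hR1
    unfold R0 at hR0
    linear_combination (p * r ^ 2) * hR1 + r ^ 3 * hR0
  have key : ∀ g : (Fin 4 → K) → K, Pf.IsMvPolyFun g → g a ≠ 0 →
      (∀ b, g b ≠ 0 → ¬ tpP F b) →
      ∃ G : MvPolynomial (Fin 4) K, eval a G ≠ 0 ∧
        ∀ b : Fin 4 → K, eval b G ≠ 0 →
          (∃ i : Fin 4, eval b (pderiv i F) ≠ 0) ∧ ¬ tpP F b := by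
    intro g hg hga hgT
    have hp : Pf.IsMvPolyVec (fun b : Fin 4 → K => b) := fun j => Pf.IsMvPolyFun.proj j
    have hTn := Pf.IsMvPolyFun.trilin F (u := fun b : Fin 4 → K => b) (v := fun b => b)
      (w := fun _ => fr.n) hp hp (Pf.IsMvPolyVec.const fr.n)
    obtain ⟨G, hG⟩ := hTn.mul hg
    have hG' : ∀ b, eval b G = T F b b fr.n * g b := fun b => (hG b).symm
    refine ⟨G, ?_, ?_⟩
    · rw [hG', fr.hn, one_mul]; exact hga
    · intro b hb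
      rw [hG'] at hb
      exact ⟨Pf.smooth_of_T hF b fr.n (left_ne_zero_of_mul hb), hgT b (right_ne_zero_of_mul hb)⟩
  by_cases h1 : gR1 F fr.e₁ fr.e₂ fr.n a = 0
  · have h0 : gR0 F fr.e₁ fr.e₂ fr.n a ≠ 0 := fun h0 => hR ⟨h1, h0⟩
    exact key _ (gR0_poly fr.e₁ fr.e₂ fr.n) h0 (fun b hb htp =>
      hb (tp_resultant hF hirr b _ _ htp (wM_tangent fr.e₁ fr.n b) (wM_tangent fr.e₂ fr.n b)).2)
  · exact key _ (gR1_poly fr.e₁ fr.e₂ fr.n) h1 (fun b hb htp =>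
      hb (tp_resultant hF hirr b _ _ htp (wM_tangent fr.e₁ fr.n b) (wM_tangent fr.e₂ fr.n b)).1)

end

end Groth.Agent.H91.KL
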