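import Groth.Agent.H91.KL4

/-!
A line defined over the ground field all of whose intersection points with the cubic surface
satisfy a given open condition.
-/

namespace Groth.Agent.H91.KL

open MvPolynomial Groth.Agent.H91.CubicK Groth.Agent.H91.Polar Groth.Agent.H91.TPt

set_option linter.unusedSectionVars false
set_option linter.unusedVariables false

noncomputable section

/-- the resultant of a monic irreducible polynomial over an integrally closed domain with a
polynomial which it does not divide is nonzero -/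
theorem resultant_ne_zero_of_not_dvd {R : Type*} [CommRing R] [IsDomain R]
    [IsIntegrallyClosed R] (p g : Polynomial R) (hp : p.Monic) (hirr : Irreducible p)
    (hnd : ¬ p ∣ g) : Polynomial.resultant p g ≠ 0 := by
  have hinj : Function.Injective (algebraMap R (FractionRing R)) :=
    IsFractionRing.injective R (FractionRing R)
  have hirrL : Irreducible (p.map (algebraMap R (FractionRing R))) :=
    (Polynomial.Monic.irreducible_iff_irreducible_map_fraction_map hp).mp hirr
  have hndL : ¬ p.map (algebraMap R (FractionRing R)) ∣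
      g.map (algebraMap R (FractionRing R)) := by
    intro h
    apply hnd
    rw [← Polynomial.modByMonic_eq_zero_iff_dvd hp]
    have h1 : (g %ₘ p).map (algebraMap R (FractionRing R)) = 0 := by
      rw [Polynomial.map_modByMonic _ hp, Polynomial.modByMonic_eq_zero_iff_dvd (hp.map _)]
      exact h
    exact Polynomial.map_injective _ hinj (by rw [h1, Polynomial.map_zero])
  have hcop := hirrL.coprime_iff_not_dvd.mpr hndL
  have hres := Polynomial.resultant_ne_zero _ _ hcop
  intro h0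
  apply hres
  rw [Polynomial.natDegree_map_eq_of_injective hinj, Polynomial.natDegree_map_eq_of_injective hinj,
    Polynomial.resultant_map_map, h0, map_zero]

variable {K : Type*} [Field K] [CharZero K]

/-- the shear substitution `X i ↦ X i + v i X 0` -/
def shearHom (v : Fin 4 → K) : MvPolynomial (Fin 4) K →ₐ[K] MvPolynomial (Fin 4) K :=
  aeval (fun i => X i + C (v i) * X 0)

theorem eval_shearHom (v x : Fin 4 → K) (p : MvPolynomial (Fin 4) K) :
    eval x (shearHom v p) = eval (x + x 0 • v) p := by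
  unfold shearHom
  rw [← aeval_eq_eval, ← aeval_eq_eval, comp_aeval_apply]
  have h : (fun i => (aeval x) (X i + C (v i) * X 0 : MvPolynomial (Fin 4) K)) = x + x 0 • v := by
    funext i
    simp [aeval_eq_eval, mul_comm]
  rw [h]

theorem shearHom_comp (v : Fin 4 → K) (hv : v 0 = 0) :
    (shearHom v).comp (shearHom (-v)) = AlgHom.id K (MvPolynomial (Fin 4) K) := by
  apply MvPolynomial.algHom_ext
  intro i
  simp only [AlgHom.comp_apply, AlgHom.id_apply, shearHom, aeval_X, map_add, map_mul, aeval_C,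
    Pi.neg_apply, map_neg, hv, map_zero, zero_mul, add_zero, MvPolynomial.algebraMap_eq]
  ring

/-- the shear substitution as an automorphism -/
def shearEquiv (v : Fin 4 → K) (hv : v 0 = 0) :
    MvPolynomial (Fin 4) K ≃ₐ[K] MvPolynomial (Fin 4) K :=
  AlgEquiv.ofAlgHom (shearHom v) (shearHom (-v)) (shearHom_comp v hv)
    (by have h := shearHom_comp (-v) (by simp [hv]); rwa [neg_neg] at h)

theorem shearEquiv_apply (v : Fin 4 → K) (hv : v 0 = 0) (p : MvPolynomial (Fin 4) K) :
    shearEquiv v hv p = shearHom v p := rfl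

theorem shearHom_homog (v : Fin 4 → K) {p : MvPolynomial (Fin 4) K} {n : ℕ}
    (hp : p.IsHomogeneous n) : (shearHom v p).IsHomogeneous n := by
  have h := hp.aeval (fun i => X i + C (v i) * X 0) (n := 1)
    (fun i => (isHomogeneous_X K i).add (isHomogeneous_C_mul_X _ _))
  rwa [one_mul] at h

/-- a line over the ground field all of whose intersection points with the cubic surface avoid
a given hypersurface not containing the surface -/
theorem generic_line {k : Type*} [Field k] [CharZero k] (ι : k →+* K)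
    (F : MvPolynomial (Fin 4) k) (hF : F.IsHomogeneous 3) (hirr : Irreducible (map ι F))
    (G : MvPolynomial (Fin 4) K) (a₀ : Fin 4 → K) (ha₀ : eval a₀ (map ι F) = 0)
    (hG : eval a₀ G ≠ 0) :
    ∃ P Q : Fin 4 → k, eval Q F ≠ 0 ∧ ∀ y : K,
      eval (Pf.mapV ι P + y • Pf.mapV ι Q) (map ι F) = 0 →
      eval (Pf.mapV ι P + y • Pf.mapV ι Q) G ≠ 0 := by
  classical
  have hinj : Function.Injective ι := ι.injective
  have hFK : (map ι F).IsHomogeneous 3 := hF.map ι
  have hF0 : F ≠ 0 := by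
    rintro rfl
    exact hirr.ne_zero (map_zero _)
  obtain ⟨Q', hQ'⟩ : ∃ Q' : Fin 4 → k, eval Q' (X 0 * F) ≠ 0 := by
    by_contra hcon
    push Not at hcon
    have h0 : X 0 * F = 0 := MvPolynomial.funext (fun x => by rw [hcon, map_zero])
    rcases mul_eq_zero.mp h0 with h | h
    · exact X_ne_zero 0 h
    · exact hF0 h
  rw [map_mul, eval_X] at hQ'
  have hQ'0 : Q' 0 ≠ 0 := left_ne_zero_of_mul hQ'
  have hFQ' : eval Q' F ≠ 0 := right_ne_zero_of_mul hQ'
  obtain ⟨Q, hQ⟩ : ∃ Q : Fin 4 → k, Q = (Q' 0)⁻¹ • Q' := ⟨_, rfl⟩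
  have hQ0 : Q 0 = 1 := by
    rw [hQ, Pi.smul_apply, smul_eq_mul, inv_mul_cancel₀ hQ'0]
  have hFQ : eval Q F ≠ 0 := by
    rw [hQ, eval_smul hF]
    exact mul_ne_zero (pow_ne_zero 3 (inv_ne_zero hQ'0)) hFQ'
  -- the shear
  obtain ⟨v, hv⟩ : ∃ v : Fin 4 → K, v = Pf.mapV ι Q - Pi.single 0 1 := ⟨_, rfl⟩
  have hv0 : v 0 = 0 := by rw [hv]; simp [Pf.mapV, hQ0]
  obtain ⟨F', hF'⟩ : ∃ F' : MvPolynomial (Fin 4) K, F' = shearHom v (map ι F) := ⟨_, rfl⟩
  obtain ⟨G', hG'⟩ : ∃ G' : MvPolynomial (Fin 4) K, G' = shearHom v G := ⟨_, rfl⟩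
  have hF'irr : Irreducible F' := by
    rw [hF', ← shearEquiv_apply v hv0]
    exact (MulEquiv.irreducible_iff (shearEquiv v hv0)).mpr hirr
  have hnd : ¬ F' ∣ G' := by
    rw [hF', hG', ← shearEquiv_apply v hv0, ← shearEquiv_apply v hv0 G, map_dvd_iff]
    rintro ⟨R, hR⟩
    apply hG
    rw [hR, map_mul, ha₀, zero_mul]
  have hF'h : F'.IsHomogeneous 3 := by rw [hF']; exact shearHom_homog v hFK
  have evF' : ∀ x, eval x F' = eval (x + x 0 • v) (map ι F) :=
    fun x => by rw [hF', eval_shearHom]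
  have evG' : ∀ x, eval x G' = eval (x + x 0 • v) G := fun x => by rw [hG', eval_shearHom]
  have hvec : ∀ (y : K) (s : Fin 3 → k),
      (Fin.cons y (Pf.mapV ι s) : Fin 4 → K) + y • v =
        Pf.mapV ι (Fin.cons 0 s) + y • Pf.mapV ι Q := by
    intro y s
    funext i
    refine Fin.cases ?_ (fun j => ?_) i
    · simp [Pf.mapV, hv0, hQ0]
    · simp [Pf.mapV, hv]
  have hcons0 : ∀ (y : K) (s : Fin 3 → K), (Fin.cons y s : Fin 4 → K) 0 = y := fun y s => rfl
  -- the leading coefficient
  obtain ⟨e₀, he₀⟩ : ∃ e₀ : Fin 4 → K, e₀ = Fin.cons 1 0 := ⟨_, rfl⟩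
  have hc' : eval e₀ F' = ι (eval Q F) := by
    have h1 : e₀ + e₀ 0 • v = Pf.mapV ι Q := by
      funext i
      rw [he₀]
      refine Fin.cases ?_ (fun j => ?_) i
      · simp [Pf.mapV, hv0, hQ0]
      · simp [Pf.mapV, hv]
    rw [evF', h1, Pf.eval_mapV]
  obtain ⟨c', hc'def⟩ : ∃ c' : K, c' = eval e₀ F' := ⟨_, rfl⟩
  have hc'0 : c' ≠ 0 := by
    rw [hc'def, hc']
    exact fun h => hFQ (hinj (by rw [h, map_zero]))
  obtain ⟨Fh, hFh⟩ : ∃ Fh : Polynomial (MvPolynomial (Fin 3) K), Fh = finSuccEquiv K 3 F' :=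
    ⟨_, rfl⟩
  obtain ⟨Gh, hGh⟩ : ∃ Gh : Polynomial (MvPolynomial (Fin 3) K), Gh = finSuccEquiv K 3 G' :=
    ⟨_, rfl⟩
  have hFhirr : Irreducible Fh := by
    rw [hFh]
    exact (MulEquiv.irreducible_iff (finSuccEquiv K 3)).mpr hF'irr
  have hndh : ¬ Fh ∣ Gh := by
    rw [hFh, hGh, map_dvd_iff]
    exact hnd
  have hdeg_le : Fh.natDegree ≤ 3 := by
    rw [hFh, natDegree_finSuccEquiv]
    exact (degreeOf_le_totalDegree F' 0).trans hF'h.totalDegree_le
  have hf₀ : ∀ y : K, Polynomial.eval y (Fh.map (eval (0 : Fin 3 → K))) = y ^ 3 * c' := by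
    intro y
    rw [hFh, ← eval_eq_eval_mv_eval']
    have h1 : (Fin.cons y (0 : Fin 3 → K) : Fin 4 → K) = y • e₀ := by
      funext i
      rw [he₀]
      refine Fin.cases ?_ (fun j => ?_) i
      · simp
      · simp
    rw [h1, eval_smul hF'h, hc'def]
  have hf₀eq : Fh.map (eval (0 : Fin 3 → K)) = Polynomial.C c' * Polynomial.X ^ 3 := by
    apply Polynomial.funext
    intro y
    rw [hf₀]
    simp
    ring
  have hcoeff3 : eval (0 : Fin 3 → K) (Fh.coeff 3) = c' := by
    rw [← Polynomial.coeff_map, hf₀eq]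
    simp
  have hL0 : Fh.coeff 3 ≠ 0 := by
    intro h
    rw [h, map_zero] at hcoeff3
    exact hc'0 hcoeff3.symm
  have htd : (Fh.coeff 3).totalDegree = 0 := by
    have h1 := totalDegree_coeff_finSuccEquiv_add_le F' 3 (by rw [← hFh]; exact hL0)
    rw [hF'h.totalDegree hF'irr.ne_zero, ← hFh] at h1
    omega
  obtain ⟨cc, hcc⟩ : ∃ cc : K, Fh.coeff 3 = C cc :=
    ⟨_, (totalDegree_eq_zero_iff_eq_C).mp htd⟩
  have hLC : Fh.coeff 3 = C c' := by
    rw [hcc, eval_C] at hcoeff3
    rw [hcc, hcoeff3]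
  have hdeg : Fh.natDegree = 3 := Polynomial.natDegree_eq_of_le_of_coeff_ne_zero hdeg_le hL0
  have hlead : Fh.leadingCoeff = C c' := by
    rw [Polynomial.leadingCoeff, hdeg, hLC]
  have hu : IsUnit (Polynomial.C (C c'⁻¹ : MvPolynomial (Fin 3) K)) :=
    ((isUnit_iff_ne_zero.mpr (inv_ne_zero hc'0)).map C).map Polynomial.C
  obtain ⟨p, hp⟩ : ∃ p : Polynomial (MvPolynomial (Fin 3) K),
      p = Polynomial.C (C c'⁻¹ : MvPolynomial (Fin 3) K) * Fh := ⟨_, rfl⟩
  have hpm : p.Monic := by
    rw [hp, Polynomial.Monic, Polynomial.leadingCoeff_mul, Polynomial.leadingCoeff_C, hlead,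
      ← C_mul, inv_mul_cancel₀ hc'0, C_1]
  have hpirr : Irreducible p := by
    rw [hp]
    exact (irreducible_isUnit_mul hu).mpr hFhirr
  have hpnd : ¬ p ∣ Gh := by
    rw [hp, hu.mul_left_dvd]
    exact hndh
  have hpdeg : p.natDegree = 3 := by
    have hne : (C c'⁻¹ : MvPolynomial (Fin 3) K) ≠ 0 :=
      fun h => inv_ne_zero hc'0 (MvPolynomial.C_injective (Fin 3) K (by rw [h, C_0]))
    rw [hp, Polynomial.natDegree_C_mul hne, hdeg]
  have hρ : Polynomial.resultant p Gh ≠ 0 := resultant_ne_zero_of_not_dvd p Gh hpm hpirr hpnd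
  -- density of the ground field
  obtain ⟨s, hs⟩ : ∃ s : Fin 3 → k, eval (Pf.mapV ι s) (Polynomial.resultant p Gh) ≠ 0 := by
    by_contra hcon
    push Not at hcon
    apply hρ
    apply MvPolynomial.funext_set (fun _ => Set.range ι)
      (fun _ => Set.infinite_range_of_injective hinj)
    intro x hx
    rw [map_zero]
    have hx' : ∀ j, ∃ y : k, ι y = x j := fun j => hx j (Set.mem_univ j)
    choose y hy using hx'
    have hxy : x = Pf.mapV ι y := funext fun j => (hy j).symm
    rw [hxy]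
    exact hcon y
  refine ⟨Fin.cons 0 s, Q, hFQ, ?_⟩
  intro y hy hGy
  have hres : Polynomial.resultant (p.map (eval (Pf.mapV ι s))) (Gh.map (eval (Pf.mapV ι s)))
      p.natDegree Gh.natDegree = eval (Pf.mapV ι s) (Polynomial.resultant p Gh) :=
    Polynomial.resultant_map_map p Gh p.natDegree Gh.natDegree (eval (Pf.mapV ι s))
  obtain ⟨A, B, -, -, hAB⟩ := Polynomial.exists_mul_add_mul_eq_C_resultant
    (m := p.natDegree) (n := Gh.natDegree) (p.map (eval (Pf.mapV ι s)))
    (Gh.map (eval (Pf.mapV ι s))) Polynomial.natDegree_map_le Polynomial.natDegree_map_le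
    (Or.inl (by rw [hpdeg]; norm_num))
  have h1 := congrArg (Polynomial.eval y) hAB
  rw [hres, Polynomial.eval_add, Polynomial.eval_mul, Polynomial.eval_mul,
    Polynomial.eval_C] at h1
  have hp0 : Polynomial.eval y (p.map (eval (Pf.mapV ι s))) = 0 := by
    rw [hp, hFh, Polynomial.map_mul, Polynomial.map_C, Polynomial.eval_mul,
      ← eval_eq_eval_mv_eval', evF', hcons0, hvec, hy, mul_zero]
  have hg0 : Polynomial.eval y (Gh.map (eval (Pf.mapV ι s))) = 0 := by
    rw [hGh, ← eval_eq_eval_mv_eval', evG', hcons0, hvec, hGy]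
  rw [hp0, hg0, zero_mul, zero_mul, add_zero] at h1
  exact hs h1.symm

end

end Groth.Agent.H91.KL
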