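import Groth.Agent.H91.KL5

/-!
A linear Pfaffian representation of a cubic surface over an extension of degree at most three of
the ground field.
-/

namespace Groth.Agent.H91.KL

open MvPolynomial Groth.Agent.H91.CubicK Groth.Agent.H91.Polar Groth.Agent.H91.TPt
  Groth.Agent.H91.Pf

set_option linter.unusedSectionVars false
set_option linter.unusedVariables false

universe u v

noncomputable section

section Gen

variable {k' : Type*} [Field k'] [CharZero k'] {L : Type*} [Field L] [CharZero L]
  [IsAlgClosed L]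

/-- the smooth case of the five points construction, for an arbitrary embedding into an
algebraically closed field -/
theorem smooth_gen' (ι : k' →+* L) (F : MvPolynomial (Fin 4) k') (hF : F.IsHomogeneous 3)
    (hirr : Irreducible (map ι F))
    (a n : Fin 4 → k') (ha : a ≠ 0) (hFa : eval a F = 0)
    (i₀ : Fin 4) (hi₀ : eval a (pderiv i₀ F) ≠ 0) (hn : T F a a n = 1)
    (hnTL : ¬ tpP (map ι F) (mapV ι a))
    (lam : Module.Dual k' (Fin 4 → k')) (hlam : lam ≠ 0) : ∃ x, lam (Phi F a n x) ≠ 0 := by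
  classical
  by_contra hcon
  push Not at hcon
  have hinj : Function.Injective ι := ι.injective
  have hFL : (map ι F).IsHomogeneous 3 := hF.map _
  have haL : mapV ι a ≠ 0 := fun h => ha (mapV_injective ι (by rw [h, mapV_zero]))
  have hFaL : eval (mapV ι a) (map ι F) = 0 := by rw [eval_mapV, hFa, map_zero]
  have hpd : ∀ i, eval (mapV ι a) (pderiv i (map ι F)) = ι (eval a (pderiv i F)) := by
    intro i
    rw [pderiv_map, eval_mapV]
  have hsmL : ∃ i, eval (mapV ι a) (pderiv i (map ι F)) ≠ 0 :=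
    ⟨i₀, by rw [hpd]; exact fun h => hi₀ (hinj (by rw [h, map_zero]))⟩
  have hnL : T (map ι F) (mapV ι a) (mapV ι a) (mapV ι n) = 1 := by
    rw [T_map, hn, map_one]
  obtain ⟨lamL, hlamL⟩ : ∃ lamL : Module.Dual L (Fin 4 → L),
      ∀ x : Fin 4 → k', lamL (mapV ι x) = ι (lam x) := by
    refine ⟨∑ i, ι (lam (Pi.single i 1)) • LinearMap.proj i, fun x => ?_⟩
    have h : lam x = ∑ j, lam (Pi.single j 1) * x j := by
      rw [← eval_linPoly lam x]
      unfold linPoly
      simp only [map_sum, map_mul, eval_C, eval_X]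
    rw [h, map_sum]
    simp only [LinearMap.sum_apply, LinearMap.smul_apply, LinearMap.proj_apply, smul_eq_mul,
      map_mul, mapV]
  have hlamL0 : lamL ≠ 0 := by
    intro h0
    apply hlam
    apply LinearMap.ext
    intro x
    have h := hlamL x
    rw [h0, LinearMap.zero_apply] at h
    rw [LinearMap.zero_apply]
    exact hinj (by rw [← h, map_zero])
  obtain ⟨X₀, hX₀⟩ := exists_off_plane hFL hirr (mapV ι a) (mapV ι n) haL hFaL hsmL hnTL hnL
    lamL hlamL0
  obtain ⟨G, hG⟩ := IsMvPolyFun.dual lamL (Phi_poly hFL (mapV ι a) (mapV ι n))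
  have hG' : ∀ x, lamL (Phi (map ι F) (mapV ι a) (mapV ι n) x) = eval x G := hG
  have hG0 : G = 0 := by
    apply MvPolynomial.funext_set (fun _ => Set.range ι)
      (fun _ => Set.infinite_range_of_injective hinj)
    intro x hx
    rw [map_zero]
    have hx' : ∀ s, ∃ y : k', ι y = x s := fun s => hx s (Set.mem_univ s)
    choose y hy using hx'
    have hxy : x = fun s => ι (y s) := funext fun s => (hy s).symm
    rw [← hG', hxy, ← Phi_map, hlamL, hcon, map_zero]
  apply hX₀
  rw [hG', hG0, map_zero]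

/-- five rational points in general position from a rational smooth point which is not a
T-point -/
theorem five_points' (ι : k' →+* L) (F : MvPolynomial (Fin 4) k') (hF : F.IsHomogeneous 3)
    (hirr : Irreducible (map ι F)) (a : Fin 4 → k') (hFa : eval a F = 0)
    (hsm : ∃ i : Fin 4, eval a (pderiv i F) ≠ 0) (hnT : ¬ tpP (map ι F) (mapV ι a)) :
    ∃ p : Fin 5 → (Fin 4 → k'), p 0 = a ∧ (∀ j : Fin 5, eval (p j) F = 0) ∧
      ∀ j : Fin 5, LinearIndependent k' (fun i : Fin 4 => p (j.succAbove i)) := by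
  classical
  obtain ⟨i₀, hi₀⟩ := hsm
  have hTi : T F a a (Pi.single i₀ 1) ≠ 0 := by
    intro h0
    have h := tangent_sum hF a (Pi.single i₀ 1)
    rw [h0, mul_zero] at h
    apply hi₀
    simpa [Pi.single_apply] using h
  have ha : a ≠ 0 := ne_zero_of_T a _ hTi
  have hn : T F a a ((T F a a (Pi.single i₀ 1))⁻¹ • Pi.single i₀ 1) = 1 := by
    rw [T_smul_right, inv_mul_cancel₀ hTi]
  exact five_points F a ha hFa (Phi F a _) (Phi_poly hF a _) (fun x => Phi_on hF hFa hn x)
    (fun lam hlam => smooth_gen' ι F hF hirr a _ ha hFa i₀ hi₀ hn hnT lam hlam)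

end Gen

/-- not being a cone descends to the ground field -/
theorem cone_descent {k K : Type*} [Field k] [Field K] [Algebra k K]
    (F : MvPolynomial (Fin 4) k)
    (hcone : ¬ ∃ v : Fin 4 → k, v ≠ 0 ∧ ∑ i : Fin 4, v i • pderiv i F = 0) :
    ¬ ∃ v : Fin 4 → K, v ≠ 0 ∧ ∑ i : Fin 4, v i • pderiv i (map (algebraMap k K) F) = 0 := by
  rintro ⟨v, hv0, hv⟩
  obtain ⟨i₀, hi₀⟩ : ∃ i₀, v i₀ ≠ 0 := by
    by_contra h
    push Not at h
    exact hv0 (funext h)
  obtain ⟨π, hπ⟩ := LinearMap.exists_leftInverse_of_injective (Algebra.linearMap k K)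
    (LinearMap.ker_eq_bot.mpr (algebraMap k K).injective)
  have hπ1 : π 1 = 1 := by
    have h1 := LinearMap.congr_fun hπ 1
    simpa using h1
  apply hcone
  refine ⟨fun i => π ((v i₀)⁻¹ * v i), ?_, ?_⟩
  · intro h0
    have h1 := congrFun h0 i₀
    simp only [inv_mul_cancel₀ hi₀, Pi.zero_apply] at h1
    rw [hπ1] at h1
    exact one_ne_zero h1
  · ext m
    rw [coeff_sum, coeff_zero]
    simp only [coeff_smul, smul_eq_mul]
    have h1 := congrArg (coeff m) hv
    rw [coeff_sum, coeff_zero] at h1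
    simp only [coeff_smul, smul_eq_mul, pderiv_map, coeff_map] at h1
    have h2 : π ((v i₀)⁻¹ * ∑ i, v i * algebraMap k K (coeff m (pderiv i F))) = 0 := by
      rw [h1, mul_zero, map_zero]
    rw [Finset.mul_sum, map_sum] at h2
    rw [← h2]
    refine Finset.sum_congr rfl fun i _ => ?_
    have h3 : (v i₀)⁻¹ * (v i * algebraMap k K (coeff m (pderiv i F))) =
        (coeff m (pderiv i F)) • ((v i₀)⁻¹ * v i) := by
      rw [Algebra.smul_def]; ring
    rw [h3, map_smul, smul_eq_mul, mul_comm]

/-- a line over the ground field all of whose intersection points with the surface are smooth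
and not T-points -/
theorem core (k : Type u) [Field k] [CharZero k] (F : MvPolynomial (Fin 4) k)
    (hF : F.IsHomogeneous 3)
    (hirr : Irreducible (map (algebraMap k (AlgebraicClosure k)) F))
    (hcone : ¬ ∃ v : Fin 4 → k, v ≠ 0 ∧ ∑ i : Fin 4, v i • pderiv i F = 0) :
    ∃ P Q : Fin 4 → k, eval Q F ≠ 0 ∧ ∀ y : AlgebraicClosure k,
      eval (mapV (algebraMap k (AlgebraicClosure k)) P
        + y • mapV (algebraMap k (AlgebraicClosure k)) Q)
        (map (algebraMap k (AlgebraicClosure k)) F) = 0 →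
      (∃ i : Fin 4, eval (mapV (algebraMap k (AlgebraicClosure k)) P
        + y • mapV (algebraMap k (AlgebraicClosure k)) Q)
        (pderiv i (map (algebraMap k (AlgebraicClosure k)) F)) ≠ 0) ∧
      ¬ tpP (map (algebraMap k (AlgebraicClosure k)) F)
        (mapV (algebraMap k (AlgebraicClosure k)) P
          + y • mapV (algebraMap k (AlgebraicClosure k)) Q) := by
  have hFK := hF.map (algebraMap k (AlgebraicClosure k))
  have hconeK := cone_descent (K := AlgebraicClosure k) F hcone
  obtain ⟨a₀, ha₀0, hFa₀, hsm, hnT⟩ := exists_nonT hFK hirr hconeK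
  obtain ⟨G, hGa, hGgood⟩ := exists_G hFK hirr a₀ ha₀0 hFa₀ hsm hnT
  obtain ⟨P, Q, hFQ, hline⟩ := generic_line (algebraMap k (AlgebraicClosure k)) F hF hirr G a₀
    hFa₀ hGa
  exact ⟨P, Q, hFQ, fun y hy => hGgood _ (hline y hy)⟩

section Line

variable {k : Type*} [Field k] [CharZero k]

/-- the restriction of the cubic to the line through `P` with direction `Q` -/
def lineCubic (F : MvPolynomial (Fin 4) k) (P Q : Fin 4 → k) : Polynomial k :=
  Polynomial.C (eval Q F) * Polynomial.X ^ 3 + Polynomial.C (3 * T F Q Q P) * Polynomial.X ^ 2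
    + Polynomial.C (3 * T F Q P P) * Polynomial.X + Polynomial.C (eval P F)

theorem lineCubic_natDegree {F : MvPolynomial (Fin 4) k} {P Q : Fin 4 → k}
    (hFQ : eval Q F ≠ 0) : (lineCubic F P Q).natDegree = 3 := by
  unfold lineCubic
  compute_degree!

theorem eval₂_lineCubic {E : Type*} [Field E] [CharZero E] (j : k →+* E)
    {F : MvPolynomial (Fin 4) k} (hF : F.IsHomogeneous 3) (P Q : Fin 4 → k) (y : E) :
    Polynomial.eval₂ j y (lineCubic F P Q) = eval (mapV j P + y • mapV j Q) (map j F) := by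
  unfold lineCubic
  rw [add_comm (mapV j P), eval_expand (hF.map j), eval_mapV, eval_mapV, T_map, T_map]
  simp only [Polynomial.eval₂_add, Polynomial.eval₂_mul, Polynomial.eval₂_C,
    Polynomial.eval₂_pow, Polynomial.eval₂_X, map_mul, map_ofNat, Polynomial.eval₂_ofNat]
  ring

end Line

/-- the main statement: a cubic polynomial over the ground field such that a linear Pfaffian
representation exists over the field generated by any of its roots -/
theorem final (k : Type u) [Field k] [CharZero k] (F : MvPolynomial (Fin 4) k)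
    (hF : F.IsHomogeneous 3)
    (hirr : Irreducible (map (algebraMap k (AlgebraicClosure k)) F))
    (hcone : ¬ ∃ v : Fin 4 → k, v ≠ 0 ∧ ∑ i : Fin 4, v i • pderiv i F = 0) :
    ∃ f : Polynomial k, f.natDegree = 3 ∧
      ∀ (L : Type v) [Field L] [Algebra k L] (α₀ : L), Polynomial.aeval α₀ f = 0 →
      ∀ (ιE : ↥(IntermediateField.adjoin k {α₀}) →ₐ[k] AlgebraicClosure k),
      FiniteDimensional k ↥(IntermediateField.adjoin k {α₀}) ∧
      Module.finrank k ↥(IntermediateField.adjoin k {α₀}) ≤ 3 ∧
      ∃ M : Matrix (Fin 6) (Fin 6) (MvPolynomial (Fin 4) ↥(IntermediateField.adjoin k {α₀})),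
        (∀ i j, (M i j).IsHomogeneous 1) ∧ M.transpose = -M ∧ (∀ i, M i i = 0) ∧
        ∃ c : ↥(IntermediateField.adjoin k {α₀}), c ≠ 0 ∧
          M.det = C c * (map (algebraMap k ↥(IntermediateField.adjoin k {α₀})) F) ^ 2 := by
  obtain ⟨P, Q, hFQ, hgood⟩ := core k F hF hirr hcone
  refine ⟨lineCubic F P Q, lineCubic_natDegree hFQ, ?_⟩
  intro L _ _ α₀ hα₀ ιE
  have hf0 : lineCubic F P Q ≠ 0 := by
    intro h
    have h1 := lineCubic_natDegree (F := F) (P := P) hFQ
    rw [h, Polynomial.natDegree_zero] at h1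
    omega
  have hint : IsIntegral k α₀ := isAlgebraic_iff_isIntegral.mp ⟨_, hf0, hα₀⟩
  refine ⟨IntermediateField.adjoin.finiteDimensional hint, ?_, ?_⟩
  · rw [IntermediateField.adjoin.finrank hint]
    have h1 := Polynomial.natDegree_le_of_dvd (minpoly.dvd k α₀ hα₀) hf0
    rw [lineCubic_natDegree hFQ] at h1
    exact h1
  · have : CharZero ↥(IntermediateField.adjoin k {α₀}) :=
      charZero_of_injective_algebraMap
        (algebraMap k ↥(IntermediateField.adjoin k {α₀})).injective
    obtain ⟨α, hα⟩ : ∃ α : ↥(IntermediateField.adjoin k {α₀}), (α : L) = α₀ :=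
      ⟨⟨α₀, IntermediateField.mem_adjoin_simple_self k α₀⟩, rfl⟩
    obtain ⟨jE, hjE⟩ : ∃ jE : k →+* ↥(IntermediateField.adjoin k {α₀}),
        jE = algebraMap k ↥(IntermediateField.adjoin k {α₀}) := ⟨_, rfl⟩
    obtain ⟨ιK, hιK⟩ : ∃ ιK : k →+* AlgebraicClosure k,
        ιK = algebraMap k (AlgebraicClosure k) := ⟨_, rfl⟩
    obtain ⟨ιR, hιR⟩ : ∃ ιR : ↥(IntermediateField.adjoin k {α₀}) →+* AlgebraicClosure k,
        ιR = (ιE : ↥(IntermediateField.adjoin k {α₀}) →+* AlgebraicClosure k) := ⟨_, rfl⟩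
    have hcomp : ιR.comp jE = ιK := by rw [hιR, hjE, hιK]; exact ιE.comp_algebraMap
    have hcomm : ∀ c : k, ιR (jE c) = ιK c := fun c => by rw [← hcomp]; rfl
    -- the root in the subfield
    have hαE : Polynomial.eval₂ jE α (lineCubic F P Q) = 0 := by
      have h1 : (IntermediateField.adjoin k {α₀}).val (Polynomial.aeval α (lineCubic F P Q))
          = 0 := by
        rw [← Polynomial.aeval_algHom_apply]
        show Polynomial.aeval (α : L) (lineCubic F P Q) = 0
        rw [hα]
        exact hα₀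
      have h2 : Polynomial.aeval α (lineCubic F P Q) = 0 := Subtype.ext h1
      rw [hjE, ← Polynomial.aeval_def]
      exact h2
    -- the corresponding point over the algebraic closure
    have hy : eval (mapV ιK P + ιR α • mapV ιK Q) (map ιK F) = 0 := by
      rw [← eval₂_lineCubic ιK hF, ← hcomp, ← Polynomial.hom_eval₂, hαE, map_zero]
    rw [← hιK] at hgood
    obtain ⟨hsmK, hnTK⟩ := hgood (ιR α) hy
    -- descent to the subfield
    have hmapa : mapV ιR (mapV jE P + α • mapV jE Q) = mapV ιK P + ιR α • mapV ιK Q := by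
      rw [mapV_add, mapV_smul]
      have h1 : ∀ x : Fin 4 → k, mapV ιR (mapV jE x) = mapV ιK x := by
        intro x
        funext i
        exact hcomm (x i)
      rw [h1, h1]
    have hmapF : map ιR (map jE F) = map ιK F := by
      rw [MvPolynomial.map_map, hcomp]
    have hFa : eval (mapV jE P + α • mapV jE Q) (map jE F) = 0 := by
      rw [← eval₂_lineCubic jE hF]
      exact hαE
    have hsmE : ∃ i : Fin 4, eval (mapV jE P + α • mapV jE Q) (pderiv i (map jE F)) ≠ 0 := by
      obtain ⟨i, hi⟩ := hsmK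
      refine ⟨i, fun h => hi ?_⟩
      rw [← hmapa, ← hmapF, pderiv_map, eval_mapV, h, map_zero]
    have hnTE : ¬ tpP (map ιR (map jE F)) (mapV ιR (mapV jE P + α • mapV jE Q)) := by
      rw [hmapF, hmapa]
      exact hnTK
    have hirrE : Irreducible (map ιR (map jE F)) := by
      rw [hmapF, hιK]
      exact hirr
    obtain ⟨p, -, hpF, hLI⟩ := five_points' ιR (map jE F) (hF.map jE) hirrE _ hFa hsmE hnTE
    rw [hjE] at hpF
    exact pfaffian_rep (map (algebraMap k ↥(IntermediateField.adjoin k {α₀})) F)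
      (hF.map _) p hpF hLI

end

end Groth.Agent.H91.KL
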