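import Mathlib

/-!
# Helper lemmas for S15555 (Katz' example: the hypersurface `∑ (X_i Y_i^q - Y_i X_i^q)` over `F_q`
has no transversal rational hyperplane section).
-/

set_option autoImplicit false

namespace Groth.Agent.H91.Katz

open Polynomial

/-- The key identity: expanding the form `∑ (x_i y_i^q - y_i x_i^q)` around a rational point. -/
theorem key_identity {T : Type*} [CommRing T] (p m : ℕ) [Fact p.Prime] [CharP T p]
    {ι : Type*} (s : Finset ι) (a b ξ η : ι → T)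
    (ha : ∀ i, a i ^ p ^ m = a i) (hb : ∀ i, b i ^ p ^ m = b i) :
    ∑ i ∈ s, ((a i + ξ i) * (b i + η i) ^ p ^ m - (b i + η i) * (a i + ξ i) ^ p ^ m) =
      (∑ i ∈ s, (b i * ξ i - a i * η i)) - (∑ i ∈ s, (b i * ξ i - a i * η i)) ^ p ^ m
        + ∑ i ∈ s, (ξ i * η i ^ p ^ m - η i * ξ i ^ p ^ m) := by
  rw [sum_pow_char_pow, ← Finset.sum_sub_distrib, ← Finset.sum_add_distrib]
  refine Finset.sum_congr rfl fun i _ => ?_
  rw [add_pow_char_pow, add_pow_char_pow, sub_pow_char_pow, mul_pow, mul_pow, ha, hb]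
  ring

theorem star {T : Type*} [CommRing T] (p m : ℕ) [Fact p.Prime] [CharP T p]
    {ι : Type*} [Fintype ι] (t : T) (cc y : ι ⊕ ι → T) (hcc : ∀ u, cc u ^ p ^ m = cc u)
    (pt : ι ⊕ ι → T)
    (hl : ∀ i, pt (Sum.inl i) = -cc (Sum.inr i) + t * y (Sum.inl i))
    (hr : ∀ i, pt (Sum.inr i) = cc (Sum.inl i) + t * y (Sum.inr i)) :
    (∑ u, cc u * pt u = t * ∑ u, cc u * y u) ∧
    ∑ i, (pt (Sum.inl i) * pt (Sum.inr i) ^ p ^ m - pt (Sum.inr i) * pt (Sum.inl i) ^ p ^ m) =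
      (∑ u, cc u * pt u) - (∑ u, cc u * pt u) ^ p ^ m +
        t ^ (p ^ m + 1) * ∑ i, (y (Sum.inl i) * y (Sum.inr i) ^ p ^ m -
          y (Sum.inr i) * y (Sum.inl i) ^ p ^ m) := by
  have hL : ∑ u, cc u * pt u = ∑ i, (cc (Sum.inl i) * (t * y (Sum.inl i)) -
      (-cc (Sum.inr i)) * (t * y (Sum.inr i))) := by
    rw [Fintype.sum_sum_type, ← Finset.sum_add_distrib]
    refine Finset.sum_congr rfl fun i _ => ?_
    rw [hl, hr]; ring
  constructor
  · rw [hL, Fintype.sum_sum_type, ← Finset.sum_add_distrib, Finset.mul_sum]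
    refine Finset.sum_congr rfl fun i _ => ?_
    ring
  · have hneg : ∀ i, (-cc (Sum.inr i)) ^ p ^ m = -cc (Sum.inr i) := by
      intro i
      rw [← zero_sub, sub_pow_char_pow,
        zero_pow (pow_ne_zero _ (Fact.out : p.Prime).ne_zero), hcc]
    have key : ∑ i, ((-cc (Sum.inr i) + t * y (Sum.inl i)) *
          (cc (Sum.inl i) + t * y (Sum.inr i)) ^ p ^ m -
          (cc (Sum.inl i) + t * y (Sum.inr i)) * (-cc (Sum.inr i) + t * y (Sum.inl i)) ^ p ^ m) =
        (∑ i, (cc (Sum.inl i) * (t * y (Sum.inl i)) - (-cc (Sum.inr i)) * (t * y (Sum.inr i)))) -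
        (∑ i, (cc (Sum.inl i) * (t * y (Sum.inl i)) -
          (-cc (Sum.inr i)) * (t * y (Sum.inr i)))) ^ p ^ m +
        ∑ i, (t * y (Sum.inl i) * (t * y (Sum.inr i)) ^ p ^ m -
          t * y (Sum.inr i) * (t * y (Sum.inl i)) ^ p ^ m) :=
      key_identity p m Finset.univ (fun i => -cc (Sum.inr i)) (fun i => cc (Sum.inl i))
        (fun i => t * y (Sum.inl i)) (fun i => t * y (Sum.inr i)) hneg (fun i => hcc _)
    have e1 : ∑ i, (pt (Sum.inl i) * pt (Sum.inr i) ^ p ^ m -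
        pt (Sum.inr i) * pt (Sum.inl i) ^ p ^ m) =
        ∑ i, ((-cc (Sum.inr i) + t * y (Sum.inl i)) *
          (cc (Sum.inl i) + t * y (Sum.inr i)) ^ p ^ m -
          (cc (Sum.inl i) + t * y (Sum.inr i)) *
            (-cc (Sum.inr i) + t * y (Sum.inl i)) ^ p ^ m) :=
      Finset.sum_congr rfl fun i _ => by rw [hl, hr]
    have e3 : ∑ i, (t * y (Sum.inl i) * (t * y (Sum.inr i)) ^ p ^ m -
          t * y (Sum.inr i) * (t * y (Sum.inl i)) ^ p ^ m) =
        t ^ (p ^ m + 1) * ∑ i, (y (Sum.inl i) * y (Sum.inr i) ^ p ^ m -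
          y (Sum.inr i) * y (Sum.inl i) ^ p ^ m) := by
      rw [Finset.mul_sum]
      refine Finset.sum_congr rfl fun i _ => ?_
      rw [mul_pow, mul_pow]; ring
    rw [hL, e1, key, e3]

/-- A point of the hyperplane `L = 0` (over a `k`-algebra `K'` with an element `θ`) at which the
form takes the value `θ^q - θ`. -/
theorem exists_z {k : Type*} [Field k] {K' : Type*} [CommRing K'] [Algebra k K'] (θ : K')
    {ι : Type*} [Fintype ι] [DecidableEq ι] (q : ℕ)
    (hq : q ≠ 0) (c : ι ⊕ ι → k) (v : ι ⊕ ι) (hv : c v ≠ 0) (j : ι)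
    (hj : Sum.elim id id v ≠ j) :
    ∃ z : ι ⊕ ι → K', (∑ u, algebraMap k K' (c u) * z u = 0) ∧
      ∑ i, (z (Sum.inl i) * z (Sum.inr i) ^ q - z (Sum.inr i) * z (Sum.inl i) ^ q) =
        θ ^ q - θ := by
  classical
  obtain ⟨μ, hμ⟩ : ∃ μ : K',
      μ = -algebraMap k K' (c v)⁻¹ * (algebraMap k K' (c (Sum.inl j)) +
        algebraMap k K' (c (Sum.inr j)) * θ) := ⟨_, rfl⟩
  refine ⟨fun u => (if u = Sum.inl j then 1 else 0) + (if u = Sum.inr j then θ else 0) +
    (if u = v then μ else 0), ?_, ?_⟩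
  · simp only [mul_add, Finset.sum_add_distrib, mul_ite, mul_one, mul_zero,
      Finset.sum_ite_eq', Finset.mem_univ, if_true]
    have h1 : algebraMap k K' (c v) * algebraMap k K' (c v)⁻¹ = (1 : K') := by
      rw [← map_mul, mul_inv_cancel₀ hv, map_one]
    rw [hμ]
    linear_combination (-(algebraMap k K' (c (Sum.inl j)) +
      algebraMap k K' (c (Sum.inr j)) * θ)) * h1
  · rw [Finset.sum_eq_single j]
    · have h1 : (Sum.inl j : ι ⊕ ι) ≠ v := by
        rintro rfl; exact hj rfl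
      have h2 : (Sum.inr j : ι ⊕ ι) ≠ v := by
        rintro rfl; exact hj rfl
      simp [h1, h2]
    · intro i _ hij
      rcases v with i₀ | i₀
      · simp [hij, zero_pow hq]
      · simp [hij, zero_pow hq]
    · intro h; exact absurd (Finset.mem_univ j) h

end Groth.Agent.H91.Katz
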