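import Groth.Agent.H91.Katz

/-!
# S15555: the main argument (failure of the infinitesimal lifting criterion).
-/

set_option autoImplicit false

namespace Groth.Agent.H91.Katz

open Polynomial

theorem isUnit_add_nilpotent {Q : Type*} [CommRing Q] (u r : Q) (hu : IsUnit u)
    (hr : IsNilpotent r) : IsUnit (u + r) :=
  hr.isUnit_add_left_of_commute hu (Commute.all _ _)

theorem nilp_mul {Q : Type*} [CommRing Q] (a b : Q) (n : ℕ) (h : a ^ n = 0) :
    IsNilpotent (a * b) := ⟨n, by rw [mul_pow, h, zero_mul]⟩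

theorem exists_lift_away {k R A Q : Type*} [CommRing k] [CommRing R] [Algebra k R] [CommRing A]
    [Algebra R A] [Algebra k A] [IsScalarTower k R A] [CommRing Q] [Algebra k Q] (x : R)
    [IsLocalization.Away x A] (g₀ : R →ₐ[k] Q) (h : IsUnit (g₀ x)) :
    ∃ g : A →ₐ[k] Q, ∀ r, g (algebraMap R A r) = g₀ r :=
  ⟨IsLocalization.Away.liftAlgHom x h, fun r => IsLocalization.Away.lift_eq x h r⟩

/-- the ideal `(t^(q+2))`. -/
noncomputable abbrev JJ (K' : Type*) [CommRing K'] (q : ℕ) : Ideal (Polynomial K') :=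
  Ideal.span {(X : Polynomial K') ^ (q + 2)}

/-- the square-zero ideal `(t^(q+1))` of `K'[t]/(t^(q+2))`. -/
noncomputable abbrev II (K' : Type*) [CommRing K'] (q : ℕ) : Ideal (Polynomial K' ⧸ JJ K' q) :=
  Ideal.span {(Ideal.Quotient.mk (JJ K' q) X) ^ (q + 1)}

/-- the `T`-valued point `P + t (z + t^q d)`. -/
noncomputable def ptd {k : Type*} [Field k] {K' : Type*} [CommRing K'] [Algebra k K']
    {σ : Type*} (P : σ → k) (z : σ → K') (q : ℕ)
    (d : σ → Polynomial K') (u : σ) : Polynomial K' :=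
  algebraMap k (Polynomial K') (P u) + X * (C (z u) + X ^ q * d u)

theorem formula {k : Type*} [Field k] [Fintype k] {K' : Type*} [CommRing K'] [Algebra k K']
    {ι : Type*} [Fintype ι] (p m : ℕ)
    [Fact p.Prime] [CharP K' p] (q : ℕ) (hm : q = p ^ m) (hqc : q = Fintype.card k) (hq0 : q ≠ 0)
    (c P : ι ⊕ ι → k) (hPl : ∀ i, P (Sum.inl i) = -c (Sum.inr i))
    (hPr : ∀ i, P (Sum.inr i) = c (Sum.inl i)) (z : ι ⊕ ι → K')
    (hZ1 : ∑ u, algebraMap k K' (c u) * z u = 0) (d : ι ⊕ ι → Polynomial K') :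
    ∃ Ld G : Polynomial K',
      (∑ u, algebraMap k (Polynomial K') (c u) * ptd P z q d u = X ^ (q + 1) * Ld) ∧
      (∑ i, (ptd P z q d (Sum.inl i) * ptd P z q d (Sum.inr i) ^ q -
          ptd P z q d (Sum.inr i) * ptd P z q d (Sum.inl i) ^ q) = X ^ (q + 1) * G) ∧
      (Polynomial.eval 0 Ld = 0 → Polynomial.eval 0 G =
        ∑ i, (z (Sum.inl i) * z (Sum.inr i) ^ q - z (Sum.inr i) * z (Sum.inl i) ^ q)) := by
  subst hm
  have hcc : ∀ u, (algebraMap k (Polynomial K') (c u)) ^ p ^ m = algebraMap k (Polynomial K') (c u) := by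
    intro u
    rw [← map_pow, hqc, FiniteField.pow_card]
  obtain ⟨h1, h2⟩ := star p m (X : Polynomial K') (fun u => algebraMap k (Polynomial K') (c u))
    (fun u => C (z u) + X ^ (p ^ m) * d u) hcc (ptd P z (p ^ m) d)
    (fun i => by simp only [ptd, hPl, map_neg]) (fun i => by simp only [ptd, hPr])
  beta_reduce at h1 h2
  have h3 : ∑ u, algebraMap k (Polynomial K') (c u) * (C (z u) + X ^ (p ^ m) * d u) =
      X ^ (p ^ m) * ∑ u, algebraMap k (Polynomial K') (c u) * d u := by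
    have hC : ∀ u, algebraMap k (Polynomial K') (c u) * C (z u) = C (algebraMap k K' (c u) * z u) := by
      intro u
      rw [Polynomial.algebraMap_apply, C_mul]
    simp only [mul_add, Finset.sum_add_distrib, hC]
    rw [← map_sum, hZ1, map_zero, zero_add, Finset.mul_sum]
    refine Finset.sum_congr rfl fun u _ => ?_
    ring
  have hLv : ∑ u, algebraMap k (Polynomial K') (c u) * ptd P z (p ^ m) d u =
      X ^ (p ^ m + 1) * ∑ u, algebraMap k (Polynomial K') (c u) * d u := by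
    rw [h1, h3]; ring
  refine ⟨∑ u, algebraMap k (Polynomial K') (c u) * d u,
    (∑ u, algebraMap k (Polynomial K') (c u) * d u) - (∑ u, algebraMap k (Polynomial K') (c u) * d u) *
      (∑ u, algebraMap k (Polynomial K') (c u) * ptd P z (p ^ m) d u) ^ (p ^ m - 1) +
      ∑ i, ((C (z (Sum.inl i)) + X ^ (p ^ m) * d (Sum.inl i)) *
        (C (z (Sum.inr i)) + X ^ (p ^ m) * d (Sum.inr i)) ^ p ^ m -
        (C (z (Sum.inr i)) + X ^ (p ^ m) * d (Sum.inr i)) *
        (C (z (Sum.inl i)) + X ^ (p ^ m) * d (Sum.inl i)) ^ p ^ m), hLv, ?_, ?_⟩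
  · rw [h2]
    have hpow : ∀ a : Polynomial K', a ^ p ^ m = a * a ^ (p ^ m - 1) := by
      intro a
      rw [← pow_succ', Nat.sub_add_cancel (Nat.one_le_iff_ne_zero.mpr hq0)]
    rw [hpow (∑ u, algebraMap k (Polynomial K') (c u) * ptd P z (p ^ m) d u)]
    generalize (∑ u, algebraMap k (Polynomial K') (c u) * ptd P z (p ^ m) d u) ^ (p ^ m - 1) = W
    rw [hLv]; ring
  · intro hLd0
    rw [eval_add, eval_sub, eval_mul, hLd0, zero_mul, sub_zero, zero_add, eval_finsetSum]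
    refine Finset.sum_congr rfl fun i _ => ?_
    simp [zero_pow hq0]

set_option backward.isDefEq.respectTransparency false in
theorem not_formallySmooth (k : Type*) [Field k] [Fintype k] (K' : Type*) [CommRing K']
    [IsDomain K'] [Algebra k K'] (θ : K') (hθ : θ ^ Fintype.card k - θ ≠ 0) (n : ℕ) (hn : 1 ≤ n)
    (F L : MvPolynomial (Fin (n + 1) ⊕ Fin (n + 1)) k)
    (hF : F = ∑ i : Fin (n + 1), (MvPolynomial.X (Sum.inl i) *
        MvPolynomial.X (Sum.inr i) ^ Fintype.card k -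
      MvPolynomial.X (Sum.inr i) * MvPolynomial.X (Sum.inl i) ^ Fintype.card k))
    (c : Fin (n + 1) ⊕ Fin (n + 1) → k) (hc : c ≠ 0)
    (hL : L = ∑ v, MvPolynomial.C (c v) * MvPolynomial.X v) :
    ∃ w : Fin (n + 1) ⊕ Fin (n + 1), ¬ Algebra.FormallySmooth k
      (Localization.Away (Ideal.Quotient.mk (Ideal.span {F, L}) (MvPolynomial.X w))) := by
  classical
  obtain ⟨p, hchar, m, hpprime, hm⟩ := FiniteField.card' k
  have : Fact p.Prime := ⟨hpprime⟩
  have := hchar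
  have hq1 : 1 < Fintype.card k := Fintype.one_lt_card
  obtain ⟨q, hqdef⟩ : ∃ q : ℕ, q = Fintype.card k := ⟨_, rfl⟩
  rw [← hqdef] at hF hm hq1 hθ
  have : CharP K' p := charP_of_injective_algebraMap (algebraMap k K').injective p
  have hq0 : q ≠ 0 := by omega
  obtain ⟨v, hv⟩ : ∃ v, c v ≠ 0 := by
    by_contra h
    push Not at h
    exact hc (funext h)
  obtain ⟨j, hj⟩ : ∃ j : Fin (n + 1), Sum.elim id id v ≠ j := by
    have : Nontrivial (Fin (n + 1)) := Fin.nontrivial_iff_two_le.mpr (by omega)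
    obtain ⟨j, hj⟩ := exists_ne (Sum.elim id id v : Fin (n + 1))
    exact ⟨j, hj.symm⟩
  obtain ⟨z, hZ1, hZ2⟩ := exists_z θ q hq0 c v hv j hj
  have hZ2' : ∑ i, (z (Sum.inl i) * z (Sum.inr i) ^ q - z (Sum.inr i) * z (Sum.inl i) ^ q) ≠ 0 := by
    rw [hZ2]; exact hθ
  obtain ⟨P, hPl, hPr⟩ : ∃ P : Fin (n + 1) ⊕ Fin (n + 1) → k,
      (∀ i, P (Sum.inl i) = -c (Sum.inr i)) ∧ (∀ i, P (Sum.inr i) = c (Sum.inl i)) :=
    ⟨Sum.elim (fun i => -c (Sum.inr i)) (fun i => c (Sum.inl i)), fun _ => rfl, fun _ => rfl⟩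
  obtain ⟨w, hPw⟩ : ∃ w, P w ≠ 0 := by
    rcases v with i | i
    · exact ⟨Sum.inr i, by rw [hPr]; exact hv⟩
    · exact ⟨Sum.inl i, by rw [hPl]; exact neg_ne_zero.mpr hv⟩
  refine ⟨w, fun hfs => ?_⟩
  have := hfs
  have hI : (II K' q) ^ 2 = ⊥ := by
    rw [Ideal.span_singleton_pow, ← pow_mul, ← map_pow, Ideal.span_singleton_eq_bot,
      Ideal.Quotient.eq_zero_iff_mem, Ideal.mem_span_singleton]
    exact pow_dvd_pow _ (by omega)
  -- evaluation formulas
  have hev : ∀ d : Fin (n + 1) ⊕ Fin (n + 1) → Polynomial K', ∃ Ld G : Polynomial K',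
      MvPolynomial.aeval (ptd P z q d) L = X ^ (q + 1) * Ld ∧
      MvPolynomial.aeval (ptd P z q d) F = X ^ (q + 1) * G ∧
      (Polynomial.eval 0 Ld = 0 → Polynomial.eval 0 G =
        ∑ i, (z (Sum.inl i) * z (Sum.inr i) ^ q - z (Sum.inr i) * z (Sum.inl i) ^ q)) := by
    intro d
    obtain ⟨Ld, G, h1, h2, h3⟩ := formula p m q hm hqdef hq0 c P hPl hPr z hZ1 d
    refine ⟨Ld, G, ?_, ?_, h3⟩
    · rw [← h1, hL, map_sum]
      refine Finset.sum_congr rfl fun u _ => ?_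
      rw [map_mul, MvPolynomial.aeval_C, MvPolynomial.aeval_X]
    · rw [← h2, hF, map_sum]
      refine Finset.sum_congr rfl fun i _ => ?_
      simp only [map_sub, map_mul, map_pow, MvPolynomial.aeval_X]
  -- the projection
  obtain ⟨π, hπ⟩ : ∃ π : Polynomial K' →ₐ[k] ((Polynomial K' ⧸ JJ K' q) ⧸ II K' q),
      ∀ a, π a = Ideal.Quotient.mk (II K' q) (Ideal.Quotient.mk (JJ K' q) a) :=
    ⟨(Ideal.Quotient.mkₐ k (II K' q)).comp (Ideal.Quotient.mkₐ k (JJ K' q)), fun _ => rfl⟩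
  have hπX : ∀ a : Polynomial K', π (X ^ (q + 1) * a) = 0 := by
    intro a
    rw [hπ, Ideal.Quotient.eq_zero_iff_mem, map_mul, map_pow]
    exact Ideal.mul_mem_right _ _ (Ideal.subset_span (Set.mem_singleton _))
  have hXnil : π X ^ (q + 2) = 0 := by
    rw [← map_pow, hπ,
      (Ideal.Quotient.eq_zero_iff_mem (I := JJ K' q)).mpr (Ideal.subset_span (Set.mem_singleton _)),
      map_zero]
  -- the map g₀ on the quotient
  have hφ : ∀ a ∈ Ideal.span {F, L}, (π.comp (MvPolynomial.aeval (ptd P z q 0))) a = 0 := by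
    intro a ha
    have hle : Ideal.span {F, L} ≤
        RingHom.ker (π.comp (MvPolynomial.aeval (ptd P z q 0))).toRingHom := by
      rw [Ideal.span_le]
      intro x hx
      obtain ⟨Ld, G, h1, h2, -⟩ := hev 0
      rcases hx with rfl | hx
      · rw [SetLike.mem_coe, RingHom.mem_ker]
        show π (MvPolynomial.aeval (ptd P z q 0) x) = 0
        rw [h2]; exact hπX G
      · rw [Set.mem_singleton_iff] at hx
        subst hx
        rw [SetLike.mem_coe, RingHom.mem_ker]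
        show π (MvPolynomial.aeval (ptd P z q 0) x) = 0
        rw [h1]; exact hπX Ld
    exact RingHom.mem_ker.mp (hle ha)
  obtain ⟨g₀, hg₀⟩ : ∃ g₀ : (MvPolynomial (Fin (n + 1) ⊕ Fin (n + 1)) k ⧸ Ideal.span {F, L}) →ₐ[k]
      ((Polynomial K' ⧸ JJ K' q) ⧸ II K' q), ∀ x, g₀ (Ideal.Quotient.mk (Ideal.span {F, L}) x) =
        π (MvPolynomial.aeval (ptd P z q 0) x) :=
    ⟨Ideal.Quotient.liftₐ (Ideal.span {F, L}) (π.comp (MvPolynomial.aeval (ptd P z q 0))) hφ,
      fun _ => rfl⟩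
  have hunit : IsUnit (g₀ (Ideal.Quotient.mk (Ideal.span {F, L}) (MvPolynomial.X w))) := by
    rw [hg₀, MvPolynomial.aeval_X, ptd, map_add, map_mul, AlgHom.commutes]
    exact isUnit_add_nilpotent (Q := (Polynomial K' ⧸ JJ K' q) ⧸ II K' q) _ _ ((IsUnit.mk0 _ hPw).map
      (algebraMap k ((Polynomial K' ⧸ JJ K' q) ⧸ II K' q)))
      (nilp_mul (Q := (Polynomial K' ⧸ JJ K' q) ⧸ II K' q) _ _ (q + 2) hXnil)
  obtain ⟨g, hg⟩ := exists_lift_away (k := k) (Q := (Polynomial K' ⧸ JJ K' q) ⧸ II K' q)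
      (A := Localization.Away (Ideal.Quotient.mk (Ideal.span {F, L})
      (MvPolynomial.X w))) (Ideal.Quotient.mk (Ideal.span {F, L}) (MvPolynomial.X w)) g₀ hunit
  obtain ⟨f, hf⟩ := Algebra.FormallySmooth.comp_surjective k _ (II K' q) hI g
  obtain ⟨ι, hι⟩ : ∃ ι : MvPolynomial (Fin (n + 1) ⊕ Fin (n + 1)) k →ₐ[k]
      Localization.Away (Ideal.Quotient.mk (Ideal.span {F, L}) (MvPolynomial.X w)),
      ∀ x, ι x = algebraMap _ _ (Ideal.Quotient.mk (Ideal.span {F, L}) x) :=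
    ⟨(IsScalarTower.toAlgHom k (MvPolynomial (Fin (n + 1) ⊕ Fin (n + 1)) k ⧸ Ideal.span {F, L})
      _).comp (Ideal.Quotient.mkₐ k (Ideal.span {F, L})), fun _ => rfl⟩
  have hfι : ∀ x, Ideal.Quotient.mk (II K' q) (f (ι x)) =
      π (MvPolynomial.aeval (ptd P z q 0) x) := by
    intro x
    rw [← hg₀, ← hg, ← hι, ← hf]
    rfl
  have hι0 : ∀ x ∈ Ideal.span {F, L}, f (ι x) = 0 := by
    intro x hx
    rw [hι, Ideal.Quotient.eq_zero_iff_mem.mpr hx, map_zero, map_zero]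
  have hex : ∀ u, ∃ δ : Polynomial K', f (ι (MvPolynomial.X u)) =
      Ideal.Quotient.mk (JJ K' q) (ptd P z q 0 u + δ * X ^ (q + 1)) := by
    intro u
    have h1 : Ideal.Quotient.mk (II K' q) (f (ι (MvPolynomial.X u))) =
        Ideal.Quotient.mk (II K' q) (Ideal.Quotient.mk (JJ K' q) (ptd P z q 0 u)) := by
      rw [hfι, MvPolynomial.aeval_X, hπ]
    rw [Ideal.Quotient.eq, Ideal.mem_span_singleton'] at h1
    obtain ⟨β, hβ⟩ := h1
    obtain ⟨δ, rfl⟩ := Ideal.Quotient.mk_surjective β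
    refine ⟨δ, ?_⟩
    rw [map_add, map_mul, map_pow, hβ]; ring
  choose δ hδ using hex
  have hpt : ∀ u, ptd P z q 0 u + δ u * X ^ (q + 1) = ptd P z q δ u := by
    intro u
    simp only [ptd, Pi.zero_apply]; ring
  have hcomp : ∀ x, f (ι x) =
      Ideal.Quotient.mk (JJ K' q) (MvPolynomial.aeval (ptd P z q δ) x) := by
    have h := MvPolynomial.algHom_ext (f := f.comp ι)
      (g := (Ideal.Quotient.mkₐ k (JJ K' q)).comp (MvPolynomial.aeval (ptd P z q δ))) (by
        intro u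
        show f (ι (MvPolynomial.X u)) =
          Ideal.Quotient.mk (JJ K' q) (MvPolynomial.aeval (ptd P z q δ) (MvPolynomial.X u))
        rw [MvPolynomial.aeval_X, hδ, hpt])
    intro x
    exact congrArg (fun ψ => ψ x) h
  have hdvd : ∀ x ∈ Ideal.span {F, L},
      (X : Polynomial K') ^ (q + 2) ∣ MvPolynomial.aeval (ptd P z q δ) x := by
    intro x hx
    have h2 : Ideal.Quotient.mk (JJ K' q) (MvPolynomial.aeval (ptd P z q δ) x) = 0 := by
      rw [← hcomp, hι0 x hx]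
    rwa [Ideal.Quotient.eq_zero_iff_mem, Ideal.mem_span_singleton] at h2
  obtain ⟨Ld, G, h1, h2, h3⟩ := hev δ
  have dL := hdvd L (Ideal.subset_span (by simp))
  have dF := hdvd F (Ideal.subset_span (by simp))
  rw [h1] at dL
  rw [h2] at dF
  have hX : ∀ a : Polynomial K', (X : Polynomial K') ^ (q + 2) ∣ X ^ (q + 1) * a → Polynomial.eval 0 a = 0 := by
    intro a ha
    rw [show (X : Polynomial K') ^ (q + 2) = X ^ (q + 1) * X from pow_succ _ _,
      mul_dvd_mul_iff_left (pow_ne_zero _ X_ne_zero)] at ha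
    obtain ⟨b, rfl⟩ := ha
    simp
  exact hZ2' ((h3 (hX _ dL)).symm.trans (hX _ dF))

end Groth.Agent.H91.Katz
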