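import Groth.Agent.H91.KummerRing

/-! `t ↦ tⁿ` on `k[ℤ]` is faithfully flat and of finite presentation (via `k[ℤ] ≅ k[ℤ][X]/(Xⁿ - t)`). -/

set_option autoImplicit false
universe u
open Polynomial MonoidAlgebra

namespace Groth.Agent.H91.KummerFree

open Groth.Agent.H91.KummerRing

variable (k : Type u) [CommRing k] (n : ℕ)

/-- the generator `t` of `k[ℤ]`. -/
noncomputable def t : MonoidAlgebra k (Multiplicative ℤ) := single (Multiplicative.ofAdd (1 : ℤ)) 1
/-- `t⁻¹`. -/
noncomputable def tinv : MonoidAlgebra k (Multiplicative ℤ) := single (Multiplicative.ofAdd (-1 : ℤ)) 1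

theorem t_mul_tinv : t k * tinv k = 1 := by
  simp [t, tinv, single_mul_single, one_def, ← ofAdd_add]

/-- `Xⁿ - t`. -/
noncomputable def f : (MonoidAlgebra k (Multiplicative ℤ))[X] := X ^ n - C (t k)

theorem f_monic (hn : n ≠ 0) : (f k n).Monic := monic_X_pow_sub_C _ hn

theorem root_pow : (AdjoinRoot.root (f k n)) ^ n = AdjoinRoot.of (f k n) (t k) := by
  have h : AdjoinRoot.mk (f k n) (X ^ n - C (t k)) = 0 := AdjoinRoot.mk_self
  rw [map_sub, map_pow, AdjoinRoot.mk_X, AdjoinRoot.mk_C, sub_eq_zero] at h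
  exact h

theorem phiN_t : phiN k n (t k) = t k ^ n := by
  rw [t, phiN_single, single_pow, one_pow, one_mul, ← ofAdd_nsmul]
  simp

/-- `root` as a unit. -/
noncomputable def rootUnit (hn : n ≠ 0) : (AdjoinRoot (f k n))ˣ where
  val := AdjoinRoot.root _
  inv := AdjoinRoot.root _ ^ (n - 1) * AdjoinRoot.of _ (tinv k)
  val_inv := by
    rw [← mul_assoc, ← pow_succ', Nat.sub_add_cancel (Nat.pos_of_ne_zero hn), root_pow, ← map_mul,
      t_mul_tinv, map_one]
  inv_val := by
    rw [mul_comm, ← mul_assoc, ← pow_succ', Nat.sub_add_cancel (Nat.pos_of_ne_zero hn), root_pow, ← map_mul,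
      t_mul_tinv, map_one]

/-- `k[ℤ][X]/(Xⁿ - t) → k[ℤ]`, `X ↦ t`. -/
noncomputable def toA : AdjoinRoot (f k n) →+* MonoidAlgebra k (Multiplicative ℤ) :=
  AdjoinRoot.lift (phiN k n) (t k) (by simp [f, phiN_t])

/-- `k[ℤ] → k[ℤ][X]/(Xⁿ - t)`, `t ↦ X`. -/
noncomputable def fromA (hn : n ≠ 0) : MonoidAlgebra k (Multiplicative ℤ) →+* AdjoinRoot (f k n) :=
  MonoidAlgebra.liftNCRingHom ((AdjoinRoot.of (f k n)).comp (algebraMap k _))
    ((Units.coeHom _).comp (zpowersHom _ (rootUnit k n hn))) (fun _ _ => Commute.all _ _)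

theorem fromA_t (hn : n ≠ 0) : fromA k n hn (t k) = AdjoinRoot.root _ := by
  simp [fromA, t, rootUnit, ← MonoidAlgebra.one_def]

theorem fromA_algebraMap (hn : n ≠ 0) (r : k) : fromA k n hn (single 1 r) = AdjoinRoot.of _ (single 1 r) := by
  simp [fromA, MonoidAlgebra.coe_algebraMap]

theorem toA_fromA (hn : n ≠ 0) : (toA k n).comp (fromA k n hn) = RingHom.id _ := by
  refine MonoidAlgebra.ringHom_ext' ?_ (MonoidHom.ext_mint ?_)
  · refine RingHom.ext fun r => ?_
    show toA k n (fromA k n hn (single 1 r)) = single 1 r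
    rw [fromA_algebraMap, toA, AdjoinRoot.lift_of, ← ofAdd_zero, phiN_single]
    simp
  · show (toA k n) (fromA k n hn (t k)) = t k
    rw [fromA_t, toA, AdjoinRoot.lift_root]

theorem fromA_phiN (hn : n ≠ 0) : (fromA k n hn).comp (phiN k n) = AdjoinRoot.of (f k n) := by
  refine MonoidAlgebra.ringHom_ext' ?_ (MonoidHom.ext_mint ?_)
  · refine RingHom.ext fun r => ?_
    show fromA k n hn (phiN k n (single 1 r)) = AdjoinRoot.of _ (single 1 r)
    rw [← ofAdd_zero, phiN_single, zero_mul, ofAdd_zero, fromA_algebraMap]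
  · show (fromA k n hn) (phiN k n (t k)) = AdjoinRoot.of _ (t k)
    rw [phiN_t, map_pow, fromA_t, root_pow]

theorem fromA_toA (hn : n ≠ 0) : (fromA k n hn).comp (toA k n) = RingHom.id _ := by
  have h1 : ((fromA k n hn).comp (toA k n)).comp (AdjoinRoot.of (f k n)) = AdjoinRoot.of (f k n) := by
    rw [RingHom.comp_assoc, toA, AdjoinRoot.lift_comp_of, fromA_phiN]
  have h2 : ((fromA k n hn).comp (toA k n)) (AdjoinRoot.root _) = AdjoinRoot.root _ := by
    rw [RingHom.comp_apply, toA, AdjoinRoot.lift_root, fromA_t]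
  refine RingHom.ext fun x => ?_
  induction x using AdjoinRoot.induction_on with
  | ih p =>
    induction p using Polynomial.induction_on' with
    | add p q hp hq => rw [map_add, map_add, hp, hq, map_add]
    | monomial m a =>
      rw [← C_mul_X_pow_eq_monomial, map_mul, map_pow, AdjoinRoot.mk_C, AdjoinRoot.mk_X, map_mul, map_pow, h2]
      rw [RingHom.id_apply]
      congr 1
      exact DFunLike.congr_fun h1 a

/-- the ring isomorphism. -/
noncomputable def e (hn : n ≠ 0) : AdjoinRoot (f k n) ≃+* MonoidAlgebra k (Multiplicative ℤ) :=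
  RingEquiv.ofRingHom (toA k n) (fromA k n hn) (toA_fromA k n hn) (fromA_toA k n hn)

theorem e_comp (hn : n ≠ 0) : ((e k n hn : _ →+* _)).comp (algebraMap _ (AdjoinRoot (f k n))) = phiN k n := by
  refine RingHom.ext fun x => ?_
  show toA k n (AdjoinRoot.of _ x) = _
  rw [toA, AdjoinRoot.lift_of]

theorem phiN_faithfullyFlat [Nontrivial k] (hn : n ≠ 0) : (phiN k n).FaithfullyFlat := by
  rw [← e_comp k n hn]
  have := (f_monic k n hn).free_adjoinRoot
  have : Nontrivial (AdjoinRoot (f k n)) := (e k n hn).toEquiv.nontrivial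
  refine RingHom.FaithfullyFlat.stableUnderComposition _ _ ?_ (RingHom.FaithfullyFlat.of_bijective (e k n hn).bijective)
  exact RingHom.faithfullyFlat_algebraMap_iff.mpr inferInstance

theorem phiN_finitePresentation (hn : n ≠ 0) : (phiN k n).FinitePresentation := by
  rw [← e_comp k n hn]
  have := (f_monic k n hn).free_adjoinRoot
  have := (f_monic k n hn).finite_adjoinRoot
  refine RingHom.FinitePresentation.comp (RingHom.FinitePresentation.of_bijective (e k n hn).bijective) ?_
  exact RingHom.finitePresentation_algebraMap.mpr inferInstance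

end Groth.Agent.H91.KummerFree
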