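import Groth.Prelude.Def_NonAbH2
import Groth.Agent.H91.KummerKer
import Groth.Agent.H91.KummerFree

/-! The Kummer sequence `1 → μ_n → G_m → G_m → 1` is exact for every topology finer than fppf. -/

set_option autoImplicit false
universe u
open CategoryTheory CategoryTheory.Limits MonoidalCategory CartesianMonoidalCategory MonObj GrpObj AlgebraicGeometry

namespace Groth.Agent.H91.KummerExact

open Groth.Agent.H91.KummerRing Groth.Agent.H91.KummerFree Groth.Agent.H91.KummerKer

theorem diagMap_left_props (k : Type u) [CommRing k] [Nontrivial k] (n : ℕ) (hn : n ≠ 0) :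
    Flat (Red.diagMap k (zmultiplesHom ℤ (n : ℤ))).left ∧
    Surjective (Red.diagMap k (zmultiplesHom ℤ (n : ℤ))).left ∧
    LocallyOfFinitePresentation (Red.diagMap k (zmultiplesHom ℤ (n : ℤ))).left := by
  have h1 : Flat (Spec.map (CommRingCat.ofHom (phiN k n))) ∧ Surjective (Spec.map (CommRingCat.ofHom (phiN k n))) :=
    (flat_and_surjective_SpecMap_iff _).mpr (phiN_faithfullyFlat k n hn)
  have h2 : LocallyOfFinitePresentation (Spec.map (CommRingCat.ofHom (phiN k n))) :=
    (HasRingHomProperty.Spec_iff (P := @LocallyOfFinitePresentation)).mpr (phiN_finitePresentation k n hn)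
  exact ⟨h1.1, h1.2, h2⟩

theorem chi_left_props (S : Scheme.{u}) (n : ℕ) (hn : n ≠ 0) :
    Flat (Red.chi S (n : ℤ)).left ∧ Surjective (Red.chi S (n : ℤ)).left ∧
    LocallyOfFinitePresentation (Red.chi S (n : ℤ)).left := by
  obtain ⟨h1, h2, h3⟩ := diagMap_left_props (ULift.{u} ℤ) n hn
  exact ⟨Groth.Agent.H27.pullback_map_left_of_stable @Flat _ _ h1,
    Groth.Agent.H27.pullback_map_left_of_stable @Surjective _ _ h2,
    Groth.Agent.H27.pullback_map_left_of_stable @LocallyOfFinitePresentation _ _ h3⟩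

theorem kummer_exact (K : Precoverage Scheme.{u}) (hK : Scheme.fppfPrecoverage ≤ K)
    (S : Scheme.{u}) (n : ℕ) (hn : 0 < n) :
    NonAbH1.IsExactSeq K (Red.DSmap S (Int.castAddHom (ZMod n))) (Red.chi S (n : ℤ)) := by
  haveI : NeZero n := ⟨hn.ne'⟩
  have hu := dsMap_isMonHom S (Int.castAddHom (ZMod n))
  have hv := chi_isMonHom S (n : ℤ)
  have hker := isKernel_DS S n
  refine ⟨hu, hv, Groth.Agent.H91.KerTorsor.comp_eq_one_of_isKernel _ _ hker,
    Groth.Agent.H91.KerTorsor.isPullback_of_isKernel _ _ hker, ?_⟩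
  obtain ⟨h1, h2, h3⟩ := chi_left_props S n hn.ne'
  refine ⟨Presieve.singleton (Red.chi S (n : ℤ)).left,
    hK _ (Scheme.Hom.singleton_mem_fppfPrecoverage _), ?_⟩
  intro S' f hf
  cases hf
  exact ⟨𝟙 _, Category.id_comp _⟩

end Groth.Agent.H91.KummerExact
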