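import Mathlib
import Groth.Prelude.Def_LinSer
import Groth.Prelude.Def_Curve

/-!
# (RES) for helper7's S14471 squad: the residue field at a closed point of a proper curve over an
algebraically closed field is the base field (helper91)
-/

set_option autoImplicit false
set_option maxHeartbeats 400000
universe u
open CategoryTheory AlgebraicGeometry Opposite

namespace Groth.Agent.H91.LSO_RES

theorem appTop_fromSpecResidueField (C : Scheme.{u}) (p : C) :
    (C.fromSpecResidueField p).appTop ≫ (Scheme.ΓSpecIso (C.residueField p)).hom =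
      C.presheaf.germ ⊤ p trivial ≫ C.residue p := by
  rw [Scheme.fromSpecResidueField, Scheme.Hom.comp_appTop, Scheme.fromSpecStalk_appTop]
  simp only [Category.assoc]
  rw [Scheme.ΓSpecIso_naturality]
  simp

/-- general form: `f : C ⟶ Spec k` locally of finite type, `k` algebraically closed, `p` closed. -/
theorem bijective_residue_toGlobal_of_lft (k : Type u) [Field k] [IsAlgClosed k] (C : Scheme.{u})
    (f : C ⟶ Spec (CommRingCat.of k)) [LocallyOfFiniteType f] (p : C)
    (hp : IsClosed ({p} : Set C)) :
    Function.Bijective ((IsLocalRing.residue ↑(C.presheaf.stalk p)).comp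
      ((C.presheaf.germ ⊤ p trivial).hom.comp (Coh.toGlobal f))) := by
  set ρ : k →+* IsLocalRing.ResidueField ↑(C.presheaf.stalk p) :=
    (IsLocalRing.residue ↑(C.presheaf.stalk p)).comp
      ((C.presheaf.germ ⊤ p trivial).hom.comp (Coh.toGlobal f)) with hρ
  refine ⟨ρ.injective, ?_⟩
  -- the morphism `Spec κ(p) ⟶ Spec k`
  have hci : IsClosedImmersion (C.fromSpecResidueField p) :=
    isClosed_singleton_iff_isClosedImmersion.mp hp
  haveI : JacobsonSpace (Spec (CommRingCat.of k)) :=
    PrimeSpectrum.isJacobsonRing_iff_jacobsonSpace.mp inferInstance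
  have hfin : IsFinite (C.fromSpecResidueField p ≫ f) :=
    (isFinite_iff_locallyOfFiniteType_of_jacobsonSpace
      (f := C.fromSpecResidueField p ≫ f)).mpr inferInstance
  -- identify it with `Spec.map ρ'`
  let ρ' : CommRingCat.of k ⟶ C.residueField p :=
    (Scheme.ΓSpecIso (CommRingCat.of k)).inv ≫ f.appTop ≫ C.presheaf.germ ⊤ p trivial ≫
      C.residue p
  have hρ' : ρ'.hom = ρ := rfl
  have hg : C.fromSpecResidueField p ≫ f = Spec.map ρ' := by
    apply ext_of_isAffine
    rw [← cancel_mono (Scheme.ΓSpecIso (C.residueField p)).hom]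
    have h1 : (C.fromSpecResidueField p ≫ f).appTop ≫ (Scheme.ΓSpecIso (C.residueField p)).hom =
        f.appTop ≫ C.presheaf.germ ⊤ p trivial ≫ C.residue p := by
      rw [Scheme.Hom.comp_appTop, Category.assoc, appTop_fromSpecResidueField]
    have h2 : (Spec.map ρ').appTop ≫ (Scheme.ΓSpecIso (C.residueField p)).hom =
        (Scheme.ΓSpecIso (CommRingCat.of k)).hom ≫ ρ' := Scheme.ΓSpecIso_naturality ρ'
    rw [h1, h2]
    exact (Iso.hom_inv_id_assoc _ _).symm
  rw [hg] at hfin
  have hfin' : ρ'.hom.Finite := (IsFinite.SpecMap_iff ρ').mp hfin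
  rw [hρ'] at hfin'
  have hfin := hfin'
  have hint : ρ.IsIntegral := RingHom.Finite.to_isIntegral hfin
  exact (IsAlgClosed.ringHom_bijective_of_isIntegral ρ hint).2

theorem bijective_residue_toGlobal (k : Type u) [Field k] [IsAlgClosed k] (C : Scheme.{u})
    [C.Over (Spec (CommRingCat.of k))]
    (hC : Curve.IsSmoothProperCurve k C (C ↘ (Spec (CommRingCat.of k)))) (p : C)
    (hp : IsClosed ({p} : Set C)) :
    Function.Bijective ((IsLocalRing.residue ↑(C.presheaf.stalk p)).comp
      ((C.presheaf.germ ⊤ p trivial).hom.comp (Coh.toGlobal (C ↘ Spec (CommRingCat.of k))))) := by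
  haveI : IsProper (C ↘ (Spec (CommRingCat.of k))) := hC.1
  exact bijective_residue_toGlobal_of_lft k C (C ↘ Spec (CommRingCat.of k)) p hp

end Groth.Agent.H91.LSO_RES
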