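import Mathlib

set_option autoImplicit false
universe u
open CategoryTheory AlgebraicGeometry

namespace Groth.Agent.H91.SqZero

/-- Affine target: two morphisms from `Spec R'` to an affine scheme which agree after restriction along two
jointly injective ring maps are equal. -/
theorem ext_affine {R' D₁ D₂ : Type u} [CommRing R'] [CommRing D₁] [CommRing D₂]
    (φ₁ : R' →+* D₁) (φ₂ : R' →+* D₂) (hinj : ∀ x, φ₁ x = 0 → φ₂ x = 0 → x = 0)
    {Y : Scheme.{u}} [IsAffine Y] (k k' : Spec (CommRingCat.of R') ⟶ Y)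
    (h₁ : Spec.map (CommRingCat.ofHom φ₁) ≫ k = Spec.map (CommRingCat.ofHom φ₁) ≫ k')
    (h₂ : Spec.map (CommRingCat.ofHom φ₂) ≫ k = Spec.map (CommRingCat.ofHom φ₂) ≫ k') : k = k' := by
  rw [← cancel_mono Y.isoSpec.hom]
  obtain ⟨ψ, hψ⟩ := Spec.map_surjective (k ≫ Y.isoSpec.hom)
  obtain ⟨ψ', hψ'⟩ := Spec.map_surjective (k' ≫ Y.isoSpec.hom)
  rw [← hψ, ← hψ']
  congr 1
  have e₁ : ψ ≫ CommRingCat.ofHom φ₁ = ψ' ≫ CommRingCat.ofHom φ₁ := by
    apply Spec.map_injective
    rw [Spec.map_comp, Spec.map_comp, hψ, hψ', ← Category.assoc, h₁, Category.assoc]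
  have e₂ : ψ ≫ CommRingCat.ofHom φ₂ = ψ' ≫ CommRingCat.ofHom φ₂ := by
    apply Spec.map_injective
    rw [Spec.map_comp, Spec.map_comp, hψ, hψ', ← Category.assoc, h₂, Category.assoc]
  ext a
  have := hinj (ψ.hom a - ψ'.hom a) ?_ ?_
  · exact sub_eq_zero.mp this
  · rw [map_sub, sub_eq_zero]
    exact congrArg (fun t => t.hom a) e₁
  · rw [map_sub, sub_eq_zero]
    exact congrArg (fun t => t.hom a) e₂

/-- joint injectivity is inherited by localizations away from an element. -/
theorem loc_joint {R D₁ D₂ : Type u} [CommRing R] [CommRing D₁] [CommRing D₂]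
    (π₁ : R →+* D₁) (π₂ : R →+* D₂) (hinj : ∀ x, π₁ x = 0 → π₂ x = 0 → x = 0) (r : R)
    (x : Localization.Away r)
    (h₁ : IsLocalization.Away.map (Localization.Away r) (Localization.Away (π₁ r)) π₁ r x = 0)
    (h₂ : IsLocalization.Away.map (Localization.Away r) (Localization.Away (π₂ r)) π₂ r x = 0) :
    x = 0 := by
  obtain ⟨⟨a, ⟨_, n, rfl⟩⟩, rfl⟩ := IsLocalization.mk'_surjective (Submonoid.powers r) x
  simp only [IsLocalization.Away.map, IsLocalization.map_mk', IsLocalization.mk'_eq_zero_iff] at h₁ h₂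
  obtain ⟨⟨_, k₁, rfl⟩, hk₁⟩ := h₁
  obtain ⟨⟨_, k₂, rfl⟩, hk₂⟩ := h₂
  rw [IsLocalization.mk'_eq_zero_iff]
  refine ⟨⟨r ^ (k₁ + k₂), ⟨_, rfl⟩⟩, ?_⟩
  apply hinj
  · simp only [map_mul, map_pow] at hk₁ ⊢
    rw [pow_add, mul_right_comm, hk₁, zero_mul]
  · simp only [map_mul, map_pow] at hk₂ ⊢
    rw [pow_add, mul_assoc, hk₂, mul_zero]

theorem spec_loc_comm {R D : Type u} [CommRing R] [CommRing D] (π : R →+* D) (r : R) :
    Spec.map (CommRingCat.ofHom
        (IsLocalization.Away.map (Localization.Away r) (Localization.Away (π r)) π r)) ≫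
      Spec.map (CommRingCat.ofHom (algebraMap R (Localization.Away r))) =
    Spec.map (CommRingCat.ofHom (algebraMap D (Localization.Away (π r)))) ≫
      Spec.map (CommRingCat.ofHom π) := by
  rw [← Spec.map_comp, ← Spec.map_comp, ← CommRingCat.ofHom_comp, ← CommRingCat.ofHom_comp]
  congr 2
  exact IsLocalization.map_comp _

/-- General target: two morphisms from `Spec R` to a scheme which agree after restriction along two jointly
injective ring maps, the first of which is surjective on spectra, are equal. -/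
theorem ext_of_joint {R D₁ D₂ : Type u} [CommRing R] [CommRing D₁] [CommRing D₂]
    (π₁ : R →+* D₁) (π₂ : R →+* D₂) (hinj : ∀ x, π₁ x = 0 → π₂ x = 0 → x = 0)
    (hsurj : Function.Surjective (Spec.map (CommRingCat.ofHom π₁)).base)
    {X : Scheme.{u}} (g g' : Spec (CommRingCat.of R) ⟶ X)
    (h₁ : Spec.map (CommRingCat.ofHom π₁) ≫ g = Spec.map (CommRingCat.ofHom π₁) ≫ g')
    (h₂ : Spec.map (CommRingCat.ofHom π₂) ≫ g = Spec.map (CommRingCat.ofHom π₂) ≫ g') : g = g' := by
  have hpt : ∀ z, g z = g' z := by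
    intro z
    obtain ⟨y, rfl⟩ := hsurj z
    rw [← Scheme.Hom.comp_apply, ← Scheme.Hom.comp_apply, h₁]
  have key : ∀ z : Spec (CommRingCat.of R), ∃ r : R, z ∈ PrimeSpectrum.basicOpen r ∧
      Spec.map (CommRingCat.ofHom (algebraMap R (Localization.Away r))) ≫ g =
        Spec.map (CommRingCat.ofHom (algebraMap R (Localization.Away r))) ≫ g' := by
    intro z
    obtain ⟨U, hU, hzU, -⟩ := exists_isAffineOpen_mem_and_subset (x := g z) (U := ⊤) trivial
    have hzW : z ∈ (g ⁻¹ᵁ U ⊓ g' ⁻¹ᵁ U : (Spec (CommRingCat.of R)).Opens) :=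
      ⟨hzU, by change g' z ∈ U; rw [← hpt]; exact hzU⟩
    obtain ⟨_, ⟨_, ⟨r, rfl⟩, rfl⟩, hr, hr'⟩ :=
      PrimeSpectrum.isBasis_basic_opens.exists_subset_of_mem_open hzW
        (g ⁻¹ᵁ U ⊓ g' ⁻¹ᵁ U : (Spec (CommRingCat.of R)).Opens).2
    refine ⟨r, hr, ?_⟩
    set c := Spec.map (CommRingCat.ofHom (algebraMap R (Localization.Away r))) with hc
    have hrange : Set.range c.base = (PrimeSpectrum.basicOpen r : Set (PrimeSpectrum R)) :=
      PrimeSpectrum.localization_away_comap_range _ r
    have hcU : Set.range (c ≫ g).base ⊆ Set.range U.ι.base := by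
      rintro _ ⟨y, rfl⟩
      rw [Scheme.Opens.range_ι]
      have hy : c y ∈ (PrimeSpectrum.basicOpen r : Set (PrimeSpectrum R)) := hrange ▸ ⟨y, rfl⟩
      exact (hr' hy).1
    have hcU' : Set.range (c ≫ g').base ⊆ Set.range U.ι.base := by
      rintro _ ⟨y, rfl⟩
      rw [Scheme.Opens.range_ι]
      have hy : c y ∈ (PrimeSpectrum.basicOpen r : Set (PrimeSpectrum R)) := hrange ▸ ⟨y, rfl⟩
      exact (hr' hy).2
    have hk : IsOpenImmersion.lift U.ι (c ≫ g) hcU = IsOpenImmersion.lift U.ι (c ≫ g') hcU' := by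
      haveI : IsAffine U := hU
      apply ext_affine (IsLocalization.Away.map (Localization.Away r) (Localization.Away (π₁ r)) π₁ r)
        (IsLocalization.Away.map (Localization.Away r) (Localization.Away (π₂ r)) π₂ r)
        (loc_joint π₁ π₂ hinj r)
      · rw [← cancel_mono U.ι, Category.assoc, Category.assoc, IsOpenImmersion.lift_fac,
          IsOpenImmersion.lift_fac, hc, ← Category.assoc, ← Category.assoc, spec_loc_comm,
          Category.assoc, Category.assoc, h₁]
      · rw [← cancel_mono U.ι, Category.assoc, Category.assoc, IsOpenImmersion.lift_fac,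
          IsOpenImmersion.lift_fac, hc, ← Category.assoc, ← Category.assoc, spec_loc_comm,
          Category.assoc, Category.assoc, h₂]
    calc c ≫ g = IsOpenImmersion.lift U.ι (c ≫ g) hcU ≫ U.ι := (IsOpenImmersion.lift_fac _ _ _).symm
      _ = IsOpenImmersion.lift U.ι (c ≫ g') hcU' ≫ U.ι := by rw [hk]
      _ = c ≫ g' := IsOpenImmersion.lift_fac _ _ _
  choose r hr hc using key
  have hcov : TopologicalSpace.IsOpenCover
      (fun z : Spec (CommRingCat.of R) =>
        (PrimeSpectrum.basicOpen (r z) : (Spec (CommRingCat.of R)).Opens)) := by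
    rw [TopologicalSpace.IsOpenCover, eq_top_iff]
    intro z _
    exact TopologicalSpace.Opens.mem_iSup.mpr ⟨z, hr z⟩
  have hz : ∀ z : Spec (CommRingCat.of R),
      Scheme.Opens.ι (X := Spec (CommRingCat.of R)) (PrimeSpectrum.basicOpen (r z)) ≫ g =
        Scheme.Opens.ι (X := Spec (CommRingCat.of R)) (PrimeSpectrum.basicOpen (r z)) ≫ g' := by
    intro z
    set c := Spec.map (CommRingCat.ofHom (algebraMap R (Localization.Away (r z)))) with hcdef
    have hle : Set.range (Scheme.Opens.ι (X := Spec (CommRingCat.of R))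
        (PrimeSpectrum.basicOpen (r z))).base ⊆ Set.range c.base := by
      rw [Scheme.Opens.range_ι]
      exact (PrimeSpectrum.localization_away_comap_range _ (r z)).ge
    rw [← IsOpenImmersion.lift_fac c _ hle, Category.assoc, Category.assoc, hc z]
  apply Scheme.Cover.hom_ext ((Spec (CommRingCat.of R)).openCoverOfIsOpenCover _ hcov)
  intro z
  exact hz z

/-- A surjective ring map with nil kernel is surjective on spectra. -/
theorem spec_surjective_of_nil {R T : Type u} [CommRing R] [CommRing T] (φ : R →+* T)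
    (hφ : Function.Surjective φ) (hker : ∀ x, φ x = 0 → IsNilpotent x) :
    Function.Surjective (Spec.map (CommRingCat.ofHom φ)).base := by
  change Function.Surjective (PrimeSpectrum.comap φ)
  refine (PrimeSpectrum.isHomeomorph_comap φ ?_ ?_).surjective
  · intro x
    obtain ⟨y, rfl⟩ := hφ x
    exact ⟨1, Nat.one_pos, y, by simp⟩
  · intro x hx
    exact (mem_nilradical).mpr (hker x hx)

/-- single-map version -/
theorem ext_of_injective {R D : Type u} [CommRing R] [CommRing D]
    (π : R →+* D) (hinj : Function.Injective π)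
    (hsurj : Function.Surjective (Spec.map (CommRingCat.ofHom π)).base)
    {X : Scheme.{u}} (g g' : Spec (CommRingCat.of R) ⟶ X)
    (h : Spec.map (CommRingCat.ofHom π) ≫ g = Spec.map (CommRingCat.ofHom π) ≫ g') : g = g' :=
  ext_of_joint π π (fun x hx _ => (map_eq_zero_iff π hinj).mp hx) hsurj g g' h h

/-- categorical form of `ext_of_injective` (robust against instance-path mismatches). -/
theorem ext_of_injective_cat {R D : CommRingCat.{u}} (π : R ⟶ D) (hinj : Function.Injective π.hom)
    (hsurj : Function.Surjective (Spec.map π).base) {X : Scheme.{u}} (g g' : Spec R ⟶ X)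
    (h : Spec.map π ≫ g = Spec.map π ≫ g') : g = g' :=
  ext_of_injective π.hom hinj hsurj g g' h

/-- categorical form of `spec_surjective_of_nil`. -/
theorem spec_surjective_of_nil_cat {R T : CommRingCat.{u}} (φ : R ⟶ T)
    (hφ : Function.Surjective φ.hom) (hker : ∀ x, φ.hom x = 0 → IsNilpotent x) :
    Function.Surjective (Spec.map φ).base :=
  spec_surjective_of_nil φ.hom hφ hker

end Groth.Agent.H91.SqZero
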