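import Mathlib
import Groth.Prelude.Def_LieS
import Groth.Agent.H91.SqZero

set_option autoImplicit false
universe u
open CategoryTheory MonObj AlgebraicGeometry
open LieS

namespace Groth.Agent.H91.LieAdd

variable {S : Scheme.{u}} {B : Type u} [CommRing B] (f : Spec (CommRingCat.of B) ⟶ S)

/-- `Spec A` over `S` through `Spec B`, for a `B`-algebra `A`. -/
noncomputable def ov (A : Type u) [CommRing A] [Algebra B A] : Over S :=
  Over.mk (Spec.map (CommRingCat.ofHom (algebraMap B A)) ≫ f)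

/-- the morphism over `S` induced by a `B`-algebra map. -/
noncomputable def ovMap {A₁ A₂ : Type u} [CommRing A₁] [Algebra B A₁] [CommRing A₂] [Algebra B A₂]
    (α : A₁ →ₐ[B] A₂) : ov f A₂ ⟶ ov f A₁ :=
  Over.homMk (Spec.map (CommRingCat.ofHom (α : A₁ →+* A₂))) (by
    change Spec.map _ ≫ Spec.map _ ≫ f = Spec.map _ ≫ f
    rw [← Category.assoc, specMap_comp, AlgHom.comp_algebraMap])

theorem ovMap_left {A₁ A₂ : Type u} [CommRing A₁] [Algebra B A₁] [CommRing A₂] [Algebra B A₂]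
    (α : A₁ →ₐ[B] A₂) : (ovMap f α).left = Spec.map (CommRingCat.ofHom (α : A₁ →+* A₂)) := rfl

theorem ovMap_comp {A₁ A₂ A₃ : Type u} [CommRing A₁] [Algebra B A₁] [CommRing A₂] [Algebra B A₂]
    [CommRing A₃] [Algebra B A₃] (α : A₁ →ₐ[B] A₂) (β : A₂ →ₐ[B] A₃) :
    ovMap f β ≫ ovMap f α = ovMap f (β.comp α) := by
  ext : 1
  change Spec.map _ ≫ Spec.map _ = Spec.map _
  rw [specMap_comp]
  rfl

/-- the ring `B[ε₁, ε₂]/(ε₁, ε₂)²`. -/
abbrev R₂ (B : Type u) [CommRing B] : Type u := TrivSqZeroExt B (B × B)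

theorem dpt_eq : dpt B f = ov f (DualNumber B) := rfl

theorem scaleHom_eq (b : B) :
    scaleHom b = ((TrivSqZeroExt.map (b • LinearMap.id : B →ₗ[B] B) : DualNumber B →ₐ[B] DualNumber B) :
      DualNumber B →+* DualNumber B) := by
  refine RingHom.ext fun x => TrivSqZeroExt.ext ?_ ?_
  · simp [scaleHom, TrivSqZeroExt.algebraMap_eq_inl']
  · simp [scaleHom, TrivSqZeroExt.algebraMap_eq_inl', mul_comm]

theorem scale_eq (b : B) :
    scale B f b = ovMap f (TrivSqZeroExt.map (b • LinearMap.id : B →ₗ[B] B)) := by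
  ext : 1
  change Spec.map _ = Spec.map _
  rw [scaleHom_eq]

theorem proj_zeroSec :
    proj B f ≫ zeroSec B f = ovMap f (TrivSqZeroExt.map (0 : B →ₗ[B] B)) := by
  ext : 1
  change Spec.map _ ≫ Spec.map _ = Spec.map _
  rw [specMap_comp]
  congr 2
  refine RingHom.ext fun x => TrivSqZeroExt.ext ?_ ?_
  · simp [TrivSqZeroExt.algebraMap_eq_inl']
  · simp [TrivSqZeroExt.algebraMap_eq_inl']

theorem joint_inj (x : R₂ B)
    (h₁ : (TrivSqZeroExt.map (LinearMap.fst B B B) : R₂ B →ₐ[B] DualNumber B) x = 0)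
    (h₂ : (TrivSqZeroExt.map (LinearMap.snd B B B) : R₂ B →ₐ[B] DualNumber B) x = 0) : x = 0 := by
  have a1 := congrArg TrivSqZeroExt.fst h₁
  have a2 := congrArg TrivSqZeroExt.snd h₁
  have a3 := congrArg TrivSqZeroExt.snd h₂
  simp only [TrivSqZeroExt.fst_map, TrivSqZeroExt.snd_map, TrivSqZeroExt.fst_zero,
    TrivSqZeroExt.snd_zero, LinearMap.fst_apply, LinearMap.snd_apply] at a1 a2 a3
  exact TrivSqZeroExt.ext a1 (Prod.ext a2 a3)

theorem surj_fst :
    Function.Surjective (Spec.map (CommRingCat.ofHom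
      ((TrivSqZeroExt.map (LinearMap.fst B B B) : R₂ B →ₐ[B] DualNumber B) : R₂ B →+* DualNumber B))).base := by
  apply SqZero.spec_surjective_of_nil
  · intro y
    refine ⟨(TrivSqZeroExt.map (LinearMap.inl B B B) : DualNumber B →ₐ[B] R₂ B) y, ?_⟩
    apply TrivSqZeroExt.ext <;> simp
  · intro x hx
    have a1 : x.fst = 0 := by
      have := congrArg TrivSqZeroExt.fst hx
      simpa using this
    refine ⟨2, ?_⟩
    rw [pow_two]
    apply TrivSqZeroExt.ext <;> simp [a1]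

/-- Key: two morphisms out of `Spec B[ε₁,ε₂]/(ε₁,ε₂)²` over `S` agreeing on both coordinate axes are equal. -/
theorem ext_R₂ {X : Over S} (g g' : ov f (R₂ B) ⟶ X)
    (h₁ : ovMap f (TrivSqZeroExt.map (LinearMap.fst B B B)) ≫ g =
      ovMap f (TrivSqZeroExt.map (LinearMap.fst B B B)) ≫ g')
    (h₂ : ovMap f (TrivSqZeroExt.map (LinearMap.snd B B B)) ≫ g =
      ovMap f (TrivSqZeroExt.map (LinearMap.snd B B B)) ≫ g') : g = g' := by
  ext : 1
  refine SqZero.ext_of_joint _ _ joint_inj surj_fst g.left g'.left ?_ ?_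
  · exact congrArg CommaMorphism.left h₁
  · exact congrArg CommaMorphism.left h₂

section Add

variable {X : Over S} [MonObj X]

theorem ovMap_zero_comp (u : dpt B f ⟶ X) (hu : zeroSec B f ≫ u = 1) :
    ovMap f (TrivSqZeroExt.map (0 : B →ₗ[B] B)) ≫ (u : ov f (DualNumber B) ⟶ X) = 1 := by
  rw [← proj_zeroSec]
  change proj B f ≫ zeroSec B f ≫ u = 1
  rw [hu]
  exact MonObj.comp_one _

/-- additivity: `(a • u) * (b • u) = (a + b) • u` for a point `u` of a monoid scheme with values in the dual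
numbers restricting to the unit section. -/
theorem scale_add (u : dpt B f ⟶ X) (hu : zeroSec B f ≫ u = 1) (a b : B) :
    (scale B f a ≫ u) * (scale B f b ≫ u) = scale B f (a + b) ≫ u := by
  set ℓ₁ : B →ₗ[B] B × B := LinearMap.inl B B B ∘ₗ (a • LinearMap.id) with hℓ₁
  set ℓ₂ : B →ₗ[B] B × B := LinearMap.inr B B B ∘ₗ (b • LinearMap.id) with hℓ₂
  set u' : ov f (DualNumber B) ⟶ X := u with hu'
  have h0 := ovMap_zero_comp f u hu
  have key : ∀ (p : B × B →ₗ[B] B) (ℓ : B →ₗ[B] B × B),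
      ovMap f (TrivSqZeroExt.map p) ≫ ovMap f (TrivSqZeroExt.map ℓ) ≫ u' =
        ovMap f (TrivSqZeroExt.map (p ∘ₗ ℓ)) ≫ u' := by
    intro p ℓ
    rw [← Category.assoc, ovMap_comp, TrivSqZeroExt.map_comp_map]
  have hgg' : (ovMap f (TrivSqZeroExt.map ℓ₁) ≫ u') * (ovMap f (TrivSqZeroExt.map ℓ₂) ≫ u') =
      ovMap f (TrivSqZeroExt.map (ℓ₁ + ℓ₂)) ≫ u' := by
    apply ext_R₂
    · rw [MonObj.comp_mul, key, key, key]
      have e1 : LinearMap.fst B B B ∘ₗ ℓ₁ = a • LinearMap.id := by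
        apply LinearMap.ext; intro x; simp [hℓ₁]
      have e2 : LinearMap.fst B B B ∘ₗ ℓ₂ = 0 := by
        apply LinearMap.ext; intro x; simp [hℓ₂]
      have e3 : LinearMap.fst B B B ∘ₗ (ℓ₁ + ℓ₂) = a • LinearMap.id := by
        apply LinearMap.ext; intro x; simp [hℓ₁, hℓ₂]
      rw [e1, e2, e3, h0, _root_.mul_one]
    · rw [MonObj.comp_mul, key, key, key]
      have e1 : LinearMap.snd B B B ∘ₗ ℓ₁ = 0 := by
        apply LinearMap.ext; intro x; simp [hℓ₁]
      have e2 : LinearMap.snd B B B ∘ₗ ℓ₂ = b • LinearMap.id := by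
        apply LinearMap.ext; intro x; simp [hℓ₂]
      have e3 : LinearMap.snd B B B ∘ₗ (ℓ₁ + ℓ₂) = b • LinearMap.id := by
        apply LinearMap.ext; intro x; simp [hℓ₁, hℓ₂]
      rw [e1, e2, e3, h0, _root_.one_mul]
  have h2 := congrArg
    (fun t => ovMap f (TrivSqZeroExt.map (LinearMap.fst B B B + LinearMap.snd B B B)) ≫ t) hgg'
  beta_reduce at h2
  rw [MonObj.comp_mul, key, key, key] at h2
  have e1 : (LinearMap.fst B B B + LinearMap.snd B B B) ∘ₗ ℓ₁ = a • LinearMap.id := by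
    apply LinearMap.ext; intro x; simp [hℓ₁]
  have e2 : (LinearMap.fst B B B + LinearMap.snd B B B) ∘ₗ ℓ₂ = b • LinearMap.id := by
    apply LinearMap.ext; intro x; simp [hℓ₂]
  have e3 : (LinearMap.fst B B B + LinearMap.snd B B B) ∘ₗ (ℓ₁ + ℓ₂) = (a + b) • LinearMap.id := by
    apply LinearMap.ext; intro x; simp [hℓ₁, hℓ₂, add_mul]
  rw [e1, e2, e3, ← scale_eq, ← scale_eq, ← scale_eq] at h2
  exact h2

theorem scale_zero_comp (u : dpt B f ⟶ X) (hu : zeroSec B f ≫ u = 1) : scale B f 0 ≫ u = 1 := by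
  rw [scale_eq, zero_smul]
  exact ovMap_zero_comp f u hu

theorem scale_one : scale B f 1 = 𝟙 _ := by
  rw [scale_eq, one_smul, TrivSqZeroExt.map_id]
  ext : 1
  change Spec.map _ = 𝟙 _
  erw [Spec.map_id]

end Add

end Groth.Agent.H91.LieAdd
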