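import Groth.Prelude.Def_LieS

/-! Centraliser of a subgroup in Lie(G): commuting with all points of K  ↔  Ad-invariance (S8370). -/

set_option autoImplicit false
universe u
open CategoryTheory MonObj GrpObj AlgebraicGeometry Opposite
open LieS

namespace Groth.Agent.H91.LieCentr

variable {S : Scheme.{u}} {G K : Over S} [GrpObj G] [GrpObj K]

omit [GrpObj K] in
theorem fwd (i : K ⟶ G) (B : Type u) [CommRing B] (f : Spec (CommRingCat.of B) ⟶ S) (x : Lie G B f)
    (H : ∀ (X' : Over S) (y : X' ⟶ dpt B f) (h : X' ⟶ K), (y ≫ x.1) * (h ≫ i) = (h ≫ i) * (y ≫ x.1))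
    (B' : Type u) [CommRing B'] (h : B →+* B') (k : pt B' (Spec.map (CommRingCat.ofHom h) ≫ f) ⟶ K) :
    Ad G B' (Spec.map (CommRingCat.ofHom h) ≫ f) (k ≫ i) (pull G f h x) = pull G f h x := by
  apply Subtype.ext
  have e := H _ (dptMap f h) (proj B' _ ≫ k)
  show (proj B' _ ≫ k ≫ i) * (dptMap f h ≫ x.1) * (proj B' _ ≫ k ≫ i)⁻¹ = dptMap f h ≫ x.1
  rw [Category.assoc] at e
  rw [← e, _root_.mul_assoc, _root_.mul_inv_cancel, _root_.mul_one]

/-- the section `Spec C ⟶ Spec C[ε]`, `ε ↦ c`. -/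
noncomputable def sec {C : Type u} [CommRing C] (g : Spec (CommRingCat.of C) ⟶ S) (c : C) (hc : c * c = 0) :
    pt C g ⟶ dpt C g :=
  Over.homMk (Spec.map (CommRingCat.ofHom (dualHom (RingHom.id C) c hc))) (by
    change Spec.map _ ≫ Spec.map _ ≫ g = g
    rw [← Category.assoc, specMap_comp, dualHom_comp_algebraMap, CommRingCat.ofHom_id]
    erw [Spec.map_id]; exact Category.id_comp g)

theorem sec_proj {C : Type u} [CommRing C] (g : Spec (CommRingCat.of C) ⟶ S) (c : C) (hc : c * c = 0) :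
    sec g c hc ≫ proj C g = 𝟙 _ := by
  ext; change Spec.map _ ≫ Spec.map _ = 𝟙 _
  rw [specMap_comp, dualHom_comp_algebraMap, CommRingCat.ofHom_id]; erw [Spec.map_id]

theorem dualHom_comp_bcHom {B C : Type u} [CommRing B] [CommRing C] (φ : DualNumber B →+* C)
    (hc : φ DualNumber.eps * φ DualNumber.eps = 0) :
    (dualHom (RingHom.id C) (φ DualNumber.eps) hc).comp (bcHom (φ.comp (algebraMap B (DualNumber B)))) = φ := by
  refine RingHom.ext fun x => ?_
  have hx : x = algebraMap B (DualNumber B) x.fst + algebraMap B (DualNumber B) x.snd * DualNumber.eps := by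
    refine TrivSqZeroExt.ext ?_ ?_ <;> simp [TrivSqZeroExt.algebraMap_eq_inl']
  conv_rhs => rw [hx]
  simp [bcHom, TrivSqZeroExt.algebraMap_eq_inl']

omit [GrpObj K] in
theorem core (i : K ⟶ G) (B : Type u) [CommRing B] (f : Spec (CommRingCat.of B) ⟶ S) (x : Lie G B f)
    (H : ∀ (B' : Type u) [CommRing B'] (h : B →+* B') (k : pt B' (Spec.map (CommRingCat.ofHom h) ≫ f) ⟶ K),
      Ad G B' (Spec.map (CommRingCat.ofHom h) ≫ f) (k ≫ i) (pull G f h x) = pull G f h x)
    (C : Type u) [CommRing C] (φ : DualNumber B →+* C)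
    (y : pt C (Spec.map (CommRingCat.ofHom (φ.comp (algebraMap B (DualNumber B)))) ≫ f) ⟶ dpt B f)
    (hy : y.left = Spec.map (CommRingCat.ofHom φ))
    (k : pt C (Spec.map (CommRingCat.ofHom (φ.comp (algebraMap B (DualNumber B)))) ≫ f) ⟶ K) :
    (y ≫ x.1) * (k ≫ i) = (k ≫ i) * (y ≫ x.1) := by
  have hc : φ DualNumber.eps * φ DualNumber.eps = 0 := by rw [← map_mul, eps_sq, map_zero]
  have hs1 : sec (Spec.map (CommRingCat.ofHom (φ.comp (algebraMap B (DualNumber B)))) ≫ f) (φ DualNumber.eps) hc ≫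
      proj C _ = 𝟙 _ := sec_proj _ _ _
  have hs2 : sec (Spec.map (CommRingCat.ofHom (φ.comp (algebraMap B (DualNumber B)))) ≫ f) (φ DualNumber.eps) hc ≫
      dptMap f (φ.comp (algebraMap B (DualNumber B))) = y := by
    ext
    rw [hy]
    change Spec.map _ ≫ Spec.map _ = Spec.map _
    rw [specMap_comp, dualHom_comp_bcHom]
  have e := congrArg Subtype.val (H C (φ.comp (algebraMap B (DualNumber B))) k)
  change (proj C _ ≫ k ≫ i) * (dptMap f (φ.comp (algebraMap B (DualNumber B))) ≫ x.1) * (proj C _ ≫ k ≫ i)⁻¹ =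
    dptMap f (φ.comp (algebraMap B (DualNumber B))) ≫ x.1 at e
  have e2 := congrArg (fun m =>
    sec (Spec.map (CommRingCat.ofHom (φ.comp (algebraMap B (DualNumber B)))) ≫ f) (φ DualNumber.eps) hc ≫ m) e
  simp only [MonObj.comp_mul, GrpObj.comp_inv] at e2
  rw [← Category.assoc, hs1, Category.id_comp, ← Category.assoc, hs2] at e2
  calc (y ≫ x.1) * (k ≫ i) = ((k ≫ i) * (y ≫ x.1) * (k ≫ i)⁻¹) * (k ≫ i) := by rw [e2]
    _ = (k ≫ i) * (y ≫ x.1) := by group

omit [GrpObj K] in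
theorem affine (i : K ⟶ G) (B : Type u) [CommRing B] (f : Spec (CommRingCat.of B) ⟶ S) (x : Lie G B f)
    (H : ∀ (B' : Type u) [CommRing B'] (h : B →+* B') (k : pt B' (Spec.map (CommRingCat.ofHom h) ≫ f) ⟶ K),
      Ad G B' (Spec.map (CommRingCat.ofHom h) ≫ f) (k ≫ i) (pull G f h x) = pull G f h x)
    (C : Type u) [CommRing C] (g : Spec (CommRingCat.of C) ⟶ S)
    (y : Over.mk g ⟶ dpt B f) (k : Over.mk g ⟶ K) :
    (y ≫ x.1) * (k ≫ i) = (k ≫ i) * (y ≫ x.1) := by
  obtain ⟨φ', hφ'⟩ := Spec.map_surjective (R := CommRingCat.of (DualNumber B)) (S := CommRingCat.of C) y.left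
  have hg : g = Spec.map (CommRingCat.ofHom (φ'.hom.comp (algebraMap B (DualNumber B)))) ≫ f := by
    have hw := Over.w y
    change y.left ≫ Spec.map (CommRingCat.ofHom (algebraMap B (DualNumber B))) ≫ f = g at hw
    have key : Spec.map φ' ≫ Spec.map (CommRingCat.ofHom (algebraMap B (DualNumber B))) ≫ f =
        Spec.map (CommRingCat.ofHom (φ'.hom.comp (algebraMap B (DualNumber B)))) ≫ f := by
      rw [← Category.assoc, ← Spec.map_comp]; rfl
    rw [← key, hφ']; exact hw.symm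
  subst hg
  exact core i B f x H C φ'.hom y (by rw [← hφ']; rfl) k

omit [GrpObj K] in
theorem bwd (i : K ⟶ G) (B : Type u) [CommRing B] (f : Spec (CommRingCat.of B) ⟶ S) (x : Lie G B f)
    (H : ∀ (B' : Type u) [CommRing B'] (h : B →+* B') (k : pt B' (Spec.map (CommRingCat.ofHom h) ≫ f) ⟶ K),
      Ad G B' (Spec.map (CommRingCat.ofHom h) ≫ f) (k ≫ i) (pull G f h x) = pull G f h x)
    (X' : Over S) (y : X' ⟶ dpt B f) (h : X' ⟶ K) :
    (y ≫ x.1) * (h ≫ i) = (h ≫ i) * (y ≫ x.1) := by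
  apply Over.OverMorphism.ext
  refine Scheme.Cover.hom_ext X'.left.affineCover _ _ fun j => ?_
  let u : Over.mk (X'.left.affineCover.f j ≫ X'.hom) ⟶ X' := Over.homMk (X'.left.affineCover.f j) rfl
  have e := affine i B f x H _ (X'.left.affineCover.f j ≫ X'.hom) (u ≫ y) (u ≫ h)
  rw [Category.assoc, Category.assoc, ← MonObj.comp_mul, ← MonObj.comp_mul] at e
  exact congrArg CommaMorphism.left e

end Groth.Agent.H91.LieCentr
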