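import Mathlib
import Groth.Prelude.Def_LieS

set_option autoImplicit false
universe u
open CategoryTheory MonObj AlgebraicGeometry
open LieS

namespace Groth.Agent.H91.LieExact

theorem map_val {S : Scheme.{u}} {G H : Over S} [GrpObj G] [GrpObj H] (φ : G ⟶ H) [IsMonHom φ]
    (B : Type u) [CommRing B] (f : Spec (CommRingCat.of B) ⟶ S) (v : LieS.Lie G B f) :
    (LieS.map B f φ v).1 = v.1 ≫ φ := rfl

theorem main (S : Scheme.{u}) (G' G G'' : Over S) [GrpObj G'] [GrpObj G] [GrpObj G'']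
    (i : G' ⟶ G) [IsMonHom i] (q : G ⟶ G'') [IsMonHom q]
    (hex : ∀ T : Over S, Function.Injective (fun a : T ⟶ G' => a ≫ i) ∧
      Function.Surjective (fun b : T ⟶ G => b ≫ q) ∧ ∀ b : T ⟶ G, b ≫ q = 1 ↔ ∃ a : T ⟶ G', a ≫ i = b)
    (B : Type u) [CommRing B] (f : Spec (CommRingCat.of B) ⟶ S) :
    Function.Injective (LieS.map B f i) ∧ Function.Surjective (LieS.map B f q) ∧
      ∀ v : LieS.Lie G B f, LieS.map B f q v = 1 ↔ ∃ w : LieS.Lie G' B f, LieS.map B f i w = v := by
  refine ⟨?_, ?_, ?_⟩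
  · intro v w h
    apply Subtype.ext
    apply (hex (dpt B f)).1
    have := congrArg Subtype.val h
    rwa [map_val, map_val] at this
  · intro w
    obtain ⟨b, hb⟩ := (hex (dpt B f)).2.1 w.1
    have hb : b ≫ q = w.1 := hb
    have hw : zeroSec B f ≫ w.1 = 1 := w.2
    set c : pt B f ⟶ G := zeroSec B f ≫ b with hc
    have hcq : c ≫ q = 1 := by rw [hc, Category.assoc, hb, hw]
    refine ⟨⟨b * (proj B f ≫ c)⁻¹, ?_⟩, ?_⟩
    · rw [mem_Lie_iff, MonObj.comp_mul, GrpObj.comp_inv, ← Category.assoc, zeroSec_proj,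
        Category.id_comp, ← hc, mul_inv_cancel]
    · apply Subtype.ext
      rw [map_val]
      change (b * (proj B f ≫ c)⁻¹) ≫ q = w.1
      rw [MonObj.mul_comp, hb]
      have : (proj B f ≫ c)⁻¹ ≫ q = 1 := by
        have h1 := map_inv (IsMonHom.monoidHom q (dpt B f)) (proj B f ≫ c)
        change (proj B f ≫ c)⁻¹ ≫ q = ((proj B f ≫ c) ≫ q)⁻¹ at h1
        rw [h1, Category.assoc, hcq, MonObj.comp_one, inv_one]
      rw [this, _root_.mul_one]
  · intro v
    constructor
    · intro h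
      have h1 : v.1 ≫ q = 1 := by
        have := congrArg Subtype.val h
        rwa [map_val] at this
      obtain ⟨a, ha⟩ := ((hex (dpt B f)).2.2 v.1).1 h1
      refine ⟨⟨a, ?_⟩, Subtype.ext ?_⟩
      · rw [mem_Lie_iff]
        apply (hex (pt B f)).1
        change (zeroSec B f ≫ a) ≫ i = 1 ≫ i
        rw [Category.assoc, ha, MonObj.one_comp]
        exact v.2
      · rw [map_val]
        exact ha
    · rintro ⟨w, rfl⟩
      apply Subtype.ext
      rw [map_val, map_val]
      exact ((hex (dpt B f)).2.2 (w.1 ≫ i)).2 ⟨w.1, rfl⟩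

end Groth.Agent.H91.LieExact
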