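import Mathlib
import Groth.Prelude.Def_LieS
import Groth.Agent.H91.LieAdd

set_option autoImplicit false
universe u
open CategoryTheory MonObj AlgebraicGeometry
open LieS

namespace Groth.Agent.H91.LieRows

open Groth.Agent.H91.LieAdd

variable {S : Scheme.{u}} {B : Type u} [CommRing B] (f : Spec (CommRingCat.of B) ⟶ S)

section Grp

variable {G : Over S} [GrpObj G]

theorem lie_smul_add (v : Lie G B f) (a b : B) : (a • v) * (b • v) = (a + b) • v := by
  apply Subtype.ext
  rw [Subgroup.coe_mul, smul_val, smul_val, smul_val]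
  exact scale_add f v.1 v.2 a b

theorem lie_zero_smul (v : Lie G B f) : (0 : B) • v = 1 := by
  apply Subtype.ext
  rw [smul_val]
  exact scale_zero_comp f v.1 v.2

theorem lie_one_smul (v : Lie G B f) : (1 : B) • v = v := by
  apply Subtype.ext
  rw [smul_val, scale_one, Category.id_comp]

theorem npow_eq (v : Lie G B f) (n : ℕ) : v ^ n = ((n : B) • v) := by
  induction n with
  | zero => rw [pow_zero, Nat.cast_zero, lie_zero_smul]
  | succ n ih =>
    calc v ^ (n + 1) = v ^ n * v := pow_succ _ _
      _ = ((n : B) • v) * ((1 : B) • v) := by rw [ih, lie_one_smul]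
      _ = (((n : B) + 1) • v) := lie_smul_add f v _ _
      _ = (((n + 1 : ℕ) : B) • v) := by rw [Nat.cast_succ]

theorem zpow_eq (v : Lie G B f) (n : ℤ) : v ^ n = ((n : B) • v) := by
  cases n with
  | ofNat n =>
    rw [Int.ofNat_eq_natCast, zpow_natCast, Int.cast_natCast]
    exact npow_eq f v n
  | negSucc n =>
    rw [zpow_negSucc, npow_eq, Int.cast_negSucc]
    symm
    apply eq_inv_of_mul_eq_one_left
    rw [lie_smul_add, neg_add_cancel, lie_zero_smul]

end Grp

section Mon

variable {X : Over S} [MonObj X]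

theorem isUnit_of_zeroSec_eq_one (u : dpt B f ⟶ X) (hu : zeroSec B f ≫ u = 1) : IsUnit u := by
  have h1 : scale B f 1 ≫ u = u := by rw [scale_one, Category.id_comp]
  refine isUnit_iff_exists_and_exists.mpr ⟨⟨scale B f (-1) ≫ u, ?_⟩, ⟨scale B f (-1) ≫ u, ?_⟩⟩
  · calc u * (scale B f (-1) ≫ u) = (scale B f 1 ≫ u) * (scale B f (-1) ≫ u) := by rw [h1]
      _ = 1 := by rw [scale_add f u hu, add_neg_cancel, scale_zero_comp f u hu]
  · calc (scale B f (-1) ≫ u) * u = (scale B f (-1) ≫ u) * (scale B f 1 ≫ u) := by rw [h1]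
      _ = 1 := by rw [scale_add f u hu, neg_add_cancel, scale_zero_comp f u hu]

theorem isUnit_iff (v : dpt B f ⟶ X) : IsUnit v ↔ IsUnit (zeroSec B f ≫ v) := by
  constructor
  · intro h
    let ρ : (dpt B f ⟶ X) →* (pt B f ⟶ X) :=
      { toFun := fun w => zeroSec B f ≫ w
        map_one' := MonObj.comp_one _
        map_mul' := fun a b => MonObj.comp_mul _ a b }
    exact h.map ρ
  · intro h
    obtain ⟨⟨w₀, hw1⟩, ⟨w₀', hw2⟩⟩ := isUnit_iff_exists_and_exists.mp h
    have hw : w₀' = w₀ := by
      calc w₀' = w₀' * ((zeroSec B f ≫ v) * w₀) := by rw [hw1, _root_.mul_one]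
        _ = (w₀' * (zeroSec B f ≫ v)) * w₀ := (_root_.mul_assoc _ _ _).symm
        _ = w₀ := by rw [hw2, _root_.one_mul]
    subst hw
    set w : dpt B f ⟶ X := proj B f ≫ w₀' with hwdef
    have hzw : zeroSec B f ≫ w = w₀' := by
      rw [hwdef, ← Category.assoc, zeroSec_proj, Category.id_comp]
    have hu : IsUnit (v * w) := by
      apply isUnit_of_zeroSec_eq_one
      rw [MonObj.comp_mul, hzw, hw1]
    have hu' : IsUnit (w * v) := by
      apply isUnit_of_zeroSec_eq_one
      rw [MonObj.comp_mul, hzw, hw2]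
    obtain ⟨b, hb⟩ := hu.exists_right_inv
    obtain ⟨c, hc⟩ := hu'.exists_left_inv
    refine isUnit_iff_exists_and_exists.mpr ⟨⟨w * b, ?_⟩, ⟨c * w, ?_⟩⟩
    · rw [← _root_.mul_assoc, hb]
    · rw [_root_.mul_assoc, hc]

end Mon

section Bracket

/-- `mulHom` as a morphism of `CommRingCat`. -/
noncomputable def mulHom' (B : Type u) [CommRing B] :
    CommRingCat.of (DualNumber B) ⟶ CommRingCat.of (D2 B) := CommRingCat.ofHom (mulHom B)

noncomputable def fstHom' (B : Type u) [CommRing B] :
    CommRingCat.of (DualNumber B) ⟶ CommRingCat.of B :=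
  CommRingCat.ofHom (TrivSqZeroExt.fstHom B B B).toRingHom

noncomputable def kap' (B : Type u) [CommRing B] :
    CommRingCat.of (D2 B) ⟶ CommRingCat.of B :=
  CommRingCat.ofHom ((TrivSqZeroExt.fstHom B B B).toRingHom.comp
      (TrivSqZeroExt.fstHom (DualNumber B) (DualNumber B) (DualNumber B)).toRingHom)

theorem mulHom'_injective : Function.Injective (mulHom' B).hom := by
  rw [injective_iff_map_eq_zero]
  intro x hx
  have hx' : mulHom B x = 0 := hx
  have a1 := congrArg (fun t : D2 B => t.fst.fst) hx'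
  have a2 := congrArg (fun t : D2 B => t.snd.snd) hx'
  simp [mulHom, TrivSqZeroExt.algebraMap_eq_inl'] at a1 a2
  exact TrivSqZeroExt.ext a1 a2

theorem mulHom'_kap' : mulHom' B ≫ kap' B = fstHom' B := by
  apply CommRingCat.hom_ext
  refine RingHom.ext fun x => ?_
  change (TrivSqZeroExt.fstHom B B B) ((TrivSqZeroExt.fstHom (DualNumber B) (DualNumber B) (DualNumber B)) (mulHom B x)) = (TrivSqZeroExt.fstHom B B B) x
  simp [mulHom, TrivSqZeroExt.algebraMap_eq_inl']

theorem fstHom'_surj : Function.Surjective (Spec.map (fstHom' B)).base := by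
  apply SqZero.spec_surjective_of_nil_cat
  · intro b
    exact ⟨(TrivSqZeroExt.inl b : DualNumber B), by simp [fstHom']⟩
  · intro x hx
    have a1 : TrivSqZeroExt.fst (x : DualNumber B) = 0 := hx
    refine ⟨2, ?_⟩
    rw [pow_two]
    apply TrivSqZeroExt.ext
    · change TrivSqZeroExt.fst ((x : DualNumber B) * x) = 0
      simp [a1]
    · change TrivSqZeroExt.snd ((x : DualNumber B) * x) = 0
      simp [a1]

theorem mulHom'_surj : Function.Surjective (Spec.map (mulHom' B)).base := by
  have h1 := fstHom'_surj (B := B)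
  rw [← mulHom'_kap', Spec.map_comp, Scheme.Hom.comp_base] at h1
  exact Function.Surjective.of_comp h1

theorem ext_dpt {X : Scheme.{u}} (g g' : Spec (CommRingCat.of (DualNumber B)) ⟶ X)
    (h : Spec.map (mulHom' B) ≫ g = Spec.map (mulHom' B) ≫ g') : g = g' :=
  SqZero.ext_of_injective_cat (mulHom' B) mulHom'_injective mulHom'_surj g g' h

variable {G : Over S} [GrpObj G]

theorem mulMap_left : (mulMap B f).left = Spec.map (mulHom' B) := by
  unfold mulMap mulHom'
  exact Over.homMk_left _ _

theorem bracket_unique (x y z z' : Lie G B f) (h : IsBracket G B f x y z)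
    (h' : IsBracket G B f x y z') : z = z' := by
  apply Subtype.ext
  have e : mulMap B f ≫ z.1 = mulMap B f ≫ z'.1 := h.trans h'.symm
  have e2 : (mulMap B f).left ≫ z.1.left = (mulMap B f).left ≫ z'.1.left :=
    congrArg CommaMorphism.left e
  rw [mulMap_left] at e2
  ext : 1
  exact ext_dpt z.1.left z'.1.left e2

end Bracket

end Groth.Agent.H91.LieRows
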