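import Mathlib
import Groth.Prelude.Def_Magnet3
import Groth.Prelude.Def_ActBC

set_option autoImplicit false
universe u
open CategoryTheory AlgebraicGeometry Limits MonoidalCategory CartesianMonoidalCategory MonObj Opposite

namespace Groth.Agent.H91.MagnetBC
open Magnet ActBC

section Comp

variable {S S' S'' : Scheme.{u}} (f : S'' ⟶ S') (g : S' ⟶ S) {d : S'' ⟶ S} {A X B : Over S} [MonObj A]

theorem bc_comp_act (h : f ≫ g = d) (a : MonAct A X) :
    ((a.bc g).bc f).act ≫ (bcCompIso f g X h).hom =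
      ((bcCompIso f g A h).hom ⊗ₘ (bcCompIso f g X h).hom) ≫ (a.bc d).act := by
  ext
  apply pullback.hom_ext
  · simp only [MonAct.bc_act, Over.comp_left, Category.assoc, bcCompIso_hom_left_fst,
      pullback_map_left_fst, pullback_map_left_fst_assoc]
    simp only [← Category.assoc]
    congr 1
    simp only [Category.assoc]
    apply pullback.hom_ext
    · simp only [Category.assoc]
      rw [μ_left_fst_fst, μ_left_fst_fst_assoc, μ_left_fst_fst, tensorHom_left_fst'_assoc,
        bcCompIso_hom_left_fst]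
    · simp only [Category.assoc]
      rw [μ_left_fst_snd, μ_left_fst_snd_assoc, μ_left_fst_snd, tensorHom_left_snd'_assoc,
        bcCompIso_hom_left_fst]
  · exact (Over.w _).trans (Over.w _).symm

theorem tensor_conj (h : f ≫ g = d) (ψ : Red.bc d B ⟶ Red.bc d X) :
    (Red.bc f (Red.bc g A) ◁ ((bcCompIso f g B h).hom ≫ ψ ≫ (bcCompIso f g X h).inv)) ≫
        ((bcCompIso f g A h).hom ⊗ₘ (bcCompIso f g X h).hom) =
      ((bcCompIso f g A h).hom ⊗ₘ (bcCompIso f g B h).hom) ≫ (Red.bc d A ◁ ψ) := by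
  apply CartesianMonoidalCategory.hom_ext
  · simp
  · simp

theorem isEquivariant_conj_iff (h : f ≫ g = d) (ρ : MonAct A B) (a : MonAct A X)
    (ψ : Red.bc d B ⟶ Red.bc d X) :
    MonAct.IsEquivariant ((ρ.bc g).bc f) ((a.bc g).bc f)
        ((bcCompIso f g B h).hom ≫ ψ ≫ (bcCompIso f g X h).inv) ↔
      MonAct.IsEquivariant (ρ.bc d) (a.bc d) ψ := by
  unfold MonAct.IsEquivariant
  rw [← cancel_mono (bcCompIso f g X h).hom]
  simp only [Category.assoc, Iso.inv_hom_id, Category.comp_id]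
  rw [bc_comp_act f g h a, ← Category.assoc (_ ◁ _), tensor_conj f g h ψ,
    ← Category.assoc, bc_comp_act f g h ρ, Category.assoc, Category.assoc, cancel_epi]

/-- conjugation by `bcCompIso` as an equivalence between equivariant morphisms. -/
noncomputable def conjEquiv (h : f ≫ g = d) (ρ : MonAct A B) (a : MonAct A X) :
    {ψ : Red.bc d B ⟶ Red.bc d X // MonAct.IsEquivariant (ρ.bc d) (a.bc d) ψ} ≃
      {ψ' : Red.bc f (Red.bc g B) ⟶ Red.bc f (Red.bc g X) //
        MonAct.IsEquivariant ((ρ.bc g).bc f) ((a.bc g).bc f) ψ'} where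
  toFun ψ := ⟨(bcCompIso f g B h).hom ≫ ψ.1 ≫ (bcCompIso f g X h).inv,
    (isEquivariant_conj_iff f g h ρ a ψ.1).2 ψ.2⟩
  invFun ψ' := ⟨(bcCompIso f g B h).inv ≫ ψ'.1 ≫ (bcCompIso f g X h).hom,
    (isEquivariant_conj_iff f g h ρ a _).1 (by
      simp only [Category.assoc, Iso.hom_inv_id, Category.comp_id, Iso.hom_inv_id_assoc]
      exact ψ'.2)⟩
  left_inv ψ := Subtype.ext (by simp)
  right_inv ψ' := Subtype.ext (by simp)

end Comp

section Main

variable {S : Scheme.{u}} {A B X : Over S} [MonObj A]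

theorem main (ρ : MonAct A B) (a : MonAct A X) (T : Over S) (T'' : Over T.left) :
    ∃ Φ : (MonAct.eqvHom ρ a).obj (op ((Over.map T.hom).obj T'')) ≃
        (MonAct.eqvHom (ρ.bc T.hom) (a.bc T.hom)).obj (op T''),
      ∀ φ, (eqvHomEquivBc T'' (ρ.bc T.hom) (a.bc T.hom) (Φ φ)).1 ≫
          (bcCompIso T''.hom T.hom X rfl).hom =
        (bcCompIso T''.hom T.hom B rfl).hom ≫
          (eqvHomEquivBc ((Over.map T.hom).obj T'') ρ a φ).1 := by
  refine ⟨(eqvHomEquivBc ((Over.map T.hom).obj T'') ρ a).trans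
    ((conjEquiv T''.hom T.hom rfl ρ a).trans
      (eqvHomEquivBc T'' (ρ.bc T.hom) (a.bc T.hom)).symm), ?_⟩
  intro φ
  simp only [Equiv.trans_apply, Equiv.apply_symm_apply]
  change ((bcCompIso T''.hom T.hom B rfl).hom ≫ _ ≫ (bcCompIso T''.hom T.hom X rfl).inv) ≫ _ = _
  simp only [Category.assoc, Iso.inv_hom_id, Category.comp_id]

end Main

end Groth.Agent.H91.MagnetBC
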