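import Groth.Agent.H91.MagnetSep

/-!
# Attractors and equivariant closed immersions (helper91)
-/

open CategoryTheory Limits AlgebraicGeometry MonoidalCategory CartesianMonoidalCategory MonObj Opposite
open Magnet Magnet.MonAct

universe u

namespace Groth.Agent.H91.MagnetClosed

/-- The orbit formula: an equivariant family restricted along `A(M) → A(N)` is the orbit map of
its value at the unit section. -/
theorem key_orbit (S : Scheme.{u}) (M : Type) [AddCommMonoid M] (N : AddSubmonoid M)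
    {X : Over S} (a : Magnet.MonAct (Magnet.AMonS S M) X) (T : Over S)
    (χ : (attr a N).obj (op T)) {T' : Over S} (g : T' ⟶ AMonS S M) (t : T' ⟶ T) :
    lift g t ≫ (AMonS.map S N.subtype ▷ T) ≫ χ.1 =
      lift g (t ≫ lift (toUnit T ≫ η[AMonS S N]) (𝟙 T) ≫ χ.1) ≫ a.act := by
  have hχ := χ.2
  rw [mem_eqvHom_iff] at hχ
  have h1 := hχ T' g 1 t
  rw [lift_whiskerRight_assoc]
  have e1 : lift g (1 : T' ⟶ AMonS S N) ≫ (subAct S M N).act = g ≫ AMonS.map S N.subtype := by
    rw [subAct, lift_restrict_act, lift_regular_act, _root_.mul_one]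
  have e2 : lift (1 : T' ⟶ AMonS S N) t ≫ χ.1 =
      t ≫ lift (toUnit T ≫ η[AMonS S N]) (𝟙 T) ≫ χ.1 := by
    rw [← Category.assoc, comp_lift, Category.comp_id, ← Category.assoc,
      toUnit_unique (t ≫ toUnit T) (toUnit T'), ← Hom.one_def]
  rw [e1, e2] at h1
  exact h1

theorem isPullback_closed (S : Scheme.{u}) (M : Type) [AddCommMonoid M]
    (N : AddSubmonoid M) (Y Z : Over S) (aY : Magnet.MonAct (Magnet.AMonS S M) Y)
    (aZ : Magnet.MonAct (Magnet.AMonS S M) Z) (f : Z ⟶ Y) [IsClosedImmersion f.left]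
    (hf : Magnet.MonAct.IsEquivariant aZ aY f) :
    IsPullback (Magnet.MonAct.eqvHom.postcomp (Magnet.subAct S M N) f hf) (Magnet.attrToX aZ N)
      (Magnet.attrToX aY N) (yoneda.map f) := by
  have hmono : Mono f := by
    have : Mono f.left := inferInstance
    exact Over.mono_of_mono_left f
  have hf' := (isEquivariant_iff aZ aY f).mp hf
  apply IsPullback.of_forall_isPullback_app
  intro T
  rw [Types.isPullback_iff]
  refine ⟨?_, ?_, ?_⟩
  · ext φ
    change lift (toUnit (unop T) ≫ η[AMonS S N]) (𝟙 (unop T)) ≫ (φ.1 ≫ f) =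
      (lift (toUnit (unop T) ≫ η[AMonS S N]) (𝟙 (unop T)) ≫ φ.1) ≫ f
    rw [Category.assoc]
  · rintro φ ψ ⟨h1, -⟩
    apply Subtype.ext
    have h1' : φ.1 ≫ f = ψ.1 ≫ f := congrArg Subtype.val h1
    exact (cancel_mono f).mp h1'
  · intro φ z hφz
    have hφz' : lift (toUnit (unop T) ≫ η[AMonS S N]) (𝟙 (unop T)) ≫ φ.1 = z ≫ f := hφz
    haveI := MagnetDense.dense S N.subtype Subtype.val_injective (unop T)
    have hw : (AMonS.map S N.subtype ▷ unop T) ≫ φ.1 =
        ((AMonS S M ◁ z) ≫ aZ.act) ≫ f := by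
      apply hom_ext_lift₂
      intro T' g t
      rw [key_orbit S M N aY (unop T) φ g t, hφz', Category.assoc, lift_whiskerLeft_assoc,
        hf' T' g (t ≫ z), Category.assoc]
    obtain ⟨u', hu'⟩ := SchDom.lift_of_dominant (AMonS.map S N.subtype ▷ unop T).left f.left
      φ.1.left ((AMonS S M ◁ z) ≫ aZ.act).left (by
        rw [← Over.comp_left, ← Over.comp_left, hw])
    let ψ₀ : AMonS S N ⊗ unop T ⟶ Z := Over.homMk u' (by
      rw [← Over.w f, ← Category.assoc, hu', Over.w φ.1])
    have hψf : ψ₀ ≫ f = φ.1 := by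
      ext1
      exact hu'
    have hψeq : IsEquivariant ((subAct S M N).prod (trivial (AMonS S M) (unop T))) aZ ψ₀ := by
      rw [mem_eqvHom_iff]
      intro T' g b t
      rw [← cancel_mono f, Category.assoc, hψf, Category.assoc, hf' T' g (lift b t ≫ ψ₀),
        Category.assoc, hψf]
      have hφ := φ.2
      rw [mem_eqvHom_iff] at hφ
      exact hφ T' g b t
    refine ⟨⟨ψ₀, hψeq⟩, ?_, ?_⟩
    · apply Subtype.ext
      exact hψf
    · change lift (toUnit (unop T) ≫ η[AMonS S N]) (𝟙 (unop T)) ≫ ψ₀ = z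
      rw [← cancel_mono f, Category.assoc, hψf, hφz']

end Groth.Agent.H91.MagnetClosed
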