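import Groth.Agent.H91.MagnetDense2

/-!
# Attractors of separated schemes: injectivity statements (helper91)
-/

open CategoryTheory Limits AlgebraicGeometry MonoidalCategory CartesianMonoidalCategory MonObj Opposite
open Magnet Magnet.MonAct

universe u

namespace Groth.Agent.H91.MagnetSep

theorem attrToX_injective (S : Scheme.{u}) (M : Type) [AddCommMonoid M]
    (X : Over S) [IsSeparated X.hom] (a : Magnet.MonAct (Magnet.AMonS S M) X) (N : AddSubmonoid M)
    (T : Over S) :
    Function.Injective (fun φ => (Magnet.attrToX a N).app (op T) φ) := by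
  intro φ ψ h
  have h' : lift (toUnit T ≫ η[AMonS S N]) (𝟙 T) ≫ φ.1 =
      lift (toUnit T ≫ η[AMonS S N]) (𝟙 T) ≫ ψ.1 := h
  apply Subtype.ext
  haveI := MagnetDense.dense S N.subtype Subtype.val_injective T
  apply SchDom.ext_of_dominant (AMonS.map S N.subtype ▷ T)
  apply hom_ext_lift₂
  intro T' g t
  have key : ∀ χ : (attr a N).obj (op T),
      lift g t ≫ (AMonS.map S N.subtype ▷ T) ≫ χ.1 =
        lift g (t ≫ lift (toUnit T ≫ η[AMonS S N]) (𝟙 T) ≫ χ.1) ≫ a.act := by
    intro χ
    have hχ := χ.2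
    rw [mem_eqvHom_iff] at hχ
    have h1 := hχ T' g 1 t
    rw [lift_whiskerRight_assoc]
    have e1 : lift g (1 : T' ⟶ AMonS S N) ≫ (subAct S M N).act = g ≫ AMonS.map S N.subtype := by
      rw [subAct, lift_restrict_act, lift_regular_act, _root_.mul_one]
    have e2 : lift (1 : T' ⟶ AMonS S N) t ≫ χ.1 =
        t ≫ lift (toUnit T ≫ η[AMonS S N]) (𝟙 T) ≫ χ.1 := by
      rw [← Category.assoc, comp_lift, Category.comp_id, ← Category.assoc,
        toUnit_unique (t ≫ toUnit T) (toUnit T'), ← Hom.one_def]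
    rw [e1, e2] at h1
    exact h1
  rw [key φ, key ψ, h']

theorem attrMap_injective (S : Scheme.{u}) (M : Type) [AddCommMonoid M]
    (X : Over S) [IsSeparated X.hom] (a : Magnet.MonAct (Magnet.AMonS S M) X) {N N' : AddSubmonoid M}
    (h : N ≤ N') (T : Over S) :
    Function.Injective (fun φ => (Magnet.attrMap a h).app (op T) φ) := by
  intro φ ψ hφψ
  apply attrToX_injective S M X a N T
  have key : ∀ χ : (attr a N).obj (op T),
      (attrToX a N').app (op T) ((attrMap a h).app (op T) χ) = (attrToX a N).app (op T) χ := by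
    intro χ
    change lift (toUnit T ≫ η[AMonS S N']) (𝟙 T) ≫
        (AMonS.map S (AddSubmonoid.inclusion h) ▷ T) ≫ χ.1 =
      lift (toUnit T ≫ η[AMonS S N]) (𝟙 T) ≫ χ.1
    rw [lift_whiskerRight_assoc, Category.assoc, IsMonHom.one_hom]
  change (attrToX a N).app (op T) φ = (attrToX a N).app (op T) ψ
  rw [← key φ, ← key ψ]
  exact congrArg _ hφψ

end Groth.Agent.H91.MagnetSep
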