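import Mathlib

/-!
# Monomorphisms into a disjoint union of spectra of fields (helper91)
-/

open CategoryTheory Limits AlgebraicGeometry

universe u

namespace Groth.Agent.H91.MonoFields

/-- A monomorphism from a nonempty scheme to the spectrum of a field is an isomorphism. -/
theorem isIso_of_mono_of_nonempty (k : Type u) [Field k] {Z : Scheme.{u}}
    (g : Z ⟶ Spec (CommRingCat.of k)) [Mono g] [Nonempty Z] : IsIso g := by
  have hsubk : Subsingleton ↥(Spec (CommRingCat.of k)) :=
    inferInstanceAs (Subsingleton (PrimeSpectrum k))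
  have hsub : Subsingleton Z := ⟨fun a b => g.injective (Subsingleton.elim _ _)⟩
  have : CompactSpace Z := Finite.compactSpace
  have : QuasiCompact g := inferInstance
  have : Surjective g := ⟨fun y => ⟨Classical.arbitrary Z, Subsingleton.elim _ _⟩⟩
  have : Flat g := inferInstance
  exact Flat.isIso_of_surjective_of_mono g

theorem main {ι : Type u} (k : ι → Type u) [∀ i, Field (k i)]
    {Y : Scheme.{u}} (f : Y ⟶ ∐ fun i => Spec (CommRingCat.of (k i))) [Mono f] :
    ∃ (J : Set ι) (e : Y ≅ ∐ fun j : J => Spec (CommRingCat.of (k j.1))),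
      e.hom ≫ Sigma.desc (fun j : J => Sigma.ι (fun i => Spec (CommRingCat.of (k i))) j.1) = f := by
  obtain ⟨g, hg⟩ : ∃ g : ι → Scheme.{u}, g = fun i => Spec (CommRingCat.of (k i)) := ⟨_, rfl⟩
  have hsubg : ∀ i, Subsingleton ↥(g i) := by
    intro i; rw [hg]; exact inferInstanceAs (Subsingleton (PrimeSpectrum (k i)))
  -- Step 1: `f` is an open immersion
  have hf : IsOpenImmersion f := by
    rw [IsZariskiLocalAtTarget.iff_of_openCover (P := @IsOpenImmersion)
      (sigmaOpenCover fun i => Spec (CommRingCat.of (k i)))]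
    intro i
    by_cases h : Nonempty ↥(pullback f ((sigmaOpenCover fun i => Spec (CommRingCat.of (k i))).f i))
    · have hm : Mono (pullback.snd f ((sigmaOpenCover fun i => Spec (CommRingCat.of (k i))).f i)) :=
        pullback.snd_of_mono
      have : IsIso (pullback.snd f ((sigmaOpenCover fun i => Spec (CommRingCat.of (k i))).f i)) :=
        @isIso_of_mono_of_nonempty (k i) _ _ _ hm h
      exact inferInstanceAs (IsOpenImmersion
        (pullback.snd f ((sigmaOpenCover fun i => Spec (CommRingCat.of (k i))).f i)))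
    · rw [not_nonempty_iff] at h
      exact inferInstanceAs (IsOpenImmersion
        (pullback.snd f ((sigmaOpenCover fun i => Spec (CommRingCat.of (k i))).f i)))
  subst hg
  let g : ι → Scheme.{u} := fun i => Spec (CommRingCat.of (k i))
  let J : Set ι := {i | ∃ x : g i, Sigma.ι g i x ∈ Set.range f}
  let h : (∐ fun j : J => g j.1) ⟶ ∐ g := Sigma.desc (fun j : J => Sigma.ι g j.1)
  have hh : IsOpenImmersion h := by
    apply isOpenImmersion_sigmaDesc
    intro a b hab
    have hd := disjoint_opensRange_sigmaι g a.1 b.1 (fun e => hab (Subtype.ext e))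
    rw [Function.onFun, Set.disjoint_iff_inter_eq_empty]
    have := hd.eq_bot
    apply_fun (fun U : (∐ g).Opens => (U : Set ↥(∐ g))) at this
    simpa using this
  have hrange : Set.range f = Set.range h := by
    ext x
    constructor
    · rintro ⟨y, rfl⟩
      obtain ⟨i, z, hz⟩ := (sigmaOpenCover g).exists_eq (f y)
      have hz' : Sigma.ι g i z = f y := hz
      have hi : i ∈ J := ⟨z, hz' ▸ ⟨y, rfl⟩⟩
      refine ⟨Sigma.ι (fun j : J => g j.1) ⟨i, hi⟩ z, ?_⟩
      rw [← Scheme.Hom.comp_apply, Sigma.ι_desc]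
      exact hz'
    · rintro ⟨w, rfl⟩
      obtain ⟨j, z, hz⟩ := (sigmaOpenCover (fun j : J => g j.1)).exists_eq w
      have hz' : Sigma.ι (fun j : J => g j.1) j z = w := hz
      obtain ⟨x, y, hy⟩ := j.2
      refine ⟨y, ?_⟩
      rw [hy, ← hz', ← Scheme.Hom.comp_apply, Sigma.ι_desc]
      congr 1
      exact (hsubg j.1).elim _ _
  exact ⟨J, IsOpenImmersion.isoOfRangeEq f h hrange, IsOpenImmersion.isoOfRangeEq_hom_fac _ _ _⟩

end Groth.Agent.H91.MonoFields
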