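import Groth.Agent.H91.MonoFields

/-!
# Monomorphisms into the spectrum of a finite product of fields (helper91)
-/

open CategoryTheory Limits AlgebraicGeometry

universe u

namespace Groth.Agent.H91.MonoFields

theorem main_pi {ι : Type u} [Finite ι] (k : ι → Type u) [∀ i, Field (k i)]
    {X : Scheme.{u}} (f : X ⟶ Spec (CommRingCat.of (Π i, k i))) [Mono f] :
    ∃ (I : Set ι) (e : X ≅ Spec (CommRingCat.of (Π i : I, k i))),
      e.hom ≫ Spec.map (CommRingCat.ofHom (Pi.ringHom fun i : I => Pi.evalRingHom k i.1)) = f := by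
  let R : ι → CommRingCat.{u} := fun i => CommRingCat.of (k i)
  let s : (∐ fun i => Spec (R i)) ⟶ Spec (CommRingCat.of (Π i, k i)) := sigmaSpec R
  have hs : IsIso s := inferInstanceAs (IsIso (sigmaSpec R))
  have hmono : Mono (f ≫ inv s) := mono_comp _ _
  obtain ⟨J, e, he⟩ := main k (f ≫ inv s)
  let sJ : (∐ fun j : J => Spec (R j.1)) ⟶ Spec (CommRingCat.of (Π j : J, k j.1)) :=
    sigmaSpec (fun j : J => R j.1)
  have hsJ : IsIso sJ := inferInstanceAs (IsIso (sigmaSpec (fun j : J => R j.1)))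
  refine ⟨J, e ≪≫ asIso sJ, ?_⟩
  have key : sJ ≫ Spec.map (CommRingCat.ofHom (Pi.ringHom fun i : J => Pi.evalRingHom k i.1)) =
      Sigma.desc (fun j : J => Sigma.ι (fun i => Spec (R i)) j.1) ≫ s := by
    apply Sigma.hom_ext
    intro j
    rw [Sigma.ι_desc_assoc]
    change Sigma.ι _ j ≫ sigmaSpec (fun j : J => R j.1) ≫ _ = Sigma.ι _ j.1 ≫ sigmaSpec R
    rw [ι_sigmaSpec, ι_sigmaSpec_assoc, ← Spec.map_comp, ← CommRingCat.ofHom_comp]
    rfl
  have he' : e.hom ≫ Sigma.desc (fun j : J => Sigma.ι (fun i => Spec (R i)) j.1) ≫ s = f := by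
    rw [← Category.assoc]
    erw [he]
    rw [Category.assoc, IsIso.inv_hom_id, Category.comp_id]
  rw [Iso.trans_hom, asIso_hom, Category.assoc, key]
  exact he'

end Groth.Agent.H91.MonoFields
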