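import Mathlib
import Groth.Agent.H69.DirColim
import Groth.Agent.H15.NilPair.Base
import Groth.Agent.H15.NilPair.Defs
import Groth.Agent.H15.NilPair.Sys

set_option autoImplicit false
set_option maxHeartbeats 400000
universe u
open CategoryTheory MvPolynomial Limits
open Groth.Agent.H69 Groth.Agent.H15.NilPair
open scoped Classical

namespace Groth.Agent.H91.NilPair_M3

variable {R B D D' P : Type u} [CommRing R] [CommRing B] [CommRing D] [CommRing D'] [CommRing P]
  [Algebra R B] [Algebra R D] [Algebra R D'] [Algebra R P]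
variable {f : B →ₐ[R] D} {i : D' →ₐ[R] D} {q₁ : P →ₐ[R] B} {q₂ : P →ₐ[R] D'}

theorem phi_integral (hint : f.toRingHom.IsIntegral) (j : J f i q₁ q₂) :
    (phi j).toRingHom.IsIntegral := by
  let G : Subalgebra R (FD j) :=
    { carrier := {z | (phi j).toRingHom.IsIntegralElem z}
      mul_mem' := fun hx hy => RingHom.IsIntegralElem.mul _ hx hy
      add_mem' := fun hx hy => RingHom.IsIntegralElem.add _ hx hy
      one_mem' := (phi j).toRingHom.isIntegralElem_one
      zero_mem' := (phi j).toRingHom.isIntegralElem_zero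
      algebraMap_mem' := fun r => by
        have h : algebraMap R (FD j) r = (phi j).toRingHom (algebraMap R (FB j) r) :=
          ((phi j).commutes r).symm
        rw [Set.mem_setOf_eq, h]
        exact RingHom.isIntegralElem_map _ }
  have hG : G = ⊤ := by
    apply gen_top G
    intro b hb
    rcases Finset.mem_disjSum.mp hb with ⟨p, hp, rfl⟩ | ⟨s, hs, rfl⟩
    · have e : mkq j.1.WD j.1.TD ⟨X (Sum.inl p), X_mem_PS hb⟩ =
          (phi j).toRingHom (mkq j.1.WB j.1.TB
            ⟨X (Sum.inl p), X_mem_PS (Finset.inl_mem_disjSum.mpr hp)⟩) := rfl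
      show (phi j).toRingHom.IsIntegralElem _
      rw [e]
      exact RingHom.isIntegralElem_map _
    · exact j.2.2.2.2.2.2.2 hint s hs
  intro z
  have hz : z ∈ G := hG ▸ Algebra.mem_top
  exact hz

end Groth.Agent.H91.NilPair_M3
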