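import Mathlib
import Groth.Prelude.Def_QCohCat
import Groth.Prelude.Def_Coh
import Groth.Agent.H8.SectionsExact
import Groth.Agent.H8.CohAffine
import Groth.Agent.H8.IsoCover
import Groth.Agent.H22.QCohLimits

/-!
# (N1b) for helper22's S11129 squad: coherent modules on a noetherian scheme are noetherian
objects of `QCoh` (helper91)
-/

set_option autoImplicit false
set_option maxHeartbeats 400000
universe u
open CategoryTheory CategoryTheory.Limits AlgebraicGeometry TopologicalSpace Opposite

namespace Groth.Agent.H91.NoethObj_N1b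

/-- (N1a) -/
theorem mono_hom_of_mono {Y : Scheme.{u}} {A B : QCohCat.QCoh Y} (f : A ⟶ B) [Mono f] :
    Mono f.hom := by
  haveI : A.obj.IsQuasicoherent := A.property
  haveI : B.obj.IsQuasicoherent := B.property
  have hK : (kernel f.hom).IsQuasicoherent :=
    Groth.Agent.H22.QCohLimits.isQuasicoherent_kernel f.hom
  let K : QCohCat.QCoh Y := ⟨kernel f.hom, hK⟩
  let k : K ⟶ A := ObjectProperty.homMk (kernel.ι f.hom)
  let z : K ⟶ A := ObjectProperty.homMk 0
  have hkz : k ≫ f = z ≫ f := by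
    apply ObjectProperty.hom_ext
    show kernel.ι f.hom ≫ f.hom = 0 ≫ f.hom
    rw [kernel.condition, zero_comp]
  have h1 : k = z := (cancel_mono f).mp hkz
  have h2 : kernel.ι f.hom = 0 := congrArg (fun g => g.hom) h1
  exact Preadditive.mono_of_kernel_zero h2

/-- two comparable subobjects with the same images on sections over an affine cover are equal -/
theorem eq_of_le_of_range_eq {Y : Scheme.{u}} (M : QCohCat.QCoh Y) (N N' : Subobject M)
    (hle : N ≤ N') {ι : Type*} (U : ι → Y.Opens) (hU : IsOpenCover U)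
    (hU' : ∀ i, IsAffineOpen (U i))
    (hr : ∀ i, ∀ y : Γ((N' : QCohCat.QCoh Y).obj, U i), ∃ x : Γ((N : QCohCat.QCoh Y).obj, U i),
      N.arrow.hom.app (U i) x = N'.arrow.hom.app (U i) y) : N = N' := by
  haveI := mono_hom_of_mono N.arrow
  haveI := mono_hom_of_mono N'.arrow
  haveI : (N : QCohCat.QCoh Y).obj.IsQuasicoherent := (N : QCohCat.QCoh Y).property
  haveI : (N' : QCohCat.QCoh Y).obj.IsQuasicoherent := (N' : QCohCat.QCoh Y).property
  let g : (N : QCohCat.QCoh Y) ⟶ (N' : QCohCat.QCoh Y) := Subobject.ofLE N N' hle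
  have hg : g ≫ N'.arrow = N.arrow := Subobject.ofLE_arrow hle
  have hg' : g.hom ≫ N'.arrow.hom = N.arrow.hom := congrArg (fun t => t.hom) hg
  have happ : ∀ (V : Y.Opens) (x : Γ((N : QCohCat.QCoh Y).obj, V)),
      N'.arrow.hom.app V (g.hom.app V x) = N.arrow.hom.app V x := by
    intro V x
    have := congrArg (fun t => t.app V x) hg'
    exact this
  have hiso : IsIso g.hom := by
    refine Groth.Agent.H8.isIso_of_bijective_affine_cover g.hom U hU hU' (fun i => ⟨?_, ?_⟩)
    · intro x x' hxx'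
      apply Groth.Agent.H8.app_injective_of_mono N.arrow.hom (U i)
      rw [← happ, ← happ, hxx']
    · intro y
      obtain ⟨x, hx⟩ := hr i y
      refine ⟨x, ?_⟩
      apply Groth.Agent.H8.app_injective_of_mono N'.arrow.hom (U i)
      rw [happ, hx]
  -- inverse in `QCoh`
  let ginv : (N' : QCohCat.QCoh Y) ⟶ (N : QCohCat.QCoh Y) := ObjectProperty.homMk (inv g.hom)
  have hginv : ginv ≫ N.arrow = N'.arrow := by
    apply ObjectProperty.hom_ext
    show inv g.hom ≫ N.arrow.hom = N'.arrow.hom
    rw [← hg', IsIso.inv_hom_id_assoc]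
  exact le_antisymm hle (Subobject.le_of_comm ginv hginv)

/-- (N1b) -/
theorem noeth_of_coh (Y : Scheme.{u}) [IsNoetherian Y] (M : QCohCat.QCoh Y)
    (h : Coh.IsCoh M.obj) : IsNoetherianObject M := by
  rw [isNoetherianObject_iff_monotone_chain_condition]
  intro f
  haveI : M.obj.IsQuasicoherent := h.1
  haveI : SheafOfModules.IsFiniteType (R := Y.ringCatSheaf) M.obj := h.2
  -- a finite affine cover
  obtain ⟨t, ht⟩ := isCompact_univ.elim_finite_subcover
    (fun V : Y.affineOpens => ((V.1 : Y.Opens) : Set Y)) (fun V => V.1.isOpen)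
    (by
      intro x _
      obtain ⟨_, ⟨V, hV, rfl⟩, hxV, -⟩ :=
        (Y.isBasis_affineOpens).exists_subset_of_mem_open (Set.mem_univ x) isOpen_univ
      exact Set.mem_iUnion.mpr ⟨⟨V, hV⟩, hxV⟩)
  -- the chains of images
  have hmono : ∀ k, Mono (f k).arrow.hom := fun k => mono_hom_of_mono (f k).arrow
  let R (V : Y.affineOpens) : ℕ →o Submodule Γ(Y, V.1) Γ(M.obj, V.1) :=
    { toFun := fun k => LinearMap.range (Groth.Agent.H8.appₗ (f k).arrow.hom V.1)
      monotone' := by
        intro k l hkl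
        rintro _ ⟨x, rfl⟩
        have hle : f k ≤ f l := f.monotone hkl
        have hg : Subobject.ofLE (f k) (f l) hle ≫ (f l).arrow = (f k).arrow :=
          Subobject.ofLE_arrow hle
        have hg' : (Subobject.ofLE (f k) (f l) hle).hom ≫ (f l).arrow.hom = (f k).arrow.hom :=
          congrArg (fun t => t.hom) hg
        refine ⟨(Subobject.ofLE (f k) (f l) hle).hom.app V.1 x, ?_⟩
        have := congrArg (fun t => t.app V.1 x) hg'
        exact this }
  have hnoeth : ∀ V : Y.affineOpens, IsNoetherian Γ(Y, V.1) Γ(M.obj, V.1) := by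
    intro V
    haveI : IsNoetherianRing Γ(Y, V.1) := IsLocallyNoetherian.component_noetherian V
    haveI := Groth.Agent.H8.finite_sections_of_isAffineOpen M.obj V.2
    exact isNoetherian_of_isNoetherianRing_of_finite _ _
  have hstab : ∀ V : Y.affineOpens, ∃ n, ∀ m, n ≤ m → R V n = R V m := fun V =>
    (monotone_stabilizes_iff_noetherian.mpr (hnoeth V)) (R V)
  choose n hn using hstab
  refine ⟨t.sup n, fun m hm => ?_⟩
  have hle : f (t.sup n) ≤ f m := f.monotone hm
  refine eq_of_le_of_range_eq M _ _ hle (fun V : t => (V.1.1 : Y.Opens)) ?_ (fun V => V.1.2) ?_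
  · -- cover
    show (⨆ V : t, (V.1.1 : Y.Opens)) = ⊤
    rw [eq_top_iff]
    intro x _
    have hx := ht (Set.mem_univ x)
    simp only [Set.mem_iUnion] at hx
    obtain ⟨V, hVt, hxV⟩ := hx
    exact Opens.mem_iSup.mpr ⟨⟨V, hVt⟩, hxV⟩
  · intro V y
    have h1 : R V.1 (n V.1) = R V.1 (t.sup n) :=
      hn V.1 (t.sup n) (Finset.le_sup (f := n) V.2)
    have h2 : R V.1 (n V.1) = R V.1 m :=
      hn V.1 m ((Finset.le_sup (f := n) V.2).trans hm)
    have h3 : R V.1 (t.sup n) = R V.1 m := h1.symm.trans h2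
    have hy : (f m).arrow.hom.app V.1.1 y ∈ R V.1 m := ⟨y, rfl⟩
    rw [← h3] at hy
    obtain ⟨x, hx⟩ := hy
    exact ⟨x, hx⟩

end Groth.Agent.H91.NoethObj_N1b
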