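import Mathlib
import Groth.Prelude.Def_Models

/-!
# Arithmetic of the contraction of a (-1)-index of a numerical type (helper91)
-/

set_option autoImplicit false

namespace Groth.Agent.H91.NumType

open Finset Models

theorem key (W wl b W' : ℤ) (hW : 0 < W) (hwl : 0 < wl) (hb : 0 ≤ b) (h1 : wl ∣ b) (h2 : W ∣ b)
    (hW' : W' = if 2 ∣ b / wl ∧ ¬ 2 ∣ b / W then W / 2 else W) :
    0 < W' ∧ W' ∣ W ∧ (2 * W' * wl) ∣ (b ^ 2 - wl * b) ∧
    (∀ g : ℤ, 0 ≤ g → 0 ≤ W / W' * (g - 1) + 1 + (b ^ 2 - wl * b) / (2 * W' * wl)) := by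
  obtain ⟨p, hp⟩ := h1
  obtain ⟨q, hq⟩ := h2
  have hbwl : b / wl = p := by rw [hp]; exact Int.mul_ediv_cancel_left _ hwl.ne'
  have hbW : b / W = q := by rw [hq]; exact Int.mul_ediv_cancel_left _ hW.ne'
  have hp0 : 0 ≤ p := by rw [← hbwl]; exact Int.ediv_nonneg hb hwl.le
  have hq0 : 0 ≤ q := by rw [← hbW]; exact Int.ediv_nonneg hb hW.le
  rw [hbwl, hbW] at hW'
  by_cases hc : 2 ∣ p ∧ ¬ 2 ∣ q
  · rw [if_pos hc] at hW'
    have h2W : (2 : ℤ) ∣ W := by
      have h3 : (2 : ℤ) ∣ W * q := by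
        rw [← hq, hp]
        exact Dvd.dvd.mul_left hc.1 wl
      rcases Int.prime_two.dvd_or_dvd h3 with h | h
      · exact h
      · exact absurd h hc.2
    obtain ⟨c, hc'⟩ := h2W
    have hW'c : W' = c := by rw [hW', hc']; exact Int.mul_ediv_cancel_left c two_ne_zero
    have hcpos : 0 < c := by omega
    have hid : b ^ 2 - wl * b = 2 * c * wl * (q * (p - 1)) := by
      linear_combination (b - wl) * hq + (W * q) * hp + (q * wl * (p - 1)) * hc'
    refine ⟨by omega, ⟨2, by rw [hW'c, hc']; ring⟩, ⟨q * (p - 1), by rw [hW'c]; exact hid⟩, ?_⟩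
    intro g hg
    have e2 : W / W' = 2 := by rw [hW'c, hc']; exact Int.mul_ediv_cancel _ hcpos.ne'
    have hq1 : 1 ≤ q := by
      have h3 := hc.2
      omega
    have hbpos : 0 < b := by rw [hq]; exact mul_pos hW (by omega)
    have hppos : 0 < p := by
      by_contra hcon
      push Not at hcon
      have h3 : wl * p ≤ 0 := mul_nonpos_of_nonneg_of_nonpos hwl.le hcon
      omega
    have hp2 : 2 ≤ p := by
      have h3 := hc.1
      omega
    have hqp : 1 ≤ q * (p - 1) := by nlinarith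
    have hX : 1 ≤ (b ^ 2 - wl * b) / (2 * W' * wl) := by
      rw [hW'c, Int.le_ediv_iff_mul_le (by positivity), hid]
      have h5 : 0 < 2 * c * wl := by positivity
      nlinarith
    rw [e2]
    linarith
  · rw [if_neg hc] at hW'
    rw [hW']
    have h2' : (2 : ℤ) ∣ q * (p - 1) := by
      by_cases hp2 : 2 ∣ p
      · have hq2 : 2 ∣ q := by
          by_contra h
          exact hc ⟨hp2, h⟩
        exact Dvd.dvd.mul_right hq2 _
      · have h3 : (2 : ℤ) ∣ p - 1 := by omega
        exact Dvd.dvd.mul_left h3 _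
    obtain ⟨e, he⟩ := h2'
    refine ⟨hW, dvd_rfl, ⟨e, ?_⟩, ?_⟩
    · linear_combination (b - wl) * hq + (W * q) * hp + (W * wl) * he
    · intro g hg
      have e2 : W / W = 1 := Int.ediv_self hW.ne'
      have hpp : 0 ≤ p * (p - 1) := by
        rcases (by omega : p = 0 ∨ 1 ≤ p) with h | h
        · rw [h]; norm_num
        · exact mul_nonneg hp0 (by omega)
      have hnum : 0 ≤ b ^ 2 - wl * b := by
        have h3 : b ^ 2 - wl * b = wl * wl * (p * (p - 1)) := by rw [hp]; ring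
        rw [h3]
        exact mul_nonneg (mul_nonneg hwl.le hwl.le) hpp
      have hX : 0 ≤ (b ^ 2 - wl * b) / (2 * W * wl) := Int.ediv_nonneg hnum (by positivity)
      rw [e2]
      linarith

theorem key2 (W wl b W' g g' : ℤ) (hW : 0 < W) (hwl : 0 < wl) (hb : 0 ≤ b) (h1 : wl ∣ b)
    (h2 : W ∣ b) (hW' : W' = if 2 ∣ b / wl ∧ ¬ 2 ∣ b / W then W / 2 else W)
    (hg' : g' = W / W' * (g - 1) + 1 + (b ^ 2 - wl * b) / (2 * W' * wl)) :
    2 * wl * (W' * (g' - 1)) = 2 * wl * (W * (g - 1)) + (b ^ 2 - wl * b) := by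
  obtain ⟨hpos, ⟨r, hr⟩, ⟨s, hs⟩, -⟩ := key W wl b W' hW hwl hb h1 h2 hW'
  have e1 : W / W' = r := by rw [hr]; exact Int.mul_ediv_cancel_left _ hpos.ne'
  have e2 : (b ^ 2 - wl * b) / (2 * W' * wl) = s := by
    rw [hs]
    exact Int.mul_ediv_cancel_left _ (by positivity)
  rw [e1, e2] at hg'
  rw [hg', hs, hr]
  ring

theorem ediv_helper (x y wl p : ℤ) (hwl : wl ≠ 0) (hx : x = wl * p) :
    x * y / (-wl) = -(p * y) := by
  rw [hx, Int.ediv_neg, mul_assoc, Int.mul_ediv_cancel_left _ hwl]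

theorem F1 {n : ℕ} (T : NumericalType (n + 1)) (i' : Fin (n + 1)) :
    ∑ j : Fin n, T.a i' j.castSucc * T.m j.castSucc + T.a i' (Fin.last n) * T.m (Fin.last n)
      = 0 := by
  have h := congrFun T.mulVec_m i'
  simp only [Matrix.mulVec, dotProduct, Pi.zero_apply] at h
  rw [Fin.sum_univ_castSucc] at h
  exact h

section Contraction

variable {n : ℕ} (T : NumericalType (n + 1))

theorem hb0 (i : Fin n) : 0 ≤ T.a i.castSucc (Fin.last n) :=
  T.offDiag_nonneg _ _ (Fin.castSucc_lt_last i).ne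

theorem hsymm (i j : Fin (n + 1)) : T.a i j = T.a j i := T.symm.apply j i

theorem hd1 (i : Fin n) : T.w (Fin.last n) ∣ T.a i.castSucc (Fin.last n) := by
  rw [hsymm]
  exact T.w_dvd _ _

theorem hd2 (i : Fin n) : T.w i.castSucc ∣ T.a i.castSucc (Fin.last n) := T.w_dvd _ _

/-- the quotient `a i l / w l` -/
def pp (i : Fin n) : ℤ := T.a i.castSucc (Fin.last n) / T.w (Fin.last n)

theorem hp (i : Fin n) : T.a i.castSucc (Fin.last n) = T.w (Fin.last n) * pp T i :=
  (Int.mul_ediv_cancel' (hd1 T i)).symm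

theorem hp0 (i : Fin n) : 0 ≤ pp T i := Int.ediv_nonneg (hb0 T i) (T.w_pos _).le

variable (h : T.IsMinusOne (Fin.last n))
include h

theorem hB : ∑ j : Fin n, T.a j.castSucc (Fin.last n) * T.m j.castSucc =
    T.w (Fin.last n) * T.m (Fin.last n) := by
  have h1 := F1 T (Fin.last n)
  rw [h.2] at h1
  have h2 : ∑ j : Fin n, T.a (Fin.last n) j.castSucc * T.m j.castSucc =
      ∑ j : Fin n, T.a j.castSucc (Fin.last n) * T.m j.castSucc :=
    Finset.sum_congr rfl (fun j _ => by rw [hsymm T])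
  rw [h2] at h1
  linarith

theorem hn_pos : 0 < n := by
  rcases Nat.eq_zero_or_pos n with hn0 | hpos
  · subst hn0
    have h1 := hB T h
    rw [Finset.univ_eq_empty, Finset.sum_empty] at h1
    have h2 := mul_pos (T.w_pos (Fin.last 0)) (T.m_pos (Fin.last 0))
    omega
  · exact hpos

theorem ha' (i j : Fin n) :
    T.a i.castSucc j.castSucc -
      T.a i.castSucc (Fin.last n) * T.a j.castSucc (Fin.last n) / T.a (Fin.last n) (Fin.last n) =
    T.a i.castSucc j.castSucc + pp T i * T.a j.castSucc (Fin.last n) := by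
  rw [h.2, ediv_helper _ _ _ (pp T i) (T.w_pos _).ne' (hp T i), sub_neg_eq_add]

omit h in
theorem connected' (a' : Matrix (Fin n) (Fin n) ℤ)
    (ha'' : ∀ i j, a' i j = T.a i.castSucc j.castSucc + pp T i * T.a j.castSucc (Fin.last n)) :
    ∀ I : Finset (Fin n), I.Nonempty → I ≠ univ → ∃ i ∈ I, ∃ j ∉ I, a' i j ≠ 0 := by
  classical
  intro I hIne hIuniv
  obtain ⟨j₀, hj₀⟩ : ∃ j₀, j₀ ∉ I := by
    by_contra hcon
    push Not at hcon
    exact hIuniv (Finset.eq_univ_iff_forall.mpr hcon)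
  have hpos1 : ∀ i j : Fin n, i ≠ j → T.a i.castSucc j.castSucc ≠ 0 → a' i j ≠ 0 := by
    intro i j hij hne
    rw [ha'' i j]
    have h1 : 0 ≤ T.a i.castSucc j.castSucc :=
      T.offDiag_nonneg _ _ (fun h' => hij (Fin.castSucc_injective _ h'))
    have h2 : 0 ≤ pp T i * T.a j.castSucc (Fin.last n) := mul_nonneg (hp0 T i) (hb0 T j)
    have h3 : 0 < T.a i.castSucc j.castSucc := lt_of_le_of_ne h1 (Ne.symm hne)
    exact ne_of_gt (by linarith)
  have hpos2 : ∀ i j : Fin n, i ≠ j → T.a i.castSucc (Fin.last n) ≠ 0 →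
      T.a j.castSucc (Fin.last n) ≠ 0 → a' i j ≠ 0 := by
    intro i j hij hi hj
    rw [ha'' i j]
    have h1 : 0 ≤ T.a i.castSucc j.castSucc :=
      T.offDiag_nonneg _ _ (fun h' => hij (Fin.castSucc_injective _ h'))
    have hbi : 0 < T.a i.castSucc (Fin.last n) := lt_of_le_of_ne (hb0 T i) (Ne.symm hi)
    have hbj : 0 < T.a j.castSucc (Fin.last n) := lt_of_le_of_ne (hb0 T j) (Ne.symm hj)
    have hpi : 0 < pp T i := by
      by_contra hcon
      push Not at hcon
      have h3 : T.w (Fin.last n) * pp T i ≤ 0 :=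
        mul_nonpos_of_nonneg_of_nonpos (T.w_pos _).le hcon
      have h4 := hp T i
      linarith
    have h5 := mul_pos hpi hbj
    exact ne_of_gt (by linarith)
  have hmemI' : ∀ x : Fin n, x.castSucc ∈ I.map Fin.castSuccEmb ↔ x ∈ I := by
    intro x
    rw [Finset.mem_map]
    constructor
    · rintro ⟨y, hy, hyx⟩
      have h1 : y = x := Fin.castSucc_injective _ hyx
      exact h1 ▸ hy
    · intro hx
      exact ⟨x, hx, rfl⟩
  have hlastI' : Fin.last n ∉ I.map Fin.castSuccEmb := by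
    rw [Finset.mem_map]
    rintro ⟨y, _, hy⟩
    exact (Fin.castSucc_lt_last y).ne hy
  obtain ⟨i₁, hi₁⟩ := hIne
  obtain ⟨i', hi', j', hj', hij'⟩ := T.connected (I.map Fin.castSuccEmb)
    ⟨i₁.castSucc, (hmemI' i₁).mpr hi₁⟩ (by
      intro h'
      exact hlastI' (h' ▸ Finset.mem_univ _))
  obtain ⟨i, hiI, rfl⟩ := Finset.mem_map.mp hi'
  induction j' using Fin.lastCases with
  | cast j =>
    have hjI : j ∉ I := fun h' => hj' ((hmemI' j).mpr h')
    exact ⟨i, hiI, j, hjI, hpos1 i j (fun h' => hjI (h' ▸ hiI)) hij'⟩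
  | last =>
    obtain ⟨i'', hi'', j'', hj'', hij''⟩ := T.connected
      (insert (Fin.last n) (I.map Fin.castSuccEmb)) ⟨Fin.last n, Finset.mem_insert_self _ _⟩ (by
        intro h'
        have h1 : j₀.castSucc ∈ insert (Fin.last n) (I.map Fin.castSuccEmb) :=
          h' ▸ Finset.mem_univ _
        rcases Finset.mem_insert.mp h1 with h2 | h2
        · exact (Fin.castSucc_lt_last j₀).ne h2
        · exact hj₀ ((hmemI' j₀).mp h2))
    induction j'' using Fin.lastCases with
    | last => exact absurd (Finset.mem_insert_self _ _) hj''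
    | cast j₂ =>
      have hj₂I : j₂ ∉ I := fun h' => hj'' (Finset.mem_insert_of_mem ((hmemI' j₂).mpr h'))
      rcases Finset.mem_insert.mp hi'' with h1 | h1
      · rw [h1] at hij''
        have hbj : T.a j₂.castSucc (Fin.last n) ≠ 0 := by
          rw [hsymm T]
          exact hij''
        exact ⟨i, hiI, j₂, hj₂I, hpos2 i j₂ (fun h' => hj₂I (h' ▸ hiI)) hij' hbj⟩
      · obtain ⟨i₂, hi₂I, rfl⟩ := Finset.mem_map.mp h1
        exact ⟨i₂, hi₂I, j₂, hj₂I, hpos1 i₂ j₂ (fun h' => hj₂I (h' ▸ hi₂I)) hij''⟩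

theorem exists_contraction : ∃ T' : NumericalType n, T.IsContraction T' := by
  classical
  obtain ⟨w', hw'⟩ : ∃ w' : Fin n → ℤ, w' = fun i =>
      if 2 ∣ T.a i.castSucc (Fin.last n) / T.w (Fin.last n) ∧
          ¬ 2 ∣ T.a i.castSucc (Fin.last n) / T.w i.castSucc
      then T.w i.castSucc / 2 else T.w i.castSucc := ⟨_, rfl⟩
  have hkey := fun i : Fin n => key (T.w i.castSucc) (T.w (Fin.last n))
    (T.a i.castSucc (Fin.last n)) (w' i) (T.w_pos _) (T.w_pos _) (hb0 T i) (hd1 T i) (hd2 T i)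
    (congrFun hw' i)
  obtain ⟨a', ha'def⟩ : ∃ a' : Matrix (Fin n) (Fin n) ℤ, a' = fun i j =>
      T.a i.castSucc j.castSucc -
        T.a i.castSucc (Fin.last n) * T.a j.castSucc (Fin.last n) /
          T.a (Fin.last n) (Fin.last n) := ⟨_, rfl⟩
  have ha'' : ∀ i j, a' i j =
      T.a i.castSucc j.castSucc + pp T i * T.a j.castSucc (Fin.last n) := by
    intro i j
    rw [ha'def]
    exact ha' T h i j
  refine ⟨{ m := fun i => T.m i.castSucc
            a := a'
            w := w'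
            g := fun i => T.w i.castSucc / w' i * (T.g i.castSucc - 1) + 1 +
              (T.a i.castSucc (Fin.last n) ^ 2 - T.w (Fin.last n) * T.a i.castSucc (Fin.last n)) /
                (2 * w' i * T.w (Fin.last n))
            pos := hn_pos T h
            m_pos := fun i => T.m_pos _
            w_pos := fun i => (hkey i).1
            g_nonneg := fun i => (hkey i).2.2.2 _ (T.g_nonneg _)
            symm := ?_
            offDiag_nonneg := ?_
            connected := connected' T a' ha''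
            mulVec_m := ?_
            w_dvd := ?_ },
    ⟨fun _ => rfl, fun i j => congrFun (congrFun ha'def i) j, fun i => congrFun hw' i,
      fun _ => rfl⟩⟩
  · exact Matrix.IsSymm.ext (fun i j => by
      rw [ha'' j i, ha'' i j, hsymm T j.castSucc i.castSucc, hp T i, hp T j]
      ring)
  · intro i j hij
    rw [ha'' i j]
    exact add_nonneg (T.offDiag_nonneg _ _ (fun h' => hij (Fin.castSucc_injective _ h')))
      (mul_nonneg (hp0 T i) (hb0 T j))
  · funext i
    simp only [Matrix.mulVec, dotProduct, Pi.zero_apply]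
    have h1 : ∀ j, a' i j * T.m j.castSucc = T.a i.castSucc j.castSucc * T.m j.castSucc +
        pp T i * (T.a j.castSucc (Fin.last n) * T.m j.castSucc) := fun j => by
      rw [ha'' i j]
      ring
    rw [Finset.sum_congr rfl (fun j _ => h1 j), Finset.sum_add_distrib, ← Finset.mul_sum,
      hB T h]
    have h2 := F1 T i.castSucc
    rw [hp T i] at h2
    linear_combination h2
  · intro i j
    rw [ha'' i j]
    have h3 : pp T i * T.a j.castSucc (Fin.last n) = T.a i.castSucc (Fin.last n) * pp T j := by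
      rw [hp T i, hp T j]
      ring
    rw [h3]
    exact dvd_add ((hkey i).2.1.trans (T.w_dvd _ _))
      (Dvd.dvd.mul_right ((hkey i).2.1.trans (T.w_dvd _ _)) _)

theorem genus_contraction (T' : NumericalType n) (hT' : T.IsContraction T') :
    T'.genus = T.genus := by
  classical
  obtain ⟨hm', ha'0, hw', hg'⟩ := hT'
  have hwl := T.w_pos (Fin.last n)
  have hk2 : ∀ i : Fin n, 2 * T.w (Fin.last n) * (T'.w i * (T'.g i - 1)) =
      2 * T.w (Fin.last n) * (T.w i.castSucc * (T.g i.castSucc - 1)) +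
        (T.a i.castSucc (Fin.last n) ^ 2 - T.w (Fin.last n) * T.a i.castSucc (Fin.last n)) :=
    fun i => key2 (T.w i.castSucc) (T.w (Fin.last n)) (T.a i.castSucc (Fin.last n)) (T'.w i)
      (T.g i.castSucc) (T'.g i) (T.w_pos _) hwl (hb0 T i) (hd1 T i) (hd2 T i) (hw' i) (hg' i)
  have ha'' : ∀ i, T'.a i i =
      T.a i.castSucc i.castSucc + pp T i * T.a i.castSucc (Fin.last n) := fun i => by
    rw [ha'0 i i]
    exact ha' T h i i
  obtain ⟨S1, hS1⟩ : ∃ S1, S1 =
      ∑ i : Fin n, T.m i.castSucc * T.w i.castSucc * (T.g i.castSucc - 1) := ⟨_, rfl⟩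
  obtain ⟨S1', hS1'⟩ : ∃ S1', S1' = ∑ i : Fin n, T'.m i * T'.w i * (T'.g i - 1) := ⟨_, rfl⟩
  obtain ⟨S2, hS2⟩ : ∃ S2, S2 = ∑ i : Fin n, T.m i.castSucc * T.a i.castSucc i.castSucc :=
    ⟨_, rfl⟩
  obtain ⟨S2', hS2'⟩ : ∃ S2', S2' = ∑ i : Fin n, T'.m i * T'.a i i := ⟨_, rfl⟩
  obtain ⟨A, hA⟩ : ∃ A, A =
      ∑ i : Fin n, T.m i.castSucc * (pp T i * T.a i.castSucc (Fin.last n)) := ⟨_, rfl⟩
  obtain ⟨B, hBdef⟩ : ∃ B, B = T.w (Fin.last n) * T.m (Fin.last n) := ⟨_, rfl⟩
  have h2 : S2' = S2 + A := by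
    rw [hS2', hS2, hA, ← Finset.sum_add_distrib]
    exact Finset.sum_congr rfl (fun i _ => by rw [hm' i, ha'' i]; ring)
  have h1 : T.w (Fin.last n) * (2 * (S1' - S1)) = T.w (Fin.last n) * (A - B) := by
    have hBsum := hB T h
    rw [← hBdef] at hBsum
    have e1 : T.w (Fin.last n) * (2 * (S1' - S1)) = ∑ i : Fin n, T.m i.castSucc *
        (T.a i.castSucc (Fin.last n) ^ 2 - T.w (Fin.last n) * T.a i.castSucc (Fin.last n)) := by
      rw [hS1', hS1, ← Finset.sum_sub_distrib, Finset.mul_sum, Finset.mul_sum]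
      refine Finset.sum_congr rfl (fun i _ => ?_)
      rw [hm' i]
      linear_combination (T.m i.castSucc) * hk2 i
    have e2 : T.w (Fin.last n) * (A - B) = ∑ i : Fin n, T.m i.castSucc *
        (T.a i.castSucc (Fin.last n) ^ 2 - T.w (Fin.last n) * T.a i.castSucc (Fin.last n)) := by
      rw [mul_sub, ← hBsum, hA, Finset.mul_sum, Finset.mul_sum, ← Finset.sum_sub_distrib]
      refine Finset.sum_congr rfl (fun i _ => ?_)
      have h3 := hp T i
      linear_combination (- T.m i.castSucc * T.a i.castSucc (Fin.last n)) * h3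
    rw [e1, e2]
  have h3 : 2 * (S1' - S1) = A - B := mul_left_cancel₀ hwl.ne' h1
  unfold NumericalType.genus
  rw [Fin.sum_univ_castSucc, Fin.sum_univ_castSucc, ← hS1, ← hS1', ← hS2, ← hS2', h.1, h.2]
  have e3 : T.m (Fin.last n) * T.w (Fin.last n) * (0 - 1) = -B := by rw [hBdef]; ring
  have e4 : T.m (Fin.last n) * -T.w (Fin.last n) = -B := by rw [hBdef]; ring
  rw [e3, e4]
  omega

end Contraction

end Groth.Agent.H91.NumType
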