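import Groth.Agent.H91.NumType

/-!
# The Picard group of a numerical type under contraction of a (-1)-index (helper91)
-/

set_option autoImplicit false

namespace Groth.Agent.H91.NumType

open Finset Models

theorem key3 (W wl b W' : ℤ) (hW : 0 < W) (hwl : 0 < wl) (h1 : wl ∣ b) (h2 : W ∣ b)
    (hW' : W' = if 2 ∣ b / wl ∧ ¬ 2 ∣ b / W then W / 2 else W) : W' = W ∨ W = 2 * W' := by
  by_cases hc : 2 ∣ b / wl ∧ ¬ 2 ∣ b / W
  · right
    rw [if_pos hc] at hW'
    obtain ⟨p, hp⟩ := h1
    obtain ⟨q, hq⟩ := h2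
    have hbwl : b / wl = p := by rw [hp]; exact Int.mul_ediv_cancel_left _ hwl.ne'
    have hbW : b / W = q := by rw [hq]; exact Int.mul_ediv_cancel_left _ hW.ne'
    rw [hbwl, hbW] at hc
    have h3 : (2 : ℤ) ∣ W * q := by
      rw [← hq, hp]
      exact Dvd.dvd.mul_left hc.1 wl
    have h2W : (2 : ℤ) ∣ W := by
      rcases Int.prime_two.dvd_or_dvd h3 with h | h
      · exact h
      · exact absurd h hc.2
    omega
  · left
    rw [if_neg hc] at hW'
    exact hW'

theorem pic_embeds {n : ℕ} (T : NumericalType (n + 1)) (h : T.IsMinusOne (Fin.last n))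
    (T' : NumericalType n) (hT' : T.IsContraction T') :
    ∃ f : T.Pic →+ T'.Pic, Function.Injective f ∧ ∀ y : T'.Pic, ∃ x : T.Pic, 2 • y = f x := by
  classical
  obtain ⟨hm', ha'0, hw', hg'⟩ := hT'
  have hwl := T.w_pos (Fin.last n)
  have hk := fun i : Fin n => key (T.w i.castSucc) (T.w (Fin.last n))
    (T.a i.castSucc (Fin.last n)) (T'.w i) (T.w_pos _) hwl (hb0 T i) (hd1 T i) (hd2 T i) (hw' i)
  have hk3 := fun i : Fin n => key3 (T.w i.castSucc) (T.w (Fin.last n))
    (T.a i.castSucc (Fin.last n)) (T'.w i) (T.w_pos _) hwl (hd1 T i) (hd2 T i) (hw' i)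
  obtain ⟨r, hrdef⟩ : ∃ r : Fin n → ℤ, r = fun i => T.w i.castSucc / T'.w i := ⟨_, rfl⟩
  obtain ⟨s, hsdef⟩ : ∃ s : Fin n → ℤ, s = fun i => T.a i.castSucc (Fin.last n) / T'.w i :=
    ⟨_, rfl⟩
  have hr : ∀ i, T.w i.castSucc = T'.w i * r i := fun i => by
    rw [hrdef]
    exact (Int.mul_ediv_cancel' (hk i).2.1).symm
  have hs : ∀ i, T.a i.castSucc (Fin.last n) = T'.w i * s i := fun i => by
    rw [hsdef]
    exact (Int.mul_ediv_cancel' ((hk i).2.1.trans (hd2 T i))).symm
  have hP : ∀ k j, T.a k j = T.w k * T.picMatrix k j := fun k j =>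
    (Int.mul_ediv_cancel' (T.w_dvd k j)).symm
  have hPll : T.picMatrix (Fin.last n) (Fin.last n) = -1 := by
    have h1 := hP (Fin.last n) (Fin.last n)
    rw [h.2] at h1
    have h2 : T.w (Fin.last n) * T.picMatrix (Fin.last n) (Fin.last n) =
        T.w (Fin.last n) * (-1) := by linarith
    exact mul_left_cancel₀ hwl.ne' h2
  have hPlc : ∀ j : Fin n, T.picMatrix (Fin.last n) j.castSucc = pp T j := by
    intro j
    have h1 := hP (Fin.last n) j.castSucc
    rw [hsymm T, hp T j] at h1
    exact (mul_left_cancel₀ hwl.ne' h1).symm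
  have hP' : ∀ i j : Fin n, T'.picMatrix i j =
      r i * T.picMatrix i.castSucc j.castSucc + s i * T.picMatrix (Fin.last n) j.castSucc := by
    intro i j
    have h1 : T'.a i j = T'.w i * (r i * T.picMatrix i.castSucc j.castSucc +
        s i * T.picMatrix (Fin.last n) j.castSucc) := by
      rw [ha'0 i j, ha' T h i j, hPlc j]
      have e1 := hP i.castSucc j.castSucc
      have e2 := hr i
      have e3 := hs i
      have e4 := hp T i
      have e5 := hp T j
      linear_combination e1 + T.picMatrix i.castSucc j.castSucc * e2 + pp T i * e5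
        - pp T j * e4 + pp T j * e3
    show T'.a i j / T'.w i = _
    rw [h1]
    exact Int.mul_ediv_cancel_left _ (hk i).1.ne'
  have hzero : ∀ i : Fin n, r i * T.picMatrix i.castSucc (Fin.last n) +
      s i * T.picMatrix (Fin.last n) (Fin.last n) = 0 := by
    intro i
    rw [hPll]
    have e1 := hP i.castSucc (Fin.last n)
    have e2 := hr i
    have e3 := hs i
    have h1 : T'.w i * (r i * T.picMatrix i.castSucc (Fin.last n)) = T'.w i * s i := by
      linear_combination (-1 : ℤ) * e1 - T.picMatrix i.castSucc (Fin.last n) * e2 + e3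
    have h2 := mul_left_cancel₀ (hk i).1.ne' h1
    rw [h2]
    ring
  let φ : (Fin (n + 1) → ℤ) →ₗ[ℤ] (Fin n → ℤ) :=
    { toFun := fun d i => r i * d i.castSucc + s i * d (Fin.last n)
      map_add' := fun d e => by
        funext i
        simp only [Pi.add_apply]
        ring
      map_smul' := fun c d => by
        funext i
        simp only [Pi.smul_apply, smul_eq_mul, RingHom.id_apply]
        ring }
  have hφ : ∀ d i, φ d i = r i * d i.castSucc + s i * d (Fin.last n) := fun d i => rfl
  have hφP : ∀ x : Fin (n + 1) → ℤ,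
      φ (T.picMatrix.mulVec x) = T'.picMatrix.mulVec (fun j => x j.castSucc) := by
    intro x
    funext i
    rw [hφ]
    simp only [Matrix.mulVec, dotProduct]
    rw [Fin.sum_univ_castSucc, Fin.sum_univ_castSucc, mul_add, mul_add, Finset.mul_sum,
      Finset.mul_sum]
    have h1 : ∑ j : Fin n, T'.picMatrix i j * x j.castSucc =
        ∑ j : Fin n, r i * (T.picMatrix i.castSucc j.castSucc * x j.castSucc) +
        ∑ j : Fin n, s i * (T.picMatrix (Fin.last n) j.castSucc * x j.castSucc) := by
      rw [← Finset.sum_add_distrib]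
      exact Finset.sum_congr rfl (fun j _ => by rw [hP' i j]; ring)
    rw [h1]
    linear_combination (x (Fin.last n)) * hzero i
  have hle : LinearMap.range (Matrix.mulVecLin T.picMatrix) ≤
      (LinearMap.range (Matrix.mulVecLin T'.picMatrix)).comap φ := by
    rintro v ⟨x, rfl⟩
    show φ (Matrix.mulVecLin T.picMatrix x) ∈ LinearMap.range (Matrix.mulVecLin T'.picMatrix)
    rw [Matrix.mulVecLin_apply, hφP]
    exact ⟨_, rfl⟩
  have hsingle : ∀ (c : ℤ) k, (T.picMatrix.mulVec (Pi.single (Fin.last n) c)) k =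
      T.picMatrix k (Fin.last n) * c := by
    intro c k
    simp only [Matrix.mulVec, dotProduct]
    rw [Finset.sum_eq_single (Fin.last n)]
    · rw [Pi.single_eq_same]
    · intro j _ hj
      rw [Pi.single_eq_of_ne hj, mul_zero]
    · intro hnot
      exact absurd (Finset.mem_univ _) hnot
  refine ⟨(Submodule.mapQ _ _ φ hle).toAddMonoidHom, ?_, ?_⟩
  · rw [injective_iff_map_eq_zero]
    intro z hz
    obtain ⟨d, rfl⟩ := Submodule.Quotient.mk_surjective _ z
    have hz' : (Submodule.Quotient.mk (φ d) : T'.Pic) = 0 := hz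
    rw [Submodule.Quotient.mk_eq_zero] at hz' ⊢
    obtain ⟨x', hx'⟩ := hz'
    rw [Matrix.mulVecLin_apply] at hx'
    obtain ⟨xt, hxtdef⟩ : ∃ xt : Fin (n + 1) → ℤ, xt = Fin.snoc (α := fun _ => ℤ) x' 0 :=
      ⟨_, rfl⟩
    have hxt : (fun j : Fin n => xt j.castSucc) = x' := by
      funext j
      rw [hxtdef]
      exact Fin.snoc_castSucc (α := fun _ => ℤ) _ _ _
    obtain ⟨u, hu⟩ : ∃ u, u = d - T.picMatrix.mulVec xt := ⟨_, rfl⟩
    have hφu : φ u = 0 := by
      rw [hu, map_sub, hφP, hxt, hx', sub_self]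
    have hu2 : u = T.picMatrix.mulVec (Pi.single (Fin.last n) (-(u (Fin.last n)))) := by
      funext k
      rw [hsingle]
      induction k using Fin.lastCases with
      | last =>
        rw [hPll]
        ring
      | cast i =>
        have h1 : r i * u i.castSucc + s i * u (Fin.last n) = 0 := by
          have h2 := congrFun hφu i
          rw [hφ] at h2
          exact h2
        have e1 := hP i.castSucc (Fin.last n)
        have e2 := hr i
        have e3 := hs i
        have h2 : T.w i.castSucc *
            (u i.castSucc + T.picMatrix i.castSucc (Fin.last n) * u (Fin.last n)) =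
            T.w i.castSucc * 0 := by
          linear_combination (T'.w i) * h1 + (u i.castSucc) * e2 - (u (Fin.last n)) * e1
            + (u (Fin.last n)) * e3
        have h3 := mul_left_cancel₀ (T.w_pos _).ne' h2
        linarith
    refine ⟨xt + Pi.single (Fin.last n) (-(u (Fin.last n))), ?_⟩
    rw [Matrix.mulVecLin_apply, Matrix.mulVec_add, ← hu2, hu]
    abel
  · intro y
    obtain ⟨y₀, rfl⟩ := Submodule.Quotient.mk_surjective _ y
    obtain ⟨d, hddef⟩ : ∃ d : Fin (n + 1) → ℤ, d = Fin.snoc (α := fun _ => ℤ)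
        (fun i => if T'.w i = T.w i.castSucc then 2 * y₀ i else y₀ i) 0 := ⟨_, rfl⟩
    refine ⟨Submodule.Quotient.mk d, ?_⟩
    have h1 : (2 : ℕ) • (Submodule.Quotient.mk y₀ : T'.Pic) =
        Submodule.Quotient.mk ((2 : ℕ) • y₀) :=
      (map_nsmul (Submodule.mkQ (LinearMap.range (Matrix.mulVecLin T'.picMatrix))) 2 y₀).symm
    have h2 : (2 : ℕ) • y₀ = φ d := by
      funext i
      rw [hφ, hddef]
      rw [Fin.snoc_castSucc (α := fun _ => ℤ), Fin.snoc_last (α := fun _ => ℤ), mul_zero,
        add_zero]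
      simp only [Pi.smul_apply, nsmul_eq_mul, Nat.cast_ofNat]
      rcases hk3 i with h3 | h3
      · rw [if_pos h3]
        have h4 : T'.w i * r i = T'.w i * 1 := by
          have := hr i
          rw [← h3] at this
          linarith
        rw [mul_left_cancel₀ (hk i).1.ne' h4]
        ring
      · have hne : T'.w i ≠ T.w i.castSucc := by
          have := (hk i).1
          omega
        rw [if_neg hne]
        have h4 : T'.w i * r i = T'.w i * 2 := by
          have := hr i
          linarith
        rw [mul_left_cancel₀ (hk i).1.ne' h4]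
    rw [h1, h2]
    rfl

end Groth.Agent.H91.NumType
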