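import Groth.Agent.H91.NumType2
import Groth.Agent.H11.NumType
import Groth.Agent.H11.NumTypeKer

/-!
# Numerical types of genus at most zero have infinite cyclic Picard group (helper91)
-/

set_option autoImplicit false

namespace Groth.Agent.H91.NumType

open Finset Models

/-- permuting the indices of a numerical type -/
def reindex {n : ℕ} (T : NumericalType n) (σ : Equiv.Perm (Fin n)) : NumericalType n where
  m := fun i => T.m (σ i)
  a := fun i j => T.a (σ i) (σ j)
  w := fun i => T.w (σ i)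
  g := fun i => T.g (σ i)
  pos := T.pos
  m_pos := fun i => T.m_pos _
  w_pos := fun i => T.w_pos _
  g_nonneg := fun i => T.g_nonneg _
  symm := Matrix.IsSymm.ext (fun i j => T.symm.apply (σ i) (σ j))
  offDiag_nonneg := fun i j hij => T.offDiag_nonneg _ _ (fun h' => hij (σ.injective h'))
  connected := by
    classical
    intro I hIne hIuniv
    obtain ⟨i₁, hi₁⟩ := hIne
    obtain ⟨i', hi', j', hj', hij'⟩ := T.connected (I.map σ.toEmbedding)
      ⟨σ i₁, Finset.mem_map.mpr ⟨i₁, hi₁, rfl⟩⟩ (by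
        intro h'
        apply hIuniv
        rw [Finset.eq_univ_iff_forall]
        intro k
        have h1 : σ k ∈ I.map σ.toEmbedding := h' ▸ Finset.mem_univ _
        obtain ⟨k', hk', hkk⟩ := Finset.mem_map.mp h1
        have h2 : k' = k := σ.injective hkk
        exact h2 ▸ hk')
    obtain ⟨i, hiI, rfl⟩ := Finset.mem_map.mp hi'
    refine ⟨i, hiI, σ.symm j', ?_, ?_⟩
    · intro h'
      apply hj'
      exact Finset.mem_map.mpr ⟨σ.symm j', h', σ.apply_symm_apply j'⟩
    · show T.a (σ i) (σ (σ.symm j')) ≠ 0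
      rw [σ.apply_symm_apply]
      exact hij'
  mulVec_m := by
    funext i
    simp only [Matrix.mulVec, dotProduct, Pi.zero_apply]
    have h1 := congrFun T.mulVec_m (σ i)
    simp only [Matrix.mulVec, dotProduct, Pi.zero_apply] at h1
    rw [← h1]
    exact Equiv.sum_comp σ (fun k => T.a (σ i) k * T.m k)
  w_dvd := fun i j => T.w_dvd _ _

theorem reindex_genus {n : ℕ} (T : NumericalType n) (σ : Equiv.Perm (Fin n)) :
    (reindex T σ).genus = T.genus := by
  unfold NumericalType.genus
  have h1 : ∑ i, (reindex T σ).m i * (reindex T σ).w i * ((reindex T σ).g i - 1) =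
      ∑ i, T.m i * T.w i * (T.g i - 1) :=
    Equiv.sum_comp σ (fun k => T.m k * T.w k * (T.g k - 1))
  have h2 : ∑ i, (reindex T σ).m i * (reindex T σ).a i i = ∑ i, T.m i * T.a i i :=
    Equiv.sum_comp σ (fun k => T.m k * T.a k k)
  rw [h1, h2]

theorem reindex_pic_inj {n : ℕ} (T : NumericalType n) (σ : Equiv.Perm (Fin n)) :
    ∃ e : T.Pic →+ (reindex T σ).Pic, Function.Injective e := by
  classical
  have hP : ∀ i j, (reindex T σ).picMatrix i j = T.picMatrix (σ i) (σ j) := fun i j => rfl
  have hψP : ∀ x : Fin n → ℤ, (fun i => (T.picMatrix.mulVec x) (σ i)) =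
      (reindex T σ).picMatrix.mulVec (fun j => x (σ j)) := by
    intro x
    funext i
    simp only [Matrix.mulVec, dotProduct]
    exact (Equiv.sum_comp σ (fun k => T.picMatrix (σ i) k * x k)).symm
  let ψ : (Fin n → ℤ) →ₗ[ℤ] (Fin n → ℤ) :=
    { toFun := fun d i => d (σ i)
      map_add' := fun d e => rfl
      map_smul' := fun c d => rfl }
  have hψ : ∀ d i, ψ d i = d (σ i) := fun d i => rfl
  have hle : LinearMap.range (Matrix.mulVecLin T.picMatrix) ≤
      (LinearMap.range (Matrix.mulVecLin (reindex T σ).picMatrix)).comap ψ := by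
    rintro v ⟨x, rfl⟩
    show ψ (Matrix.mulVecLin T.picMatrix x) ∈
      LinearMap.range (Matrix.mulVecLin (reindex T σ).picMatrix)
    rw [Matrix.mulVecLin_apply]
    have h1 : ψ (T.picMatrix.mulVec x) = (reindex T σ).picMatrix.mulVec (fun j => x (σ j)) :=
      hψP x
    rw [h1]
    exact ⟨_, rfl⟩
  refine ⟨(Submodule.mapQ _ _ ψ hle).toAddMonoidHom, ?_⟩
  rw [injective_iff_map_eq_zero]
  intro z hz
  obtain ⟨d, rfl⟩ := Submodule.Quotient.mk_surjective _ z
  have hz' : (Submodule.Quotient.mk (ψ d) : (reindex T σ).Pic) = 0 := hz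
  rw [Submodule.Quotient.mk_eq_zero] at hz' ⊢
  obtain ⟨y, hy⟩ := hz'
  rw [Matrix.mulVecLin_apply] at hy
  refine ⟨fun k => y (σ.symm k), ?_⟩
  rw [Matrix.mulVecLin_apply]
  have h1 := hψP (fun k => y (σ.symm k))
  have h2 : (fun j => (fun k => y (σ.symm k)) (σ j)) = y := by
    funext j
    simp
  rw [h2, hy] at h1
  funext k
  have h3 := congrFun h1 (σ.symm k)
  rw [hψ] at h3
  simp only [Equiv.apply_symm_apply] at h3
  exact h3

theorem exists_inj_int_one (T : NumericalType 1) :
    ∃ g : T.Pic →+ ℤ, Function.Injective g := by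
  classical
  have ha : T.a 0 0 = 0 := by
    have h1 := congrFun T.mulVec_m 0
    simp only [Matrix.mulVec, dotProduct, Pi.zero_apply, Fin.sum_univ_one] at h1
    exact (mul_eq_zero.mp h1).resolve_right (T.m_pos 0).ne'
  have hle : LinearMap.range (Matrix.mulVecLin T.picMatrix) ≤
      LinearMap.ker (LinearMap.proj (R := ℤ) (φ := fun _ : Fin 1 => ℤ) 0) := by
    rintro v ⟨x, rfl⟩
    rw [LinearMap.mem_ker, Matrix.mulVecLin_apply]
    show (T.picMatrix.mulVec x) 0 = 0
    simp only [Matrix.mulVec, dotProduct, Fin.sum_univ_one]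
    have h1 : T.picMatrix 0 0 = 0 := by
      show T.a 0 0 / T.w 0 = 0
      rw [ha, Int.zero_ediv]
    rw [h1, zero_mul]
  refine ⟨(Submodule.liftQ _ (LinearMap.proj (R := ℤ) (φ := fun _ : Fin 1 => ℤ) 0)
    hle).toAddMonoidHom, ?_⟩
  rw [injective_iff_map_eq_zero]
  intro z hz
  obtain ⟨d, rfl⟩ := Submodule.Quotient.mk_surjective _ z
  have hz' : d 0 = 0 := hz
  have hd : d = 0 := by
    funext k
    rw [Subsingleton.elim k 0, hz']
    rfl
  rw [hd]
  rfl

theorem exists_inj_int : ∀ (n : ℕ) (T : NumericalType (n + 1)), T.genus ≤ 0 →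
    ∃ g : T.Pic →+ ℤ, Function.Injective g := by
  classical
  intro n
  induction n with
  | zero =>
    intro T _
    exact exists_inj_int_one T
  | succ n ih =>
    intro T hg
    by_cases hmin : T.IsMinimal
    · exfalso
      have h1 := Groth.Agent.H11.nt_genus_ge_one T hmin (by omega)
      omega
    · obtain ⟨i, hi⟩ : ∃ i, T.IsMinusOne i := by
        unfold NumericalType.IsMinimal at hmin
        push Not at hmin
        exact hmin
      have h₂ : (reindex T (Equiv.swap i (Fin.last (n + 1)))).IsMinusOne (Fin.last (n + 1)) := by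
        refine ⟨?_, ?_⟩
        · show T.g (Equiv.swap i (Fin.last (n + 1)) (Fin.last (n + 1))) = 0
          rw [Equiv.swap_apply_right]
          exact hi.1
        · show T.a (Equiv.swap i (Fin.last (n + 1)) (Fin.last (n + 1)))
              (Equiv.swap i (Fin.last (n + 1)) (Fin.last (n + 1))) =
            -T.w (Equiv.swap i (Fin.last (n + 1)) (Fin.last (n + 1)))
          rw [Equiv.swap_apply_right]
          exact hi.2
      obtain ⟨T', hT'⟩ := exists_contraction _ h₂
      have hgen : T'.genus ≤ 0 := by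
        rw [genus_contraction _ h₂ T' hT', reindex_genus]
        exact hg
      obtain ⟨g', hg'⟩ := ih T' hgen
      obtain ⟨f, hf, -⟩ := pic_embeds _ h₂ T' hT'
      obtain ⟨e, he⟩ := reindex_pic_inj T (Equiv.swap i (Fin.last (n + 1)))
      exact ⟨g'.comp (f.comp e), hg'.comp (hf.comp he)⟩

theorem pic_equiv_int {n : ℕ} (T : NumericalType n) (hg : T.genus ≤ 0) :
    Nonempty (T.Pic ≃+ ℤ) := by
  obtain ⟨n', rfl⟩ : ∃ n', n = n' + 1 := ⟨n - 1, by have := T.pos; omega⟩
  obtain ⟨g, hg'⟩ := exists_inj_int n' T hg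
  haveI : Module.IsTorsionFree ℤ T.Pic :=
    Function.Injective.moduleIsTorsionFree g hg' (fun r m => map_zsmul g r m)
  haveI : Module.Free ℤ T.Pic := Module.free_of_finite_type_torsion_free'
  obtain ⟨e⟩ := Module.nonempty_linearEquiv_of_finrank_eq_one (Groth.Agent.H11.nt_finrank_pic T)
  exact ⟨e.symm.toAddEquiv⟩

end Groth.Agent.H91.NumType
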