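import Groth.Agent.H91.TPt3

/-!
Polynomial functions of several variables, simultaneous non-vanishing over an infinite field,
and a general position lemma for five points of a polynomial family in a four dimensional space.
-/

namespace Groth.Agent.H91.Pf

open MvPolynomial Groth.Agent.H91.CubicK Groth.Agent.H91.Polar Groth.Agent.H91.TPt

set_option linter.unusedSectionVars false
set_option linter.unusedVariables false

noncomputable section

variable {K : Type*} [Field K] [CharZero K] {σ : Type*}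

/-- functions given by a polynomial in several variables -/
def IsMvPolyFun (f : (σ → K) → K) : Prop := ∃ P : MvPolynomial σ K, ∀ x, f x = eval x P

namespace IsMvPolyFun

theorem const (c : K) : IsMvPolyFun (fun _ : σ → K => c) := ⟨C c, fun x => by simp⟩

theorem proj (i : σ) : IsMvPolyFun (fun x : σ → K => x i) := ⟨X i, fun x => by simp⟩

theorem ofPoly (P : MvPolynomial σ K) : IsMvPolyFun (fun x : σ → K => eval x P) :=
  ⟨P, fun _ => rfl⟩

theorem add {f g : (σ → K) → K} (hf : IsMvPolyFun f) (hg : IsMvPolyFun g) :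
    IsMvPolyFun (fun x => f x + g x) := by
  obtain ⟨P, hP⟩ := hf
  obtain ⟨Q, hQ⟩ := hg
  exact ⟨P + Q, fun x => by show f x + g x = _; rw [map_add, hP, hQ]⟩

theorem sub {f g : (σ → K) → K} (hf : IsMvPolyFun f) (hg : IsMvPolyFun g) :
    IsMvPolyFun (fun x => f x - g x) := by
  obtain ⟨P, hP⟩ := hf
  obtain ⟨Q, hQ⟩ := hg
  exact ⟨P - Q, fun x => by show f x - g x = _; rw [map_sub, hP, hQ]⟩

theorem neg {f : (σ → K) → K} (hf : IsMvPolyFun f) : IsMvPolyFun (fun x => -(f x)) := by
  obtain ⟨P, hP⟩ := hf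
  exact ⟨-P, fun x => by show -(f x) = _; rw [map_neg, hP]⟩

theorem mul {f g : (σ → K) → K} (hf : IsMvPolyFun f) (hg : IsMvPolyFun g) :
    IsMvPolyFun (fun x => f x * g x) := by
  obtain ⟨P, hP⟩ := hf
  obtain ⟨Q, hQ⟩ := hg
  exact ⟨P * Q, fun x => by show f x * g x = _; rw [map_mul, hP, hQ]⟩

theorem pow {f : (σ → K) → K} (hf : IsMvPolyFun f) (n : ℕ) : IsMvPolyFun (fun x => f x ^ n) := by
  obtain ⟨P, hP⟩ := hf
  exact ⟨P ^ n, fun x => by show f x ^ n = _; rw [map_pow, hP]⟩

theorem sum {ι : Type*} [Fintype ι] {f : ι → (σ → K) → K} (h : ∀ i, IsMvPolyFun (f i)) :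
    IsMvPolyFun (fun x => ∑ i, f i x) := by
  choose P hP using h
  exact ⟨∑ i, P i, fun x => by
    rw [map_sum]
    exact Finset.sum_congr rfl fun i _ => hP i x⟩

theorem trilin {n : ℕ} (F : MvPolynomial (Fin n) K) {u v w : (σ → K) → (Fin n → K)}
    (hu : ∀ i, IsMvPolyFun (fun x => u x i)) (hv : ∀ i, IsMvPolyFun (fun x => v x i))
    (hw : ∀ i, IsMvPolyFun (fun x => w x i)) :
    IsMvPolyFun (fun x => T F (u x) (v x) (w x)) := by
  unfold T
  exact (IsMvPolyFun.const _).mul (IsMvPolyFun.sum fun i => IsMvPolyFun.sum fun j =>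
    IsMvPolyFun.sum fun k => (((IsMvPolyFun.const _).mul (hu i)).mul (hv j)).mul (hw k))

theorem evalF {n : ℕ} {F : MvPolynomial (Fin n) K} (hF : F.IsHomogeneous 3)
    {u : (σ → K) → (Fin n → K)} (hu : ∀ i, IsMvPolyFun (fun x => u x i)) :
    IsMvPolyFun (fun x => eval (u x) F) := by
  obtain ⟨P, hP⟩ := IsMvPolyFun.trilin F hu hu hu
  exact ⟨P, fun x => by show eval (u x) F = _; rw [eval_eq_T hF]; exact hP x⟩

theorem dual {n : ℕ} (lam : Module.Dual K (Fin n → K)) {u : (σ → K) → (Fin n → K)}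
    (hu : ∀ i, IsMvPolyFun (fun x => u x i)) : IsMvPolyFun (fun x => lam (u x)) := by
  classical
  have h : ∀ v : Fin n → K, lam v = ∑ j, lam (Pi.single j 1) * v j := by
    intro v
    rw [← eval_linPoly lam v]
    unfold linPoly
    simp only [map_sum, map_mul, eval_C, eval_X]
  obtain ⟨P, hP⟩ : IsMvPolyFun (fun x => ∑ j, lam (Pi.single j 1) * u x j) :=
    IsMvPolyFun.sum fun j => (IsMvPolyFun.const _).mul (hu j)
  exact ⟨P, fun x => by show lam (u x) = _; rw [h]; exact hP x⟩

/-- finitely many polynomial functions, none identically zero, have a common point of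
non-vanishing -/
theorem exists_common_ne_zero {ι : Type*} (s : Finset ι) (f : ι → (σ → K) → K)
    (hf : ∀ i ∈ s, IsMvPolyFun (f i)) (hne : ∀ i ∈ s, ∃ x, f i x ≠ 0) :
    ∃ x, ∀ i ∈ s, f i x ≠ 0 := by
  classical
  choose! P hP using hf
  have hPne : ∀ i ∈ s, P i ≠ 0 := by
    intro i hi h0
    obtain ⟨x, hx⟩ := hne i hi
    apply hx
    rw [hP i hi, h0, map_zero]
  have hprod : ∏ i ∈ s, P i ≠ 0 := Finset.prod_ne_zero_iff.mpr hPne
  by_contra hcon
  push Not at hcon
  apply hprod
  apply MvPolynomial.funext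
  intro x
  rw [map_zero, map_prod]
  obtain ⟨i, hi, hix⟩ := hcon x
  exact Finset.prod_eq_zero hi (by rw [← hP i hi]; exact hix)

end IsMvPolyFun

/-- vector valued functions with polynomial coordinates -/
def IsMvPolyVec {n : ℕ} (u : (σ → K) → (Fin n → K)) : Prop :=
  ∀ i, IsMvPolyFun (fun x => u x i)

namespace IsMvPolyVec

variable {n : ℕ} {u v : (σ → K) → (Fin n → K)}

theorem const (x₀ : Fin n → K) : IsMvPolyVec (fun _ : σ → K => x₀) :=
  fun i => IsMvPolyFun.const (x₀ i)

theorem add (hu : IsMvPolyVec u) (hv : IsMvPolyVec v) : IsMvPolyVec (fun x => u x + v x) :=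
  fun i => (hu i).add (hv i)

theorem sub (hu : IsMvPolyVec u) (hv : IsMvPolyVec v) : IsMvPolyVec (fun x => u x - v x) :=
  fun i => (hu i).sub (hv i)

theorem smul {f : (σ → K) → K} (hf : IsMvPolyFun f) (hu : IsMvPolyVec u) :
    IsMvPolyVec (fun x => f x • u x) :=
  fun i => hf.mul (hu i)

theorem comp_proj (g : Fin n → σ) : IsMvPolyVec (fun x : σ → K => fun i => x (g i)) :=
  fun i => IsMvPolyFun.proj (g i)

end IsMvPolyVec

/-! ### general position -/

theorem rel_five (B : Module.Basis (Fin 4) K (Fin 4 → K)) (v : Fin 4 → K)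
    (hv : ∀ i, B.coord i v ≠ 0) (p : Fin 5 → (Fin 4 → K))
    (hpB : ∀ i : Fin 4, p i.castSucc = B i) (hpl : p (Fin.last 4) = v)
    (d : Fin 5 → K) (j : Fin 5) (hj : d j = 0) (hrel : ∑ m : Fin 5, d m • p m = 0) :
    ∀ m, d m = 0 := by
  rw [Fin.sum_univ_castSucc] at hrel
  simp only [hpB, hpl] at hrel
  have key : ∀ i : Fin 4, d i.castSucc + d (Fin.last 4) * B.coord i v = 0 := by
    intro i
    have h := congrArg (B.coord i) hrel
    rw [map_add, map_sum, map_zero] at h
    simp only [map_smul, smul_eq_mul, Module.Basis.coord_apply, Module.Basis.repr_self,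
      Finsupp.single_apply, mul_ite, mul_one, mul_zero, Finset.sum_ite_eq',
      Finset.mem_univ, if_true] at h
    rw [Module.Basis.coord_apply]
    exact h
  have hlast : d (Fin.last 4) = 0 := by
    rcases Fin.eq_castSucc_or_eq_last j with ⟨i, rfl⟩ | rfl
    · have h := key i
      rw [hj, zero_add] at h
      exact (mul_eq_zero.mp h).resolve_right (hv i)
    · exact hj
  intro m
  rcases Fin.eq_castSucc_or_eq_last m with ⟨i, rfl⟩ | rfl
  · have h := key i
    rw [hlast, zero_mul, add_zero] at h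
    exact h
  · exact hlast

theorem genpos (B : Module.Basis (Fin 4) K (Fin 4 → K)) (v : Fin 4 → K)
    (hv : ∀ i, B.coord i v ≠ 0) (p : Fin 5 → (Fin 4 → K))
    (hpB : ∀ i : Fin 4, p i.castSucc = B i) (hpl : p (Fin.last 4) = v) (j : Fin 5) :
    LinearIndependent K (fun i : Fin 4 => p (j.succAbove i)) := by
  rw [Fintype.linearIndependent_iff]
  intro c hc i
  have h5 := rel_five B v hv p hpB hpl (Fin.insertNth j (0 : K) c : Fin 5 → K) j
    (by simp) (by
      rw [Fin.sum_univ_succAbove _ j]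
      simp only [Fin.insertNth_apply_same, Fin.insertNth_apply_succAbove, zero_smul, zero_add]
      exact hc)
  have h := h5 (j.succAbove i)
  rw [Fin.insertNth_apply_succAbove] at h
  exact h

/-- five points in general position from a polynomial family which is not contained in a plane -/
theorem five_points (F : MvPolynomial (Fin 4) K) (a : Fin 4 → K) (ha : a ≠ 0)
    (hFa : eval a F = 0) (P : (σ → K) → (Fin 4 → K)) (hP : IsMvPolyVec P)
    (hS : ∀ x, eval (P x) F = 0)
    (hgen : ∀ lam : Module.Dual K (Fin 4 → K), lam ≠ 0 → ∃ x, lam (P x) ≠ 0) :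
    ∃ p : Fin 5 → (Fin 4 → K), p 0 = a ∧ (∀ j : Fin 5, eval (p j) F = 0) ∧
      ∀ j : Fin 5, LinearIndependent K (fun i : Fin 4 => p (j.succAbove i)) := by
  classical
  have avoid : ∀ W : Submodule K (Fin 4 → K), W ≠ ⊤ → ∃ x, P x ∉ W := by
    intro W hW
    obtain ⟨f, hf0, hfW⟩ := Submodule.exists_le_ker_of_lt_top W (lt_top_iff_ne_top.mpr hW)
    obtain ⟨x, hx⟩ := hgen f hf0
    exact ⟨x, fun hmem => hx (LinearMap.mem_ker.mp (hfW hmem))⟩
  have small : ∀ {m : ℕ} (v : Fin m → (Fin 4 → K)), m < 4 →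
      Submodule.span K (Set.range v) ≠ ⊤ := by
    intro m v hm htop
    have h1 := finrank_range_le_card (R := K) v
    rw [Set.finrank, htop, finrank_top, Module.finrank_fin_fun, Fintype.card_fin] at h1
    omega
  obtain ⟨x₁, hx₁⟩ := avoid _ (small ![a] (by norm_num))
  obtain ⟨x₂, hx₂⟩ := avoid _ (small ![P x₁, a] (by norm_num))
  obtain ⟨x₃, hx₃⟩ := avoid _ (small ![P x₂, P x₁, a] (by norm_num))
  have hli : LinearIndependent K ![P x₃, P x₂, P x₁, a] := by
    refine linearIndependent_finCons.mpr ⟨linearIndependent_finCons.mpr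
      ⟨linearIndependent_finCons.mpr ⟨?_, hx₁⟩, hx₂⟩, hx₃⟩
    exact linearIndependent_unique_iff.mpr ha
  have hq : LinearIndependent K ![a, P x₁, P x₂, P x₃] := by
    have hrev : (![a, P x₁, P x₂, P x₃] : Fin 4 → (Fin 4 → K)) =
        ![P x₃, P x₂, P x₁, a] ∘ Fin.rev := by
      funext i
      fin_cases i <;> rfl
    rw [hrev]
    exact hli.comp _ Fin.rev_injective
  have hcard : Fintype.card (Fin 4) = Module.finrank K (Fin 4 → K) := by simp
  have hB : ⇑(basisOfLinearIndependentOfCardEqFinrank hq hcard) = ![a, P x₁, P x₂, P x₃] :=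
    coe_basisOfLinearIndependentOfCardEqFinrank hq hcard
  obtain ⟨B, hB⟩ : ∃ B : Module.Basis (Fin 4) K (Fin 4 → K), ⇑B = ![a, P x₁, P x₂, P x₃] :=
    ⟨_, hB⟩
  have hco : ∀ i : Fin 4, ∃ x, B.coord i (P x) ≠ 0 := fun i => hgen (B.coord i) (by
    intro h0
    have h1 : B.coord i (B i) = 0 := by rw [h0]; rfl
    simp at h1)
  obtain ⟨x₄, hx₄⟩ := IsMvPolyFun.exists_common_ne_zero (Finset.univ : Finset (Fin 4))
    (fun i x => B.coord i (P x)) (fun i _ => IsMvPolyFun.dual (B.coord i) hP)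
    (fun i _ => hco i)
  refine ⟨![a, P x₁, P x₂, P x₃, P x₄], rfl, ?_, ?_⟩
  · intro j
    fin_cases j
    · exact hFa
    · exact hS x₁
    · exact hS x₂
    · exact hS x₃
    · exact hS x₄
  · intro j
    refine genpos B (P x₄) (fun i => hx₄ i (Finset.mem_univ i)) _ ?_ rfl j
    intro i
    rw [hB]
    fin_cases i <;> rfl

end

end Groth.Agent.H91.Pf
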