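import Groth.Agent.H91.Pf1

/-!
The residual intersection point of a tangent line, a two step polynomial family of points on a
cubic surface starting at a smooth point, and compatibility of the family with field extensions.
-/

namespace Groth.Agent.H91.Pf

open MvPolynomial Groth.Agent.H91.CubicK Groth.Agent.H91.Polar Groth.Agent.H91.TPt

set_option linter.unusedSectionVars false
set_option linter.unusedVariables false

noncomputable section

section Family

variable {K : Type*} [Field K] [CharZero K] {F : MvPolynomial (Fin 4) K}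

/-- residual intersection point of the line through `b` with direction `w` tangent at `b` -/
def Psi (F : MvPolynomial (Fin 4) K) (b w : Fin 4 → K) : Fin 4 → K :=
  (-(eval w F)) • b + (3 * T F b w w) • w

theorem Psi_on (hF : F.IsHomogeneous 3) (b w : Fin 4 → K) (hb : eval b F = 0)
    (hbw : T F b b w = 0) : eval (Psi F b w) F = 0 := by
  unfold Psi
  rw [eval_expand hF b _ (-(eval w F)), hb, eval_smul hF]
  simp only [T_smul_mid, T_smul_right]
  rw [hbw]; ring

theorem Psi_poly {σ : Type*} (hF : F.IsHomogeneous 3) {b w : (σ → K) → (Fin 4 → K)}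
    (hb : IsMvPolyVec b) (hw : IsMvPolyVec w) : IsMvPolyVec (fun x => Psi F (b x) (w x)) := by
  unfold Psi
  exact (IsMvPolyVec.smul (IsMvPolyFun.evalF hF hw).neg hb).add
    (IsMvPolyVec.smul ((IsMvPolyFun.const 3).mul (IsMvPolyFun.trilin F hb hw hw)) hw)

/-- projection to the tangent plane at `a` along `n` -/
def yv (F : MvPolynomial (Fin 4) K) (a n v : Fin 4 → K) : Fin 4 → K := v - (T F a a v) • n

/-- a vector of the tangent plane at `b` -/
def wv2 (F : MvPolynomial (Fin 4) K) (a b u : Fin 4 → K) : Fin 4 → K :=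
  (T F b b a) • u - (T F b b u) • a

theorem yv_tangent {a n : Fin 4 → K} (hn : T F a a n = 1) (v : Fin 4 → K) :
    T F a a (yv F a n v) = 0 := by
  unfold yv
  rw [sub_eq_add_neg, ← neg_smul, T_add_right, T_smul_right, hn]; ring

theorem wv2_tangent (a b u : Fin 4 → K) : T F b b (wv2 F a b u) = 0 := by
  unfold wv2
  rw [sub_eq_add_neg, ← neg_smul, T_add_right, T_smul_right, T_smul_right]; ring

/-- the two step family -/
def Phi (F : MvPolynomial (Fin 4) K) (a n : Fin 4 → K) (x : Fin 4 ⊕ Fin 4 → K) : Fin 4 → K :=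
  Psi F (Psi F a (yv F a n (fun i => x (Sum.inl i))))
    (wv2 F a (Psi F a (yv F a n (fun i => x (Sum.inl i)))) (fun i => x (Sum.inr i)))

theorem Phi_elim (a n v u : Fin 4 → K) :
    Phi F a n (Sum.elim v u) =
      Psi F (Psi F a (yv F a n v)) (wv2 F a (Psi F a (yv F a n v)) u) := rfl

theorem Phi_on (hF : F.IsHomogeneous 3) {a n : Fin 4 → K} (hFa : eval a F = 0)
    (hn : T F a a n = 1) (x : Fin 4 ⊕ Fin 4 → K) : eval (Phi F a n x) F = 0 :=
  Psi_on hF _ _ (Psi_on hF a _ hFa (yv_tangent hn _)) (wv2_tangent _ _ _)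

theorem Phi_poly (hF : F.IsHomogeneous 3) (a n : Fin 4 → K) : IsMvPolyVec (Phi F a n) := by
  have hv : IsMvPolyVec (fun x : Fin 4 ⊕ Fin 4 → K => fun i : Fin 4 => x (Sum.inl i)) :=
    IsMvPolyVec.comp_proj Sum.inl
  have hu : IsMvPolyVec (fun x : Fin 4 ⊕ Fin 4 → K => fun i : Fin 4 => x (Sum.inr i)) :=
    IsMvPolyVec.comp_proj Sum.inr
  have hy : IsMvPolyVec (fun x : Fin 4 ⊕ Fin 4 → K => yv F a n (fun i => x (Sum.inl i))) := by
    unfold yv
    exact hv.sub (IsMvPolyVec.smul (IsMvPolyFun.trilin F (IsMvPolyVec.const a)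
      (IsMvPolyVec.const a) hv) (IsMvPolyVec.const n))
  have hb := Psi_poly hF (IsMvPolyVec.const a) hy
  have hw : IsMvPolyVec (fun x : Fin 4 ⊕ Fin 4 → K =>
      wv2 F a (Psi F a (yv F a n (fun i => x (Sum.inl i)))) (fun i => x (Sum.inr i))) := by
    unfold wv2
    exact (IsMvPolyVec.smul (IsMvPolyFun.trilin F hb hb (IsMvPolyVec.const a)) hu).sub
      (IsMvPolyVec.smul (IsMvPolyFun.trilin F hb hb hu) (IsMvPolyVec.const a))
  exact Psi_poly hF hb hw

end Family

section BaseChange

variable {k L : Type*} [Field k] [CharZero k] [Field L] [CharZero L] (ι : k →+* L)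

/-- coordinatewise image of a vector -/
def mapV {n : ℕ} (x : Fin n → k) : Fin n → L := fun i => ι (x i)

theorem mapV_add {n : ℕ} (x y : Fin n → k) : mapV ι (x + y) = mapV ι x + mapV ι y := by
  funext i; simp [mapV]

theorem mapV_sub {n : ℕ} (x y : Fin n → k) : mapV ι (x - y) = mapV ι x - mapV ι y := by
  funext i; simp [mapV]

theorem mapV_smul {n : ℕ} (c : k) (x : Fin n → k) : mapV ι (c • x) = ι c • mapV ι x := by
  funext i; simp [mapV]

theorem mapV_zero {n : ℕ} : mapV ι (0 : Fin n → k) = 0 := by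
  funext i; simp [mapV]

theorem mapV_injective {n : ℕ} : Function.Injective (mapV ι : (Fin n → k) → (Fin n → L)) := by
  intro x y h
  funext i
  exact ι.injective (congrFun h i)

theorem sC_map {n : ℕ} (F : MvPolynomial (Fin n) k) (i j l : Fin n) :
    sC (map ι F) i j l = ι (sC F i j l) := by
  unfold sC
  rw [pderiv_map, pderiv_map, pderiv_map, coeff_map]

theorem T_map {n : ℕ} (F : MvPolynomial (Fin n) k) (u v w : Fin n → k) :
    T (map ι F) (mapV ι u) (mapV ι v) (mapV ι w) = ι (T F u v w) := by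
  unfold T
  simp only [sC_map, mapV, map_mul, map_sum, map_div₀, map_one, map_ofNat]

theorem eval_mapV {n : ℕ} (p : MvPolynomial (Fin n) k) (x : Fin n → k) :
    eval (mapV ι x) (map ι p) = ι (eval x p) := by
  induction p using MvPolynomial.induction_on with
  | C a => simp
  | add p q hp hq => simp only [map_add, hp, hq]
  | mul_X p i hp => simp [hp, mapV]

theorem Psi_map (F : MvPolynomial (Fin 4) k) (b w : Fin 4 → k) :
    mapV ι (Psi F b w) = Psi (map ι F) (mapV ι b) (mapV ι w) := by
  unfold Psi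
  rw [mapV_add, mapV_smul, mapV_smul, eval_mapV, T_map, map_neg, map_mul, map_ofNat]

theorem yv_map (F : MvPolynomial (Fin 4) k) (a n v : Fin 4 → k) :
    mapV ι (yv F a n v) = yv (map ι F) (mapV ι a) (mapV ι n) (mapV ι v) := by
  unfold yv
  rw [mapV_sub, mapV_smul, T_map]

theorem wv2_map (F : MvPolynomial (Fin 4) k) (a b u : Fin 4 → k) :
    mapV ι (wv2 F a b u) = wv2 (map ι F) (mapV ι a) (mapV ι b) (mapV ι u) := by
  unfold wv2
  rw [mapV_sub, mapV_smul, mapV_smul, T_map, T_map]

theorem Phi_map (F : MvPolynomial (Fin 4) k) (a n : Fin 4 → k) (x : Fin 4 ⊕ Fin 4 → k) :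
    mapV ι (Phi F a n x) = Phi (map ι F) (mapV ι a) (mapV ι n) (fun s => ι (x s)) := by
  unfold Phi
  rw [Psi_map, wv2_map, Psi_map, yv_map]
  rfl

end BaseChange

end

end Groth.Agent.H91.Pf
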