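import Groth.Agent.H91.Pf2

/-!
Over an algebraically closed field, the two step family starting at a smooth point which is not a
T-point is not contained in any plane.
-/

namespace Groth.Agent.H91.Pf

open MvPolynomial Groth.Agent.H91.CubicK Groth.Agent.H91.Polar Groth.Agent.H91.TPt

set_option linter.unusedSectionVars false
set_option linter.unusedVariables false

noncomputable section

variable {K : Type*} [Field K] [CharZero K] {F : MvPolynomial (Fin 4) K}

theorem smooth_of_T (hF : F.IsHomogeneous 3) (b a : Fin 4 → K) (h : T F b b a ≠ 0) :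
    ∃ i : Fin 4, eval b (pderiv i F) ≠ 0 := by
  by_contra hcon
  push Not at hcon
  apply h
  have h1 := tangent_sum hF b a
  simp only [hcon, zero_mul, Finset.sum_const_zero] at h1
  exact (mul_eq_zero.mp h1.symm).resolve_left three_ne_zero

theorem ne_zero_of_T (b a : Fin 4 → K) (h : T F b b a ≠ 0) : b ≠ 0 := by
  rintro rfl
  apply h
  have h0 := T_smul_left F (0 : K) (0 : Fin 4 → K) 0 a
  rw [zero_smul, zero_mul] at h0
  exact h0

theorem P4_smul (lam : Module.Dual K (Fin 4 → K)) (b : Fin 4 → K) (ρ : K) (hρ : ρ ≠ 0)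
    (h4 : ∀ x, T F b b x = 0 → lam b * eval x F = 3 * T F b x x * lam x) :
    ∀ x, T F (ρ • b) (ρ • b) x = 0 →
      lam (ρ • b) * eval x F = 3 * T F (ρ • b) x x * lam x := by
  intro x hx
  rw [T_smul_left, T_smul_mid] at hx
  have hx' : T F b b x = 0 := by
    rcases mul_eq_zero.mp hx with h | h
    · exact absurd h hρ
    · rcases mul_eq_zero.mp h with h | h
      · exact absurd h hρ
      · exact h
  rw [map_smul, smul_eq_mul, T_smul_left]
  linear_combination ρ * h4 x hx'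

/-- at a smooth point `b`, if a plane `lam = 0` contains all the residual points of the tangent
lines at `b`, then `b` is a T-point or the plane is the tangent plane at `b`. -/
theorem point_alt [IsAlgClosed K] (hF : F.IsHomogeneous 3) (lam : Module.Dual K (Fin 4 → K))
    (b : Fin 4 → K) (hb0 : b ≠ 0) (hFb : eval b F = 0)
    (hsm : ∃ i : Fin 4, eval b (pderiv i F) ≠ 0)
    (h4 : ∀ x, T F b b x = 0 → lam b * eval x F = 3 * T F b x x * lam x) :
    tpP F b ∨ ∀ x, T F b b x = 0 → lam x = 0 := by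
  by_contra hcon
  push Not at hcon
  obtain ⟨hnT, x₀, hx₀, hlx₀⟩ := hcon
  have hbb : T F b b b = 0 := by rw [← eval_eq_T hF, hFb]
  obtain ⟨fr⟩ := exists_frame hF b hb0 hbb hsm
  by_cases hlb : lam b = 0
  · have hq : ∀ x, T F b b x = 0 → T F b x x = 0 := by
      intro x hx
      have hpoly : IsPolyFun (fun s : K =>
          T F b x x + s * (2 * T F b x x₀) + s ^ 2 * T F b x₀ x₀) :=
        ((IsPolyFun.const _).add (IsPolyFun.ident.mul (IsPolyFun.const _))).add
          ((IsPolyFun.ident.pow 2).mul (IsPolyFun.const _))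
      have hinf : {s : K | T F b x x + s * (2 * T F b x x₀) + s ^ 2 * T F b x₀ x₀ = 0}.Infinite := by
        refine Set.Infinite.mono ?_ (Set.finite_singleton (-(lam x) / lam x₀)).infinite_compl
        intro s hs
        have hs' : s ≠ -(lam x) / lam x₀ := hs
        have htan : T F b b (x + s • x₀) = 0 := by
          rw [T_add_right, T_smul_right, hx, hx₀]; ring
        have h := h4 _ htan
        rw [hlb, zero_mul] at h
        have hl : lam (x + s • x₀) ≠ 0 := by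
          rw [map_add, map_smul, smul_eq_mul]
          intro h0
          apply hs'
          rw [eq_div_iff hlx₀]
          linear_combination h0
        have h2 : T F b (x + s • x₀) (x + s • x₀) = 0 := by
          rcases mul_eq_zero.mp h.symm with h3 | h3
          · exact (mul_eq_zero.mp h3).resolve_left three_ne_zero
          · exact absurd h3 hl
        have h3 : T F b (x + s • x₀) (x + s • x₀) =
            T F b x x + s * (2 * T F b x x₀) + s ^ 2 * T F b x₀ x₀ := by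
          simp only [T_add_mid, T_add_right, T_smul_mid, T_smul_right]
          rw [T_comm23 F b x₀ x]; ring
        show T F b x x + s * (2 * T F b x x₀) + s ^ 2 * T F b x₀ x₀ = 0
        rw [← h3]
        exact h2
      have h0 := hpoly.eq_zero_of_infinite hinf 0
      simpa using h0
    apply fr.N1 hF hb0 hFb hsm hnT
    refine ⟨hq _ fr.h1, ?_, hq _ fr.h2⟩
    have h12 := hq (fr.e₁ + fr.e₂) (by rw [T_add_right, fr.h1, fr.h2, add_zero])
    rw [T_add_mid, T_add_right, T_add_right, hq _ fr.h1, hq _ fr.h2,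
      T_comm23 F b fr.e₂ fr.e₁] at h12
    have h2 : 2 * T F b fr.e₁ fr.e₂ = 0 := by linear_combination h12
    exact (mul_eq_zero.mp h2).resolve_left two_ne_zero
  · apply fr.N2 hF hb0 hFb hsm hnT
    refine ⟨3 * lam fr.e₁, 3 * lam fr.e₂, lam b, hlb, fun p r => ?_⟩
    have h := h4 (p • fr.e₁ + r • fr.e₂) (fr.plane_tangent p r)
    have hl : lam (p • fr.e₁ + r • fr.e₂) = p * lam fr.e₁ + r * lam fr.e₂ := by
      rw [map_add, map_smul, map_smul, smul_eq_mul, smul_eq_mul]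
    rw [h, hl]; ring

/-! ### the curve in the tangent plane -/

/-- a pencil of directions in the tangent plane -/
def cy (e₁ e₂ : Fin 4 → K) (t : K) : Fin 4 → K := (1 : K) • e₁ + t • e₂

/-- the second fundamental form along the pencil -/
def cq (F : MvPolynomial (Fin 4) K) (a e₁ e₂ : Fin 4 → K) (t : K) : K :=
  T F a (cy e₁ e₂ t) (cy e₁ e₂ t)

/-- the parametrised tangent section -/
def cb (F : MvPolynomial (Fin 4) K) (a e₁ e₂ : Fin 4 → K) (t : K) : Fin 4 → K :=
  (-(eval (cy e₁ e₂ t) F)) • a +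
    ((3 * cq F a e₁ e₂ t) • e₁ + (3 * cq F a e₁ e₂ t * t) • e₂)

theorem cb_eq_Psi (a e₁ e₂ : Fin 4 → K) (t : K) :
    cb F a e₁ e₂ t = Psi F a (cy e₁ e₂ t) := by
  unfold cb Psi cq cy
  module

theorem cy_tangent {a e₁ e₂ : Fin 4 → K} (h1 : T F a a e₁ = 0) (h2 : T F a a e₂ = 0) (t : K) :
    T F a a (cy e₁ e₂ t) = 0 := by
  unfold cy
  rw [T_add_right, T_smul_right, T_smul_right, h1, h2]; ring

theorem cy_poly (e₁ e₂ : Fin 4 → K) : IsPolyVec (cy e₁ e₂) :=
  (IsPolyVec.smul (IsPolyFun.const 1) (IsPolyVec.const e₁)).add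
    (IsPolyVec.smul IsPolyFun.ident (IsPolyVec.const e₂))

theorem cq_poly (a e₁ e₂ : Fin 4 → K) : IsPolyFun (cq F a e₁ e₂) :=
  IsPolyFun.trilin F (IsPolyVec.const a) (cy_poly e₁ e₂) (cy_poly e₁ e₂)

theorem cc_poly (hF : F.IsHomogeneous 3) (e₁ e₂ : Fin 4 → K) :
    IsPolyFun (fun t => eval (cy e₁ e₂ t) F) := by
  obtain ⟨P, hP⟩ := IsPolyFun.trilin F (cy_poly e₁ e₂) (cy_poly e₁ e₂) (cy_poly e₁ e₂)
  exact ⟨P, fun t => by show eval (cy e₁ e₂ t) F = _; rw [eval_eq_T hF]; exact hP t⟩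

theorem cq_zero (a e₁ e₂ : Fin 4 → K) : cq F a e₁ e₂ 0 = T F a e₁ e₁ := by
  unfold cq cy
  rw [one_smul, zero_smul, add_zero]

theorem cb_on (hF : F.IsHomogeneous 3) {a e₁ e₂ : Fin 4 → K} (hFa : eval a F = 0)
    (h1 : T F a a e₁ = 0) (h2 : T F a a e₂ = 0) (t : K) : eval (cb F a e₁ e₂ t) F = 0 := by
  rw [cb_eq_Psi]
  exact Psi_on hF a _ hFa (cy_tangent h1 h2 t)

theorem cb_T (hF : F.IsHomogeneous 3) {a e₁ e₂ : Fin 4 → K} (hFa : eval a F = 0)
    (h1 : T F a a e₁ = 0) (h2 : T F a a e₂ = 0) (t : K) :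
    T F (cb F a e₁ e₂ t) (cb F a e₁ e₂ t) a = 9 * cq F a e₁ e₂ t ^ 3 := by
  have hy := cy_tangent h1 h2 t
  have haa : T F a a a = 0 := by rw [← eval_eq_T hF, hFa]
  have e1 : T F a (cy e₁ e₂ t) a = 0 := by rw [T_comm23]; exact hy
  have e2 : T F (cy e₁ e₂ t) a a = 0 := by rw [T_comm12, T_comm23]; exact hy
  have e3 : T F (cy e₁ e₂ t) (cy e₁ e₂ t) a = T F a (cy e₁ e₂ t) (cy e₁ e₂ t) := by
    rw [T_comm23, T_comm12]
  rw [cb_eq_Psi]
  unfold Psi cq
  simp only [T_add_left, T_add_mid, T_smul_left, T_smul_mid, haa, e1, e2, e3]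
  ring

theorem lam_cb (lam : Module.Dual K (Fin 4 → K)) (a e₁ e₂ : Fin 4 → K) (t : K) :
    lam (cb F a e₁ e₂ t) = 3 * cq F a e₁ e₂ t * lam e₁ + 3 * cq F a e₁ e₂ t * t * lam e₂
      - eval (cy e₁ e₂ t) F * lam a := by
  unfold cb
  rw [map_add, map_add, map_smul, map_smul, map_smul]
  simp only [smul_eq_mul]
  ring

set_option maxHeartbeats 1000000 in
theorem off_plane_aux [IsAlgClosed K] (hF : F.IsHomogeneous 3) (hirr : Irreducible F)
    (a n : Fin 4 → K) (ha0 : a ≠ 0) (hFa : eval a F = 0)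
    (hsm : ∃ i : Fin 4, eval a (pderiv i F) ≠ 0) (hnT : ¬ tpP F a) (hn : T F a a n = 1)
    (lam : Module.Dual K (Fin 4 → K)) (hlam : lam ≠ 0)
    (e₁ e₂ : Fin 4 → K) (κ₁ κ₂ : Module.Dual K (Fin 4 → K))
    (h1 : T F a a e₁ = 0) (h2 : T F a a e₂ = 0)
    (hκ₁ : ∀ s p r : K, κ₁ (s • a + (p • e₁ + r • e₂)) = p)
    (hκ₂ : ∀ s p r : K, κ₂ (s • a + (p • e₁ + r • e₂)) = r)
    (hA : T F a e₁ e₁ ≠ 0)
    (hN2 : ¬ ∃ g₁ g₂ κ : K, κ ≠ 0 ∧ ∀ p r : K, κ * eval (p • e₁ + r • e₂) F =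
      T F a (p • e₁ + r • e₂) (p • e₁ + r • e₂) * (g₁ * p + g₂ * r))
    (hcon : ∀ x, lam (Phi F a n x) = 0) : False := by
  classical
  have haa : T F a a a = 0 := by rw [← eval_eq_T hF, hFa]
  have hT3 : ∀ t, T F (cb F a e₁ e₂ t) (cb F a e₁ e₂ t) a = 9 * cq F a e₁ e₂ t ^ 3 :=
    fun t => cb_T hF hFa h1 h2 t
  have hτ : ∀ t, cq F a e₁ e₂ t ≠ 0 → T F (cb F a e₁ e₂ t) (cb F a e₁ e₂ t) a ≠ 0 := by
    intro t hq
    rw [hT3]
    exact mul_ne_zero (by norm_num) (pow_ne_zero 3 hq)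
  have hbF : ∀ t, eval (cb F a e₁ e₂ t) F = 0 := fun t => cb_on hF hFa h1 h2 t
  have hbb : ∀ t, T F (cb F a e₁ e₂ t) (cb F a e₁ e₂ t) (cb F a e₁ e₂ t) = 0 := fun t => by
    rw [← eval_eq_T hF, hbF]
  have hP4 : ∀ t, cq F a e₁ e₂ t ≠ 0 → ∀ x,
      T F (cb F a e₁ e₂ t) (cb F a e₁ e₂ t) x = 0 →
      lam (cb F a e₁ e₂ t) * eval x F = 3 * T F (cb F a e₁ e₂ t) x x * lam x := by
    intro t hq x hx
    have h := hcon (Sum.elim (cy e₁ e₂ t)
      ((T F (cb F a e₁ e₂ t) (cb F a e₁ e₂ t) a)⁻¹ • x))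
    rw [Phi_elim] at h
    have hyv : yv F a n (cy e₁ e₂ t) = cy e₁ e₂ t := by
      unfold yv
      rw [cy_tangent h1 h2 t, zero_smul, sub_zero]
    rw [hyv, ← cb_eq_Psi] at h
    have hw : wv2 F a (cb F a e₁ e₂ t)
        ((T F (cb F a e₁ e₂ t) (cb F a e₁ e₂ t) a)⁻¹ • x) = x := by
      unfold wv2
      rw [T_smul_right, hx, mul_zero, zero_smul, sub_zero, smul_smul,
        mul_inv_cancel₀ (hτ t hq), one_smul]
    rw [hw] at h
    unfold Psi at h
    rw [map_add, map_smul, map_smul, smul_eq_mul, smul_eq_mul] at h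
    linear_combination (-1 : K) * h
  have halt : ∀ t, cq F a e₁ e₂ t ≠ 0 →
      (∀ ρ : K, ρ ≠ 0 → tpP F (ρ • cb F a e₁ e₂ t)) ∨
      (∀ x, T F (cb F a e₁ e₂ t) (cb F a e₁ e₂ t) x = 0 → lam x = 0) := by
    intro t hq
    by_cases hB : ∀ x, T F (cb F a e₁ e₂ t) (cb F a e₁ e₂ t) x = 0 → lam x = 0
    · exact Or.inr hB
    · left
      intro ρ hρ
      have hτρ : T F (ρ • cb F a e₁ e₂ t) (ρ • cb F a e₁ e₂ t) a ≠ 0 := by
        rw [T_smul_left, T_smul_mid]
        exact mul_ne_zero hρ (mul_ne_zero hρ (hτ t hq))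
      have hFρ : eval (ρ • cb F a e₁ e₂ t) F = 0 := by rw [eval_smul hF, hbF, mul_zero]
      rcases point_alt hF lam (ρ • cb F a e₁ e₂ t) (ne_zero_of_T _ a hτρ) hFρ
        (smooth_of_T hF _ a hτρ) (P4_smul lam _ ρ hρ (hP4 t hq)) with h | h
      · exact h
      · exfalso
        apply hB
        intro x hx
        apply h x
        rw [T_smul_left, T_smul_mid, hx, mul_zero, mul_zero]
  have hqfin : {t : K | cq F a e₁ e₂ t = 0}.Finite := by
    by_contra hinf
    have hz := (cq_poly (F := F) a e₁ e₂).eq_zero_of_infinite hinf 0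
    rw [cq_zero] at hz
    exact hA hz
  have hqinf : {t : K | cq F a e₁ e₂ t ≠ 0}.Infinite := hqfin.infinite_compl
  -- the second alternative happens finitely often
  have hS2 : {t : K | cq F a e₁ e₂ t ≠ 0 ∧
      ∀ x, T F (cb F a e₁ e₂ t) (cb F a e₁ e₂ t) x = 0 → lam x = 0}.Finite := by
    by_contra hinf
    have hinf' : Set.Infinite {t : K | cq F a e₁ e₂ t ≠ 0 ∧
      ∀ x, T F (cb F a e₁ e₂ t) (cb F a e₁ e₂ t) x = 0 → lam x = 0} := hinf
    obtain ⟨t₂, ht₂q, ht₂⟩ := hinf'.nonempty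
    have hla : lam a ≠ 0 := by
      intro hla
      apply hlam
      apply LinearMap.ext
      intro x
      rw [LinearMap.zero_apply]
      have hi : (T F (cb F a e₁ e₂ t₂) (cb F a e₁ e₂ t₂) a)⁻¹ *
          T F (cb F a e₁ e₂ t₂) (cb F a e₁ e₂ t₂) a = 1 := inv_mul_cancel₀ (hτ t₂ ht₂q)
      have hx' : T F (cb F a e₁ e₂ t₂) (cb F a e₁ e₂ t₂)
          (x - ((T F (cb F a e₁ e₂ t₂) (cb F a e₁ e₂ t₂) a)⁻¹ *
            T F (cb F a e₁ e₂ t₂) (cb F a e₁ e₂ t₂) x) • a) = 0 := by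
        rw [sub_eq_add_neg, ← neg_smul, T_add_right, T_smul_right]
        linear_combination (-(T F (cb F a e₁ e₂ t₂) (cb F a e₁ e₂ t₂) x)) * hi
      have h0 := ht₂ _ hx'
      rw [map_sub, map_smul, hla, smul_zero, sub_zero] at h0
      exact h0
    have hpoly : IsPolyFun (fun t => lam (cb F a e₁ e₂ t)) := by
      obtain ⟨P, hP⟩ := (((((IsPolyFun.const 3).mul (cq_poly (F := F) a e₁ e₂)).mul
        (IsPolyFun.const (lam e₁))).add
        ((((IsPolyFun.const 3).mul (cq_poly (F := F) a e₁ e₂)).mul IsPolyFun.ident).mul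
          (IsPolyFun.const (lam e₂)))).sub ((cc_poly hF e₁ e₂).mul (IsPolyFun.const (lam a))))
      exact ⟨P, fun t => by
        show lam (cb F a e₁ e₂ t) = _
        rw [lam_cb]
        exact hP t⟩
    have hzero : ∀ t, lam (cb F a e₁ e₂ t) = 0 := by
      apply hpoly.eq_zero_of_infinite
      refine hinf'.mono ?_
      intro t ht
      exact ht.2 _ (hbb t)
    have hco := cubic_coeffs (c0 := 3 * T F a e₁ e₁ * lam e₁ - lam a * eval e₁ F)
      (c1 := 3 * (T F a e₁ e₁ * lam e₂ + 2 * T F a e₁ e₂ * lam e₁) - 3 * lam a * T F e₁ e₁ e₂)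
      (c2 := 3 * (2 * T F a e₁ e₂ * lam e₂ + T F a e₂ e₂ * lam e₁) - 3 * lam a * T F e₁ e₂ e₂)
      (c3 := 3 * T F a e₂ e₂ * lam e₂ - lam a * eval e₂ F) (fun t => by
        have h := hzero t
        rw [lam_cb] at h
        unfold cq cy at h
        rw [cube_expand hF, quad_expand] at h
        linear_combination h)
    obtain ⟨hd0, hd1, hd2, hd3⟩ := hco
    apply hN2
    refine ⟨3 * lam e₁, 3 * lam e₂, lam a, hla, fun p r => ?_⟩
    rw [cube_expand hF, quad_expand]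
    linear_combination (-(p ^ 3)) * hd0 - p ^ 2 * r * hd1 - p * r ^ 2 * hd2 - r ^ 3 * hd3
  -- the first alternative happens finitely often
  have hS1 : {t : K | cq F a e₁ e₂ t ≠ 0 ∧
      ∀ ρ : K, ρ ≠ 0 → tpP F (ρ • cb F a e₁ e₂ t)}.Finite := by
    obtain ⟨lamT, hlamT⟩ : ∃ l : Module.Dual K (Fin 4 → K), ∀ y, l y = T F a a y :=
      ⟨{ toFun := fun y => T F a a y
         map_add' := fun y z => T_add_right F a a y z
         map_smul' := fun c y => by simp [T_smul_right] }, fun y => rfl⟩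
    have hH : ∀ x : Fin 4 → K, x ∈ LinearMap.ker lamT ↔
        eval x (∑ i : Fin 4, C (eval a (pderiv i F)) * X i) = 0 := by
      intro x
      rw [LinearMap.mem_ker, hlamT, eval_tangent hF]
      constructor
      · intro h; rw [h, mul_zero]
      · intro h; exact (mul_eq_zero.mp h).resolve_left three_ne_zero
    have hfin := main_finite hF hirr (tpP F) (fun b => Iff.rfl) a hFa hsm hnT
      (LinearMap.ker lamT) hH
    apply Set.Finite.of_finite_image (f := fun t => Submodule.span K {cb F a e₁ e₂ t})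
    · refine hfin.subset ?_
      rintro U ⟨t, ⟨htq, htA⟩, rfl⟩
      have hb0 : cb F a e₁ e₂ t ≠ 0 := ne_zero_of_T _ a (hτ t htq)
      refine ⟨finrank_span_singleton hb0, ?_, ?_⟩
      · rw [Submodule.span_le, Set.singleton_subset_iff]
        show cb F a e₁ e₂ t ∈ LinearMap.ker lamT
        rw [LinearMap.mem_ker, hlamT]
        unfold cb
        rw [T_add_right, T_add_right, T_smul_right, T_smul_right, T_smul_right, haa, h1, h2]
        ring
      · intro b hb hb0'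
        obtain ⟨ρ, rfl⟩ := Submodule.mem_span_singleton.mp hb
        apply htA
        rintro rfl
        apply hb0'
        rw [zero_smul]
    · intro t ht t' ht' heq
      have heq' : Submodule.span K {cb F a e₁ e₂ t} = Submodule.span K {cb F a e₁ e₂ t'} := heq
      have hmem : cb F a e₁ e₂ t' ∈ Submodule.span K {cb F a e₁ e₂ t} := by
        rw [heq']
        exact Submodule.mem_span_singleton_self _
      obtain ⟨ρ, hρ⟩ := Submodule.mem_span_singleton.mp hmem
      have k1 := congrArg κ₁ hρ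
      have k2 := congrArg κ₂ hρ
      rw [map_smul] at k1 k2
      unfold cb at k1 k2
      rw [hκ₁, hκ₁] at k1
      rw [hκ₂, hκ₂] at k2
      rw [smul_eq_mul] at k1 k2
      have hq' : cq F a e₁ e₂ t' ≠ 0 := ht'.1
      have h3 : 3 * cq F a e₁ e₂ t' * (t - t') = 0 := by
        linear_combination (-t) * k1 + k2
      rcases mul_eq_zero.mp h3 with h | h
      · exact absurd h (mul_ne_zero three_ne_zero hq')
      · exact sub_eq_zero.mp h
  have hsub : {t : K | cq F a e₁ e₂ t ≠ 0} ⊆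
      {t : K | cq F a e₁ e₂ t ≠ 0 ∧ ∀ ρ : K, ρ ≠ 0 → tpP F (ρ • cb F a e₁ e₂ t)} ∪
      {t : K | cq F a e₁ e₂ t ≠ 0 ∧
        ∀ x, T F (cb F a e₁ e₂ t) (cb F a e₁ e₂ t) x = 0 → lam x = 0} :=
    fun t ht => (halt t ht).elim (fun h => Or.inl ⟨ht, h⟩) (fun h => Or.inr ⟨ht, h⟩)
  exact hqinf ((hS1.union hS2).subset hsub)

/-- the two step family at a smooth point which is not a T-point leaves every plane -/
theorem exists_off_plane [IsAlgClosed K] (hF : F.IsHomogeneous 3) (hirr : Irreducible F)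
    (a n : Fin 4 → K) (ha0 : a ≠ 0) (hFa : eval a F = 0)
    (hsm : ∃ i : Fin 4, eval a (pderiv i F) ≠ 0) (hnT : ¬ tpP F a) (hn : T F a a n = 1)
    (lam : Module.Dual K (Fin 4 → K)) (hlam : lam ≠ 0) : ∃ x, lam (Phi F a n x) ≠ 0 := by
  by_contra hcon
  push Not at hcon
  have haa : T F a a a = 0 := by rw [← eval_eq_T hF, hFa]
  obtain ⟨fr0⟩ := exists_frame hF a ha0 haa hsm
  obtain ⟨fr, hA⟩ := exists_good_frame fr0 (fr0.N1 hF ha0 hFa hsm hnT)
  exact off_plane_aux hF hirr a n ha0 hFa hsm hnT hn lam hlam fr.e₁ fr.e₂ fr.κ₁ fr.κ₂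
    fr.h1 fr.h2 fr.hκ₁ fr.hκ₂ hA (fr.N2 hF ha0 hFa hsm hnT) hcon

end

end Groth.Agent.H91.Pf
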