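import Groth.Agent.H91.Pf3

/-!
Five rational points in general position on a cubic surface with a rational point which is not a
T-point.
-/

namespace Groth.Agent.H91.Pf

open MvPolynomial Groth.Agent.H91.CubicK Groth.Agent.H91.Polar Groth.Agent.H91.TPt
  Groth.Agent.H91.Sing

set_option linter.unusedSectionVars false
set_option linter.unusedVariables false

noncomputable section

variable {k : Type*} [Field k] [CharZero k]

theorem eval_zero_map {L : Type*} [Field L] [CharZero L] (ι : k →+* L)
    (G : MvPolynomial (Fin 4) k) (h : eval 0 G = 0) : eval 0 (map ι G) = 0 := by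
  have h1 := eval_mapV ι G 0
  rw [h, map_zero, mapV_zero] at h1
  exact h1

/-- the singular case: projecting from the singular point -/
theorem sing_gen (F : MvPolynomial (Fin 4) k) (hF : F.IsHomogeneous 3)
    (hirr : Irreducible (map (algebraMap k (AlgebraicClosure k)) F))
    (hcone : ¬ ∃ v : Fin 4 → k, v ≠ 0 ∧ ∑ i : Fin 4, v i • pderiv i F = 0)
    (a : Fin 4 → k) (ha : a ≠ 0)
    (lam : Module.Dual k (Fin 4 → k)) (hlam : lam ≠ 0) : ∃ y, lam (Psi F a y) ≠ 0 := by
  classical
  by_contra hcon
  push Not at hcon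
  have hDe : ∀ y, eval y (∑ i : Fin 4, a i • pderiv i F) = 3 * T F a y y := by
    intro y
    rw [map_sum]
    simp only [smul_eval]
    exact dir_deriv hF y a
  have hid : C (lam a) * F = (∑ i : Fin 4, a i • pderiv i F) * linPoly lam := by
    apply MvPolynomial.funext
    intro y
    have h := hcon y
    unfold Psi at h
    rw [map_add, map_smul, map_smul, smul_eq_mul, smul_eq_mul] at h
    rw [map_mul, map_mul, eval_C, hDe, eval_linPoly]
    linear_combination (-1 : k) * h
  have hL0 : linPoly lam ≠ 0 := by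
    intro h0
    apply hlam
    apply LinearMap.ext
    intro x
    rw [← eval_linPoly lam x, h0, map_zero, LinearMap.zero_apply]
  by_cases hla : lam a = 0
  · rw [hla, map_zero, zero_mul] at hid
    rcases mul_eq_zero.mp hid.symm with h | h
    · exact hcone ⟨a, ha, h⟩
    · exact hL0 h
  · have hfac : F = (C (lam a)⁻¹ * ∑ i : Fin 4, a i • pderiv i F) * linPoly lam := by
      rw [mul_assoc, ← hid, ← mul_assoc, ← C_mul, inv_mul_cancel₀ hla, C_1, one_mul]
    have hfac' : map (algebraMap k (AlgebraicClosure k)) F =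
        map (algebraMap k (AlgebraicClosure k)) (C (lam a)⁻¹ * ∑ i : Fin 4, a i • pderiv i F) *
          map (algebraMap k (AlgebraicClosure k)) (linPoly lam) := by
      rw [← map_mul, ← hfac]
    have hT0 : T F a 0 0 = 0 := by
      have h0 := T_smul_mid F (0 : k) a (0 : Fin 4 → k) 0
      rw [zero_smul, zero_mul] at h0
      exact h0
    rcases hirr.isUnit_or_isUnit hfac' with hu | hu
    · refine not_isUnit_of_eval_zero (eval_zero_map _ _ ?_) hu
      rw [map_mul, hDe, hT0, mul_zero, mul_zero]
    · refine not_isUnit_of_eval_zero (eval_zero_map _ _ ?_) hu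
      rw [eval_linPoly, map_zero]

/-- the smooth case: the two step family -/
theorem smooth_gen (F : MvPolynomial (Fin 4) k) (hF : F.IsHomogeneous 3)
    (hirr : Irreducible (map (algebraMap k (AlgebraicClosure k)) F))
    (a n : Fin 4 → k) (ha : a ≠ 0) (hFa : eval a F = 0)
    (i₀ : Fin 4) (hi₀ : eval a (pderiv i₀ F) ≠ 0) (hn : T F a a n = 1)
    (hT : ¬ ∃ L₁ L₂ L₃ : MvPolynomial (Fin 4) (AlgebraicClosure k), L₁.IsHomogeneous 1 ∧
      L₂.IsHomogeneous 1 ∧ L₃.IsHomogeneous 1 ∧
      map (algebraMap k (AlgebraicClosure k)) F - L₁ * L₂ * L₃ ∈ Ideal.span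
        {∑ i : Fin 4, C (algebraMap k (AlgebraicClosure k) (eval a (pderiv i F))) * X i})
    (lam : Module.Dual k (Fin 4 → k)) (hlam : lam ≠ 0) : ∃ x, lam (Phi F a n x) ≠ 0 := by
  classical
  by_contra hcon
  push Not at hcon
  have hinj : Function.Injective (algebraMap k (AlgebraicClosure k)) :=
    (algebraMap k (AlgebraicClosure k)).injective
  have hFL : (map (algebraMap k (AlgebraicClosure k)) F).IsHomogeneous 3 := hF.map _
  have haL : mapV (algebraMap k (AlgebraicClosure k)) a ≠ 0 := fun h =>
    ha (mapV_injective (algebraMap k (AlgebraicClosure k)) (by rw [h, mapV_zero]))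
  have hFaL : eval (mapV (algebraMap k (AlgebraicClosure k)) a)
      (map (algebraMap k (AlgebraicClosure k)) F) = 0 := by
    rw [eval_mapV, hFa, map_zero]
  have hpd : ∀ i, eval (mapV (algebraMap k (AlgebraicClosure k)) a)
      (pderiv i (map (algebraMap k (AlgebraicClosure k)) F)) =
      algebraMap k (AlgebraicClosure k) (eval a (pderiv i F)) := by
    intro i
    rw [pderiv_map, eval_mapV]
  have hsmL : ∃ i, eval (mapV (algebraMap k (AlgebraicClosure k)) a)
      (pderiv i (map (algebraMap k (AlgebraicClosure k)) F)) ≠ 0 :=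
    ⟨i₀, by rw [hpd]; exact fun h => hi₀ (hinj (by rw [h, map_zero]))⟩
  have hnTL : ¬ tpP (map (algebraMap k (AlgebraicClosure k)) F)
      (mapV (algebraMap k (AlgebraicClosure k)) a) := by
    rintro ⟨_, _, _, L₁, L₂, L₃, h1, h2, h3, hmem⟩
    apply hT
    refine ⟨L₁, L₂, L₃, h1, h2, h3, ?_⟩
    simp only [hpd] at hmem
    exact hmem
  have hnL : T (map (algebraMap k (AlgebraicClosure k)) F)
      (mapV (algebraMap k (AlgebraicClosure k)) a) (mapV (algebraMap k (AlgebraicClosure k)) a)
      (mapV (algebraMap k (AlgebraicClosure k)) n) = 1 := by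
    rw [T_map, hn, map_one]
  obtain ⟨lamL, hlamL⟩ : ∃ lamL : Module.Dual (AlgebraicClosure k) (Fin 4 → AlgebraicClosure k),
      ∀ x : Fin 4 → k, lamL (mapV (algebraMap k (AlgebraicClosure k)) x) =
        algebraMap k (AlgebraicClosure k) (lam x) := by
    refine ⟨∑ i, algebraMap k (AlgebraicClosure k) (lam (Pi.single i 1)) • LinearMap.proj i,
      fun x => ?_⟩
    have h : lam x = ∑ j, lam (Pi.single j 1) * x j := by
      rw [← eval_linPoly lam x]
      unfold linPoly
      simp only [map_sum, map_mul, eval_C, eval_X]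
    rw [h, map_sum]
    simp only [LinearMap.sum_apply, LinearMap.smul_apply, LinearMap.proj_apply, smul_eq_mul,
      map_mul, mapV]
  have hlamL0 : lamL ≠ 0 := by
    intro h0
    apply hlam
    apply LinearMap.ext
    intro x
    have h := hlamL x
    rw [h0, LinearMap.zero_apply] at h
    rw [LinearMap.zero_apply]
    exact hinj (by rw [← h, map_zero])
  obtain ⟨X₀, hX₀⟩ := exists_off_plane hFL hirr (mapV (algebraMap k (AlgebraicClosure k)) a)
    (mapV (algebraMap k (AlgebraicClosure k)) n) haL hFaL hsmL hnTL hnL lamL hlamL0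
  obtain ⟨G, hG⟩ := IsMvPolyFun.dual lamL
    (Phi_poly hFL (mapV (algebraMap k (AlgebraicClosure k)) a)
      (mapV (algebraMap k (AlgebraicClosure k)) n))
  have hG' : ∀ x, lamL (Phi (map (algebraMap k (AlgebraicClosure k)) F)
      (mapV (algebraMap k (AlgebraicClosure k)) a)
      (mapV (algebraMap k (AlgebraicClosure k)) n) x) = eval x G := hG
  have hG0 : G = 0 := by
    apply MvPolynomial.funext_set (fun _ => Set.range (algebraMap k (AlgebraicClosure k)))
      (fun _ => Set.infinite_range_of_injective hinj)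
    intro x hx
    rw [map_zero]
    have hx' : ∀ s, ∃ y : k, algebraMap k (AlgebraicClosure k) y = x s :=
      fun s => hx s (Set.mem_univ s)
    choose y hy using hx'
    have hxy : x = fun s => algebraMap k (AlgebraicClosure k) (y s) :=
      funext fun s => (hy s).symm
    rw [← hG', hxy, ← Phi_map, hlamL, hcon, map_zero]
  apply hX₀
  rw [hG', hG0, map_zero]

/-- five rational points in general position -/
theorem five_rat_points (F : MvPolynomial (Fin 4) k) (hF : F.IsHomogeneous 3)
    (hirr : Irreducible (map (algebraMap k (AlgebraicClosure k)) F))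
    (hcone : ¬ ∃ v : Fin 4 → k, v ≠ 0 ∧ ∑ i : Fin 4, v i • pderiv i F = 0)
    (a : Fin 4 → k) (ha : a ≠ 0) (hFa : eval a F = 0)
    (hT : ¬ ∃ L₁ L₂ L₃ : MvPolynomial (Fin 4) (AlgebraicClosure k), L₁.IsHomogeneous 1 ∧
      L₂.IsHomogeneous 1 ∧ L₃.IsHomogeneous 1 ∧
      map (algebraMap k (AlgebraicClosure k)) F - L₁ * L₂ * L₃ ∈ Ideal.span
        {∑ i : Fin 4, C (algebraMap k (AlgebraicClosure k) (eval a (pderiv i F))) * X i}) :
    ∃ p : Fin 5 → (Fin 4 → k), p 0 = a ∧ (∀ j : Fin 5, eval (p j) F = 0) ∧
      ∀ j : Fin 5, LinearIndependent k (fun i : Fin 4 => p (j.succAbove i)) := by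
  classical
  by_cases hsm : ∃ i : Fin 4, eval a (pderiv i F) ≠ 0
  · obtain ⟨i₀, hi₀⟩ := hsm
    have hTi : T F a a (Pi.single i₀ 1) ≠ 0 := by
      intro h0
      have h := tangent_sum hF a (Pi.single i₀ 1)
      rw [h0, mul_zero] at h
      apply hi₀
      simpa [Pi.single_apply] using h
    have hn : T F a a ((T F a a (Pi.single i₀ 1))⁻¹ • Pi.single i₀ 1) = 1 := by
      rw [T_smul_right, inv_mul_cancel₀ hTi]
    exact five_points F a ha hFa (Phi F a _) (Phi_poly hF a _) (fun x => Phi_on hF hFa hn x)
      (fun lam hlam => smooth_gen F hF hirr a _ ha hFa i₀ hi₀ hn hT lam hlam)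
  · push Not at hsm
    have hTa : ∀ y, T F a a y = 0 := by
      intro y
      have h := tangent_sum hF a y
      simp only [hsm, zero_mul, Finset.sum_const_zero] at h
      exact (mul_eq_zero.mp h.symm).resolve_left three_ne_zero
    exact five_points F a ha hFa (fun y => Psi F a y)
      (Psi_poly hF (IsMvPolyVec.const a) (IsMvPolyVec.comp_proj id))
      (fun y => Psi_on hF a y hFa (hTa y))
      (fun lam hlam => sing_gen F hF hirr hcone a ha lam hlam)

end

end Groth.Agent.H91.Pf
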