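import Groth.Agent.H91.Pf4

/-!
A linear Pfaffian representation of a cubic surface through five points in general position.
-/

namespace Groth.Agent.H91.Pf

open MvPolynomial Matrix Groth.Agent.H91.CubicK Groth.Agent.H91.Polar Groth.Agent.H91.TPt

set_option linter.unusedSectionVars false
set_option linter.unusedVariables false

noncomputable section

/-- a six by six alternating matrix with a block of zeros -/
def M6 {R : Type*} [CommRing R] (a b c d e f i L1 L2 L3 L4 L5 : R) : Matrix (Fin 6) (Fin 6) R :=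
  Matrix.of ![![0, 0, a, b, c, L1], ![0, 0, d, e, f, L2], ![-a, -d, 0, 0, 0, L3],
    ![-b, -e, 0, 0, i, L4], ![-c, -f, 0, -i, 0, L5], ![-L1, -L2, -L3, -L4, -L5, 0]]

set_option maxHeartbeats 2000000 in
theorem M6_det {R : Type*} [CommRing R] (a b c d e f i L1 L2 L3 L4 L5 : R) :
    (M6 a b c d e f i L1 L2 L3 L4 L5).det =
      (L1 * (d * i) - L2 * (a * i) + L3 * (c * e - b * f) - L4 * (c * d - a * f)
        + L5 * (b * d - a * e)) ^ 2 := by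
  unfold M6
  simp [Matrix.det_succ_row_zero, Fin.sum_univ_succ, Matrix.submatrix, Fin.succAbove]
  ring

theorem M6_transpose {R : Type*} [CommRing R] (a b c d e f i L1 L2 L3 L4 L5 : R) :
    (M6 a b c d e f i L1 L2 L3 L4 L5).transpose = -(M6 a b c d e f i L1 L2 L3 L4 L5) := by
  ext r s
  fin_cases r <;> fin_cases s <;> simp [M6]

theorem M6_diag {R : Type*} [CommRing R] (a b c d e f i L1 L2 L3 L4 L5 : R) (r : Fin 6) :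
    M6 a b c d e f i L1 L2 L3 L4 L5 r r = 0 := by
  fin_cases r <;> rfl

variable {k : Type*} [Field k] [CharZero k]

theorem M6_hom {a b c d e f i L1 L2 L3 L4 L5 : MvPolynomial (Fin 4) k}
    (ha : a.IsHomogeneous 1) (hb : b.IsHomogeneous 1) (hc : c.IsHomogeneous 1)
    (hd : d.IsHomogeneous 1) (he : e.IsHomogeneous 1) (hf : f.IsHomogeneous 1)
    (hi : i.IsHomogeneous 1) (h1 : L1.IsHomogeneous 1) (h2 : L2.IsHomogeneous 1)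
    (h3 : L3.IsHomogeneous 1) (h4 : L4.IsHomogeneous 1) (h5 : L5.IsHomogeneous 1)
    (r s : Fin 6) : (M6 a b c d e f i L1 L2 L3 L4 L5 r s).IsHomogeneous 1 := by
  fin_cases r <;> fin_cases s <;>
    first
    | exact isHomogeneous_zero _ _ _
    | exact ha | exact hb | exact hc | exact hd | exact he | exact hf | exact hi
    | exact h1 | exact h2 | exact h3 | exact h4 | exact h5
    | exact ha.neg | exact hb.neg | exact hc.neg | exact hd.neg | exact he.neg | exact hf.neg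
    | exact hi.neg | exact h1.neg | exact h2.neg | exact h3.neg | exact h4.neg | exact h5.neg

/-- a linear combination of four functionals -/
def lin4 (ξ0 ξ1 ξ2 ξ3 : Module.Dual k (Fin 4 → k)) (c0 c1 c2 c3 : k) :
    Module.Dual k (Fin 4 → k) :=
  c0 • ξ0 + c1 • ξ1 + c2 • ξ2 + c3 • ξ3

theorem eval_lin4 (ξ0 ξ1 ξ2 ξ3 : Module.Dual k (Fin 4 → k)) (c0 c1 c2 c3 : k)
    (x : Fin 4 → k) : eval x (linPoly (lin4 ξ0 ξ1 ξ2 ξ3 c0 c1 c2 c3)) =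
      c0 * ξ0 x + c1 * ξ1 x + c2 * ξ2 x + c3 * ξ3 x := by
  rw [eval_linPoly]
  simp [lin4]

/-- expansion of a cubic along four vectors -/
theorem expand4 {F : MvPolynomial (Fin 4) k} (hF : F.IsHomogeneous 3)
    (P0 P1 P2 P3 : Fin 4 → k) (y0 y1 y2 y3 : k) :
    eval (y0 • P0 + (y1 • P1 + (y2 • P2 + y3 • P3))) F =
      y0 ^ 3 * eval P0 F + y1 ^ 3 * eval P1 F + y2 ^ 3 * eval P2 F + y3 ^ 3 * eval P3 F
      + 3 * y0 ^ 2 * y1 * T F P0 P0 P1 + 3 * y0 ^ 2 * y2 * T F P0 P0 P2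
      + 3 * y0 ^ 2 * y3 * T F P0 P0 P3 + 3 * y0 * y1 ^ 2 * T F P0 P1 P1
      + 3 * y0 * y2 ^ 2 * T F P0 P2 P2 + 3 * y0 * y3 ^ 2 * T F P0 P3 P3
      + 3 * y1 ^ 2 * y2 * T F P1 P1 P2 + 3 * y1 ^ 2 * y3 * T F P1 P1 P3
      + 3 * y1 * y2 ^ 2 * T F P1 P2 P2 + 3 * y1 * y3 ^ 2 * T F P1 P3 P3
      + 3 * y2 ^ 2 * y3 * T F P2 P2 P3 + 3 * y2 * y3 ^ 2 * T F P2 P3 P3
      + 6 * y0 * y1 * y2 * T F P0 P1 P2 + 6 * y0 * y1 * y3 * T F P0 P1 P3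
      + 6 * y0 * y2 * y3 * T F P0 P2 P3 + 6 * y1 * y2 * y3 * T F P1 P2 P3 := by
  rw [eval_expand hF P0 _ y0, eval_expand hF P1 _ y1, eval_expand hF P2 _ y2, eval_smul hF]
  simp only [T_add_mid, T_add_right, T_smul_mid, T_smul_right]
  rw [T_comm23 F P0 P2 P1, T_comm23 F P0 P3 P1, T_comm23 F P0 P3 P2, T_comm23 F P1 P3 P2]
  ring

/-- the polynomial identity behind the representation -/
theorem pf_identity (y0 y1 y2 y3 A01 A02 A03 A10 A12 A13 A20 A21 A23 A30 A31 A32 B012 B013 B023 B123 : k) :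
    ((2 * A01 + A02 - 2 * A03) * y0 + (A10 - 2 * A12 + A13) * y1 + (-A20 - 3 * A21 - A23) * y2 + (6 * A03 + A12 + A13 + A21 + A23 + 5 * A30 + 4 * A31 + 3 * A32 + 3 * B013 + 2 * B023 + B123) * y3) * (((1) * y0 + (0) * y1 + (0) * y2 + (0) * y3) * ((0) * y0 + (1) * y1 + (-1) * y2 + (0) * y3))
      - ((0) * y0 + (-2 * A12 + A13) * y1 + (-3 * A21 - A23) * y2 + (6 * A30 + 3 * A31 + 2 * A32) * y3) * (((1) * y0 + (0) * y1 + (0) * y2 + (-1) * y3) * ((0) * y0 + (1) * y1 + (-1) * y2 + (0) * y3))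
      + ((A01 + A02 + A03 + 1 / 3 * A12 + 1 / 3 * A13 + 1 / 3 * A21 + 1 / 3 * A23 - A30 + 1 / 3 * A31 + 1 / 3 * A32 + B013 + B023 + 1 / 3 * B123) * y0 + (-A12) * y1 + (-A21) * y2 + (3 * A30 + A31 + A32) * y3) * (((0) * y0 + (0) * y1 + (1) * y2 + (-1) * y3) * ((0) * y0 + (2) * y1 + (0) * y2 + (0) * y3) - ((0) * y0 + (1) * y1 + (0) * y2 + (-1) * y3) * ((0) * y0 + (0) * y1 + (3) * y2 + (0) * y3))
      - ((A01 + A02 - A03) * y0 + (-1 / 3 * A12 - 1 / 3 * A13 - 1 / 3 * A21 - 1 / 3 * A23 - A30 - 1 / 3 * A31 - 1 / 3 * A32 - 1 / 3 * B123) * y1 + (0) * y2 + (A30) * y3) * (((0) * y0 + (0) * y1 + (1) * y2 + (-1) * y3) * ((1) * y0 + (0) * y1 + (0) * y2 + (0) * y3) - ((1) * y0 + (0) * y1 + (0) * y2 + (-1) * y3) * ((0) * y0 + (0) * y1 + (3) * y2 + (0) * y3))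
      + ((A01 + A02 - 2 * A03) * y0 + (0) * y1 + (0) * y2 + (0) * y3) * (((0) * y0 + (1) * y1 + (0) * y2 + (-1) * y3) * ((1) * y0 + (0) * y1 + (0) * y2 + (0) * y3) - ((1) * y0 + (0) * y1 + (0) * y2 + (-1) * y3) * ((0) * y0 + (2) * y1 + (0) * y2 + (0) * y3))
      = A01 * y0 ^ 2 * y1 + A02 * y0 ^ 2 * y2 + A03 * y0 ^ 2 * y3 + A10 * y1 ^ 2 * y0
      + A12 * y1 ^ 2 * y2 + A13 * y1 ^ 2 * y3 + A20 * y2 ^ 2 * y0 + A21 * y2 ^ 2 * y1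
      + A23 * y2 ^ 2 * y3 + A30 * y3 ^ 2 * y0 + A31 * y3 ^ 2 * y1 + A32 * y3 ^ 2 * y2
      + B012 * y0 * y1 * y2 + B013 * y0 * y1 * y3 + B023 * y0 * y2 * y3 + B123 * y1 * y2 * y3
      - (A01 + A02 + A03 + A10 + A12 + A13 + A20 + A21 + A23 + A30 + A31 + A32 + B012 + B013 + B023 + B123) * (y0 * y1 * y2) := by
  ring

/-- the representation from a normal form of the cubic in adapted coordinates -/
theorem pfaff_of_coeffs (F : MvPolynomial (Fin 4) k) (ξ0 ξ1 ξ2 ξ3 : Module.Dual k (Fin 4 → k))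
    (A01 A02 A03 A10 A12 A13 A20 A21 A23 A30 A31 A32 B012 B013 B023 B123 : k)
    (hs : A01 + A02 + A03 + A10 + A12 + A13 + A20 + A21 + A23 + A30 + A31 + A32 + B012 + B013 + B023 + B123 = 0)
    (hFx : ∀ x : Fin 4 → k, eval x F =
      A01 * ξ0 x ^ 2 * ξ1 x + A02 * ξ0 x ^ 2 * ξ2 x + A03 * ξ0 x ^ 2 * ξ3 x + A10 * ξ1 x ^ 2 * ξ0 x
      + A12 * ξ1 x ^ 2 * ξ2 x + A13 * ξ1 x ^ 2 * ξ3 x + A20 * ξ2 x ^ 2 * ξ0 x + A21 * ξ2 x ^ 2 * ξ1 x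
      + A23 * ξ2 x ^ 2 * ξ3 x + A30 * ξ3 x ^ 2 * ξ0 x + A31 * ξ3 x ^ 2 * ξ1 x + A32 * ξ3 x ^ 2 * ξ2 x
      + B012 * ξ0 x * ξ1 x * ξ2 x + B013 * ξ0 x * ξ1 x * ξ3 x + B023 * ξ0 x * ξ2 x * ξ3 x + B123 * ξ1 x * ξ2 x * ξ3 x) :
    ∃ M : Matrix (Fin 6) (Fin 6) (MvPolynomial (Fin 4) k), (∀ i j, (M i j).IsHomogeneous 1) ∧
      M.transpose = -M ∧ (∀ i, M i i = 0) ∧ ∃ c : k, c ≠ 0 ∧ M.det = C c * F ^ 2 := by
  refine ⟨M6 (linPoly (lin4 ξ0 ξ1 ξ2 ξ3 (1) (0) (0) (-1))) (linPoly (lin4 ξ0 ξ1 ξ2 ξ3 (0) (1) (0) (-1)))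
    (linPoly (lin4 ξ0 ξ1 ξ2 ξ3 (0) (0) (1) (-1))) (linPoly (lin4 ξ0 ξ1 ξ2 ξ3 (1) (0) (0) (0)))
    (linPoly (lin4 ξ0 ξ1 ξ2 ξ3 (0) (2) (0) (0))) (linPoly (lin4 ξ0 ξ1 ξ2 ξ3 (0) (0) (3) (0)))
    (linPoly (lin4 ξ0 ξ1 ξ2 ξ3 (0) (1) (-1) (0)))
    (linPoly (lin4 ξ0 ξ1 ξ2 ξ3 (2 * A01 + A02 - 2 * A03) (A10 - 2 * A12 + A13) (-A20 - 3 * A21 - A23) (6 * A03 + A12 + A13 + A21 + A23 + 5 * A30 + 4 * A31 + 3 * A32 + 3 * B013 + 2 * B023 + B123)))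
    (linPoly (lin4 ξ0 ξ1 ξ2 ξ3 (0) (-2 * A12 + A13) (-3 * A21 - A23) (6 * A30 + 3 * A31 + 2 * A32)))
    (linPoly (lin4 ξ0 ξ1 ξ2 ξ3 (A01 + A02 + A03 + 1 / 3 * A12 + 1 / 3 * A13 + 1 / 3 * A21 + 1 / 3 * A23 - A30 + 1 / 3 * A31 + 1 / 3 * A32 + B013 + B023 + 1 / 3 * B123) (-A12) (-A21) (3 * A30 + A31 + A32)))
    (linPoly (lin4 ξ0 ξ1 ξ2 ξ3 (A01 + A02 - A03) (-1 / 3 * A12 - 1 / 3 * A13 - 1 / 3 * A21 - 1 / 3 * A23 - A30 - 1 / 3 * A31 - 1 / 3 * A32 - 1 / 3 * B123) (0) (A30)))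
    (linPoly (lin4 ξ0 ξ1 ξ2 ξ3 (A01 + A02 - 2 * A03) (0) (0) (0))),
    fun r s => M6_hom (linPoly_homog _) (linPoly_homog _) (linPoly_homog _) (linPoly_homog _)
      (linPoly_homog _) (linPoly_homog _) (linPoly_homog _) (linPoly_homog _) (linPoly_homog _)
      (linPoly_homog _) (linPoly_homog _) (linPoly_homog _) r s,
    M6_transpose _ _ _ _ _ _ _ _ _ _ _ _, fun r => M6_diag _ _ _ _ _ _ _ _ _ _ _ _ r, 1, one_ne_zero, ?_⟩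
  rw [M6_det, C_1, one_mul]
  congr 1
  apply MvPolynomial.funext
  intro x
  simp only [map_add, map_sub, map_mul, eval_lin4]
  rw [hFx x]
  linear_combination pf_identity (ξ0 x) (ξ1 x) (ξ2 x) (ξ3 x) A01 A02 A03 A10 A12 A13 A20 A21 A23 A30 A31 A32 B012 B013 B023 B123
    - (ξ0 x * ξ1 x * ξ2 x) * hs

end

end Groth.Agent.H91.Pf
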