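import Groth.Agent.H91.Pf5

/-!
From five points in general position on a cubic surface to a linear Pfaffian representation.
-/

namespace Groth.Agent.H91.Pf

open MvPolynomial Groth.Agent.H91.CubicK Groth.Agent.H91.Polar Groth.Agent.H91.TPt

set_option linter.unusedSectionVars false
set_option linter.unusedVariables false

noncomputable section

variable {k : Type*} [Field k] [CharZero k]

theorem li4_coeff {V : Type*} [AddCommGroup V] [Module k V] {v0 v1 v2 v3 : V}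
    (h : LinearIndependent k ![v0, v1, v2, v3]) (c0 c1 c2 c3 : k)
    (hrel : c0 • v0 + c1 • v1 + c2 • v2 + c3 • v3 = 0) : c3 = 0 := by
  have h' := Fintype.linearIndependent_iff.mp h ![c0, c1, c2, c3] (by
    simpa [Fin.sum_univ_four] using hrel) 3
  simpa using h'

set_option maxHeartbeats 1000000 in
theorem pfaffian_rep (F : MvPolynomial (Fin 4) k) (hF : F.IsHomogeneous 3)
    (p : Fin 5 → (Fin 4 → k)) (hp : ∀ j : Fin 5, eval (p j) F = 0)
    (hLI : ∀ j : Fin 5, LinearIndependent k (fun i : Fin 4 => p (j.succAbove i))) :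
    ∃ M : Matrix (Fin 6) (Fin 6) (MvPolynomial (Fin 4) k), (∀ i j, (M i j).IsHomogeneous 1) ∧
      M.transpose = -M ∧ (∀ i, M i i = 0) ∧ ∃ c : k, c ≠ 0 ∧ M.det = C c * F ^ 2 := by
  classical
  have l0 : LinearIndependent k ![p 1, p 2, p 3, p 4] := by
    have h := hLI 0
    have e : (fun i : Fin 4 => p ((0 : Fin 5).succAbove i)) = ![p 1, p 2, p 3, p 4] := by
      funext i; fin_cases i <;> rfl
    rw [e] at h; exact h
  have l1 : LinearIndependent k ![p 0, p 2, p 3, p 4] := by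
    have h := hLI 1
    have e : (fun i : Fin 4 => p ((1 : Fin 5).succAbove i)) = ![p 0, p 2, p 3, p 4] := by
      funext i; fin_cases i <;> rfl
    rw [e] at h; exact h
  have l2 : LinearIndependent k ![p 0, p 1, p 3, p 4] := by
    have h := hLI 2
    have e : (fun i : Fin 4 => p ((2 : Fin 5).succAbove i)) = ![p 0, p 1, p 3, p 4] := by
      funext i; fin_cases i <;> rfl
    rw [e] at h; exact h
  have l3 : LinearIndependent k ![p 0, p 1, p 2, p 4] := by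
    have h := hLI 3
    have e : (fun i : Fin 4 => p ((3 : Fin 5).succAbove i)) = ![p 0, p 1, p 2, p 4] := by
      funext i; fin_cases i <;> rfl
    rw [e] at h; exact h
  have l4 : LinearIndependent k ![p 0, p 1, p 2, p 3] := by
    have h := hLI 4
    have e : (fun i : Fin 4 => p ((4 : Fin 5).succAbove i)) = ![p 0, p 1, p 2, p 3] := by
      funext i; fin_cases i <;> rfl
    rw [e] at h; exact h
  have hcard : Fintype.card (Fin 4) = Module.finrank k (Fin 4 → k) := by simp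
  obtain ⟨B₀, hB₀⟩ : ∃ B : Module.Basis (Fin 4) k (Fin 4 → k), ⇑B = ![p 0, p 1, p 2, p 3] :=
    ⟨_, coe_basisOfLinearIndependentOfCardEqFinrank l4 hcard⟩
  have hexp : ∀ x : Fin 4 → k, x = B₀.repr x 0 • p 0 + B₀.repr x 1 • p 1 + B₀.repr x 2 • p 2
      + B₀.repr x 3 • p 3 := by
    intro x
    have h := B₀.sum_repr x
    rw [Fin.sum_univ_four, hB₀] at h
    exact h.symm
  have hsum := hexp (p 4)
  generalize hc0 : B₀.repr (p 4) 0 = c0 at hsum
  generalize hc1 : B₀.repr (p 4) 1 = c1 at hsum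
  generalize hc2 : B₀.repr (p 4) 2 = c2 at hsum
  generalize hc3 : B₀.repr (p 4) 3 = c3 at hsum
  have hc0n : c0 ≠ 0 := by
    intro h0
    rw [h0, zero_smul, zero_add] at hsum
    have h := li4_coeff l0 c1 c2 c3 (-1) (by rw [hsum]; module)
    norm_num at h
  have hc1n : c1 ≠ 0 := by
    intro h0
    rw [h0, zero_smul, add_zero] at hsum
    have h := li4_coeff l1 c0 c2 c3 (-1) (by rw [hsum]; module)
    norm_num at h
  have hc2n : c2 ≠ 0 := by
    intro h0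
    rw [h0, zero_smul, add_zero] at hsum
    have h := li4_coeff l2 c0 c1 c3 (-1) (by rw [hsum]; module)
    norm_num at h
  have hc3n : c3 ≠ 0 := by
    intro h0
    rw [h0, zero_smul, add_zero] at hsum
    have h := li4_coeff l3 c0 c1 c2 (-1) (by rw [hsum]; module)
    norm_num at h
  obtain ⟨ξ0, hξ0⟩ : ∃ ξ : Module.Dual k (Fin 4 → k), ∀ x, ξ x = c0⁻¹ * B₀.repr x 0 :=
    ⟨c0⁻¹ • B₀.coord 0, fun x => by simp [Module.Basis.coord_apply]⟩
  obtain ⟨ξ1, hξ1⟩ : ∃ ξ : Module.Dual k (Fin 4 → k), ∀ x, ξ x = c1⁻¹ * B₀.repr x 1 :=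
    ⟨c1⁻¹ • B₀.coord 1, fun x => by simp [Module.Basis.coord_apply]⟩
  obtain ⟨ξ2, hξ2⟩ : ∃ ξ : Module.Dual k (Fin 4 → k), ∀ x, ξ x = c2⁻¹ * B₀.repr x 2 :=
    ⟨c2⁻¹ • B₀.coord 2, fun x => by simp [Module.Basis.coord_apply]⟩
  obtain ⟨ξ3, hξ3⟩ : ∃ ξ : Module.Dual k (Fin 4 → k), ∀ x, ξ x = c3⁻¹ * B₀.repr x 3 :=
    ⟨c3⁻¹ • B₀.coord 3, fun x => by simp [Module.Basis.coord_apply]⟩
  obtain ⟨P0, hP0⟩ : ∃ P : Fin 4 → k, P = c0 • p 0 := ⟨_, rfl⟩
  obtain ⟨P1, hP1⟩ : ∃ P : Fin 4 → k, P = c1 • p 1 := ⟨_, rfl⟩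
  obtain ⟨P2, hP2⟩ : ∃ P : Fin 4 → k, P = c2 • p 2 := ⟨_, rfl⟩
  obtain ⟨P3, hP3⟩ : ∃ P : Fin 4 → k, P = c3 • p 3 := ⟨_, rfl⟩
  have hrep : ∀ x : Fin 4 → k,
      x = ξ0 x • P0 + (ξ1 x • P1 + (ξ2 x • P2 + ξ3 x • P3)) := by
    intro x
    have e : ∀ (c r : k) (v : Fin 4 → k), c ≠ 0 → (c⁻¹ * r) • (c • v) = r • v := by
      intro c r v hc
      rw [smul_smul, mul_assoc, mul_comm r c, ← mul_assoc, inv_mul_cancel₀ hc, one_mul]
    rw [hP0, hP1, hP2, hP3, hξ0, hξ1, hξ2, hξ3, e _ _ _ hc0n, e _ _ _ hc1n, e _ _ _ hc2n,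
      e _ _ _ hc3n, ← add_assoc, ← add_assoc]
    exact hexp x
  have hFP0 : eval P0 F = 0 := by rw [hP0, eval_smul hF, hp, mul_zero]
  have hFP1 : eval P1 F = 0 := by rw [hP1, eval_smul hF, hp, mul_zero]
  have hFP2 : eval P2 F = 0 := by rw [hP2, eval_smul hF, hp, mul_zero]
  have hFP3 : eval P3 F = 0 := by rw [hP3, eval_smul hF, hp, mul_zero]
  have hFsum : eval (P0 + (P1 + (P2 + P3))) F = 0 := by
    have h : P0 + (P1 + (P2 + P3)) = p 4 := by
      rw [hsum, hP0, hP1, hP2, hP3]; abel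
    rw [h]; exact hp 4
  have hs := expand4 hF P0 P1 P2 P3 1 1 1 1
  simp only [one_smul] at hs
  rw [hFsum, hFP0, hFP1, hFP2, hFP3] at hs
  refine pfaff_of_coeffs F ξ0 ξ1 ξ2 ξ3
    (3 * T F P0 P0 P1) (3 * T F P0 P0 P2) (3 * T F P0 P0 P3) (3 * T F P0 P1 P1)
    (3 * T F P1 P1 P2) (3 * T F P1 P1 P3) (3 * T F P0 P2 P2) (3 * T F P1 P2 P2)
    (3 * T F P2 P2 P3) (3 * T F P0 P3 P3) (3 * T F P1 P3 P3) (3 * T F P2 P3 P3)
    (6 * T F P0 P1 P2) (6 * T F P0 P1 P3) (6 * T F P0 P2 P3) (6 * T F P1 P2 P3)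
    (by linear_combination (-1 : k) * hs) ?_
  intro x
  have hx : eval x F = eval (ξ0 x • P0 + (ξ1 x • P1 + (ξ2 x • P2 + ξ3 x • P3))) F :=
    congrArg (fun v => eval v F) (hrep x)
  rw [hx, expand4 hF, hFP0, hFP1, hFP2, hFP3]
  ring

end

end Groth.Agent.H91.Pf
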