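import Groth.Agent.H91.CubicK2

/-!
Smooth plane cubics over a field of characteristic zero: flexes, the harmonic reflection
attached to a flex, and the projective automorphism exchanging two flexes.
-/

namespace Groth.Agent.H91.PlaneCubic

open MvPolynomial Groth.Agent.H91.CubicK

set_option linter.unusedSectionVars false
set_option linter.unusedVariables false

variable {K : Type*} [Field K] [CharZero K]

/-- substitution by a square matrix multiplies `f` by `c` iff it does so pointwise -/
theorem aeval_matrix_iff' {n : ℕ} (f : MvPolynomial (Fin n) K) (A : Matrix (Fin n) (Fin n) K)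
    (c : K) :
    aeval (fun i : Fin n => ∑ j : Fin n, C (A i j) * X j) f = C c * f ↔
      ∀ v : Fin n → K, eval (A.mulVec v) f = c * eval v f := by
  constructor
  · intro h v
    rw [← eval_aeval_matrix', h, map_mul, eval_C]
  · intro h
    apply MvPolynomial.funext
    intro v
    rw [eval_aeval_matrix', h, map_mul, eval_C]

/-- the tangent functional `y ↦ T(e,e,y)` -/
noncomputable def aT (f : MvPolynomial (Fin 3) K) (e : Fin 3 → K) :
    Module.Dual K (Fin 3 → K) where
  toFun y := T f e e y
  map_add' y z := T_add_right f e e y z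
  map_smul' c y := by simp [T_smul_right]

theorem aT_apply (f : MvPolynomial (Fin 3) K) (e y : Fin 3 → K) : aT f e y = T f e e y := rfl

/-- the functional `y ↦ T(e,y,n)` -/
noncomputable def bT (f : MvPolynomial (Fin 3) K) (e n : Fin 3 → K) :
    Module.Dual K (Fin 3 → K) where
  toFun y := T f e y n
  map_add' y z := T_add_mid f e y z n
  map_smul' c y := by simp [T_smul_mid]

theorem bT_apply (f : MvPolynomial (Fin 3) K) (e n y : Fin 3 → K) : bT f e n y = T f e y n := rfl

/-- smoothness of the plane curve -/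
def Smooth (f : MvPolynomial (Fin 3) K) : Prop :=
  ∀ v : Fin 3 → K, v ≠ 0 → eval v f = 0 → ∃ i : Fin 3, eval v (pderiv i f) ≠ 0

/-- flexes, as in the statements -/
def IsFlex (f : MvPolynomial (Fin 3) K) (v : Fin 3 → K) : Prop :=
  ∃ w : Fin 3 → K, LinearIndependent K ![v, w] ∧
    ∀ t : K, eval (v + t • w) f = t ^ 3 * eval w f

variable {f : MvPolynomial (Fin 3) K}

theorem aT_ne_zero (hf : f.IsHomogeneous 3) (hsm : Smooth f) {e : Fin 3 → K} (he : e ≠ 0)
    (hfe : eval e f = 0) : aT f e ≠ 0 := by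
  intro h
  exact no_sing hf hsm e he (fun x => by rw [← aT_apply, h]; rfl)

theorem finrank_ker_aT (hf : f.IsHomogeneous 3) (hsm : Smooth f) {e : Fin 3 → K} (he : e ≠ 0)
    (hfe : eval e f = 0) : Module.finrank K (LinearMap.ker (aT f e)) = 2 := by
  have := Module.Dual.finrank_ker_add_one_of_ne_zero (aT_ne_zero hf hsm he hfe)
  rw [Module.finrank_fin_fun] at this
  omega

/-- a smooth plane cubic contains no line -/
theorem no_line [IsAlgClosed K] (hf : f.IsHomogeneous 3) (hsm : Smooth f)
    (b1 b2 : Fin 3 → K) (hind : ∀ s t : K, s • b1 + t • b2 = 0 → s = 0 ∧ t = 0)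
    (h : ∀ s t : K, eval (s • b1 + t • b2) f = 0) : False := by
  classical
  have hli : LinearIndependent K ![b1, b2] := LinearIndependent.pair_iff.mpr hind
  have hr : Module.finrank K (Submodule.span K (Set.range ![b1, b2])) = 2 := by
    rw [finrank_span_eq_card hli]; simp
  have hmem : ∀ u ∈ Submodule.span K (Set.range ![b1, b2]), ∃ s t : K, u = s • b1 + t • b2 := by
    intro u hu
    obtain ⟨c, rfl⟩ := (Submodule.mem_span_range_iff_exists_fun K).mp hu
    exact ⟨c 0, c 1, by rw [Fin.sum_univ_two]; simp⟩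
  have hvan : ∀ u ∈ Submodule.span K (Set.range ![b1, b2]), eval u f = 0 := by
    intro u hu
    obtain ⟨s, t, rfl⟩ := hmem u hu
    exact h s t
  have hb1 : b1 ∈ Submodule.span K (Set.range ![b1, b2]) := Submodule.subset_span ⟨0, rfl⟩
  have hb2 : b2 ∈ Submodule.span K (Set.range ![b1, b2]) := Submodule.subset_span ⟨1, rfl⟩
  obtain ⟨n, hn⟩ : ∃ n, n ∉ Submodule.span K (Set.range ![b1, b2]) := by
    by_contra hcon
    push Not at hcon
    have : Submodule.span K (Set.range ![b1, b2]) = ⊤ := Submodule.eq_top_iff'.mpr hcon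
    rw [this, finrank_top, Module.finrank_fin_fun] at hr
    omega
  have htop : Submodule.span K (Set.range ![b1, b2]) ⊔ Submodule.span K {n} = ⊤ := by
    apply Submodule.eq_top_of_finrank_eq
    have hlt : Submodule.span K (Set.range ![b1, b2]) <
        Submodule.span K (Set.range ![b1, b2]) ⊔ Submodule.span K {n} := by
      refine lt_of_le_of_ne le_sup_left (fun heq => hn ?_)
      rw [heq]
      exact Submodule.mem_sup_right (Submodule.mem_span_singleton_self n)
    have h1 := Submodule.finrank_lt_finrank_of_lt hlt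
    have h2 := Submodule.finrank_le
      (Submodule.span K (Set.range ![b1, b2]) ⊔ Submodule.span K {n})
    rw [Module.finrank_fin_fun] at h2 ⊢
    rw [hr] at h1
    omega
  obtain ⟨s, t, hst, hq⟩ := quad_zero (T f n b1 b1) (T f n b1 b2) (T f n b2 b2)
  have hu0 : s • b1 + t • b2 ≠ 0 := by
    intro h0
    obtain ⟨hs, ht⟩ := hind s t h0
    rcases hst with h' | h'
    · exact h' hs
    · exact h' ht
  have hu0mem : s • b1 + t • b2 ∈ Submodule.span K (Set.range ![b1, b2]) :=
    Submodule.add_mem _ (Submodule.smul_mem _ _ hb1) (Submodule.smul_mem _ _ hb2)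
  have hn0 : T f (s • b1 + t • b2) (s • b1 + t • b2) n = 0 := by
    rw [T_comm23, T_comm12, quad_expand]
    exact hq
  apply no_sing hf hsm _ hu0
  intro x
  have hx : x ∈ Submodule.span K (Set.range ![b1, b2]) ⊔ Submodule.span K {n} := by
    rw [htop]; trivial
  obtain ⟨y, hy, m, hm, rfl⟩ := Submodule.mem_sup.mp hx
  obtain ⟨c, rfl⟩ := Submodule.mem_span_singleton.mp hm
  rw [T_add_right, T_smul_right, hn0, (line_cond hf _ hvan hu0mem hy).1]
  ring

theorem flex_coeffs (hf : f.IsHomogeneous 3) {v w : Fin 3 → K}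
    (h : ∀ t : K, eval (v + t • w) f = t ^ 3 * eval w f) :
    eval v f = 0 ∧ T f v v w = 0 ∧ T f v w w = 0 := by
  have h' : ∀ t : K, t ^ 3 * 0 + t ^ 2 * (3 * T f w w v) + t * (3 * T f w v v) + eval v f = 0 := by
    intro t
    have := h t
    rw [show v + t • w = t • w + v from add_comm _ _, eval_expand hf] at this
    linear_combination this
  obtain ⟨h0, h1, h2, -⟩ := cubic_coeffs h'
  have h1' := (mul_eq_zero.mp h1).resolve_left three_ne_zero
  have h2' := (mul_eq_zero.mp h2).resolve_left three_ne_zero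
  refine ⟨h0, ?_, ?_⟩
  · rw [T_comm23, T_comm12]; exact h1'
  · rw [T_comm12, T_comm23]; exact h2'

/-- the tangent line at a flex is spanned by the flex and the direction vector -/
theorem flex_ker_mem (hf : f.IsHomogeneous 3) (hsm : Smooth f) {v w : Fin 3 → K} (hv : v ≠ 0)
    (hli : LinearIndependent K ![v, w])
    (h : ∀ t : K, eval (v + t • w) f = t ^ 3 * eval w f) {u : Fin 3 → K}
    (hu : aT f v u = 0) : ∃ x y : K, u = x • v + y • w := by
  obtain ⟨hfv, h1, h2⟩ := flex_coeffs hf h
  have hker := finrank_ker_aT hf hsm hv hfv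
  have hvk : v ∈ LinearMap.ker (aT f v) := by
    rw [LinearMap.mem_ker, aT_apply, ← eval_eq_T hf, hfv]
  have hwk : w ∈ LinearMap.ker (aT f v) := by
    rw [LinearMap.mem_ker, aT_apply, h1]
  have hspan : Submodule.span K (Set.range ![v, w]) = LinearMap.ker (aT f v) := by
    apply Submodule.eq_of_le_of_finrank_le
    · rw [Submodule.span_le]
      rintro x ⟨j, rfl⟩
      fin_cases j
      exacts [hvk, hwk]
    · rw [hker, finrank_span_eq_card hli]
      simp
  have : u ∈ Submodule.span K (Set.range ![v, w]) := by rw [hspan]; exact hu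
  obtain ⟨c, rfl⟩ := (Submodule.mem_span_range_iff_exists_fun K).mp this
  exact ⟨c 0, c 1, by rw [Fin.sum_univ_two]; simp⟩

/-- reflection data of a flex -/
theorem flex_data (hf : f.IsHomogeneous 3) (hsm : Smooth f) {v : Fin 3 → K} (hv : v ≠ 0)
    (hflex : IsFlex f v) :
    eval v f = 0 ∧ ∃ l : Module.Dual K (Fin 3 → K), l v = 2 ∧
      ∀ y, T f v y y = aT f v y * l y := by
  obtain ⟨w, hli, h⟩ := hflex
  obtain ⟨hfv, h1, h2⟩ := flex_coeffs hf h
  refine ⟨hfv, ?_⟩
  have ha := aT_ne_zero hf hsm hv hfv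
  have hvvv : T f v v v = 0 := by rw [← eval_eq_T hf, hfv]
  have hBk : ∀ p, aT f v p = 0 → T f v p p = 0 := by
    intro p hp
    obtain ⟨x, y, rfl⟩ := flex_ker_mem hf hsm hv hli h hp
    rw [quad_expand, hvvv, h1, h2]
    ring
  obtain ⟨n0, hn0⟩ : ∃ n0, aT f v n0 ≠ 0 := by
    by_contra hcon
    push Not at hcon
    exact ha (LinearMap.ext hcon)
  have hn : aT f v ((aT f v n0)⁻¹ • n0) = 1 := by
    rw [map_smul, smul_eq_mul, inv_mul_cancel₀ hn0]
  generalize (aT f v n0)⁻¹ • n0 = n at hn
  have hav : aT f v v = 0 := by rw [aT_apply, hvvv]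
  refine ⟨(2 : K) • bT f v n - (T f v n n) • aT f v, ?_, ?_⟩
  · simp only [LinearMap.sub_apply, LinearMap.smul_apply, smul_eq_mul, bT_apply, hav]
    rw [← aT_apply, hn]
    ring
  · intro y
    have hp : aT f v ((1 : K) • y + (-(aT f v y)) • n) = 0 := by
      rw [map_add, map_smul, map_smul, hn, smul_eq_mul, smul_eq_mul]
      ring
    have := hBk _ hp
    rw [quad_expand] at this
    simp only [LinearMap.sub_apply, LinearMap.smul_apply, smul_eq_mul, bT_apply]
    linear_combination this

/-- the harmonic reflection -/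
noncomputable def refl (l : Module.Dual K (Fin 3 → K)) (e : Fin 3 → K) :
    (Fin 3 → K) →ₗ[K] (Fin 3 → K) :=
  LinearMap.id - l.smulRight e

theorem refl_apply (l : Module.Dual K (Fin 3 → K)) (e y : Fin 3 → K) :
    refl l e y = y - l y • e := rfl

theorem refl_refl (l : Module.Dual K (Fin 3 → K)) (e : Fin 3 → K) (hl : l e = 2)
    (y : Fin 3 → K) : refl l e (refl l e y) = y := by
  rw [refl_apply, refl_apply]
  have : l (y - l y • e) = -(l y) := by rw [map_sub, map_smul, hl, smul_eq_mul]; ring
  rw [this, neg_smul]; abel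

theorem eval_refl (hf : f.IsHomogeneous 3) {e : Fin 3 → K} (hfe : eval e f = 0)
    (l : Module.Dual K (Fin 3 → K)) (hbl : ∀ y, T f e y y = aT f e y * l y) (y : Fin 3 → K) :
    eval (refl l e y) f = eval y f := by
  have := eval_expand hf e y (-(l y))
  rw [show (-(l y)) • e + y = refl l e y by rw [refl_apply, neg_smul]; abel] at this
  rw [this, hfe, hbl, ← aT_apply]
  ring

/-- on the tangent line at a flex the curve has only the flex -/
theorem flex_ker [IsAlgClosed K] (hf : f.IsHomogeneous 3) (hsm : Smooth f) {e : Fin 3 → K}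
    (he : e ≠ 0) (hF : IsFlex f e) {u : Fin 3 → K} (hu : aT f e u = 0) (hfu : eval u f = 0) :
    ∃ x : K, u = x • e := by
  obtain ⟨w, hli, h⟩ := hF
  obtain ⟨hfe, h1, h2⟩ := flex_coeffs hf h
  obtain ⟨x, y, rfl⟩ := flex_ker_mem hf hsm he hli h hu
  by_cases hy : y = 0
  · exact ⟨x, by rw [hy, zero_smul, add_zero]⟩
  · exfalso
    rw [cube_expand hf, hfe, h1, h2] at hfu
    have hfw : eval w f = 0 := by
      have : y ^ 3 * eval w f = 0 := by linear_combination hfu
      exact (mul_eq_zero.mp this).resolve_left (pow_ne_zero 3 hy)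
    apply no_line hf hsm e w (LinearIndependent.pair_iff.mp hli)
    intro s t
    rw [cube_expand hf, hfe, h1, h2, hfw]
    ring

/-- the key relation between the reflections of two distinct flexes -/
theorem flex_pair [IsAlgClosed K] (hf : f.IsHomogeneous 3) (hsm : Smooth f) {e1 e2 : Fin 3 → K}
    (h1 : e1 ≠ 0) (h2 : e2 ≠ 0) (hnp : ∀ s t : K, s • e1 + t • e2 = 0 → s = 0 ∧ t = 0)
    (hF1 : IsFlex f e1) (hF2 : IsFlex f e2) (hfe1 : eval e1 f = 0)
    (l1 l2 : Module.Dual K (Fin 3 → K))
    (hb1 : ∀ y, T f e1 y y = aT f e1 y * l1 y) (hb2 : ∀ y, T f e2 y y = aT f e2 y * l2 y) :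
    l1 e2 * l2 e1 = 1 := by
  have e12 : aT f e2 e1 = aT f e1 e2 * l1 e2 := by
    rw [← hb1 e2, aT_apply, T_comm23, T_comm12]
  have e21 : aT f e1 e2 = aT f e2 e1 * l2 e1 := by
    rw [← hb2 e1, aT_apply, T_comm23, T_comm12]
  have hne : aT f e2 e1 ≠ 0 := by
    intro h0
    obtain ⟨x, hx⟩ := flex_ker hf hsm h2 hF2 h0 hfe1
    have := (hnp 1 (-x) (by rw [one_smul, hx, neg_smul]; abel)).1
    exact one_ne_zero this
  have : aT f e2 e1 * (1 - l1 e2 * l2 e1) = 0 := by
    linear_combination e12 + l1 e2 * e21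
  have := (mul_eq_zero.mp this).resolve_left hne
  linear_combination -this

/-- transitivity of the projective automorphisms on flexes -/
theorem flex_transitive [IsAlgClosed K] (hf : f.IsHomogeneous 3) (hsm : Smooth f)
    {v v' : Fin 3 → K} (hv : v ≠ 0) (hv' : v' ≠ 0) (hflex : IsFlex f v) (hflex' : IsFlex f v') :
    ∃ (A : Matrix (Fin 3) (Fin 3) K) (c d : K), IsUnit A.det ∧
      aeval (fun i : Fin 3 => ∑ j : Fin 3, C (A i j) * X j) f = C c * f ∧
      A.mulVec v = d • v' := by
  classical
  by_cases hnp : ∀ s t : K, s • v + t • v' = 0 → s = 0 ∧ t = 0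
  · obtain ⟨hfv, l1, hl1, hb1⟩ := flex_data hf hsm hv hflex
    obtain ⟨hfv', l2, hl2, hb2⟩ := flex_data hf hsm hv' hflex'
    have hab := flex_pair hf hsm hv hv' hnp hflex hflex' hfv l1 l2 hb1 hb2
    let S : (Fin 3 → K) →ₗ[K] (Fin 3 → K) := (refl l1 v).comp ((refl l2 v').comp (refl l1 v))
    have hS : ∀ y, S y = refl l1 v (refl l2 v' (refl l1 v y)) := fun y => rfl
    have hSS : S.comp S = LinearMap.id := by
      refine LinearMap.ext fun y => ?_
      rw [LinearMap.comp_apply, hS, hS, refl_refl l1 v hl1, refl_refl l2 v' hl2,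
        refl_refl l1 v hl1]
      rfl
    refine ⟨LinearMap.toMatrix' S, 1, l2 v, ?_, ?_, ?_⟩
    · have : LinearMap.toMatrix' S * LinearMap.toMatrix' S = 1 := by
        rw [← LinearMap.toMatrix'_comp, hSS, LinearMap.toMatrix'_id]
      have hdet := congrArg Matrix.det this
      rw [Matrix.det_mul, Matrix.det_one] at hdet
      exact IsUnit.of_mul_eq_one _ hdet
    · rw [aeval_matrix_iff']
      intro y
      rw [← Matrix.toLin'_apply, Matrix.toLin'_toMatrix', hS, eval_refl hf hfv l1 hb1,
        eval_refl hf hfv' l2 hb2, eval_refl hf hfv l1 hb1, one_mul]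
    · rw [← Matrix.toLin'_apply, Matrix.toLin'_toMatrix', hS]
      simp only [refl_apply, map_sub, map_smul, hl1]
      have : (1 - l1 v' * l2 v) = 0 := by rw [hab]; ring
      ext i
      simp only [Pi.sub_apply, Pi.smul_apply, smul_eq_mul]
      linear_combination (v i) * this
  · push Not at hnp
    obtain ⟨s, t, hst, hne⟩ := hnp
    have hs : s ≠ 0 := by
      intro hs
      rw [hs, zero_smul, zero_add] at hst
      rcases smul_eq_zero.mp hst with h | h
      · exact hne hs h
      · exact hv' h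
    refine ⟨1, 1, -(t / s), by simp, ?_, ?_⟩
    · rw [aeval_matrix_iff']
      intro y
      rw [Matrix.one_mulVec, one_mul]
    · rw [Matrix.one_mulVec]
      have : s • v = -(t • v') := eq_neg_of_add_eq_zero_left hst
      calc v = s⁻¹ • (s • v) := by rw [smul_smul, inv_mul_cancel₀ hs, one_smul]
        _ = -(t / s) • v' := by rw [this, smul_neg, smul_smul, neg_smul]; congr 2; field_simp

end Groth.Agent.H91.PlaneCubic
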