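import Groth.Agent.H91.PlaneCubic

/-!
Existence of flexes on a smooth plane cubic: two ternary polynomials vanishing at the origin have
a common nontrivial zero (Nullstellensatz and Krull's height theorem), the Hessian, and a second
flex obtained from the Weierstrass-type coordinates attached to a first flex.
-/

namespace Groth.Agent.H91.PlaneCubic

open MvPolynomial Groth.Agent.H91.CubicK

set_option linter.unusedSectionVars false
set_option linter.unusedVariables false

variable {K : Type*} [Field K] [CharZero K]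

section CommonZero

theorem height_origin_ge :
    (3 : ℕ∞) ≤
      (vanishingIdeal K {(0 : Fin 3 → K)} : Ideal (MvPolynomial (Fin 3) K)).height := by
  classical
  let φ1 : MvPolynomial (Fin 3) K →ₐ[K] MvPolynomial (Fin 3) K :=
    aeval (fun i : Fin 3 => if i = 0 then (0 : MvPolynomial (Fin 3) K) else X i)
  let φ2 : MvPolynomial (Fin 3) K →ₐ[K] MvPolynomial (Fin 3) K :=
    aeval (fun i : Fin 3 => if i = 2 then (X 2 : MvPolynomial (Fin 3) K) else 0)
  let φ3 : MvPolynomial (Fin 3) K →ₐ[K] K := aeval (0 : Fin 3 → K)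
  have h21 : φ2.comp φ1 = φ2 := by
    apply MvPolynomial.algHom_ext
    intro i
    fin_cases i <;> simp [φ1, φ2]
  have h32 : φ3.comp φ2 = φ3 := by
    apply MvPolynomial.algHom_ext
    intro i
    fin_cases i <;> simp [φ2, φ3]
  have hm : ∀ x, x ∈ (vanishingIdeal K {(0 : Fin 3 → K)} : Ideal (MvPolynomial (Fin 3) K)) ↔
      φ3 x = 0 := fun x => mem_vanishingIdeal_singleton_iff 0 x
  have e10 : φ1 (X 0) = 0 := by simp [φ1]
  have e11 : φ1 (X 1) = X 1 := by simp [φ1]
  have e21 : φ2 (X 1) = 0 := by simp [φ2]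
  have e22 : φ2 (X 2) = X 2 := by simp [φ2]
  have e32 : φ3 (X 2) = 0 := by simp [φ3]
  have lt01 : (⊥ : Ideal (MvPolynomial (Fin 3) K)) < RingHom.ker φ1 := by
    rw [bot_lt_iff_ne_bot]
    intro h
    have : (X 0 : MvPolynomial (Fin 3) K) ∈ RingHom.ker φ1 := by
      rw [RingHom.mem_ker]; exact e10
    rw [h, Ideal.mem_bot] at this
    exact X_ne_zero 0 this
  have lt12 : RingHom.ker φ1 < RingHom.ker φ2 := by
    refine lt_of_le_of_ne ?_ ?_
    · intro x hx
      rw [RingHom.mem_ker] at hx ⊢
      rw [← h21, AlgHom.comp_apply, hx, map_zero]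
    · intro h
      have : (X 1 : MvPolynomial (Fin 3) K) ∈ RingHom.ker φ2 := by
        rw [RingHom.mem_ker]; exact e21
      rw [← h, RingHom.mem_ker, e11] at this
      exact X_ne_zero 1 this
  have lt23 : RingHom.ker φ2 <
      (vanishingIdeal K {(0 : Fin 3 → K)} : Ideal (MvPolynomial (Fin 3) K)) := by
    refine lt_of_le_of_ne ?_ ?_
    · intro x hx
      rw [RingHom.mem_ker] at hx
      rw [hm, ← h32, AlgHom.comp_apply, hx, map_zero]
    · intro h
      have : (X 2 : MvPolynomial (Fin 3) K) ∈
          (vanishingIdeal K {(0 : Fin 3 → K)} : Ideal (MvPolynomial (Fin 3) K)) := by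
        rw [hm]; exact e32
      rw [← h, RingHom.mem_ker, e22] at this
      exact X_ne_zero 2 this
  haveI hp1 : (RingHom.ker φ1).IsPrime := RingHom.ker_isPrime φ1
  haveI hp2 : (RingHom.ker φ2).IsPrime := RingHom.ker_isPrime φ2
  have a1 := Ideal.height_add_one_le_of_lt_of_isPrime lt01
  have a2 := Ideal.height_add_one_le_of_lt_of_isPrime lt12
  have a3 := Ideal.height_add_one_le_of_lt_of_isPrime lt23
  calc (3 : ℕ∞) = 0 + 1 + 1 + 1 := by norm_num
    _ ≤ (⊥ : Ideal (MvPolynomial (Fin 3) K)).height + 1 + 1 + 1 := by gcongr; exact bot_le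
    _ ≤ (RingHom.ker φ1).height + 1 + 1 := by gcongr
    _ ≤ (RingHom.ker φ2).height + 1 := by gcongr
    _ ≤ _ := a3

/-- two ternary polynomials vanishing at the origin have a common nontrivial zero -/
theorem common_zero [IsAlgClosed K] (p q : MvPolynomial (Fin 3) K) (hp : eval 0 p = 0)
    (hq : eval 0 q = 0) : ∃ v : Fin 3 → K, v ≠ 0 ∧ eval v p = 0 ∧ eval v q = 0 := by
  classical
  by_contra hcon
  push Not at hcon
  have hIm : Ideal.span {p, q} ≤
      (vanishingIdeal K {(0 : Fin 3 → K)} : Ideal (MvPolynomial (Fin 3) K)) := by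
    rw [Ideal.span_le]
    rintro x (rfl | rfl)
    · exact (mem_vanishingIdeal_singleton_iff 0 _).mpr hp
    · exact (mem_vanishingIdeal_singleton_iff 0 _).mpr hq
  have hZ : zeroLocus K (Ideal.span {p, q}) ⊆ {(0 : Fin 3 → K)} := by
    intro v hv
    by_contra hv0
    have h1 : eval v p = 0 := hv p (Ideal.subset_span (by simp))
    have h2 : eval v q = 0 := hv q (Ideal.subset_span (by simp))
    exact hcon v hv0 h1 h2
  have hrad : (vanishingIdeal K {(0 : Fin 3 → K)} : Ideal (MvPolynomial (Fin 3) K)) ≤
      (Ideal.span {p, q}).radical := by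
    rw [← vanishingIdeal_zeroLocus_eq_radical (K := K)]
    exact vanishingIdeal_anti_mono hZ
  have hmin : (vanishingIdeal K {(0 : Fin 3 → K)} : Ideal (MvPolynomial (Fin 3) K)) ∈
      (Ideal.span {p, q}).minimalPrimes := by
    refine ⟨⟨inferInstance, hIm⟩, ?_⟩
    rintro P ⟨hP, hIP⟩ hPm
    exact hrad.trans (hP.radical_le_iff.mpr hIP)
  have hle : (vanishingIdeal K {(0 : Fin 3 → K)} : Ideal (MvPolynomial (Fin 3) K)).height ≤ 2 := by
    have := Ideal.height_le_card_of_mem_minimalPrimes_span_finset (s := {p, q})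
      (p := (vanishingIdeal K {(0 : Fin 3 → K)} : Ideal (MvPolynomial (Fin 3) K)))
      (by rw [Finset.coe_insert, Finset.coe_singleton]; exact hmin)
    refine this.trans ?_
    exact_mod_cast Finset.card_le_two
  have h32 := (height_origin_ge (K := K)).trans hle
  have : (3 : ℕ) ≤ 2 := by exact_mod_cast h32
  omega

end CommonZero

section Hessian

variable {f : MvPolynomial (Fin 3) K}

/-- linear functional in the first argument -/
noncomputable def cT (f : MvPolynomial (Fin 3) K) (y z : Fin 3 → K) :
    Module.Dual K (Fin 3 → K) where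
  toFun v := T f v y z
  map_add' u v := T_add_left f u v y z
  map_smul' c v := by simp [T_smul_left]

theorem cT_apply (f : MvPolynomial (Fin 3) K) (y z v : Fin 3 → K) : cT f y z v = T f v y z := rfl

theorem T_lin (f : MvPolynomial (Fin 3) K) (v y z : Fin 3 → K) :
    T f v y z = ∑ k, v k * T f (Pi.single k 1) y z := by
  classical
  have := congrArg (cT f y z) (pi_eq_sum_univ' v)
  rw [map_sum] at this
  simp only [map_smul, smul_eq_mul, cT_apply] at this
  exact this

/-- the matrix of second derivatives, with polynomial entries -/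
noncomputable def hessMat (f : MvPolynomial (Fin 3) K) :
    Matrix (Fin 3) (Fin 3) (MvPolynomial (Fin 3) K) :=
  Matrix.of fun i j => ∑ k, C (T f (Pi.single k 1) (Pi.single i 1) (Pi.single j 1)) * X k

theorem eval_hessMat_det (f : MvPolynomial (Fin 3) K) (v : Fin 3 → K) :
    eval v (hessMat f).det =
      (Matrix.of fun i j : Fin 3 => T f v (Pi.single i 1) (Pi.single j 1)).det := by
  rw [RingHom.map_det]
  congr 1
  ext i j
  simp only [RingHom.mapMatrix_apply, Matrix.map_apply, hessMat, Matrix.of_apply, map_sum,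
    map_mul, eval_C, eval_X]
  rw [T_lin f v]
  exact Finset.sum_congr rfl fun k _ => mul_comm _ _

theorem exists_flex [IsAlgClosed K] (hf : f.IsHomogeneous 3) (hsm : Smooth f) :
    ∃ v : Fin 3 → K, v ≠ 0 ∧ IsFlex f v := by
  classical
  have hf0 : eval 0 f = 0 := by
    have := eval_smul hf (0 : K) (0 : Fin 3 → K)
    simpa using this
  have hT0 : ∀ y z, T f 0 y z = 0 := by
    intro y z; rw [T_lin]; simp
  have hH0 : eval 0 (hessMat f).det = 0 := by
    rw [eval_hessMat_det]
    have : (Matrix.of fun i j : Fin 3 => T f 0 (Pi.single i 1) (Pi.single j 1)) = 0 := by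
      ext i j; simp [hT0]
    rw [this, Matrix.det_zero]
  obtain ⟨v, hv0, hfv, hHv⟩ := common_zero f (hessMat f).det hf0 hH0
  rw [eval_hessMat_det] at hHv
  obtain ⟨u, hu0, hu⟩ := Matrix.exists_mulVec_eq_zero_iff.mpr hHv
  have hrow : ∀ i, T f v (Pi.single i 1) u = 0 := by
    intro i
    have := congrFun hu i
    simp only [Matrix.mulVec, dotProduct, Matrix.of_apply, Pi.zero_apply] at this
    rw [T_comm23, T_comm12, T_lin]
    calc ∑ j, u j * T f (Pi.single j 1) v (Pi.single i 1)
        = ∑ j, T f v (Pi.single i 1) (Pi.single j 1) * u j := by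
          refine Finset.sum_congr rfl fun j _ => ?_
          rw [T_comm12 f (Pi.single j 1) v, T_comm23 f v (Pi.single j 1)]; ring
      _ = 0 := this
  have hvu : ∀ z, T f v z u = 0 := by
    intro z
    rw [T_comm12, T_lin]
    refine Finset.sum_eq_zero fun i _ => ?_
    rw [T_comm12, hrow, mul_zero]
  refine ⟨v, hv0, u, ?_, ?_⟩
  · rw [LinearIndependent.pair_iff]
    intro s t hst
    by_cases ht : t = 0
    · subst ht
      rw [zero_smul, add_zero] at hst
      exact ⟨(smul_eq_zero.mp hst).resolve_right hv0, rfl⟩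
    · exfalso
      have hu' : u = (-(s / t)) • v := by
        have h1 : t • u = -(s • v) := eq_neg_of_add_eq_zero_right hst
        calc u = t⁻¹ • (t • u) := by rw [smul_smul, inv_mul_cancel₀ ht, one_smul]
          _ = (-(s / t)) • v := by
            rw [h1, smul_neg, smul_smul, neg_smul]; congr 2; field_simp
      by_cases hs : s = 0
      · apply hu0; rw [hu', hs]; simp
      · apply no_sing hf hsm v hv0
        intro x
        have := hvu x
        rw [hu', T_smul_right] at this
        have hne : -(s / t) ≠ 0 := neg_ne_zero.mpr (div_ne_zero hs ht)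
        have h2 := (mul_eq_zero.mp this).resolve_left hne
        rw [T_comm23]; exact h2
  · intro t
    have e1 : T f u u v = 0 := by rw [T_comm23, T_comm12]; exact hvu u
    have e2 : T f u v v = 0 := by rw [T_comm12, T_comm23]; exact hvu v
    rw [show v + t • u = t • u + v from add_comm _ _, eval_expand hf, hfv, e1, e2]
    ring

end Hessian

end Groth.Agent.H91.PlaneCubic
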