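import Groth.Agent.H91.PlaneCubic2

/-!
A second flex on a smooth plane cubic, from the Weierstrass-type coordinates of a first flex.
-/

namespace Groth.Agent.H91.PlaneCubic

open MvPolynomial Groth.Agent.H91.CubicK

set_option linter.unusedSectionVars false
set_option linter.unusedVariables false

variable {K : Type*} [Field K] [CharZero K] {f : MvPolynomial (Fin 3) K}

/-- three vectors independent in the sense of coefficients span the space -/
theorem span_of_indep3 (b0 b1 b2 : Fin 3 → K)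
    (hind : ∀ s x z : K, s • b0 + (x • b1 + z • b2) = 0 → s = 0 ∧ x = 0 ∧ z = 0) (y : Fin 3 → K) :
    ∃ s x z : K, y = s • b0 + (x • b1 + z • b2) := by
  classical
  have hli : LinearIndependent K ![b0, b1, b2] := by
    rw [Fintype.linearIndependent_iff]
    intro g hg
    rw [Fin.sum_univ_three] at hg
    have hg' : g 0 • b0 + (g 1 • b1 + g 2 • b2) = 0 := by
      rw [← add_assoc]; simpa using hg
    obtain ⟨h0, h1, h2⟩ := hind _ _ _ hg'
    intro i
    fin_cases i
    exacts [h0, h1, h2]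
  let b := basisOfLinearIndependentOfCardEqFinrank hli (by simp)
  have hb : ∀ i, b i = ![b0, b1, b2] i := fun i => by
    simp [b, coe_basisOfLinearIndependentOfCardEqFinrank]
  have := b.sum_repr y
  rw [Fin.sum_univ_three, hb, hb, hb] at this
  refine ⟨b.repr y 0, b.repr y 1, b.repr y 2, ?_⟩
  have h' : (b.repr y) 0 • b0 + ((b.repr y) 1 • b1 + (b.repr y) 2 • b2) = y := by
    rw [← add_assoc]; simpa using this
  exact h'.symm

theorem second_flex [IsAlgClosed K] (hf : f.IsHomogeneous 3) (hsm : Smooth f) {e : Fin 3 → K}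
    (he : e ≠ 0) (hF : IsFlex f e) :
    ∃ Q : Fin 3 → K, Q ≠ 0 ∧ IsFlex f Q ∧ ∀ s t : K, s • e + t • Q = 0 → s = 0 ∧ t = 0 := by
  classical
  obtain ⟨hfe, l, hl, hbl⟩ := flex_data hf hsm he hF
  have ha := aT_ne_zero hf hsm he hfe
  have hae : aT f e e = 0 := by rw [aT_apply, ← eval_eq_T hf, hfe]
  have hl0 : l ≠ 0 := by
    intro h
    rw [h] at hl
    simp at hl
  have hkl : Module.finrank K (LinearMap.ker l) = 2 := by
    have := Module.Dual.finrank_ker_add_one_of_ne_zero hl0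
    rw [Module.finrank_fin_fun] at this
    omega
  have hka := finrank_ker_aT hf hsm he hfe
  obtain ⟨m1, hm1a, hm1l, hm10⟩ : ∃ m1, aT f e m1 = 0 ∧ l m1 = 0 ∧ m1 ≠ 0 := by
    have h1 := Submodule.finrank_sup_add_finrank_inf_eq (LinearMap.ker (aT f e)) (LinearMap.ker l)
    have h2 := Submodule.finrank_le (LinearMap.ker (aT f e) ⊔ LinearMap.ker l)
    rw [Module.finrank_fin_fun] at h2
    rw [hka, hkl] at h1
    have h3 : 0 < Module.finrank K ↥(LinearMap.ker (aT f e) ⊓ LinearMap.ker l) := by omega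
    obtain ⟨⟨x, hx⟩, hx0⟩ := Module.finrank_pos_iff_exists_ne_zero.mp h3
    exact ⟨x, hx.1, hx.2, fun h => hx0 (Subtype.ext h)⟩
  obtain ⟨m2, hm2l, hm2a⟩ : ∃ m2, l m2 = 0 ∧ aT f e m2 ≠ 0 := by
    by_contra hcon
    push Not at hcon
    have hle : LinearMap.ker l ≤ LinearMap.ker (aT f e) := fun x hx => hcon x hx
    have heq := Submodule.eq_of_le_of_finrank_eq hle (by rw [hkl, hka])
    have : e ∈ LinearMap.ker l := by rw [heq]; exact hae
    rw [LinearMap.mem_ker, hl] at this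
    exact two_ne_zero this
  -- the Weierstrass-type formula
  have hF3 : ∀ s x z : K, eval (s • e + (x • m1 + z • m2)) f =
      3 * aT f e m2 * z * s ^ 2 + (x ^ 3 * eval m1 f + 3 * x ^ 2 * z * T f m1 m1 m2 +
        3 * x * z ^ 2 * T f m1 m2 m2 + z ^ 3 * eval m2 f) := by
    intro s x z
    have hlu : l (x • m1 + z • m2) = 0 := by
      rw [map_add, map_smul, map_smul, hm1l, hm2l]; simp
    have hau : T f e e (x • m1 + z • m2) = z * aT f e m2 := by
      rw [← aT_apply, map_add, map_smul, map_smul, hm1a]; simp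
    rw [eval_expand hf, hfe, hbl, hlu, hau, cube_expand hf]
    ring
  have hc0 : eval m1 f ≠ 0 := by
    intro h0
    obtain ⟨x, hx⟩ := flex_ker hf hsm he hF hm1a h0
    have h2 : l m1 = 2 * x := by rw [hx, map_smul, hl, smul_eq_mul]; ring
    rw [hm1l] at h2
    have hx0 : x = 0 := (mul_eq_zero.mp h2.symm).resolve_left two_ne_zero
    apply hm10; rw [hx, hx0, zero_smul]
  have hind3 : ∀ s x z : K, s • e + (x • m1 + z • m2) = 0 → s = 0 ∧ x = 0 ∧ z = 0 := by
    intro s x z h
    have h1 := congrArg l h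
    rw [map_add, map_smul, map_add, map_smul, map_smul, hl, hm1l, hm2l, map_zero] at h1
    have hs : s = 0 := by simpa using h1
    have h2 := congrArg (aT f e) h
    rw [map_add, map_smul, map_add, map_smul, map_smul, hae, hm1a, map_zero] at h2
    have hz : z = 0 := by
      have : z * aT f e m2 = 0 := by simpa using h2
      exact (mul_eq_zero.mp this).resolve_right hm2a
    subst hs hz
    rw [zero_smul, zero_smul, add_zero, zero_add] at h
    exact ⟨rfl, (smul_eq_zero.mp h).resolve_right hm10, rfl⟩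
  have hspan3 := span_of_indep3 e m1 m2 hind3
  -- abbreviations
  obtain ⟨α, hαd⟩ : ∃ α, α = 3 * aT f e m2 := ⟨_, rfl⟩
  obtain ⟨c0, hc0d⟩ : ∃ c, c = eval m1 f := ⟨_, rfl⟩
  obtain ⟨c1, hc1d⟩ : ∃ c, c = T f m1 m1 m2 := ⟨_, rfl⟩
  obtain ⟨c2, hc2d⟩ : ∃ c, c = T f m1 m2 m2 := ⟨_, rfl⟩
  obtain ⟨c3, hc3d⟩ : ∃ c, c = eval m2 f := ⟨_, rfl⟩
  rw [← hαd, ← hc0d, ← hc1d, ← hc2d, ← hc3d] at hF3
  rw [← hc0d] at hc0
  have hα : α ≠ 0 := by rw [hαd]; exact mul_ne_zero three_ne_zero hm2a
  -- the root of the quartic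
  have hlead : 3 * c0 ^ 2 ≠ 0 := mul_ne_zero three_ne_zero (pow_ne_zero 2 hc0)
  have hPdeg : (Polynomial.C (3 * c0 ^ 2) * Polynomial.X ^ 4 +
      Polynomial.C (12 * c0 * c1) * Polynomial.X ^ 3 +
      Polynomial.C (18 * c0 * c2) * Polynomial.X ^ 2 + Polynomial.C (12 * c0 * c3) * Polynomial.X +
      Polynomial.C (12 * c1 * c3 - 9 * c2 ^ 2) : Polynomial K).natDegree = 4 := by
    compute_degree!
  obtain ⟨x0, hx0⟩ := IsAlgClosed.exists_root _
    (Polynomial.degree_ne_of_natDegree_ne (n := 0) (by rw [hPdeg]; norm_num))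
  simp only [Polynomial.IsRoot.def, Polynomial.eval_add, Polynomial.eval_mul, Polynomial.eval_C,
    Polynomial.eval_pow, Polynomial.eval_X] at hx0
  obtain ⟨G0, hG0⟩ : ∃ G, G = c0 * x0 ^ 3 + 3 * c1 * x0 ^ 2 + 3 * c2 * x0 + c3 := ⟨_, rfl⟩
  obtain ⟨G1, hG1⟩ : ∃ G, G = 3 * c0 * x0 ^ 2 + 6 * c1 * x0 + 3 * c2 := ⟨_, rfl⟩
  have hψ : G1 ^ 2 = 12 * G0 * (c0 * x0 + c1) := by
    rw [hG0, hG1]; linear_combination (-1 : K) * hx0
  obtain ⟨s0, hs0⟩ := IsAlgClosed.exists_eq_mul_self (-G0 / α)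
  have E1 : α * s0 ^ 2 + G0 = 0 := by
    have : α * (s0 * s0) = -G0 := by rw [← hs0]; field_simp
    linear_combination this
  have hQl : ∀ x z : K, l (x • m1 + z • m2) = 0 := by
    intro x z
    rw [map_add, map_smul, map_smul, hm1l, hm2l]; simp
  by_cases hs00 : s0 = 0
  · -- singular point: contradiction
    exfalso
    have hG00 : G0 = 0 := by rw [hs00] at E1; linear_combination E1
    have hG10 : G1 = 0 := by
      have : G1 ^ 2 = 0 := by rw [hψ, hG00]; ring
      exact pow_eq_zero_iff (two_ne_zero) |>.mp this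
    have hQ0 : x0 • m1 + (1 : K) • m2 ≠ 0 := by
      intro h
      have := (hind3 0 x0 1 (by rw [zero_smul, zero_add]; exact h)).2.2
      exact one_ne_zero this
    apply no_sing hf hsm _ hQ0
    intro y
    obtain ⟨s, x, z, rfl⟩ := hspan3 y
    have t1 : T f (x0 • m1 + (1 : K) • m2) (x0 • m1 + (1 : K) • m2) e = 0 := by
      rw [T_comm23, T_comm12, hbl, hQl]; ring
    have t2 : T f (x0 • m1 + (1 : K) • m2) (x0 • m1 + (1 : K) • m2) m1 = 0 := by
      rw [T_comm23, T_comm12, quad_expand, ← eval_eq_T hf, ← hc0d, ← hc1d, ← hc2d]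
      rw [hG1] at hG10
      linear_combination (1 / 3 : K) * hG10
    have t3 : T f (x0 • m1 + (1 : K) • m2) (x0 • m1 + (1 : K) • m2) m2 = 0 := by
      rw [T_comm23, T_comm12, quad_expand, ← eval_eq_T hf, ← hc3d,
        T_comm12 f m2 m1 m1, T_comm23 f m1 m2 m1, ← hc1d, T_comm12 f m2 m1 m2, ← hc2d]
      rw [hG1] at hG10
      rw [hG0] at hG00
      linear_combination hG00 - (x0 / 3) * hG10
    rw [T_add_right, T_add_right, T_smul_right, T_smul_right, T_smul_right, t1, t2, t3]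
    ring
  · -- the second flex
    have hG0ne : G0 ≠ 0 := by
      intro h
      rw [h, add_zero] at E1
      rcases mul_eq_zero.mp E1 with h' | h'
      · exact hα h'
      · exact hs00 (pow_eq_zero_iff two_ne_zero |>.mp h')
    obtain ⟨m, hm⟩ : ∃ m, m = -G1 / (2 * α * s0) := ⟨_, rfl⟩
    have E2 : 2 * α * s0 * m + G1 = 0 := by
      rw [hm]; field_simp; ring
    have E3 : α * m ^ 2 + 3 * c0 * x0 + 3 * c1 = 0 := by
      have h4 : (4 * α * s0 ^ 2) * (α * m ^ 2 + 3 * c0 * x0 + 3 * c1) = 0 := by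
        linear_combination (2 * α * s0 * m - G1) * E2 + hψ + 12 * (c0 * x0 + c1) * E1
      have hne : 4 * α * s0 ^ 2 ≠ 0 :=
        mul_ne_zero (mul_ne_zero (by norm_num) hα) (pow_ne_zero 2 hs00)
      exact (mul_eq_zero.mp h4).resolve_left hne
    refine ⟨s0 • e + (x0 • m1 + (1 : K) • m2), ?_, ⟨m • e + ((1 : K) • m1 + (0 : K) • m2), ?_, ?_⟩, ?_⟩
    · intro h
      have := (hind3 _ _ _ h).2.2
      exact one_ne_zero this
    · rw [LinearIndependent.pair_iff]
      intro s t h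
      have h' : (s * s0 + t * m) • e + ((s * x0 + t) • m1 + s • m2) = 0 := by
        rw [← h]; module
      obtain ⟨-, h2, h3⟩ := hind3 _ _ _ h'
      subst h3
      refine ⟨rfl, ?_⟩
      linear_combination h2
    · intro t
      have hsum : s0 • e + (x0 • m1 + (1 : K) • m2) + t • (m • e + ((1 : K) • m1 + (0 : K) • m2)) =
          (s0 + t * m) • e + ((x0 + t) • m1 + (1 : K) • m2) := by module
      rw [hsum, hF3, hF3]
      rw [hG0] at E1
      rw [hG1] at E2
      linear_combination E1 + t * E2 + t ^ 2 * E3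
    · intro s t h
      have h' : (s + t * s0) • e + ((t * x0) • m1 + t • m2) = 0 := by
        rw [← h]; module
      obtain ⟨h1, -, h3⟩ := hind3 _ _ _ h'
      subst h3
      refine ⟨?_, rfl⟩
      linear_combination h1

end Groth.Agent.H91.PlaneCubic
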