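import Groth.Agent.H91.PlaneCubic3
import Groth.Prelude.Def_W4c5monodromycubicsHesse

/-!
The Hesse normal form of a smooth plane cubic over an algebraically closed field of
characteristic zero.
-/

namespace Groth.Agent.H91.PlaneCubic

open MvPolynomial Groth.Agent.H91.CubicK

set_option linter.unusedSectionVars false
set_option linter.unusedVariables false

variable {K : Type*} [Field K] [CharZero K] {f : MvPolynomial (Fin 3) K}

/-- a linear map preserving the cubic preserves its trilinear form -/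
theorem T_invariant (hf : f.IsHomogeneous 3) (g : (Fin 3 → K) →ₗ[K] (Fin 3 → K))
    (hg : ∀ y, eval (g y) f = eval y f) (x y z : Fin 3 → K) :
    T f (g x) (g y) (g z) = T f x y z := by
  have h1 : ∀ x y : Fin 3 → K, T f (g x) (g x) (g y) = T f x x y := by
    intro x y
    have h : ∀ t : K, t ^ 3 * (eval (g x) f - eval x f) +
        t ^ 2 * (3 * T f (g x) (g x) (g y) - 3 * T f x x y) +
        t * (3 * T f (g x) (g y) (g y) - 3 * T f x y y) + (eval (g y) f - eval y f) = 0 := by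
      intro t
      have e1 := hg (t • x + y)
      rw [map_add, map_smul, eval_expand hf, eval_expand hf] at e1
      linear_combination e1
    obtain ⟨-, -, h2, -⟩ := cubic_coeffs h
    have h3 : (3 : K) ≠ 0 := three_ne_zero
    have : 3 * (T f (g x) (g x) (g y) - T f x x y) = 0 := by linear_combination h2
    have := (mul_eq_zero.mp this).resolve_left h3
    linear_combination this
  have key : ∀ a b c : Fin 3 → K,
      2 * T f a b c = T f (a + b) (a + b) c - T f a a c - T f b b c := by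
    intro a b c
    rw [T_add_left, T_add_mid, T_add_mid, T_comm12 f b a c]; ring
  have h2 : 2 * T f (g x) (g y) (g z) = 2 * T f x y z := by
    rw [key, key, ← map_add, h1, h1, h1]
  exact mul_left_cancel₀ two_ne_zero h2

theorem exists_hesse [IsAlgClosed K] (hf : f.IsHomogeneous 3) (hsm : Smooth f) :
    ∃ (A : Matrix (Fin 3) (Fin 3) K) (k c : K), IsUnit A.det ∧ k ^ 3 ≠ 1 ∧ c ≠ 0 ∧
      aeval (fun i : Fin 3 => ∑ j : Fin 3, C (A i j) * X j) f = C c * HesseCubic.form k := by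
  classical
  obtain ⟨e1, he1, hF1⟩ := exists_flex hf hsm
  obtain ⟨e2, he2, hF2, hnp⟩ := second_flex hf hsm he1 hF1
  obtain ⟨hfe1, l1, hl1, hb1⟩ := flex_data hf hsm he1 hF1
  obtain ⟨hfe2, l2, hl2, hb2⟩ := flex_data hf hsm he2 hF2
  have hab := flex_pair hf hsm he1 he2 hnp hF1 hF2 hfe1 l1 l2 hb1 hb2
  obtain ⟨α, hαd⟩ : ∃ α, α = l1 e2 := ⟨_, rfl⟩
  obtain ⟨β, hβd⟩ : ∃ β, β = l2 e1 := ⟨_, rfl⟩
  rw [← hαd, ← hβd] at hab
  have hα : α ≠ 0 := by
    intro h
    rw [h, zero_mul] at hab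
    exact zero_ne_one hab
  -- the order three automorphism
  obtain ⟨R, hRd⟩ : ∃ R : (Fin 3 → K) →ₗ[K] (Fin 3 → K),
      R = (refl l1 e1).comp (refl l2 e2) := ⟨_, rfl⟩
  have hRapp : ∀ y, R y = refl l1 e1 (refl l2 e2 y) := fun y => by rw [hRd]; rfl
  have hRf : ∀ y, eval (R y) f = eval y f := by
    intro y
    rw [hRapp, eval_refl hf hfe1 l1 hb1, eval_refl hf hfe2 l2 hb2]
  have hTR := T_invariant hf R hRf
  have hRe1 : R e1 = (-β) • e2 := by
    rw [hRapp]
    simp only [refl_apply, map_sub, map_smul, hl1, ← hαd, ← hβd, smul_eq_mul]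
    ext i
    simp only [Pi.sub_apply, Pi.smul_apply, smul_eq_mul, Pi.neg_apply]
    linear_combination (e1 i) * hab
  have hRe2 : R e2 = α • e1 - e2 := by
    rw [hRapp]
    simp only [refl_apply, map_sub, map_smul, hl2, ← hαd, smul_eq_mul]
    ext i
    simp only [Pi.sub_apply, Pi.smul_apply, smul_eq_mul]
    ring
  -- the cube root of unity
  obtain ⟨δ, hδ⟩ := IsAlgClosed.exists_eq_mul_self (-3 : K)
  obtain ⟨ω, hωd⟩ : ∃ ω, ω = (-1 + δ) / 2 := ⟨_, rfl⟩
  have hω : ω ^ 2 + ω + 1 = 0 := by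
    have e : 2 * ω = -1 + δ := by rw [hωd]; field_simp
    have h4 : 4 * (ω ^ 2 + ω + 1) = 0 := by
      linear_combination (2 * ω + (-1 + δ) + 2) * e - hδ
    exact (mul_eq_zero.mp h4).resolve_left (by norm_num)
  have hω1 : ω ≠ 1 := by
    intro h
    rw [h] at hω
    norm_num at hω
  have hω3 : ω ^ 3 = 1 := by linear_combination (ω - 1) * hω
  have hω21 : ω ^ 2 ≠ 1 := by
    intro h
    have h2 : ω = -2 := by linear_combination hω - h
    rw [h2] at h
    norm_num at h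
  have hωω : ω ≠ ω ^ 2 := by
    intro h
    have h2 : ω = 1 := by
      have h3 : ω * (ω - 1) = 0 := by linear_combination -h
      rcases mul_eq_zero.mp h3 with h4 | h4
      · rw [h4] at hω; norm_num at hω
      · linear_combination h4
    exact hω1 h2
  have hω2 : (ω ^ 2) ^ 2 + ω ^ 2 + 1 = 0 := by linear_combination (ω ^ 2 - ω + 1) * hω
  -- eigenvectors
  have heig : ∀ lam : K, lam ^ 2 + lam + 1 = 0 →
      R (α • e1 + lam • e2) = lam • (α • e1 + lam • e2) := by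
    intro lam hlam
    rw [map_add, map_smul, map_smul, hRe1, hRe2]
    ext i
    simp only [Pi.add_apply, Pi.sub_apply, Pi.smul_apply, smul_eq_mul, Pi.neg_apply]
    linear_combination (-(e2 i)) * hab - (e2 i) * hlam
  have hl10 : l1 ≠ 0 := by
    intro h
    rw [h] at hl1
    simp at hl1
  have hl20 : l2 ≠ 0 := by
    intro h
    rw [h] at hl2
    simp at hl2
  obtain ⟨v0, h10, h20, hv00⟩ : ∃ v0, l1 v0 = 0 ∧ l2 v0 = 0 ∧ v0 ≠ 0 := by
    have hk1 : Module.finrank K (LinearMap.ker l1) = 2 := by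
      have := Module.Dual.finrank_ker_add_one_of_ne_zero hl10
      rw [Module.finrank_fin_fun] at this
      omega
    have hk2 : Module.finrank K (LinearMap.ker l2) = 2 := by
      have := Module.Dual.finrank_ker_add_one_of_ne_zero hl20
      rw [Module.finrank_fin_fun] at this
      omega
    have h1 := Submodule.finrank_sup_add_finrank_inf_eq (LinearMap.ker l1) (LinearMap.ker l2)
    have h2 := Submodule.finrank_le (LinearMap.ker l1 ⊔ LinearMap.ker l2)
    rw [Module.finrank_fin_fun] at h2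
    rw [hk1, hk2] at h1
    have h3 : 0 < Module.finrank K ↥(LinearMap.ker l1 ⊓ LinearMap.ker l2) := by omega
    obtain ⟨⟨x, hx⟩, hx0⟩ := Module.finrank_pos_iff_exists_ne_zero.mp h3
    exact ⟨x, hx.1, hx.2, fun h => hx0 (Subtype.ext h)⟩
  have hRv0 : R v0 = v0 := by
    rw [hRapp]
    simp [refl_apply, h10, h20]
  obtain ⟨v1, hv1d⟩ : ∃ v1, v1 = α • e1 + ω • e2 := ⟨_, rfl⟩
  obtain ⟨v2, hv2d⟩ : ∃ v2, v2 = α • e1 + ω ^ 2 • e2 := ⟨_, rfl⟩
  have hRv1 : R v1 = ω • v1 := by rw [hv1d]; exact heig ω hω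
  have hRv2 : R v2 = ω ^ 2 • v2 := by rw [hv2d]; exact heig (ω ^ 2) hω2
  have hv10 : v1 ≠ 0 := by
    intro h
    rw [hv1d] at h
    exact hα (hnp _ _ h).1
  have hv20 : v2 ≠ 0 := by
    intro h
    rw [hv2d] at h
    exact hα (hnp _ _ h).1
  have hli : LinearIndependent K ![v0, v1, v2] := by
    apply Module.End.eigenvectors_linearIndependent' R ![1, ω, ω ^ 2] ?_ ![v0, v1, v2]
    · intro i
      fin_cases i
      · exact ⟨Module.End.mem_eigenspace_iff.mpr (by
          show R v0 = (1 : K) • v0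
          rw [one_smul]; exact hRv0), hv00⟩
      · exact ⟨Module.End.mem_eigenspace_iff.mpr hRv1, hv10⟩
      · exact ⟨Module.End.mem_eigenspace_iff.mpr hRv2, hv20⟩
    · intro i j hij
      fin_cases i <;> fin_cases j
      · rfl
      · exact absurd (show (1 : K) = ω from hij) (Ne.symm hω1)
      · exact absurd (show (1 : K) = ω ^ 2 from hij) (Ne.symm hω21)
      · exact absurd (show ω = 1 from hij) hω1
      · rfl
      · exact absurd (show ω = ω ^ 2 from hij) hωω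
      · exact absurd (show ω ^ 2 = 1 from hij) hω21
      · exact absurd (show ω ^ 2 = ω from hij) (Ne.symm hωω)
      · rfl
  have hind : ∀ c0 c1 c2 : K, c0 • v0 + (c1 • v1 + c2 • v2) = 0 → c0 = 0 ∧ c1 = 0 ∧ c2 = 0 := by
    intro c0 c1 c2 h
    have := Fintype.linearIndependent_iff.mp hli ![c0, c1, c2] (by
      rw [Fin.sum_univ_three]
      simpa [add_assoc] using h)
    exact ⟨this 0, this 1, this 2⟩
  have hspan := span_of_indep3 v0 v1 v2 hind
  -- vanishing of the non-invariant coefficients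
  have hvan : ∀ (a b c : Fin 3 → K) (p q r : K), R a = p • a → R b = q • b → R c = r • c →
      p * q * r ≠ 1 → T f a b c = 0 := by
    intro a b c p q r ha hb hc hpqr
    have := hTR a b c
    rw [ha, hb, hc, T_smul_left, T_smul_mid, T_smul_right] at this
    have h' : (p * q * r - 1) * T f a b c = 0 := by linear_combination this
    exact (mul_eq_zero.mp h').resolve_left (sub_ne_zero.mpr hpqr)
  have hR0 : R v0 = (1 : K) • v0 := by rw [one_smul]; exact hRv0
  have T001 : T f v0 v0 v1 = 0 := hvan v0 v0 v1 1 1 ω hR0 hR0 hRv1 (by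
    rw [show (1 : K) * 1 * ω = ω by ring]; exact hω1)
  have T002 : T f v0 v0 v2 = 0 := hvan v0 v0 v2 1 1 (ω ^ 2) hR0 hR0 hRv2 (by
    rw [show (1 : K) * 1 * ω ^ 2 = ω ^ 2 by ring]; exact hω21)
  have T011 : T f v0 v1 v1 = 0 := hvan v0 v1 v1 1 ω ω hR0 hRv1 hRv1 (by
    rw [show (1 : K) * ω * ω = ω ^ 2 by ring]; exact hω21)
  have T022 : T f v0 v2 v2 = 0 := hvan v0 v2 v2 1 (ω ^ 2) (ω ^ 2) hR0 hRv2 hRv2 (by
    rw [show (1 : K) * ω ^ 2 * ω ^ 2 = ω by linear_combination ω * hω3]; exact hω1)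
  have T112 : T f v1 v1 v2 = 0 := hvan v1 v1 v2 ω ω (ω ^ 2) hRv1 hRv1 hRv2 (by
    rw [show ω * ω * ω ^ 2 = ω by linear_combination ω * hω3]; exact hω1)
  have T122 : T f v1 v2 v2 = 0 := hvan v1 v2 v2 ω (ω ^ 2) (ω ^ 2) hRv1 hRv2 hRv2 (by
    rw [show ω * ω ^ 2 * ω ^ 2 = ω ^ 2 by linear_combination ω ^ 2 * hω3]; exact hω21)
  -- the expansion in the eigenbasis
  have hmain : ∀ x0 x1 x2 : K, eval (x0 • v0 + (x1 • v1 + x2 • v2)) f =
      x0 ^ 3 * eval v0 f + x1 ^ 3 * eval v1 f + x2 ^ 3 * eval v2 f +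
        6 * x0 * x1 * x2 * T f v0 v1 v2 := by
    intro x0 x1 x2
    rw [show x0 • v0 + (x1 • v1 + x2 • v2) = x0 • v0 + (1 : K) • (x1 • v1 + x2 • v2) by
      rw [one_smul]]
    rw [cube_expand hf, T_add_right, T_smul_right, T_smul_right, T001, T002, quad_expand, T011,
      T022, cube_expand hf, T112, T122]
    ring
  -- the cube coefficients do not vanish
  have hA : eval v0 f ≠ 0 := by
    intro h
    apply no_sing hf hsm v0 hv00
    intro y
    obtain ⟨c0, c1, c2, rfl⟩ := hspan y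
    rw [T_add_right, T_add_right, T_smul_right, T_smul_right, T_smul_right, T001, T002,
      ← eval_eq_T hf, h]
    ring
  have hB : eval v1 f ≠ 0 := by
    intro h
    apply no_sing hf hsm v1 hv10
    intro y
    obtain ⟨c0, c1, c2, rfl⟩ := hspan y
    rw [T_add_right, T_add_right, T_smul_right, T_smul_right, T_smul_right, T112,
      ← eval_eq_T hf, h, T_comm23 f v1 v1 v0, T_comm12 f v1 v0 v1, T011]
    ring
  have hC : eval v2 f ≠ 0 := by
    intro h
    apply no_sing hf hsm v2 hv20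
    intro y
    obtain ⟨c0, c1, c2, rfl⟩ := hspan y
    rw [T_add_right, T_add_right, T_smul_right, T_smul_right, T_smul_right,
      ← eval_eq_T hf, h, T_comm23 f v2 v2 v0, T_comm12 f v2 v0 v2, T022,
      T_comm23 f v2 v2 v1, T_comm12 f v2 v1 v2, T122]
    ring
  -- normalisation
  obtain ⟨m0, hm0⟩ := IsAlgClosed.exists_pow_nat_eq (eval v0 f)⁻¹ (n := 3) (by norm_num)
  obtain ⟨m1, hm1⟩ := IsAlgClosed.exists_pow_nat_eq (eval v1 f)⁻¹ (n := 3) (by norm_num)
  obtain ⟨m2, hm2⟩ := IsAlgClosed.exists_pow_nat_eq (eval v2 f)⁻¹ (n := 3) (by norm_num)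
  have hm0' : m0 ^ 3 * eval v0 f = 1 := by rw [hm0, inv_mul_cancel₀ hA]
  have hm1' : m1 ^ 3 * eval v1 f = 1 := by rw [hm1, inv_mul_cancel₀ hB]
  have hm2' : m2 ^ 3 * eval v2 f = 1 := by rw [hm2, inv_mul_cancel₀ hC]
  have hm00 : m0 ≠ 0 := by
    intro h
    rw [h] at hm0'
    norm_num at hm0'
  have hm10 : m1 ≠ 0 := by
    intro h
    rw [h] at hm1'
    norm_num at hm1'
  have hm20 : m2 ≠ 0 := by
    intro h
    rw [h] at hm2'
    norm_num at hm2'
  obtain ⟨kk, hkk⟩ : ∃ kk, kk = -2 * T f v0 v1 v2 * m0 * m1 * m2 := ⟨_, rfl⟩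
  have hmain' : ∀ x0 x1 x2 : K,
      eval ((m0 * x0) • v0 + ((m1 * x1) • v1 + (m2 * x2) • v2)) f =
        x0 ^ 3 + x1 ^ 3 + x2 ^ 3 - 3 * kk * (x0 * x1 * x2) := by
    intro x0 x1 x2
    rw [hmain, hkk]
    linear_combination x0 ^ 3 * hm0' + x1 ^ 3 * hm1' + x2 ^ 3 * hm2'
  have hind' : ∀ x0 x1 x2 : K, (m0 * x0) • v0 + ((m1 * x1) • v1 + (m2 * x2) • v2) = 0 →
      x0 = 0 ∧ x1 = 0 ∧ x2 = 0 := by
    intro x0 x1 x2 h
    obtain ⟨h0, h1, h2⟩ := hind _ _ _ h
    exact ⟨(mul_eq_zero.mp h0).resolve_left hm00, (mul_eq_zero.mp h1).resolve_left hm10,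
      (mul_eq_zero.mp h2).resolve_left hm20⟩
  have hspan' : ∀ y : Fin 3 → K, ∃ z0 z1 z2 : K,
      y = (m0 * z0) • v0 + ((m1 * z1) • v1 + (m2 * z2) • v2) := by
    intro y
    obtain ⟨c0, c1, c2, rfl⟩ := hspan y
    refine ⟨c0 / m0, c1 / m1, c2 / m2, ?_⟩
    rw [mul_div_cancel₀ _ hm00, mul_div_cancel₀ _ hm10, mul_div_cancel₀ _ hm20]
  -- the parameter is not a cube root of unity
  have hk3 : kk ^ 3 ≠ 1 := by
    intro hk
    have hu0 : (m0 * 1) • v0 + ((m1 * kk) • v1 + (m2 * kk) • v2) ≠ 0 := by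
      intro h
      exact one_ne_zero (hind' _ _ _ h).1
    apply no_sing hf hsm _ hu0
    intro y
    obtain ⟨z0, z1, z2, rfl⟩ := hspan' y
    have e1 := eval_expand hf ((m0 * z0) • v0 + ((m1 * z1) • v1 + (m2 * z2) • v2))
      ((m0 * 1) • v0 + ((m1 * kk) • v1 + (m2 * kk) • v2)) 1
    have e2 := eval_expand hf ((m0 * z0) • v0 + ((m1 * z1) • v1 + (m2 * z2) • v2))
      ((m0 * 1) • v0 + ((m1 * kk) • v1 + (m2 * kk) • v2)) (-1)
    have s1 : (1 : K) • ((m0 * z0) • v0 + ((m1 * z1) • v1 + (m2 * z2) • v2)) +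
        ((m0 * 1) • v0 + ((m1 * kk) • v1 + (m2 * kk) • v2)) =
        (m0 * (z0 + 1)) • v0 + ((m1 * (z1 + kk)) • v1 + (m2 * (z2 + kk)) • v2) := by module
    have s2 : (-1 : K) • ((m0 * z0) • v0 + ((m1 * z1) • v1 + (m2 * z2) • v2)) +
        ((m0 * 1) • v0 + ((m1 * kk) • v1 + (m2 * kk) • v2)) =
        (m0 * (-z0 + 1)) • v0 + ((m1 * (-z1 + kk)) • v1 + (m2 * (-z2 + kk)) • v2) := by module
    rw [s1, hmain'] at e1
    rw [s2, hmain'] at e2
    have e3 := hmain' z0 z1 z2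
    have e4 := hmain' 1 kk kk
    rw [e3, e4] at e1 e2
    rw [T_comm23, T_comm12]
    have h6 : 6 * T f ((m0 * z0) • v0 + ((m1 * z1) • v1 + (m2 * z2) • v2))
        ((m0 * 1) • v0 + ((m1 * kk) • v1 + (m2 * kk) • v2))
        ((m0 * 1) • v0 + ((m1 * kk) • v1 + (m2 * kk) • v2)) = 0 := by
      linear_combination e2 - e1 - 6 * z0 * hk
    exact (mul_eq_zero.mp h6).resolve_left (by norm_num)
  -- the matrix
  obtain ⟨P, hPd⟩ : ∃ P : Matrix (Fin 3) (Fin 3) K,
      P = Matrix.of fun i j => (![m0, m1, m2] j) * (![v0, v1, v2] j i) := ⟨_, rfl⟩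
  have hP : ∀ x : Fin 3 → K,
      P.mulVec x = (m0 * x 0) • v0 + ((m1 * x 1) • v1 + (m2 * x 2) • v2) := by
    intro x
    ext i
    rw [hPd]
    simp [Matrix.mulVec, dotProduct, Fin.sum_univ_three]
    ring
  refine ⟨P, kk, 1, ?_, hk3, one_ne_zero, ?_⟩
  · rw [isUnit_iff_ne_zero]
    intro hdet
    obtain ⟨x, hx0, hx⟩ := Matrix.exists_mulVec_eq_zero_iff.mpr hdet
    rw [hP] at hx
    obtain ⟨h0, h1, h2⟩ := hind' _ _ _ hx
    apply hx0
    ext i
    fin_cases i
    exacts [h0, h1, h2]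
  · apply MvPolynomial.funext
    intro x
    rw [eval_aeval_matrix', hP, hmain']
    simp [HesseCubic.form]

end Groth.Agent.H91.PlaneCubic
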