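import Groth.Agent.H91.PlaneCubic4

/-!
Flexes of the Hesse cubic and faithfulness of the action of projective automorphisms on flexes.
-/

namespace Groth.Agent.H91.PlaneCubic

open MvPolynomial Groth.Agent.H91.CubicK

set_option linter.unusedSectionVars false
set_option linter.unusedVariables false

variable {K : Type*} [Field K] [CharZero K]

theorem exists_omega [IsAlgClosed K] : ∃ ω : K, ω ^ 2 + ω + 1 = 0 := by
  obtain ⟨δ, hδ⟩ := IsAlgClosed.exists_eq_mul_self (-3 : K)
  refine ⟨(-1 + δ) / 2, ?_⟩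
  have e : 2 * ((-1 + δ) / 2) = -1 + δ := by field_simp
  have h4 : 4 * (((-1 + δ) / 2) ^ 2 + (-1 + δ) / 2 + 1) = 0 := by
    linear_combination (2 * ((-1 + δ) / 2) + (-1 + δ) + 2) * e - hδ
  exact (mul_eq_zero.mp h4).resolve_left (by norm_num)

theorem hesse_flex0 (k γ : K) (hγ : γ ^ 3 = 1) : IsFlex (HesseCubic.form k) ![0, 1, -γ] := by
  have hγ0 : γ ≠ 0 := by
    intro h
    rw [h] at hγ
    norm_num at hγ
  refine ⟨![1, -(k * γ), 0], ?_, ?_⟩
  · rw [LinearIndependent.pair_iff]
    intro s t h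
    have h0 := congrFun h 0
    have h2 := congrFun h 2
    have ht : t = 0 := by simpa using h0
    have hs : s * γ = 0 := by simpa using h2
    exact ⟨(mul_eq_zero.mp hs).resolve_right hγ0, ht⟩
  · intro t
    simp [HesseCubic.form]
    linear_combination (-1 : K) * hγ

theorem hesse_flex1 (k γ : K) (hγ : γ ^ 3 = 1) : IsFlex (HesseCubic.form k) ![-γ, 0, 1] := by
  have hγ0 : γ ≠ 0 := by
    intro h
    rw [h] at hγ
    norm_num at hγ
  refine ⟨![0, 1, -(k * γ)], ?_, ?_⟩
  · rw [LinearIndependent.pair_iff]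
    intro s t h
    have h0 := congrFun h 0
    have h1 := congrFun h 1
    have ht : t = 0 := by simpa using h1
    have hs : s * γ = 0 := by simpa using h0
    exact ⟨(mul_eq_zero.mp hs).resolve_right hγ0, ht⟩
  · intro t
    simp [HesseCubic.form]
    linear_combination (-1 : K) * hγ

variable {f : MvPolynomial (Fin 3) K}

/-- a linear map acting as a scalar on `p`, `q` and a combination of them with nonzero
coefficients has the same scalar on `p` and `q` -/
theorem scalar_of_three (B : (Fin 3 → K) →ₗ[K] (Fin 3 → K)) (p q : Fin 3 → K)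
    (hind : ∀ s t : K, s • p + t • q = 0 → s = 0 ∧ t = 0) (a b : K) (ha : a ≠ 0) (hb : b ≠ 0)
    (dp dq dr : K) (hp : B p = dp • p) (hq : B q = dq • q)
    (hr : B (a • p + b • q) = dr • (a • p + b • q)) : dp = dq := by
  rw [map_add, map_smul, map_smul, hp, hq] at hr
  have h0 : (a * (dp - dr)) • p + (b * (dq - dr)) • q = 0 := by
    have : a • dp • p + b • dq • q - dr • (a • p + b • q) = 0 := sub_eq_zero.mpr hr
    rw [← this]; module
  obtain ⟨h1, h2⟩ := hind _ _ h0
  have e1 : dp - dr = 0 := (mul_eq_zero.mp h1).resolve_left ha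
  have e2 : dq - dr = 0 := (mul_eq_zero.mp h2).resolve_left hb
  linear_combination e1 - e2

theorem aut_fixing_flexes_scalar [IsAlgClosed K] (hf : f.IsHomogeneous 3) (hsm : Smooth f)
    (A : Matrix (Fin 3) (Fin 3) K)
    (hfix : ∀ v : Fin 3 → K, v ≠ 0 → eval v f = 0 → IsFlex f v → ∃ d : K, A.mulVec v = d • v) :
    ∃ c : K, A = c • (1 : Matrix (Fin 3) (Fin 3) K) := by
  classical
  obtain ⟨P, k, c0, hPdet, hk, hc0, hP⟩ := exists_hesse hf hsm
  have hPf : ∀ x, eval (P.mulVec x) f = c0 * eval x (HesseCubic.form k) := by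
    intro x; rw [← eval_aeval_matrix', hP, map_mul, eval_C]
  have hPinj : ∀ x, Matrix.toLin' P x = 0 → x = 0 := by
    intro x hx
    by_contra hx0
    have : P.det = 0 := Matrix.exists_mulVec_eq_zero_iff.mp ⟨x, hx0, by
      rw [← Matrix.toLin'_apply]; exact hx⟩
    rw [this] at hPdet
    exact not_isUnit_zero hPdet
  have hPsurj : ∀ y, ∃ x, Matrix.toLin' P x = y := by
    intro y
    refine ⟨P⁻¹.mulVec y, ?_⟩
    rw [Matrix.toLin'_apply, Matrix.mulVec_mulVec, Matrix.mul_nonsing_inv _ hPdet,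
      Matrix.one_mulVec]
  -- transport of flexes
  have htr : ∀ x : Fin 3 → K, x ≠ 0 → eval x (HesseCubic.form k) = 0 →
      IsFlex (HesseCubic.form k) x →
      ∃ d : K, Matrix.toLin' A (Matrix.toLin' P x) = d • Matrix.toLin' P x := by
    rintro x hx hx0 ⟨w, hli, hw⟩
    have := hfix (Matrix.toLin' P x) (fun h => hx (hPinj x h))
      (by rw [Matrix.toLin'_apply, hPf, hx0, mul_zero]) (by
        refine ⟨Matrix.toLin' P w, ?_, ?_⟩
        · rw [LinearIndependent.pair_iff]
          intro s t h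
          have h' : Matrix.toLin' P (s • x + t • w) = 0 := by
            rw [map_add, map_smul, map_smul]; exact h
          exact LinearIndependent.pair_iff.mp hli s t (hPinj _ h')
        · intro t
          rw [← map_smul, ← map_add, Matrix.toLin'_apply, Matrix.toLin'_apply, hPf, hPf, hw]
          ring)
    obtain ⟨d, hd⟩ := this
    exact ⟨d, by rw [Matrix.toLin'_apply]; exact hd⟩
  obtain ⟨ω, hω⟩ := exists_omega (K := K)
  have hω1 : ω ≠ 1 := by
    intro h
    rw [h] at hω
    norm_num at hω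
  have hω3 : ω ^ 3 = 1 := by linear_combination (ω - 1) * hω
  have hω0 : ω ≠ 0 := by
    intro h
    rw [h] at hω
    norm_num at hω
  have hω6 : (ω ^ 2) ^ 3 = 1 := by linear_combination (ω ^ 3 + 1) * hω3
  have hne1 : ω - 1 ≠ 0 := sub_ne_zero.mpr hω1
  -- zeros of the Hesse form
  have hz0 : ∀ γ : K, γ ^ 3 = 1 → eval ![0, 1, -γ] (HesseCubic.form k) = 0 := by
    intro γ hγ
    simp [HesseCubic.form]
    linear_combination (-1 : K) * hγ
  have hz1 : ∀ γ : K, γ ^ 3 = 1 → eval ![-γ, 0, 1] (HesseCubic.form k) = 0 := by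
    intro γ hγ
    simp [HesseCubic.form]
    linear_combination (-1 : K) * hγ
  have hnz0 : ∀ γ : K, (![0, 1, -γ] : Fin 3 → K) ≠ 0 := by
    intro γ h
    have := congrFun h 1
    simp at this
  have hnz1 : ∀ γ : K, (![-γ, 0, 1] : Fin 3 → K) ≠ 0 := by
    intro γ h
    have := congrFun h 2
    simp at this
  obtain ⟨d1, hd1⟩ := htr _ (hnz0 1) (hz0 1 (by norm_num)) (hesse_flex0 k 1 (by norm_num))
  obtain ⟨d2, hd2⟩ := htr _ (hnz0 ω) (hz0 ω hω3) (hesse_flex0 k ω hω3)
  obtain ⟨d3, hd3⟩ := htr _ (hnz0 (ω ^ 2)) (hz0 _ hω6) (hesse_flex0 k (ω ^ 2) hω6)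
  obtain ⟨d4, hd4⟩ := htr _ (hnz1 1) (hz1 1 (by norm_num)) (hesse_flex1 k 1 (by norm_num))
  obtain ⟨d5, hd5⟩ := htr _ (hnz1 ω) (hz1 ω hω3) (hesse_flex1 k ω hω3)
  obtain ⟨d6, hd6⟩ := htr _ (hnz1 (ω ^ 2)) (hz1 _ hω6) (hesse_flex1 k (ω ^ 2) hω6)
  -- vector identities
  have I1 : (![0, 1, -ω ^ 2] : Fin 3 → K) = (-ω) • ![0, 1, -1] + (-ω ^ 2) • ![0, 1, -ω] := by
    ext i
    fin_cases i
    · simp
    · simp; linear_combination hω
    · simp; linear_combination (-1 : K) * hω - hω3
  have I6 : (![-ω ^ 2, 0, 1] : Fin 3 → K) = (-ω) • ![-1, 0, 1] + (-ω ^ 2) • ![-ω, 0, 1] := by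
    ext i
    fin_cases i
    · simp; linear_combination (-1 : K) * hω - hω3
    · simp
    · simp; linear_combination hω
  have I2 : (ω - 1) • (Pi.single 2 1 : Fin 3 → K) = ![0, 1, -1] - ![0, 1, -ω] := by
    ext i
    fin_cases i <;> simp
    ring
  have I3 : (Pi.single 1 1 : Fin 3 → K) = ![0, 1, -1] + Pi.single 2 1 := by
    ext i
    fin_cases i <;> simp
  have I4 : (ω - 1) • (Pi.single 0 1 : Fin 3 → K) = ![-1, 0, 1] - ![-ω, 0, 1] := by
    ext i
    fin_cases i <;> simp
    ring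
  have I5 : (Pi.single 2 1 : Fin 3 → K) = ![-1, 0, 1] + Pi.single 0 1 := by
    ext i
    fin_cases i <;> simp
  -- independence
  have hind0 : ∀ s t : K, s • Matrix.toLin' P ![0, 1, -1] + t • Matrix.toLin' P ![0, 1, -ω] = 0 →
      s = 0 ∧ t = 0 := by
    intro s t h
    have h' : Matrix.toLin' P (s • ![0, 1, -1] + t • ![0, 1, -ω]) = 0 := by
      rw [map_add, map_smul, map_smul]; exact h
    have h'' := hPinj _ h'
    have e1 := congrFun h'' 1
    have e2 := congrFun h'' 2
    simp at e1 e2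
    have ht : t * (ω - 1) = 0 := by linear_combination (-1 : K) * e1 - e2
    have ht0 : t = 0 := (mul_eq_zero.mp ht).resolve_right hne1
    refine ⟨?_, ht0⟩
    rw [ht0] at e1
    linear_combination e1
  have hind1 : ∀ s t : K, s • Matrix.toLin' P ![-1, 0, 1] + t • Matrix.toLin' P ![-ω, 0, 1] = 0 →
      s = 0 ∧ t = 0 := by
    intro s t h
    have h' : Matrix.toLin' P (s • ![-1, 0, 1] + t • ![-ω, 0, 1]) = 0 := by
      rw [map_add, map_smul, map_smul]; exact h
    have h'' := hPinj _ h'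
    have e0 := congrFun h'' 0
    have e2 := congrFun h'' 2
    simp at e0 e2
    have ht : t * (ω - 1) = 0 := by linear_combination (-1 : K) * e0 - e2
    have ht0 : t = 0 := (mul_eq_zero.mp ht).resolve_right hne1
    refine ⟨?_, ht0⟩
    rw [ht0] at e2
    linear_combination e2
  have hωn : -ω ≠ 0 := neg_ne_zero.mpr hω0
  have hω2n : -ω ^ 2 ≠ 0 := neg_ne_zero.mpr (pow_ne_zero 2 hω0)
  have e12 : d1 = d2 := by
    apply scalar_of_three (Matrix.toLin' A) _ _ hind0 (-ω) (-ω ^ 2) hωn hω2n d1 d2 d3 hd1 hd2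
    rw [← map_smul, ← map_smul, ← map_add, ← I1]
    exact hd3
  have e45 : d4 = d5 := by
    apply scalar_of_three (Matrix.toLin' A) _ _ hind1 (-ω) (-ω ^ 2) hωn hω2n d4 d5 d6 hd4 hd5
    rw [← map_smul, ← map_smul, ← map_add, ← I6]
    exact hd6
  subst e12 e45
  -- eigenspace membership
  have hE : ∀ (d : K) (y : Fin 3 → K),
      y ∈ Module.End.eigenspace (Matrix.toLin' A) d ↔ Matrix.toLin' A y = d • y :=
    fun d y => Module.End.mem_eigenspace_iff
  have m2 : Matrix.toLin' P (Pi.single 2 1) ∈ Module.End.eigenspace (Matrix.toLin' A) d1 := by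
    have : (ω - 1) • Matrix.toLin' P (Pi.single 2 1) ∈
        Module.End.eigenspace (Matrix.toLin' A) d1 := by
      rw [← map_smul, I2, map_sub]
      exact Submodule.sub_mem _ ((hE _ _).mpr hd1) ((hE _ _).mpr hd2)
    exact (Submodule.smul_mem_iff _ hne1).mp this
  have m1 : Matrix.toLin' P (Pi.single 1 1) ∈ Module.End.eigenspace (Matrix.toLin' A) d1 := by
    rw [I3, map_add]
    exact Submodule.add_mem _ ((hE _ _).mpr hd1) m2
  have m0' : Matrix.toLin' P (Pi.single 0 1) ∈ Module.End.eigenspace (Matrix.toLin' A) d4 := by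
    have : (ω - 1) • Matrix.toLin' P (Pi.single 0 1) ∈
        Module.End.eigenspace (Matrix.toLin' A) d4 := by
      rw [← map_smul, I4, map_sub]
      exact Submodule.sub_mem _ ((hE _ _).mpr hd4) ((hE _ _).mpr hd5)
    exact (Submodule.smul_mem_iff _ hne1).mp this
  have m2' : Matrix.toLin' P (Pi.single 2 1) ∈ Module.End.eigenspace (Matrix.toLin' A) d4 := by
    rw [I5, map_add]
    exact Submodule.add_mem _ ((hE _ _).mpr hd4) m0'
  have hdd : d1 = d4 := by
    have h1 := (hE _ _).mp m2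
    have h2 := (hE _ _).mp m2'
    have hne : Matrix.toLin' P (Pi.single 2 1) ≠ 0 := by
      intro h
      have := congrFun (hPinj _ h) 2
      simp at this
    have : (d1 - d4) • Matrix.toLin' P (Pi.single 2 1) = 0 := by
      rw [sub_smul, ← h1, ← h2, sub_self]
    rcases smul_eq_zero.mp this with h | h
    · linear_combination h
    · exact absurd h hne
  subst hdd
  have hall : ∀ y : Fin 3 → K, Matrix.toLin' A y = d1 • y := by
    intro y
    obtain ⟨x, rfl⟩ := hPsurj y
    rw [← hE]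
    have hx : x = x 0 • Pi.single 0 1 + x 1 • Pi.single 1 1 + x 2 • Pi.single 2 1 := by
      ext i
      fin_cases i <;> simp
    rw [hx, map_add, map_add, map_smul, map_smul, map_smul]
    exact Submodule.add_mem _ (Submodule.add_mem _ (Submodule.smul_mem _ _ m0')
      (Submodule.smul_mem _ _ m1)) (Submodule.smul_mem _ _ m2)
  refine ⟨d1, ?_⟩
  ext i j
  have := congrFun (hall (Pi.single j 1)) i
  rw [Matrix.toLin'_apply, Matrix.mulVec_single_one] at this
  simp only [Matrix.col_apply, Pi.smul_apply, smul_eq_mul] at this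
  rw [this, Matrix.smul_apply, Matrix.one_apply, Pi.single_apply]
  simp [eq_comm]

end Groth.Agent.H91.PlaneCubic
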