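import Groth.Agent.H91.PlaneCubic5

/-!
The stabiliser of a flex in the group of linear automorphisms of a smooth plane cubic, and its
computation for the Hesse cubic.
-/

namespace Groth.Agent.H91.PlaneCubic

open MvPolynomial Groth.Agent.H91.CubicK

set_option linter.unusedSectionVars false
set_option linter.unusedVariables false

variable {K : Type*} [Field K] [CharZero K]

section General

variable {f : MvPolynomial (Fin 3) K}

theorem T_semi_invariant (hf : f.IsHomogeneous 3) (g : (Fin 3 → K) →ₗ[K] (Fin 3 → K)) (c : K)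
    (hg : ∀ y, eval (g y) f = c * eval y f) (x y z : Fin 3 → K) :
    T f (g x) (g y) (g z) = c * T f x y z := by
  have h1 : ∀ x y : Fin 3 → K, T f (g x) (g x) (g y) = c * T f x x y := by
    intro x y
    have h : ∀ t : K, t ^ 3 * (eval (g x) f - c * eval x f) +
        t ^ 2 * (3 * T f (g x) (g x) (g y) - c * (3 * T f x x y)) +
        t * (3 * T f (g x) (g y) (g y) - c * (3 * T f x y y)) +
        (eval (g y) f - c * eval y f) = 0 := by
      intro t
      have e1 := hg (t • x + y)
      rw [map_add, map_smul, eval_expand hf, eval_expand hf] at e1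
      linear_combination e1
    obtain ⟨-, -, h2, -⟩ := cubic_coeffs h
    have h3 : 3 * (T f (g x) (g x) (g y) - c * T f x x y) = 0 := by linear_combination h2
    have h4 := (mul_eq_zero.mp h3).resolve_left three_ne_zero
    linear_combination h4
  have key : ∀ a b d : Fin 3 → K,
      2 * T f a b d = T f (a + b) (a + b) d - T f a a d - T f b b d := by
    intro a b d
    rw [T_add_left, T_add_mid, T_add_mid, T_comm12 f b a d]; ring
  have h2 : 2 * T f (g x) (g y) (g z) = 2 * (c * T f x y z) := by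
    have e := key x y z
    rw [key (g x) (g y) (g z), ← map_add, h1, h1, h1]
    linear_combination (-c) * e
  exact mul_left_cancel₀ two_ne_zero h2

theorem T_polar (hf : f.IsHomogeneous 3) (x y z : Fin 3 → K) :
    6 * T f x y z = eval (x + y + z) f - eval (x + y) f - eval (x + z) f - eval (y + z) f +
      eval x f + eval y f + eval z f := by
  rw [eval_eq_T hf (x + y + z), eval_eq_T hf (x + y), eval_eq_T hf (x + z),
    eval_eq_T hf (y + z), eval_eq_T hf x, eval_eq_T hf y, eval_eq_T hf z]
  rw [T_cube_add f (x + y) z, T_cube_add f x y, T_cube_add f x z, T_cube_add f y z]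
  simp only [T_add_left, T_add_mid]
  rw [T_comm12 f y x z]
  ring

theorem flex_stabilizer (hf : f.IsHomogeneous 3) {e : Fin 3 → K} (hfe : eval e f = 0)
    (l : Module.Dual K (Fin 3 → K)) (hl : l e = 2) (hbl : ∀ y, T f e y y = aT f e y * l y)
    (m1 m2 : Fin 3 → K) (hm1a : aT f e m1 = 0) (hm1l : l m1 = 0) (hm2l : l m2 = 0)
    (hm2a : aT f e m2 ≠ 0) (hc0 : eval m1 f ≠ 0) (hc1 : T f m1 m1 m2 = 0)
    (hc2 : T f m1 m2 m2 ≠ 0) (hc3 : eval m2 f ≠ 0)
    (B : (Fin 3 → K) →ₗ[K] (Fin 3 → K)) (c lam : K) (hc : c ≠ 0)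
    (hB : ∀ y, eval (B y) f = c * eval y f) (hBe : B e = lam • e) :
    ∃ p : K, (∀ y, B y = p • y) ∨ (∀ y, B y = p • refl l e y) := by
  have hT := T_semi_invariant hf B c hB
  have hae : aT f e e = 0 := by rw [aT_apply, ← eval_eq_T hf, hfe]
  have hm10 : m1 ≠ 0 := by
    intro h
    apply hc0
    rw [h]
    have := eval_smul hf (0 : K) (0 : Fin 3 → K)
    simpa using this
  have h_i : ∀ y, lam ^ 2 * aT f e (B y) = c * aT f e y := by
    intro y
    have := hT e e y
    rw [hBe, T_smul_left, T_smul_mid] at this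
    rw [aT_apply, aT_apply]
    linear_combination this
  have hlam : lam ≠ 0 := by
    intro h
    have := h_i m2
    rw [h] at this
    have h2 : c * aT f e m2 = 0 := by linear_combination -this
    rcases mul_eq_zero.mp h2 with h3 | h3
    · exact hc h3
    · exact hm2a h3
  have h_ii0 : ∀ y, aT f e y * (l (B y) - lam * l y) = 0 := by
    intro y
    have h1 := hT e y y
    rw [hBe, T_smul_left, hbl, hbl] at h1
    have h2 := h_i y
    have h3 : (c * lam) * (aT f e y * (l (B y) - lam * l y)) = 0 := by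
      linear_combination lam ^ 2 * h1 - lam * l (B y) * h2
    exact (mul_eq_zero.mp h3).resolve_left (mul_ne_zero hc hlam)
  have hφ : ∀ y, aT f e y ≠ 0 → l (B y) - lam * l y = 0 :=
    fun y hy => (mul_eq_zero.mp (h_ii0 y)).resolve_left hy
  have h_ii : ∀ y, l (B y) = lam * l y := by
    intro y
    by_cases hy : aT f e y = 0
    · have h1 : aT f e (y + m2) ≠ 0 := by rw [map_add, hy, zero_add]; exact hm2a
      have e1 := hφ _ h1
      have e2 := hφ _ hm2a
      simp only [map_add] at e1
      linear_combination e1 - e2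
    · linear_combination hφ y hy
  have hind3 : ∀ s x z : K, s • e + (x • m1 + z • m2) = 0 → s = 0 ∧ x = 0 ∧ z = 0 := by
    intro s x z h
    have h1 := congrArg l h
    rw [map_add, map_smul, map_add, map_smul, map_smul, hl, hm1l, hm2l, map_zero] at h1
    have hs : s = 0 := by simpa using h1
    have h2 := congrArg (aT f e) h
    rw [map_add, map_smul, map_add, map_smul, map_smul, hae, hm1a, map_zero] at h2
    have hz : z = 0 := by
      have : z * aT f e m2 = 0 := by simpa using h2
      exact (mul_eq_zero.mp this).resolve_right hm2a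
    subst hs hz
    rw [zero_smul, zero_smul, add_zero, zero_add] at h
    exact ⟨rfl, (smul_eq_zero.mp h).resolve_right hm10, rfl⟩
  have hspan3 := span_of_indep3 e m1 m2 hind3
  -- the image of m1
  obtain ⟨s1, p, z1, hBm1⟩ := hspan3 (B m1)
  have hs1 : s1 = 0 := by
    have := h_ii m1
    rw [hBm1, hm1l] at this
    simp only [map_add, map_smul, hl, hm1l, hm2l, smul_eq_mul] at this
    linear_combination (1 / 2 : K) * this
  have hz1 : z1 = 0 := by
    have := h_i m1
    rw [hBm1, hm1a] at this
    simp only [map_add, map_smul, hae, hm1a, smul_eq_mul] at this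
    have h2 : lam ^ 2 * aT f e m2 * z1 = 0 := by linear_combination this
    exact (mul_eq_zero.mp h2).resolve_left (mul_ne_zero (pow_ne_zero 2 hlam) hm2a)
  subst hs1 hz1
  have hBm1' : B m1 = p • m1 := by rw [hBm1]; simp
  -- the image of m2
  obtain ⟨s2, r, q, hBm2⟩ := hspan3 (B m2)
  have hs2 : s2 = 0 := by
    have := h_ii m2
    rw [hBm2, hm2l] at this
    simp only [map_add, map_smul, hl, hm1l, hm2l, smul_eq_mul] at this
    linear_combination (1 / 2 : K) * this
  subst hs2
  have hBm2' : B m2 = r • m1 + q • m2 := by rw [hBm2]; simp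
  have hq : lam ^ 2 * q = c := by
    have := h_i m2
    rw [hBm2', map_add, map_smul, map_smul, hm1a] at this
    simp only [smul_eq_mul] at this
    have h2 : aT f e m2 * (lam ^ 2 * q - c) = 0 := by linear_combination this
    have h3 := (mul_eq_zero.mp h2).resolve_left hm2a
    linear_combination h3
  have r1 : p ^ 3 = c := by
    have := hT m1 m1 m1
    rw [hBm1', T_smul_left, T_smul_mid, T_smul_right, ← eval_eq_T hf] at this
    have h2 : eval m1 f * (p ^ 3 - c) = 0 := by linear_combination this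
    have h3 := (mul_eq_zero.mp h2).resolve_left hc0
    linear_combination h3
  have hp : p ≠ 0 := by
    intro h
    rw [h] at r1
    apply hc
    rw [← r1]; ring
  have r2 : r = 0 := by
    have := hT m1 m1 m2
    rw [hBm1', hBm2', T_smul_left, T_smul_mid, T_add_right, T_smul_right, T_smul_right, hc1,
      ← eval_eq_T hf] at this
    have h2 : p ^ 2 * eval m1 f * r = 0 := by linear_combination this
    exact (mul_eq_zero.mp h2).resolve_left (mul_ne_zero (pow_ne_zero 2 hp) hc0)
  subst r2
  have hBm2'' : B m2 = q • m2 := by rw [hBm2']; simp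
  have r3 : p * q ^ 2 = c := by
    have := hT m1 m2 m2
    rw [hBm1', hBm2'', T_smul_left, T_smul_mid, T_smul_right] at this
    have h2 : T f m1 m2 m2 * (p * q ^ 2 - c) = 0 := by linear_combination this
    have h3 := (mul_eq_zero.mp h2).resolve_left hc2
    linear_combination h3
  have r4 : q ^ 3 = c := by
    have := hT m2 m2 m2
    rw [hBm2'', T_smul_left, T_smul_mid, T_smul_right, ← eval_eq_T hf] at this
    have h2 : eval m2 f * (q ^ 3 - c) = 0 := by linear_combination this
    have h3 := (mul_eq_zero.mp h2).resolve_left hc3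
    linear_combination h3
  have hq0 : q ≠ 0 := by
    intro h
    rw [h] at r4
    apply hc
    rw [← r4]; ring
  have hqp : p = q := by
    have h2 : q ^ 2 * (q - p) = 0 := by linear_combination r4 - r3
    have h3 := (mul_eq_zero.mp h2).resolve_left (pow_ne_zero 2 hq0)
    linear_combination -h3
  subst hqp
  have hlam2 : lam ^ 2 = p ^ 2 := by
    have h2 : p * (lam ^ 2 - p ^ 2) = 0 := by linear_combination hq - r1
    have h3 := (mul_eq_zero.mp h2).resolve_left hp
    linear_combination h3
  have hcases : lam = p ∨ lam = -p := by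
    have h2 : (lam - p) * (lam + p) = 0 := by linear_combination hlam2
    rcases mul_eq_zero.mp h2 with h3 | h3
    · left; linear_combination h3
    · right; linear_combination h3
  refine ⟨p, ?_⟩
  rcases hcases with h | h
  · left
    intro y
    obtain ⟨s, x, z, rfl⟩ := hspan3 y
    rw [map_add, map_smul, map_add, map_smul, map_smul, hBe, hBm1', hBm2'', h]
    module
  · right
    intro y
    obtain ⟨s, x, z, rfl⟩ := hspan3 y
    rw [map_add, map_smul, map_add, map_smul, map_smul, hBe, hBm1', hBm2'', h, refl_apply]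
    simp only [map_add, map_smul, hl, hm1l, hm2l, smul_eq_mul]
    module

theorem matrix_eq_of_mulVec {n : ℕ} (A B : Matrix (Fin n) (Fin n) K)
    (h : ∀ y, A.mulVec y = B.mulVec y) : A = B :=
  (Matrix.toLin' : Matrix (Fin n) (Fin n) K ≃ₗ[K] _).injective
    (LinearMap.ext fun y => by rw [Matrix.toLin'_apply, Matrix.toLin'_apply]; exact h y)

end General

section Hesse

theorem eval_form (k : K) (x : Fin 3 → K) :
    eval x (HesseCubic.form k) = x 0 ^ 3 + x 1 ^ 3 + x 2 ^ 3 - 3 * k * (x 0 * x 1 * x 2) := by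
  simp [HesseCubic.form]

theorem form_homog (k : K) : (HesseCubic.form k).IsHomogeneous 3 := by
  unfold HesseCubic.form
  refine IsHomogeneous.sub (IsHomogeneous.add (IsHomogeneous.add (isHomogeneous_X_pow 0 3)
    (isHomogeneous_X_pow 1 3)) (isHomogeneous_X_pow 2 3)) ?_
  have : (C (3 * k) * (X 0 * X 1 * X 2) : MvPolynomial (Fin 3) K).IsHomogeneous
      (0 + (1 + 1 + 1)) :=
    (isHomogeneous_C _ _).mul (((isHomogeneous_X _ 0).mul (isHomogeneous_X _ 1)).mul
      (isHomogeneous_X _ 2))
  exact this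

/-- the trilinear form of the Hesse cubic -/
def TH (k : K) (x y z : Fin 3 → K) : K :=
  x 0 * y 0 * z 0 + x 1 * y 1 * z 1 + x 2 * y 2 * z 2 -
    k / 2 * (x 0 * y 1 * z 2 + x 0 * y 2 * z 1 + x 1 * y 0 * z 2 + x 1 * y 2 * z 0 +
      x 2 * y 0 * z 1 + x 2 * y 1 * z 0)

theorem T_hesse (k : K) (x y z : Fin 3 → K) : T (HesseCubic.form k) x y z = TH k x y z := by
  have h := T_polar (form_homog k) x y z
  simp only [eval_form, Pi.add_apply] at h
  unfold TH
  linear_combination (1 / 6 : K) * h

/-- the functional `y ↦ y₁ - y₂` -/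
noncomputable def lH : Module.Dual K (Fin 3 → K) :=
  (LinearMap.proj 1 : (Fin 3 → K) →ₗ[K] K) - LinearMap.proj 2

theorem lH_apply (y : Fin 3 → K) : lH y = y 1 - y 2 := rfl

/-- the swap of the last two coordinates -/
def Smat : Matrix (Fin 3) (Fin 3) K := !![1, 0, 0; 0, 0, 1; 0, 1, 0]

theorem Smat_mulVec (y : Fin 3 → K) : (Smat : Matrix (Fin 3) (Fin 3) K).mulVec y = ![y 0, y 2, y 1] := by
  ext i
  fin_cases i <;> simp [Smat, Matrix.mulVec, dotProduct, Fin.sum_univ_three]

theorem hesse_stabilizer (k : K) (hk1 : k ^ 3 - 1 ≠ 0) (hk0 : k ≠ 0) (hk8 : k ^ 3 + 8 ≠ 0)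
    (hk6 : k ^ 6 - 20 * k ^ 3 - 8 ≠ 0)
    (B : Matrix (Fin 3) (Fin 3) K) (c lam : K) (hc : c ≠ 0)
    (hB : ∀ y, eval (B.mulVec y) (HesseCubic.form k) = c * eval y (HesseCubic.form k))
    (hBe : B.mulVec ![0, 1, -1] = lam • ![0, 1, -1]) :
    ∃ p : K, B = p • (1 : Matrix (Fin 3) (Fin 3) K) ∨ B = p • Smat := by
  have hf := form_homog k
  have hfe : eval ![0, 1, -1] (HesseCubic.form k) = 0 := by
    rw [eval_form]; simp only [Matrix.cons_val]; ring
  have haT : ∀ y, aT (HesseCubic.form k) ![0, 1, -1] y = k * y 0 + y 1 + y 2 := by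
    intro y
    rw [aT_apply, T_hesse]; simp only [TH, Matrix.cons_val]; ring
  have hbl : ∀ y, T (HesseCubic.form k) ![0, 1, -1] y y =
      aT (HesseCubic.form k) ![0, 1, -1] y * lH y := by
    intro y
    rw [haT, lH_apply, T_hesse]; simp only [TH, Matrix.cons_val]; ring
  have e0 : eval ![2, -k, -k] (HesseCubic.form k) = -8 * (k ^ 3 - 1) := by
    rw [eval_form]; simp only [Matrix.cons_val]; ring
  have e1 : T (HesseCubic.form k) ![2, -k, -k] ![2, -k, -k] ![-6 * k ^ 2, 4 - k ^ 3, 4 - k ^ 3]
      = 0 := by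
    rw [T_hesse]; simp only [TH, Matrix.cons_val]; ring
  have e2 : T (HesseCubic.form k) ![2, -k, -k] ![-6 * k ^ 2, 4 - k ^ 3, 4 - k ^ 3]
      ![-6 * k ^ 2, 4 - k ^ 3, 4 - k ^ 3] = 8 * k * (k ^ 3 + 8) * (k ^ 3 - 1) := by
    rw [T_hesse]; simp only [TH, Matrix.cons_val]; ring
  have e3 : eval ![-6 * k ^ 2, 4 - k ^ 3, 4 - k ^ 3] (HesseCubic.form k) =
      16 * (k ^ 3 - 1) * (k ^ 6 - 20 * k ^ 3 - 8) := by
    rw [eval_form]; simp only [Matrix.cons_val]; ring
  have ea : aT (HesseCubic.form k) ![0, 1, -1] ![-6 * k ^ 2, 4 - k ^ 3, 4 - k ^ 3] =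
      -8 * (k ^ 3 - 1) := by
    rw [haT]; simp only [Matrix.cons_val]; ring
  obtain ⟨p, hp⟩ := flex_stabilizer hf hfe lH
    (by rw [lH_apply]; simp only [Matrix.cons_val]; ring) hbl
    ![2, -k, -k] ![-6 * k ^ 2, 4 - k ^ 3, 4 - k ^ 3]
    (by rw [haT]; simp only [Matrix.cons_val]; ring)
    (by rw [lH_apply]; simp only [Matrix.cons_val]; ring)
    (by rw [lH_apply]; simp only [Matrix.cons_val]; ring)
    (by rw [ea]; exact mul_ne_zero (by norm_num) hk1)
    (by rw [e0]; exact mul_ne_zero (by norm_num) hk1)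
    e1
    (by rw [e2]; exact mul_ne_zero (mul_ne_zero (mul_ne_zero (by norm_num) hk0) hk8) hk1)
    (by rw [e3]; exact mul_ne_zero (mul_ne_zero (by norm_num) hk1) hk6)
    (Matrix.toLin' B) c lam hc (fun y => by rw [Matrix.toLin'_apply]; exact hB y)
    (by rw [Matrix.toLin'_apply]; exact hBe)
  refine ⟨p, ?_⟩
  rcases hp with h | h
  · left
    apply matrix_eq_of_mulVec
    intro y
    rw [← Matrix.toLin'_apply, h, Matrix.smul_mulVec, Matrix.one_mulVec]
  · right
    apply matrix_eq_of_mulVec
    intro y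
    rw [← Matrix.toLin'_apply, h, Matrix.smul_mulVec, Smat_mulVec, refl_apply, lH_apply]
    congr 1
    ext i
    fin_cases i <;> simp

end Hesse

end Groth.Agent.H91.PlaneCubic
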