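import Groth.Agent.H91.PlaneCubic6
import Groth.Agent.S18404

/-!
The group of determinant-one linear automorphisms of a general Hesse cubic has order 54.
-/

namespace Groth.Agent.H91.PlaneCubic

open MvPolynomial Groth.Agent.H91.CubicK

set_option linter.unusedSectionVars false
set_option linter.unusedVariables false

section HesseGroup

variable {K : Type*} [Field K] [CharZero K]

theorem vec3_ext {x y : Fin 3 → K} (h0 : x 0 = y 0) (h1 : x 1 = y 1) (h2 : x 2 = y 2) : x = y := by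
  ext i
  fin_cases i
  exacts [h0, h1, h2]

/-- membership in the group of determinant-one linear maps preserving the Hesse cubic up to a
scalar -/
def InG (k : K) (A : Matrix (Fin 3) (Fin 3) K) : Prop :=
  A.det = 1 ∧ ∃ c : K, ∀ x : Fin 3 → K,
    eval (A.mulVec x) (HesseCubic.form k) = c * eval x (HesseCubic.form k)

theorem InG.mul {k : K} {A B : Matrix (Fin 3) (Fin 3) K} (hA : InG k A) (hB : InG k B) :
    InG k (A * B) := by
  obtain ⟨hdA, cA, hcA⟩ := hA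
  obtain ⟨hdB, cB, hcB⟩ := hB
  refine ⟨by rw [Matrix.det_mul, hdA, hdB, one_mul], cA * cB, fun x => ?_⟩
  rw [← Matrix.mulVec_mulVec, hcA, hcB, mul_assoc]

theorem InG.c_ne_zero {k : K} {A : Matrix (Fin 3) (Fin 3) K} (hd : A.det = 1) {c : K}
    (hc : ∀ x, eval (A.mulVec x) (HesseCubic.form k) = c * eval x (HesseCubic.form k)) :
    c ≠ 0 := by
  intro h0
  have h1 := hc (A⁻¹.mulVec ![1, 0, 0])
  rw [Matrix.mulVec_mulVec, Matrix.mul_nonsing_inv A (by rw [hd]; exact isUnit_one),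
    Matrix.one_mulVec, h0, zero_mul, eval_form] at h1
  simp only [Matrix.cons_val] at h1
  norm_num at h1

theorem InG.inv {k : K} {A : Matrix (Fin 3) (Fin 3) K} (hA : InG k A) : InG k A⁻¹ := by
  obtain ⟨hd, c, hc⟩ := hA
  have hc0 := InG.c_ne_zero hd hc
  have hu : IsUnit A.det := by rw [hd]; exact isUnit_one
  refine ⟨by simp [Matrix.det_nonsing_inv, hd], c⁻¹, fun x => ?_⟩
  have h1 := hc (A⁻¹.mulVec x)
  rw [Matrix.mulVec_mulVec, Matrix.mul_nonsing_inv A hu, Matrix.one_mulVec] at h1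
  rw [h1, ← mul_assoc, inv_mul_cancel₀ hc0, one_mul]

/-- the cyclic permutation matrices -/
def Pm (a : Fin 3) : Matrix (Fin 3) (Fin 3) K :=
  Matrix.of fun i j => if j = i - a then 1 else 0

theorem Pm_mulVec (a : Fin 3) (y : Fin 3 → K) :
    (Pm a : Matrix (Fin 3) (Fin 3) K).mulVec y = fun i => y (i - a) := by
  ext i
  simp [Pm, Matrix.mulVec, dotProduct]

theorem det_Pm (a : Fin 3) : (Pm a : Matrix (Fin 3) (Fin 3) K).det = 1 := by
  fin_cases a <;> simp [Pm, Matrix.det_fin_three] <;> decide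

theorem InG_Pm (k : K) (a : Fin 3) : InG k (Pm a) := by
  refine ⟨det_Pm a, 1, fun x => ?_⟩
  rw [Pm_mulVec, eval_form, eval_form, one_mul]
  have key : ∀ a : Fin 3,
      ((0 : Fin 3) - a = 0 ∧ (1 : Fin 3) - a = 1 ∧ (2 : Fin 3) - a = 2) ∨
      ((0 : Fin 3) - a = 2 ∧ (1 : Fin 3) - a = 0 ∧ (2 : Fin 3) - a = 1) ∨
      ((0 : Fin 3) - a = 1 ∧ (1 : Fin 3) - a = 2 ∧ (2 : Fin 3) - a = 0) := by decide
  rcases key a with ⟨h0, h1, h2⟩ | ⟨h0, h1, h2⟩ | ⟨h0, h1, h2⟩ <;> simp only [h0, h1, h2] <;> ring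

/-- diagonal matrices `diag(1, γ, γ²)` -/
def Dg (γ : K) : Matrix (Fin 3) (Fin 3) K := !![1, 0, 0; 0, γ, 0; 0, 0, γ ^ 2]

theorem Dg_mulVec (γ : K) (y : Fin 3 → K) :
    (Dg γ).mulVec y = ![y 0, γ * y 1, γ ^ 2 * y 2] := by
  ext i
  fin_cases i <;> simp [Dg, Matrix.mulVec, dotProduct, Fin.sum_univ_three]

theorem det_Dg (γ : K) : (Dg γ).det = γ ^ 3 := by
  simp [Dg, Matrix.det_fin_three]
  ring

theorem InG_Dg (k γ : K) (hγ : γ ^ 3 = 1) : InG k (Dg γ) := by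
  refine ⟨by rw [det_Dg, hγ], 1, fun x => ?_⟩
  rw [Dg_mulVec, eval_form, eval_form, one_mul]
  simp only [Matrix.cons_val]
  linear_combination (x 1 ^ 3 + (γ ^ 3 + 1) * x 2 ^ 3 - 3 * k * (x 0 * x 1 * x 2)) * hγ

theorem det_Smat : (Smat : Matrix (Fin 3) (Fin 3) K).det = -1 := by
  simp [Smat, Matrix.det_fin_three]

/-- the stabiliser of the flex `(0,1,-1)` -/
def Nm (ζ : K) : Bool → Matrix (Fin 3) (Fin 3) K
  | false => ζ • 1
  | true => (-ζ) • Smat

theorem InG_Nm (k ζ : K) (hζ : ζ ^ 3 = 1) (s : Bool) : InG k (Nm ζ s) := by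
  cases s
  · refine ⟨?_, ζ ^ 3, fun x => ?_⟩
    · show (ζ • (1 : Matrix (Fin 3) (Fin 3) K)).det = 1
      rw [Matrix.det_smul, Matrix.det_one, Fintype.card_fin, hζ, mul_one]
    · show eval ((ζ • (1 : Matrix (Fin 3) (Fin 3) K)).mulVec x) _ = _
      rw [Matrix.smul_mulVec, Matrix.one_mulVec, eval_smul (form_homog k)]
  · refine ⟨?_, (-ζ) ^ 3, fun x => ?_⟩
    · show ((-ζ) • (Smat : Matrix (Fin 3) (Fin 3) K)).det = 1
      rw [Matrix.det_smul, det_Smat, Fintype.card_fin]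
      linear_combination hζ
    · show eval (((-ζ) • (Smat : Matrix (Fin 3) (Fin 3) K)).mulVec x) _ = _
      rw [Matrix.smul_mulVec, eval_smul (form_homog k), Smat_mulVec, eval_form, eval_form]
      simp only [Matrix.cons_val]
      ring

theorem Nm_mulVec_p0 (ζ : K) (s : Bool) : (Nm ζ s).mulVec ![0, 1, -1] = ζ • ![0, 1, -1] := by
  cases s
  · show (ζ • (1 : Matrix (Fin 3) (Fin 3) K)).mulVec _ = _
    rw [Matrix.smul_mulVec, Matrix.one_mulVec]
  · show ((-ζ) • (Smat : Matrix (Fin 3) (Fin 3) K)).mulVec _ = _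
    rw [Matrix.smul_mulVec, Smat_mulVec]
    apply vec3_ext <;> simp

theorem Dg_p0 (γ ζ : K) :
    (Dg γ).mulVec (ζ • ![0, 1, -1]) = ![0, ζ * γ, -(ζ * γ ^ 2)] := by
  rw [Dg_mulVec]
  apply vec3_ext <;> simp <;> ring

theorem Psi_mulVec_p0 (a : Fin 3) (γ ζ : K) (s : Bool) :
    (Pm a * (Dg γ * Nm ζ s)).mulVec ![0, 1, -1] =
      fun i => (![0, ζ * γ, -(ζ * γ ^ 2)] : Fin 3 → K) (i - a) := by
  rw [← Matrix.mulVec_mulVec, ← Matrix.mulVec_mulVec, Nm_mulVec_p0, Dg_p0, Pm_mulVec]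

theorem Psi_mulVec_e0_false (a : Fin 3) (γ ζ : K) :
    (Pm a * (Dg γ * Nm ζ false)).mulVec ![1, 0, 0] =
      fun i => (![ζ, 0, 0] : Fin 3 → K) (i - a) := by
  rw [← Matrix.mulVec_mulVec, ← Matrix.mulVec_mulVec]
  have h1 : (Nm ζ false).mulVec ![1, 0, 0] = ![ζ, 0, 0] := by
    show (ζ • (1 : Matrix (Fin 3) (Fin 3) K)).mulVec _ = _
    rw [Matrix.smul_mulVec, Matrix.one_mulVec]
    apply vec3_ext <;> simp
  have h2 : (Dg γ).mulVec ![ζ, 0, 0] = ![ζ, 0, 0] := by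
    rw [Dg_mulVec]
    apply vec3_ext <;> simp
  rw [h1, h2, Pm_mulVec]

theorem Psi_mulVec_e0_true (a : Fin 3) (γ ζ : K) :
    (Pm a * (Dg γ * Nm ζ true)).mulVec ![1, 0, 0] =
      fun i => (![-ζ, 0, 0] : Fin 3 → K) (i - a) := by
  rw [← Matrix.mulVec_mulVec, ← Matrix.mulVec_mulVec]
  have h1 : (Nm ζ true).mulVec ![1, 0, 0] = ![-ζ, 0, 0] := by
    show ((-ζ) • (Smat : Matrix (Fin 3) (Fin 3) K)).mulVec _ = _
    rw [Matrix.smul_mulVec, Smat_mulVec]
    apply vec3_ext <;> simp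
  have h2 : (Dg γ).mulVec ![-ζ, 0, 0] = ![-ζ, 0, 0] := by
    rw [Dg_mulVec]
    apply vec3_ext <;> simp
  rw [h1, h2, Pm_mulVec]

/-- cube roots of unity -/
abbrev Mu3 (K : Type*) [Field K] := {z : K // z ^ 3 = 1}

/-- the parametrisation of the group -/
def Psi (t : Fin 3 × Mu3 K × Mu3 K × Bool) : Matrix (Fin 3) (Fin 3) K :=
  Pm t.1 * (Dg (t.2.1 : K) * Nm (t.2.2.1 : K) t.2.2.2)

theorem InG_Psi (k : K) (t : Fin 3 × Mu3 K × Mu3 K × Bool) : InG k (Psi t) :=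
  InG.mul (InG_Pm k _) (InG.mul (InG_Dg k _ t.2.1.2) (InG_Nm k _ t.2.2.1.2 _))

theorem cube_ne_zero {z : K} (hz : z ^ 3 = 1) : z ≠ 0 := by
  intro h
  rw [h] at hz
  norm_num at hz

theorem Psi_injective :
    Function.Injective (Psi : Fin 3 × Mu3 K × Mu3 K × Bool → Matrix (Fin 3) (Fin 3) K) := by
  rintro ⟨a, ⟨γ, hγ⟩, ⟨ζ, hζ⟩, s⟩ ⟨a', ⟨γ', hγ'⟩, ⟨ζ', hζ'⟩, s'⟩ h
  simp only [Psi] at h
  have hγ0 := cube_ne_zero hγ
  have hγ0' := cube_ne_zero hγ'
  have hζ0 := cube_ne_zero hζ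
  have hζ0' := cube_ne_zero hζ'
  have h1 := congrArg (fun M : Matrix (Fin 3) (Fin 3) K => M.mulVec ![0, 1, -1]) h
  simp only [Psi_mulVec_p0] at h1
  have ha : a = a' := by
    have h2 := congrFun h1 a
    simp only [sub_self, Matrix.cons_val_zero] at h2
    by_contra hne
    have hd : a - a' ≠ 0 := sub_ne_zero.mpr hne
    generalize a - a' = d at h2 hd
    fin_cases d
    · exact hd rfl
    · have h3 : (0 : K) = ζ' * γ' := h2
      exact mul_ne_zero hζ0' hγ0' h3.symm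
    · have h3 : (0 : K) = -(ζ' * γ' ^ 2) := h2
      exact neg_ne_zero.mpr (mul_ne_zero hζ0' (pow_ne_zero 2 hγ0')) h3.symm
  subst ha
  have hv : ∀ j : Fin 3, (![0, ζ * γ, -(ζ * γ ^ 2)] : Fin 3 → K) j =
      (![0, ζ' * γ', -(ζ' * γ' ^ 2)] : Fin 3 → K) j := by
    intro j
    have h2 := congrFun h1 (j + a)
    simp only [add_sub_cancel_right] at h2
    exact h2
  have e1 : ζ * γ = ζ' * γ' := hv 1
  have e2 : -(ζ * γ ^ 2) = -(ζ' * γ' ^ 2) := hv 2
  have hγγ : γ = γ' := by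
    have h3 : ζ * γ * (γ - γ') = 0 := by linear_combination (-1 : K) * e2 - γ' * e1
    have h4 := (mul_eq_zero.mp h3).resolve_left (mul_ne_zero hζ0 hγ0)
    linear_combination h4
  subst hγγ
  have hζζ : ζ = ζ' := mul_right_cancel₀ hγ0 e1
  subst hζζ
  have hs : s = s' := by
    have h5 := congrArg (fun M : Matrix (Fin 3) (Fin 3) K => M.mulVec ![1, 0, 0]) h
    cases s <;> cases s'
    · rfl
    · exfalso
      simp only [Psi_mulVec_e0_false, Psi_mulVec_e0_true] at h5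
      have h6 := congrFun h5 a
      simp only [sub_self, Matrix.cons_val_zero] at h6
      have h7 : 2 * ζ = 0 := by linear_combination h6
      exact hζ0 ((mul_eq_zero.mp h7).resolve_left two_ne_zero)
    · exfalso
      simp only [Psi_mulVec_e0_false, Psi_mulVec_e0_true] at h5
      have h6 := congrFun h5 a
      simp only [sub_self, Matrix.cons_val_zero] at h6
      have h7 : 2 * ζ = 0 := by linear_combination -h6
      exact hζ0 ((mul_eq_zero.mp h7).resolve_left two_ne_zero)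
    · rfl
  subst hs
  rfl

theorem PD_p0 (a : Fin 3) (γ : K) :
    (Pm a * Dg γ).mulVec ![0, 1, -1] = fun i => (![0, γ, -γ ^ 2] : Fin 3 → K) (i - a) := by
  rw [← Matrix.mulVec_mulVec, Pm_mulVec]
  have h : (Dg γ).mulVec ![0, 1, -1] = ![0, γ, -γ ^ 2] := by
    rw [Dg_mulVec]
    apply vec3_ext <;> simp
  rw [h]

end HesseGroup

section Complex

theorem InG_iff (k : ℂ) (hk1 : k ^ 3 - 1 ≠ 0) (hk0 : k ≠ 0) (hk8 : k ^ 3 + 8 ≠ 0)
    (hk6 : k ^ 6 - 20 * k ^ 3 - 8 ≠ 0) (A : Matrix (Fin 3) (Fin 3) ℂ) :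
    InG k A ↔
      A ∈ Set.range (Psi : Fin 3 × Mu3 ℂ × Mu3 ℂ × Bool → Matrix (Fin 3) (Fin 3) ℂ) := by
  constructor
  · rintro ⟨hd, c, hc⟩
    have hc0 := InG.c_ne_zero hd hc
    have hu : IsUnit A.det := by rw [hd]; exact isUnit_one
    have hinj : Function.Injective A.mulVec := by
      intro x y hxy
      have h1 := congrArg A⁻¹.mulVec hxy
      rw [Matrix.mulVec_mulVec, Matrix.mulVec_mulVec, Matrix.nonsing_inv_mul A hu,
        Matrix.one_mulVec, Matrix.one_mulVec] at h1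
      exact h1
    have hk : k ^ 3 ≠ 1 := fun h => hk1 (by rw [h]; ring)
    have hp0 : (![0, 1, -1] : Fin 3 → ℂ) ≠ 0 := by
      intro h
      have h1 := congrFun h 1
      simp at h1
    have hfp0 : eval ![0, 1, -1] (HesseCubic.form k) = 0 := by
      rw [eval_form]; simp only [Matrix.cons_val]; ring
    obtain ⟨w, hw1, hw2⟩ := (Groth.Agent.S18404.result k hk ![0, 1, -1] hp0 hfp0).mpr
      ⟨1, 1, one_pow 3, Or.inl (by rw [one_smul])⟩
    have hAp0 : A.mulVec ![0, 1, -1] ≠ 0 := by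
      intro h
      apply hp0
      apply hinj
      rw [h, Matrix.mulVec_zero]
    have hfAp0 : eval (A.mulVec ![0, 1, -1]) (HesseCubic.form k) = 0 := by
      rw [hc, hfp0, mul_zero]
    have hflex : ∃ w' : Fin 3 → ℂ, LinearIndependent ℂ ![A.mulVec ![0, 1, -1], w'] ∧
        ∀ t : ℂ, eval (A.mulVec ![0, 1, -1] + t • w') (HesseCubic.form k) =
          t ^ 3 * eval w' (HesseCubic.form k) := by
      refine ⟨A.mulVec w, ?_, fun t => ?_⟩
      · rw [LinearIndependent.pair_iff] at hw1 ⊢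
        intro s t hst
        apply hw1 s t
        apply hinj
        rw [Matrix.mulVec_add, Matrix.mulVec_smul, Matrix.mulVec_smul, hst, Matrix.mulVec_zero]
      · rw [← Matrix.mulVec_smul, ← Matrix.mulVec_add, hc, hw2, hc]; ring
    obtain ⟨γ, c', hγ, hcases⟩ := (Groth.Agent.S18404.result k hk _ hAp0 hfAp0).mp hflex
    have hex : ∃ (a : Fin 3) (c'' : ℂ),
        A.mulVec ![0, 1, -1] = c'' • (Pm a * Dg γ).mulVec ![0, 1, -1] := by
      rcases hcases with h | h | h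
      · refine ⟨0, c' * γ ^ 2, ?_⟩
        rw [h, PD_p0]
        apply vec3_ext
        · simp
        · simp only [Pi.smul_apply, smul_eq_mul, sub_zero, Matrix.cons_val]
          linear_combination (-c') * hγ
        · simp only [Pi.smul_apply, smul_eq_mul, sub_zero, Matrix.cons_val]
          linear_combination (c' * γ) * hγ
      · refine ⟨1, c' * γ ^ 2, ?_⟩
        rw [h, PD_p0]
        apply vec3_ext
        · simp only [Pi.smul_apply, smul_eq_mul, show (0 : Fin 3) - 1 = 2 from rfl,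
            Matrix.cons_val]
          linear_combination (c' * γ) * hγ
        · simp
        · simp only [Pi.smul_apply, smul_eq_mul, show (2 : Fin 3) - 1 = 1 from rfl,
            Matrix.cons_val]
          linear_combination (-c') * hγ
      · refine ⟨2, c' * γ ^ 2, ?_⟩
        rw [h, PD_p0]
        apply vec3_ext
        · simp only [Pi.smul_apply, smul_eq_mul, show (0 : Fin 3) - 2 = 1 from rfl,
            Matrix.cons_val]
          linear_combination (-c') * hγ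
        · simp only [Pi.smul_apply, smul_eq_mul, show (1 : Fin 3) - 2 = 2 from rfl,
            Matrix.cons_val]
          linear_combination (c' * γ) * hγ
        · simp
    obtain ⟨a, c'', hA0⟩ := hex
    have hMG : InG k (Pm a * Dg γ) := InG.mul (InG_Pm k a) (InG_Dg k γ hγ)
    have hMu : IsUnit (Pm a * Dg γ : Matrix (Fin 3) (Fin 3) ℂ).det := by
      rw [hMG.1]; exact isUnit_one
    have hBG : InG k ((Pm a * Dg γ)⁻¹ * A) := InG.mul hMG.inv ⟨hd, c, hc⟩
    obtain ⟨hBd, cB, hcB⟩ := hBG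
    have hcB0 := InG.c_ne_zero hBd hcB
    have hBp0 : ((Pm a * Dg γ)⁻¹ * A).mulVec ![0, 1, -1] = c'' • ![0, 1, -1] := by
      rw [← Matrix.mulVec_mulVec, hA0, Matrix.mulVec_smul, Matrix.mulVec_mulVec,
        Matrix.nonsing_inv_mul _ hMu, Matrix.one_mulVec]
    obtain ⟨p, hp⟩ := hesse_stabilizer k hk1 hk0 hk8 hk6 _ cB c'' hcB0 hcB hBp0
    have hAM : A = (Pm a * Dg γ) * ((Pm a * Dg γ)⁻¹ * A) := by
      rw [← Matrix.mul_assoc, Matrix.mul_nonsing_inv _ hMu, Matrix.one_mul]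
    rcases hp with hp | hp
    · have hp3 : p ^ 3 = 1 := by
        have h1 := hBd
        rw [hp, Matrix.det_smul, Matrix.det_one, Fintype.card_fin, mul_one] at h1
        exact h1
      refine ⟨(a, ⟨γ, hγ⟩, ⟨p, hp3⟩, false), ?_⟩
      show Pm a * (Dg γ * (p • (1 : Matrix (Fin 3) (Fin 3) ℂ))) = A
      rw [hAM, hp, Matrix.mul_assoc]
    · have hp3 : (-p) ^ 3 = 1 := by
        have h1 := hBd
        rw [hp, Matrix.det_smul, Fintype.card_fin, det_Smat] at h1
        linear_combination h1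
      refine ⟨(a, ⟨γ, hγ⟩, ⟨-p, hp3⟩, true), ?_⟩
      show Pm a * (Dg γ * ((- -p) • (Smat : Matrix (Fin 3) (Fin 3) ℂ))) = A
      rw [hAM, hp, neg_neg, Matrix.mul_assoc]
  · rintro ⟨t, rfl⟩
    exact InG_Psi k t

theorem card_Mu3 : Nat.card (Mu3 ℂ) = 3 := by
  have e : Mu3 ℂ ≃ (Polynomial.nthRootsFinset 3 (1 : ℂ)) :=
    Equiv.subtypeEquivRight (fun z => by rw [Polynomial.mem_nthRootsFinset (by norm_num)])
  rw [Nat.card_congr e, Nat.card_eq_fintype_card, Fintype.card_coe]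
  exact (Complex.isPrimitiveRoot_exp 3 (by norm_num)).card_nthRootsFinset

theorem card_G (k : ℂ) (hk1 : k ^ 3 - 1 ≠ 0) (hk0 : k ≠ 0) (hk8 : k ^ 3 + 8 ≠ 0)
    (hk6 : k ^ 6 - 20 * k ^ 3 - 8 ≠ 0) :
    Nat.card {A : Matrix (Fin 3) (Fin 3) ℂ // A.det = 1 ∧
        ∃ c : ℂ, aeval (fun i : Fin 3 => ∑ j : Fin 3, C (A i j) * X j) (HesseCubic.form k) =
          C c * HesseCubic.form k} = 54 := by
  have e1 : {A : Matrix (Fin 3) (Fin 3) ℂ // A.det = 1 ∧
        ∃ c : ℂ, aeval (fun i : Fin 3 => ∑ j : Fin 3, C (A i j) * X j) (HesseCubic.form k) =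
          C c * HesseCubic.form k} ≃
      Set.range (Psi : Fin 3 × Mu3 ℂ × Mu3 ℂ × Bool → Matrix (Fin 3) (Fin 3) ℂ) :=
    Equiv.subtypeEquivRight (fun A => by
      rw [← InG_iff k hk1 hk0 hk8 hk6 A]
      unfold InG
      simp only [aeval_matrix_iff'])
  rw [Nat.card_congr e1, Nat.card_congr (Equiv.ofInjective Psi Psi_injective).symm,
    Nat.card_prod, Nat.card_prod, Nat.card_prod, card_Mu3]
  simp

theorem exists_exceptional : ∃ T : Finset ℂ, ∀ k : ℂ, k ∉ T →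
    k ^ 3 - 1 ≠ 0 ∧ k ≠ 0 ∧ k ^ 3 + 8 ≠ 0 ∧ k ^ 6 - 20 * k ^ 3 - 8 ≠ 0 := by
  classical
  let P : Polynomial ℂ := Polynomial.X * (Polynomial.X ^ 3 - 1) * (Polynomial.X ^ 3 + 8) *
    (Polynomial.X ^ 6 - 20 * Polynomial.X ^ 3 - 8)
  have hP : P ≠ 0 := by
    intro h
    have h1 := congrArg (Polynomial.eval 2) h
    simp [P] at h1
    norm_num at h1
  refine ⟨P.roots.toFinset, fun k hk => ?_⟩
  have h1 : ¬ P.IsRoot k := by
    intro h
    apply hk
    rw [Multiset.mem_toFinset, Polynomial.mem_roots hP]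
    exact h
  have h2 : k * (k ^ 3 - 1) * (k ^ 3 + 8) * (k ^ 6 - 20 * k ^ 3 - 8) ≠ 0 := by
    intro h
    apply h1
    simp [P, Polynomial.IsRoot, h]
  refine ⟨?_, ?_, ?_, ?_⟩
  · intro h; apply h2; rw [h]; ring
  · intro h; apply h2; rw [h]; ring
  · intro h; apply h2; rw [h]; ring
  · intro h; apply h2; rw [h]; ring

end Complex

end Groth.Agent.H91.PlaneCubic
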