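import Mathlib
import Groth.Agent.S19392

/-!
Binary quartics given by four root points: two quartics without double zeros whose invariants
`(I³, J²)` are proportional are equivalent under a linear substitution, up to a constant.
-/

set_option autoImplicit false
universe u

namespace Groth.Agent.H91.Quartic

open MvPolynomial

noncomputable section

variable {k : Type u} [Field k]

/-- bracket of two root points -/
def br (la mu : Fin 4 → k) (a b : Fin 4) : k := la a * mu b - la b * mu a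

theorem br_anti (la mu : Fin 4 → k) (a b : Fin 4) : br la mu a b = - br la mu b a := by
  unfold br; ring

theorem br_ne_of_disc (la mu : Fin 4 → k) (hd : W4c6intromoduli.disc la mu ≠ 0) :
    ∀ a b : Fin 4, a ≠ b → br la mu a b ≠ 0 := by
  rw [Groth.Agent.S19391.disc_eq] at hd
  have e10 : br la mu 1 0 ≠ 0 := fun h => hd (by unfold br at h; rw [h]; ring)
  have e20 : br la mu 2 0 ≠ 0 := fun h => hd (by unfold br at h; rw [h]; ring)
  have e30 : br la mu 3 0 ≠ 0 := fun h => hd (by unfold br at h; rw [h]; ring)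
  have e21 : br la mu 2 1 ≠ 0 := fun h => hd (by unfold br at h; rw [h]; ring)
  have e31 : br la mu 3 1 ≠ 0 := fun h => hd (by unfold br at h; rw [h]; ring)
  have e32 : br la mu 3 2 ≠ 0 := fun h => hd (by unfold br at h; rw [h]; ring)
  have key : ∀ a b : Fin 4, b < a → br la mu a b ≠ 0 := by
    intro a b hlt
    fin_cases a <;> fin_cases b <;>
      first
      | exact e10 | exact e20 | exact e30 | exact e21 | exact e31 | exact e32
      | (exfalso; revert hlt; decide)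
  intro a b hab
  rcases lt_or_gt_of_ne hab with hlt | hlt
  · rw [br_anti]; exact neg_ne_zero.mpr (key b a hlt)
  · exact key a b hlt

theorem subst_factor (M : Matrix (Fin 2) (Fin 2) k) (a b : k) :
    W4c6intromoduli.subst M (C b * X 0 - C a * X 1)
      = C (b * M 0 0 - a * M 1 0) * X 0 - C (a * M 1 1 - b * M 0 1) * X 1 := by
  unfold W4c6intromoduli.subst
  simp only [map_sub, map_mul, aeval_C, aeval_X, Fin.sum_univ_two, algebraMap_eq]
  ring

theorem binForm_perm (la mu : Fin 4 → k) (s : Fin 4 → Fin 4) (hs : Function.Bijective s) :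
    W4c6intromoduli.binForm (la ∘ s) (mu ∘ s) = W4c6intromoduli.binForm la mu := by
  unfold W4c6intromoduli.binForm
  exact Fintype.prod_bijective s hs _ _ (fun _ => rfl)

theorem main_eq (la mu la' mu' : Fin 4 → k) (M : Matrix (Fin 2) (Fin 2) k) (t0 t1 t2 t3 : k)
    (h0a : la 0 * M 1 1 - mu 0 * M 0 1 = t0 * la' 0) (h0b : mu 0 * M 0 0 - la 0 * M 1 0 = t0 * mu' 0)
    (h1a : la 1 * M 1 1 - mu 1 * M 0 1 = t1 * la' 1) (h1b : mu 1 * M 0 0 - la 1 * M 1 0 = t1 * mu' 1)
    (h2a : la 2 * M 1 1 - mu 2 * M 0 1 = t2 * la' 2) (h2b : mu 2 * M 0 0 - la 2 * M 1 0 = t2 * mu' 2)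
    (h3a : la 3 * M 1 1 - mu 3 * M 0 1 = t3 * la' 3) (h3b : mu 3 * M 0 0 - la 3 * M 1 0 = t3 * mu' 3)
    (ht : t0 * t1 * t2 * t3 ≠ 0) :
    W4c6intromoduli.binForm la' mu' =
      C ((t0 * t1 * t2 * t3)⁻¹) * W4c6intromoduli.subst M (W4c6intromoduli.binForm la mu) := by
  have hc : (C ((t0 * t1 * t2 * t3)⁻¹) : MvPolynomial (Fin 2) k) * (C t0 * C t1 * C t2 * C t3) = 1 := by
    rw [← C_mul, ← C_mul, ← C_mul, ← C_mul, inv_mul_cancel₀ ht, C_1]
  unfold W4c6intromoduli.binForm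
  rw [Fin.prod_univ_four, Fin.prod_univ_four]
  simp only [map_mul]
  rw [subst_factor, subst_factor, subst_factor, subst_factor, h0a, h0b, h1a, h1b, h2a, h2b, h3a, h3b]
  simp only [map_mul]
  linear_combination (-(((C (mu' 0) * X 0 - C (la' 0) * X 1) * (C (mu' 1) * X 0 - C (la' 1) * X 1)
    * (C (mu' 2) * X 0 - C (la' 2) * X 1) * (C (mu' 3) * X 0 - C (la' 3) * X 1) :
      MvPolynomial (Fin 2) k))) * hc

def uu (la mu la' mu' : Fin 4 → k) : k := br la mu 2 1 * br la' mu' 2 0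
def vv (la mu la' mu' : Fin 4 → k) : k := br la mu 2 0 * br la' mu' 2 1
def n00 (la mu la' mu' : Fin 4 → k) : k :=
  -(mu 0 * uu la mu la' mu' * la' 1) + mu 1 * vv la mu la' mu' * la' 0
def n10 (la mu la' mu' : Fin 4 → k) : k :=
  la 0 * uu la mu la' mu' * la' 1 - la 1 * vv la mu la' mu' * la' 0
def n01 (la mu la' mu' : Fin 4 → k) : k :=
  -(mu 0 * uu la mu la' mu' * mu' 1) + mu 1 * vv la mu la' mu' * mu' 0
def n11 (la mu la' mu' : Fin 4 → k) : k :=
  la 0 * uu la mu la' mu' * mu' 1 - la 1 * vv la mu la' mu' * mu' 0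

/-- The case of equal cross ratios: the projectivity carrying the first three root points to the
first three primed ones carries the fourth to the fourth. -/
theorem key (la mu la' mu' : Fin 4 → k)
    (hd : ∀ a b : Fin 4, a ≠ b → br la mu a b ≠ 0)
    (hd' : ∀ a b : Fin 4, a ≠ b → br la' mu' a b ≠ 0)
    (h : (br la' mu' 0 1 * br la' mu' 2 3) * (br la mu 0 2 * br la mu 3 1)
       = (br la' mu' 0 2 * br la' mu' 3 1) * (br la mu 0 1 * br la mu 2 3)) :
    ∃ (M : Matrix (Fin 2) (Fin 2) k) (c : k), IsUnit M.det ∧ c ≠ 0 ∧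
      W4c6intromoduli.binForm la' mu' =
        C c * W4c6intromoduli.subst M (W4c6intromoduli.binForm la mu) := by
  have d01 : br la mu 0 1 ≠ 0 := hd 0 1 (by decide)
  have d20 : br la mu 2 0 ≠ 0 := hd 2 0 (by decide)
  have d21 : br la mu 2 1 ≠ 0 := hd 2 1 (by decide)
  have d31 : br la mu 3 1 ≠ 0 := hd 3 1 (by decide)
  have d01' : br la' mu' 0 1 ≠ 0 := hd' 0 1 (by decide)
  have d20' : br la' mu' 2 0 ≠ 0 := hd' 2 0 (by decide)
  have d21' : br la' mu' 2 1 ≠ 0 := hd' 2 1 (by decide)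
  have d31' : br la' mu' 3 1 ≠ 0 := hd' 3 1 (by decide)
  have hu : uu la mu la' mu' ≠ 0 := by unfold uu; exact mul_ne_zero d21 d20'
  have hv : vv la mu la' mu' ≠ 0 := by unfold vv; exact mul_ne_zero d20 d21'
  have hcr : br la mu 3 1 * br la mu 2 0 * br la' mu' 2 1 * br la' mu' 3 0
      = br la mu 3 0 * br la mu 2 1 * br la' mu' 2 0 * br la' mu' 3 1 := by
    unfold br at h ⊢
    linear_combination h
  obtain ⟨t0, ht0⟩ : ∃ t0 : k, t0 = br la mu 0 1 * vv la mu la' mu' := ⟨_, rfl⟩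
  obtain ⟨t1, ht1⟩ : ∃ t1 : k, t1 = br la mu 0 1 * uu la mu la' mu' := ⟨_, rfl⟩
  obtain ⟨t2, ht2⟩ : ∃ t2 : k, t2 = br la mu 2 0 * br la mu 2 1 * br la' mu' 0 1 := ⟨_, rfl⟩
  obtain ⟨t3, ht3⟩ : ∃ t3 : k,
      t3 = br la mu 3 1 * vv la mu la' mu' * br la' mu' 0 1 / br la' mu' 3 1 := ⟨_, rfl⟩
  have h0 : t0 ≠ 0 := by rw [ht0]; exact mul_ne_zero d01 hv
  have h1 : t1 ≠ 0 := by rw [ht1]; exact mul_ne_zero d01 hu
  have h2 : t2 ≠ 0 := by rw [ht2]; exact mul_ne_zero (mul_ne_zero d20 d21) d01'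
  have h3 : t3 ≠ 0 := by
    rw [ht3]; exact div_ne_zero (mul_ne_zero (mul_ne_zero d31 hv) d01') d31'
  have ht : t0 * t1 * t2 * t3 ≠ 0 := mul_ne_zero (mul_ne_zero (mul_ne_zero h0 h1) h2) h3
  obtain ⟨M, hM⟩ : ∃ M : Matrix (Fin 2) (Fin 2) k,
      M = !![n11 la mu la' mu', -n10 la mu la' mu'; -n01 la mu la' mu', n00 la mu la' mu'] :=
    ⟨_, rfl⟩
  have hM00 : M 0 0 = n11 la mu la' mu' := congrFun (congrFun hM 0) 0
  have hM01 : M 0 1 = -n10 la mu la' mu' := congrFun (congrFun hM 0) 1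
  have hM10 : M 1 0 = -n01 la mu la' mu' := congrFun (congrFun hM 1) 0
  have hM11 : M 1 1 = n00 la mu la' mu' := congrFun (congrFun hM 1) 1
  have hdet : M.det = uu la mu la' mu' * vv la mu la' mu' * br la mu 0 1 * br la' mu' 0 1 := by
    rw [Matrix.det_fin_two, hM00, hM01, hM10, hM11]
    simp only [n00, n01, n10, n11, br]
    ring
  refine ⟨M, (t0 * t1 * t2 * t3)⁻¹, ?_, inv_ne_zero ht, ?_⟩
  · rw [hdet]
    exact isUnit_iff_ne_zero.mpr (mul_ne_zero (mul_ne_zero (mul_ne_zero hu hv) d01) d01')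
  · refine main_eq la mu la' mu' M t0 t1 t2 t3 ?_ ?_ ?_ ?_ ?_ ?_ ?_ ?_ ht
    · rw [hM11, hM01, ht0]; simp only [n00, n10, br]; ring
    · rw [hM00, hM10, ht0]; simp only [n11, n01, br]; ring
    · rw [hM11, hM01, ht1]; simp only [n00, n10, br]; ring
    · rw [hM00, hM10, ht1]; simp only [n11, n01, br]; ring
    · rw [hM11, hM01, ht2]; simp only [n00, n10, uu, vv, br]; ring
    · rw [hM00, hM10, ht2]; simp only [n11, n01, uu, vv, br]; ring
    · rw [hM11, hM01, ht3, div_mul_eq_mul_div, eq_div_iff d31']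
      simp only [n00, n10, uu, vv, br] at hcr ⊢
      linear_combination la' 1 * hcr
    · rw [hM00, hM10, ht3, div_mul_eq_mul_div, eq_div_iff d31']
      simp only [n11, n01, uu, vv, br] at hcr ⊢
      linear_combination mu' 1 * hcr

theorem key_perm (la mu la' mu' : Fin 4 → k) (s : Fin 4 → Fin 4) (hs : Function.Bijective s)
    (hd : ∀ a b : Fin 4, a ≠ b → br la mu a b ≠ 0)
    (hd' : ∀ a b : Fin 4, a ≠ b → br la' mu' a b ≠ 0)
    (h : (br la' mu' 0 1 * br la' mu' 2 3) * (br la mu (s 0) (s 2) * br la mu (s 3) (s 1))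
       = (br la' mu' 0 2 * br la' mu' 3 1) * (br la mu (s 0) (s 1) * br la mu (s 2) (s 3))) :
    ∃ (M : Matrix (Fin 2) (Fin 2) k) (c : k), IsUnit M.det ∧ c ≠ 0 ∧
      W4c6intromoduli.binForm la' mu' =
        C c * W4c6intromoduli.subst M (W4c6intromoduli.binForm la mu) := by
  have := key (la ∘ s) (mu ∘ s) la' mu'
    (fun a b hab => hd (s a) (s b) (fun e => hab (hs.1 e))) hd' h
  rwa [binForm_perm la mu s hs] at this

theorem six_cases (h3 : (3 : k) ≠ 0) (A B A' B' : k)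
    (h : (A ^ 2 + A * B + B ^ 2) ^ 3 * (-((A' - B') * (A' + 2 * B') * (2 * A' + B'))) ^ 2
       = (A' ^ 2 + A' * B' + B' ^ 2) ^ 3 * (-((A - B) * (A + 2 * B) * (2 * A + B))) ^ 2) :
    (A' * B - B' * A) * (A' * A - B' * B) * (A' * (-A - B) - B' * A) * (A' * A - B' * (-A - B))
      * (A' * (-A - B) - B' * B) * (A' * B - B' * (-A - B)) = 0 := by
  have h27 : (27 : k) ≠ 0 := by
    have : (27 : k) = 3 ^ 3 := by norm_num
    rw [this]; exact pow_ne_zero 3 h3
  apply mul_left_cancel₀ h27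
  linear_combination h

theorem main_result (h3 : (3 : k) ≠ 0) (la mu la' mu' : Fin 4 → k)
    (hd : W4c6intromoduli.disc la mu ≠ 0) (hd' : W4c6intromoduli.disc la' mu' ≠ 0)
    (h : W4c6intromoduli.invI (W4c6intromoduli.coef la mu) ^ 3
          * W4c6intromoduli.invJ (W4c6intromoduli.coef la' mu') ^ 2 =
        W4c6intromoduli.invI (W4c6intromoduli.coef la' mu') ^ 3
          * W4c6intromoduli.invJ (W4c6intromoduli.coef la mu) ^ 2) :
    ∃ (M : Matrix (Fin 2) (Fin 2) k) (c : k), IsUnit M.det ∧ c ≠ 0 ∧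
      W4c6intromoduli.binForm la' mu' =
        MvPolynomial.C c * W4c6intromoduli.subst M (W4c6intromoduli.binForm la mu) := by
  have hbr := br_ne_of_disc la mu hd
  have hbr' := br_ne_of_disc la' mu' hd'
  obtain ⟨A, hA⟩ : ∃ A : k, A = br la mu 0 1 * br la mu 2 3 := ⟨_, rfl⟩
  obtain ⟨B, hB⟩ : ∃ B : k, B = br la mu 0 2 * br la mu 3 1 := ⟨_, rfl⟩
  obtain ⟨A', hA'⟩ : ∃ A' : k, A' = br la' mu' 0 1 * br la' mu' 2 3 := ⟨_, rfl⟩
  obtain ⟨B', hB'⟩ : ∃ B' : k, B' = br la' mu' 0 2 * br la' mu' 3 1 := ⟨_, rfl⟩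
  have hAdd : Groth.Agent.S19392.dd la mu 0 1 * Groth.Agent.S19392.dd la mu 2 3 = A := by
    rw [hA]; unfold Groth.Agent.S19392.dd br; ring
  have hBdd : Groth.Agent.S19392.dd la mu 0 2 * Groth.Agent.S19392.dd la mu 3 1 = B := by
    rw [hB]; unfold Groth.Agent.S19392.dd br; ring
  have hAdd' : Groth.Agent.S19392.dd la' mu' 0 1 * Groth.Agent.S19392.dd la' mu' 2 3 = A' := by
    rw [hA']; unfold Groth.Agent.S19392.dd br; ring
  have hBdd' : Groth.Agent.S19392.dd la' mu' 0 2 * Groth.Agent.S19392.dd la' mu' 3 1 = B' := by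
    rw [hB']; unfold Groth.Agent.S19392.dd br; ring
  rw [Groth.Agent.S19392.invI_eq la mu, Groth.Agent.S19392.invJ_eq la mu,
    Groth.Agent.S19392.invI_eq la' mu', Groth.Agent.S19392.invJ_eq la' mu',
    hAdd, hBdd, hAdd', hBdd'] at h
  have hp := six_cases h3 A B A' B' (by linear_combination h)
  simp only [mul_eq_zero] at hp
  -- auxiliary bracket products
  have x0132 : br la mu 0 1 * br la mu 3 2 = -A := by rw [hA]; unfold br; ring
  have x0213 : br la mu 0 2 * br la mu 1 3 = -B := by rw [hB]; unfold br; ring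
  have x0321 : br la mu 0 3 * br la mu 2 1 = A + B := by rw [hA, hB]; unfold br; ring
  have x0312 : br la mu 0 3 * br la mu 1 2 = -A - B := by rw [hA, hB]; unfold br; ring
  rcases hp with ((((c1 | c2) | c3) | c4) | c5) | c6
  · exact key la mu la' mu' hbr hbr'
      (by rw [← hA, ← hB, ← hA', ← hB']; linear_combination c1)
  · have e : (br la' mu' 0 1 * br la' mu' 2 3) * (br la mu 0 1 * br la mu 3 2)
        = (br la' mu' 0 2 * br la' mu' 3 1) * (br la mu 0 2 * br la mu 1 3) := by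
      rw [x0132, x0213, ← hA', ← hB']; linear_combination -c2
    exact key_perm la mu la' mu' ![0, 2, 1, 3] (by decide) hbr hbr' e
  · have e : (br la' mu' 0 1 * br la' mu' 2 3) * (br la mu 0 3 * br la mu 2 1)
        = (br la' mu' 0 2 * br la' mu' 3 1) * (br la mu 0 1 * br la mu 3 2) := by
      rw [x0321, x0132, ← hA', ← hB']; linear_combination -c3
    exact key_perm la mu la' mu' ![0, 1, 3, 2] (by decide) hbr hbr' e
  · have e : (br la' mu' 0 1 * br la' mu' 2 3) * (br la mu 0 1 * br la mu 2 3)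
        = (br la' mu' 0 2 * br la' mu' 3 1) * (br la mu 0 3 * br la mu 1 2) := by
      rw [x0312, ← hA, ← hA', ← hB']; linear_combination c4
    exact key_perm la mu la' mu' ![0, 3, 1, 2] (by decide) hbr hbr' e
  · have e : (br la' mu' 0 1 * br la' mu' 2 3) * (br la mu 0 3 * br la mu 1 2)
        = (br la' mu' 0 2 * br la' mu' 3 1) * (br la mu 0 2 * br la mu 3 1) := by
      rw [x0312, ← hB, ← hA', ← hB']; linear_combination c5
    exact key_perm la mu la' mu' ![0, 2, 3, 1] (by decide) hbr hbr' e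
  · have e : (br la' mu' 0 1 * br la' mu' 2 3) * (br la mu 0 2 * br la mu 1 3)
        = (br la' mu' 0 2 * br la' mu' 3 1) * (br la mu 0 3 * br la mu 2 1) := by
      rw [x0213, x0321, ← hA', ← hB']; linear_combination -c6
    exact key_perm la mu la' mu' ![0, 3, 2, 1] (by decide) hbr hbr' e

end

end Groth.Agent.H91.Quartic
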