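import Groth.Agent.H91.TorusConn
import Groth.Agent.H91.GaPt
import Groth.Prelude.Def_AlgGrp

/-! An étale normal subgroup of `T ⋉_α 𝔾_a` (over an algebraically closed field, `α ≠ 1`) meeting
`T` trivially is trivial. -/

set_option autoImplicit false
universe u
open CategoryTheory CategoryTheory.Limits MonoidalCategory CartesianMonoidalCategory MonObj GrpObj AlgebraicGeometry

noncomputable section

namespace Groth.Agent.H91.SemiDirEt

open Groth.Agent.H91.GaDict Groth.Agent.H91.GaPt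

section pts
variable {B : Scheme.{u}} {T P U : Over B} [GrpObj T] [GrpObj P] [GrpObj U]
  (jT : T ⟶ P) (jU : U ⟶ P)

theorem lift_comp_cell {X : Over B} (a : X ⟶ T) (b : X ⟶ U) :
    lift a b ≫ (jT ⊗ₘ jU) ≫ μ[P] = (a ≫ jT) * (b ≫ jU) := by
  rw [← Category.assoc, lift_map, Hom.mul_def]

theorem cell_injective [IsIso ((jT ⊗ₘ jU) ≫ μ[P])] {X : Over B} {a a' : X ⟶ T} {b b' : X ⟶ U}
    (h : (a ≫ jT) * (b ≫ jU) = (a' ≫ jT) * (b' ≫ jU)) : a = a' ∧ b = b' := by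
  rw [← lift_comp_cell, ← lift_comp_cell, cancel_mono] at h
  constructor
  · have := congrArg (fun f => f ≫ fst T U) h
    simpa using this
  · have := congrArg (fun f => f ≫ snd T U) h
    simpa using this

theorem cell_surjective [IsIso ((jT ⊗ₘ jU) ≫ μ[P])] {X : Over B} (c : X ⟶ P) :
    ∃ (a : X ⟶ T) (b : X ⟶ U), c = (a ≫ jT) * (b ≫ jU) := by
  refine ⟨(c ≫ inv ((jT ⊗ₘ jU) ≫ μ[P])) ≫ fst T U, (c ≫ inv ((jT ⊗ₘ jU) ≫ μ[P])) ≫ snd T U, ?_⟩
  rw [← lift_comp_cell]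
  have h : lift ((c ≫ inv ((jT ⊗ₘ jU) ≫ μ[P])) ≫ fst T U) ((c ≫ inv ((jT ⊗ₘ jU) ≫ μ[P])) ≫ snd T U) =
      c ≫ inv ((jT ⊗ₘ jU) ≫ μ[P]) := by
    apply CartesianMonoidalCategory.hom_ext <;> simp
  rw [h, Category.assoc, IsIso.inv_hom_id, Category.comp_id]

end pts

section main
variable (K : Type u) [Field K] [IsAlgClosed K]
  (T P N : Over (Spec (CommRingCat.of K))) [GrpObj T] [GrpObj P] [GrpObj N]
  (α : T ⟶ Red.Gm (Spec (CommRingCat.of K))) [IsMonHom α]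
  (jT : T ⟶ P) [IsMonHom jT] (jU : Red.Ga (Spec (CommRingCat.of K)) ⟶ P) [IsMonHom jU]
  (n : N ⟶ P) [IsMonHom n] [Mono n]

/-- a nonzero element of `Γ(Spec K, ⊤)` is a unit. -/
theorem isUnit_of_ne_zero {a : Γ(Spec (CommRingCat.of K), ⊤)} (ha : a ≠ 0) : IsUnit a := by
  let e := (Scheme.ΓSpecIso (CommRingCat.of K)).commRingCatIsoToRingEquiv
  have h1 : e a ≠ 0 := fun h => ha ((map_eq_zero_iff e e.injective).mp h)
  have h2 : IsUnit (e a) := isUnit_iff_ne_zero.mpr h1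
  have h3 := h2.map e.symm
  simpa using h3

include K in
theorem conj_const (hT : Red.IsTorus T) (het : Etale N.hom) (m : 𝟙_ (Over (Spec (CommRingCat.of K))) ⟶ N)
    (mT : T ⟶ N) (hmT : jT * ((toUnit T ≫ m) ≫ n) * jT⁻¹ = mT ≫ n) : mT = toUnit T ≫ m := by
  haveI := het
  have hη : η[T] ≫ toUnit T = 𝟙 _ := toUnit_unique _ _
  have h1 : η[T] ≫ mT = m := by
    rw [← cancel_mono n, Category.assoc, ← hmT, MonObj.comp_mul, MonObj.comp_mul, GrpObj.comp_inv,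
      ← Category.assoc, ← Category.assoc, hη, Category.id_comp]
    have h2 : η[T] ≫ jT = 1 := by
      rw [IsMonHom.one_hom, Hom.one_def]
      rw [show toUnit (𝟙_ (Over (Spec (CommRingCat.of K)))) = 𝟙 _ from toUnit_unique _ _,
        Category.id_comp]
    rw [h2, inv_one, _root_.one_mul, _root_.mul_one]
  have h3 : mT * (toUnit T ≫ m)⁻¹ = 1 := by
    apply Groth.Agent.H91.TorusConn.hom_eq_one_of_etale K T N hT
    rw [MonObj.comp_mul, GrpObj.comp_inv, h1, ← Category.assoc, hη, Category.id_comp,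
      mul_inv_cancel, Hom.one_def,
      show toUnit (𝟙_ (Over (Spec (CommRingCat.of K)))) = 𝟙 _ from toUnit_unique _ _,
      Category.id_comp]
  exact mul_inv_eq_one.mp h3

include K in
theorem kpoint_eq_one (hT : Red.IsTorus T) (hα : α ≠ 1) (hiso : IsIso ((jT ⊗ₘ jU) ≫ μ[P]))
    (hconj : ∀ (X : Over (Spec (CommRingCat.of K))) (t : X ⟶ T)
      (x x' : X ⟶ Red.Ga (Spec (CommRingCat.of K))),
      Red.gaFn x' = Red.gmFn (t ≫ α) * Red.gaFn x → (t ≫ jT) * (x ≫ jU) * (t ≫ jT)⁻¹ = x' ≫ jU)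
    (hn : AlgGrp.IsNormalHom n) (het : Etale N.hom)
    (hNT : ∀ (X : Over (Spec (CommRingCat.of K))) (t : X ⟶ T) (m : X ⟶ N), t ≫ jT = m ≫ n → m = 1)
    (m : 𝟙_ (Over (Spec (CommRingCat.of K))) ⟶ N) : m = 1 := by
  haveI := hiso
  obtain ⟨t₀, x₀, hdec⟩ := cell_surjective jT jU (m ≫ n)
  -- conjugation by the universal point of `T`
  obtain ⟨mT, hmT⟩ := hn T jT (toUnit T ≫ m)
  have hconst := conj_const K T P N jT n hT het m mT hmT
  rw [hconst] at hmT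
  have hc : (toUnit T ≫ m) ≫ n = ((toUnit T ≫ t₀) ≫ jT) * ((toUnit T ≫ x₀) ≫ jU) := by
    rw [Category.assoc, hdec, MonObj.comp_mul, Category.assoc, Category.assoc]
  -- the conjugate of `x₀`
  obtain ⟨x'', hx''⟩ := exists_ga_of_fn (S := Spec (CommRingCat.of K)) (T := T)
    (Red.gmFn (𝟙 T ≫ α) * Red.gaFn (toUnit T ≫ x₀))
  have hcj := hconj T (𝟙 T) (toUnit T ≫ x₀) x'' hx''
  rw [Category.id_comp] at hcj
  have hτ : jT * ((toUnit T ≫ t₀) ≫ jT) * jT⁻¹ = ((𝟙 T) * (toUnit T ≫ t₀) * (𝟙 T)⁻¹) ≫ jT := by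
    rw [MonObj.mul_comp _ _ jT, MonObj.mul_comp _ _ jT, GrpObj.inv_comp, Category.id_comp]
  have hgrp : jT * (((toUnit T ≫ t₀) ≫ jT) * ((toUnit T ≫ x₀) ≫ jU)) * jT⁻¹ =
      (jT * ((toUnit T ≫ t₀) ≫ jT) * jT⁻¹) * (jT * ((toUnit T ≫ x₀) ≫ jU) * jT⁻¹) := by
    group
  rw [hc, hgrp, hτ, hcj] at hmT
  obtain ⟨-, hx⟩ := cell_injective jT jU hmT
  -- so `α · x₀ = x₀`
  have hfn : Red.gmFn (𝟙 T ≫ α) * Red.gaFn (toUnit T ≫ x₀) = Red.gaFn (toUnit T ≫ x₀) := by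
    rw [← hx'', hx]
  have hx₀ : Red.gaFn x₀ = 0 := by
    by_contra hne
    have hu : IsUnit (Red.gaFn x₀) := isUnit_of_ne_zero K hne
    have hu' : IsUnit (Red.gaFn (toUnit T ≫ x₀)) := by
      rw [gaFn_comp]
      exact hu.map _
    have h1 : Red.gmFn (𝟙 T ≫ α) = 1 := hu'.mul_eq_right.mp hfn
    rw [Category.id_comp] at h1
    exact hα (GmPts.gmFn_injective (h1.trans GmPts.gmFn_one.symm))
  have hx1 : x₀ = 1 := eq_one_of_gaFn_eq_zero hx₀
  rw [hx1, MonObj.one_comp jU, _root_.mul_one] at hdec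
  exact hNT _ t₀ m hdec.symm

include K in
theorem main (hT : Red.IsTorus T) (hα : α ≠ 1) (hiso : IsIso ((jT ⊗ₘ jU) ≫ μ[P]))
    (hconj : ∀ (X : Over (Spec (CommRingCat.of K))) (t : X ⟶ T)
      (x x' : X ⟶ Red.Ga (Spec (CommRingCat.of K))),
      Red.gaFn x' = Red.gmFn (t ≫ α) * Red.gaFn x → (t ≫ jT) * (x ≫ jU) * (t ≫ jT)⁻¹ = x' ≫ jU)
    (hn : AlgGrp.IsNormalHom n) (het : Etale N.hom)
    (hNT : ∀ (X : Over (Spec (CommRingCat.of K))) (t : X ⟶ T) (m : X ⟶ N), t ≫ jT = m ≫ n → m = 1) :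
    Red.IsTrivialGrp N := by
  haveI := het
  haveI := Groth.Agent.H91.EtAlgCl.discreteTopology N.hom
  have key : 𝟙 N.left = N.hom ≫ η[N].left := by
    apply Groth.Agent.H91.EtAlgCl.hom_ext_kpoints N.hom
    intro k hk
    have h1 := kpoint_eq_one K T P N α jT jU n hT hα hiso hconj hn het hNT
      (Over.homMk k (by simpa using hk))
    have h2 := congrArg Over.Hom.left h1
    have h3 : (1 : 𝟙_ (Over (Spec (CommRingCat.of K))) ⟶ N).left = η[N].left := by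
      rw [Hom.one_def,
        show toUnit (𝟙_ (Over (Spec (CommRingCat.of K)))) = 𝟙 _ from toUnit_unique _ _,
        Category.id_comp]
    rw [Category.comp_id, ← Category.assoc, hk, Category.id_comp]
    exact h2.trans h3
  exact ⟨η[N].left, key.symm, Over.w η[N]⟩

end main

end Groth.Agent.H91.SemiDirEt
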