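import Mathlib

/-!
# Irreducibility of the cone `V(σ₂, σ₄) ⊂ 𝔸⁵` (for S12437)
-/

set_option autoImplicit false

namespace Groth.Agent.H91.Sig24

open MvPolynomial

section defs
variable {R : Type*} [CommRing R]

/-- elementary symmetric functions of four scalars -/
def e1 (d a b c : R) : R := d + a + b + c
def e2 (d a b c : R) : R := d * a + d * b + d * c + a * b + a * c + b * c
def e3 (d a b c : R) : R := d * a * b + d * a * c + d * b * c + a * b * c
def e4 (d a b c : R) : R := d * a * b * c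
/-- the quintic `e₂e₃ - e₁e₄` -/
def quint (d a b c : R) : R := e2 d a b c * e3 d a b c - e1 d a b c * e4 d a b c

variable {S : Type*} [CommRing S] (φ : R →+* S) (d a b c : R)

theorem map_e1 : φ (e1 d a b c) = e1 (φ d) (φ a) (φ b) (φ c) := by simp [e1]
theorem map_e2 : φ (e2 d a b c) = e2 (φ d) (φ a) (φ b) (φ c) := by simp [e2]
theorem map_e3 : φ (e3 d a b c) = e3 (φ d) (φ a) (φ b) (φ c) := by simp [e3]
theorem map_e4 : φ (e4 d a b c) = e4 (φ d) (φ a) (φ b) (φ c) := by simp [e4]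
theorem map_quint : φ (quint d a b c) = quint (φ d) (φ a) (φ b) (φ c) := by
  simp [quint, map_e1, map_e2, map_e3, map_e4]

end defs

variable {k : Type*} [Field k]

theorem aeval_eq {σ : Type*} (x : σ → k) (p : MvPolynomial σ k) : aeval x p = eval x p := rfl

theorem not_dvd_of_eval {σ : Type*} (x : σ → k) {p q : MvPolynomial σ k} (hp : eval x p = 0)
    (hq : eval x q ≠ 0) : ¬ p ∣ q := fun ⟨r, hr⟩ => hq (by rw [hr, map_mul, hp, zero_mul])

theorem esymm52 (x : Fin 5 → k) : eval x (esymm (Fin 5) k 2) =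
    x 0 * x 1 + x 0 * x 2 + x 0 * x 3 + x 0 * x 4 + x 1 * x 2 + x 1 * x 3 + x 1 * x 4 + x 2 * x 3
      + x 2 * x 4 + x 3 * x 4 := by
  have h := aeval_esymm_eq_multiset_esymm (Fin 5) k (S := k) 2 x
  change aeval x _ = _
  rw [h]
  have : (Finset.univ : Finset (Fin 5)).val.map x = x 0 ::ₘ x 1 ::ₘ x 2 ::ₘ x 3 ::ₘ x 4 ::ₘ 0 := by
    rfl
  rw [this]
  simp [Multiset.esymm, Multiset.powersetCard_cons, Multiset.powersetCard_zero_left,
    Multiset.powersetCard_one]
  ring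

theorem esymm54 (x : Fin 5 → k) : eval x (esymm (Fin 5) k 4) =
    x 0 * x 1 * x 2 * x 3 + x 0 * x 1 * x 2 * x 4 + x 0 * x 1 * x 3 * x 4 + x 0 * x 2 * x 3 * x 4 +
      x 1 * x 2 * x 3 * x 4 := by
  have h := aeval_esymm_eq_multiset_esymm (Fin 5) k (S := k) 4 x
  change aeval x _ = _
  rw [h]
  have : (Finset.univ : Finset (Fin 5)).val.map x = x 0 ::ₘ x 1 ::ₘ x 2 ::ₘ x 3 ::ₘ x 4 ::ₘ 0 := by
    rfl
  rw [this]
  simp [Multiset.esymm, Multiset.powersetCard_cons, Multiset.powersetCard_zero_left,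
    Multiset.powersetCard_one]
  ring

theorem sig2_eq (x : Fin 5 → k) : eval x (esymm (Fin 5) k 2) =
    e2 (x 0) (x 1) (x 2) (x 3) + x 4 * e1 (x 0) (x 1) (x 2) (x 3) := by
  rw [esymm52]; unfold e1 e2; ring

theorem sig4_eq (x : Fin 5 → k) : eval x (esymm (Fin 5) k 4) =
    e4 (x 0) (x 1) (x 2) (x 3) + x 4 * e3 (x 0) (x 1) (x 2) (x 3) := by
  rw [esymm54]; unfold e3 e4; ring

/-- membership in `V(σ₂, σ₄)` -/
def InV (x : Fin 5 → k) : Prop :=
  eval x (esymm (Fin 5) k 2) = 0 ∧ eval x (esymm (Fin 5) k 4) = 0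

theorem quint_eq_zero_of_inV {x : Fin 5 → k} (hx : InV x) :
    quint (x 0) (x 1) (x 2) (x 3) = 0 := by
  have h2 := hx.1
  have h4 := hx.2
  rw [sig2_eq] at h2
  rw [sig4_eq] at h4
  unfold quint
  linear_combination e3 (x 0) (x 1) (x 2) (x 3) * h2 - e1 (x 0) (x 1) (x 2) (x 3) * h4

/-! ### Irreducibility of the quintic -/

section irr
variable (k) [CharZero k]

noncomputable def S1 : MvPolynomial (Fin 3) k := X 0 + X 1 + X 2
noncomputable def S2 : MvPolynomial (Fin 3) k := X 0 * X 1 + X 0 * X 2 + X 1 * X 2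
noncomputable def S3 : MvPolynomial (Fin 3) k := X 0 * X 1 * X 2

theorem irreducible_S2 : Irreducible (S2 k) := by
  have hne : (X 0 + X 1 : MvPolynomial (Fin 2) k) ≠ 0 := by
    intro h0
    have := congrArg (eval ![(1 : k), 0]) h0
    simp at this
  have hp : Irreducible (Polynomial.C (X 0 + X 1 : MvPolynomial (Fin 2) k) * Polynomial.X +
      Polynomial.C (X 0 * X 1)) := by
    apply Polynomial.irreducible_of_degree_eq_one_of_isRelPrime_coeff
    · exact Polynomial.degree_linear hne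
    · have c0 : (Polynomial.C (X 0 + X 1 : MvPolynomial (Fin 2) k) * Polynomial.X +
          Polynomial.C (X 0 * X 1)).coeff 0 = X 0 * X 1 := by simp
      have c1 : (Polynomial.C (X 0 + X 1 : MvPolynomial (Fin 2) k) * Polynomial.X +
          Polynomial.C (X 0 * X 1)).coeff 1 = X 0 + X 1 := by simp
      rw [c0, c1]
      refine IsRelPrime.mul_left ?_ ?_
      · refine (X_prime (R := k) (σ := Fin 2) (i := 0)).irreducible.isRelPrime_iff_not_dvd.mpr ?_
        intro hd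
        have hd' : (X 0 : MvPolynomial (Fin 2) k) ∣ X 1 := (dvd_add_right (dvd_refl _)).mp hd
        exact not_dvd_of_eval ![(0 : k), 1] (by simp) (by simp) hd'
      · refine (X_prime (R := k) (σ := Fin 2) (i := 1)).irreducible.isRelPrime_iff_not_dvd.mpr ?_
        intro hd
        have hd' : (X 1 : MvPolynomial (Fin 2) k) ∣ X 0 := (dvd_add_left (dvd_refl _)).mp hd
        exact not_dvd_of_eval ![(1 : k), 0] (by simp) (by simp) hd'
  have he : finSuccEquiv k 2 (S2 k) = Polynomial.C (X 0 + X 1 : MvPolynomial (Fin 2) k) *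
      Polynomial.X + Polynomial.C (X 0 * X 1) := by
    have h1 : (X 1 : MvPolynomial (Fin 3) k) = X (Fin.succ 0) := rfl
    have h2 : (X 2 : MvPolynomial (Fin 3) k) = X (Fin.succ 1) := rfl
    rw [S2, h1, h2]
    simp only [map_add, map_mul, finSuccEquiv_X_zero, finSuccEquiv_X_succ]
    ring
  rw [← he] at hp
  exact (MulEquiv.irreducible_iff (finSuccEquiv k 2)).mp hp

theorem S2_ne_zero : S2 k ≠ 0 := (irreducible_S2 k).ne_zero

theorem not_S2_dvd_S3 : ¬ S2 k ∣ S3 k := by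
  refine not_dvd_of_eval ![(2 : k), 2, -1] ?_ ?_
  · simp [S2]; norm_num
  · simp [S3]

theorem not_S2_dvd_A : ¬ S2 k ∣ S1 k * S2 k - S3 k := by
  intro h
  exact not_S2_dvd_S3 k ((dvd_sub_right (dvd_mul_left _ _)).mp h)

/-- the quadratic polynomial (in `d`) over `k[a,b,c]` -/
noncomputable def fQ : Polynomial (MvPolynomial (Fin 3) k) :=
  Polynomial.C (S1 k * S2 k - S3 k) * Polynomial.X ^ 2 + Polynomial.C (S2 k ^ 2) * Polynomial.X +
    Polynomial.C (S2 k * S3 k)

theorem irreducible_fQ : Irreducible (fQ k) := by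
  have hA0 : S1 k * S2 k - S3 k ≠ 0 := by
    intro h0
    exact not_S2_dvd_A k (h0 ▸ dvd_zero _)
  have hprime : Prime (S2 k) := (irreducible_S2 k).prime
  have hdeg : (fQ k).degree = 2 := Polynomial.degree_quadratic hA0
  have c0 : (fQ k).coeff 0 = S2 k * S3 k := by
    simp only [fQ, Polynomial.coeff_add, Polynomial.coeff_C_mul, Polynomial.coeff_X_pow,
      Polynomial.coeff_X, Polynomial.coeff_C]
    simp
  have c1 : (fQ k).coeff 1 = S2 k ^ 2 := by
    simp only [fQ, Polynomial.coeff_add, Polynomial.coeff_C_mul, Polynomial.coeff_X_pow,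
      Polynomial.coeff_X, Polynomial.coeff_C]
    simp
  have c2 : (fQ k).coeff 2 = S1 k * S2 k - S3 k := by
    simp only [fQ, Polynomial.coeff_add, Polynomial.coeff_C_mul, Polynomial.coeff_X_pow,
      Polynomial.coeff_X, Polynomial.coeff_C]
    simp
  refine Polynomial.irreducible_of_eisenstein_criterion (P := Ideal.span {S2 k})
    ((Ideal.span_singleton_prime (S2_ne_zero k)).mpr hprime) ?_ ?_ ?_ ?_ ?_
  · rw [fQ, Polynomial.leadingCoeff_quadratic hA0, Ideal.mem_span_singleton]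
    exact not_S2_dvd_A k
  · intro n hn
    rw [hdeg] at hn
    have hn' : n < 2 := by exact_mod_cast hn
    interval_cases n
    · rw [c0, Ideal.mem_span_singleton]; exact dvd_mul_right _ _
    · rw [c1, Ideal.mem_span_singleton]; exact dvd_pow_self _ two_ne_zero
  · rw [hdeg]; norm_num
  · rw [c0, Ideal.span_singleton_pow, Ideal.mem_span_singleton, pow_two]
    intro h
    exact not_S2_dvd_S3 k ((mul_dvd_mul_iff_left (S2_ne_zero k)).mp h)
  · intro r hr
    rw [Polynomial.C_dvd_iff_dvd_coeff] at hr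
    have h1 := hr 1
    have h2 := hr 2
    rw [c1] at h1
    rw [c2] at h2
    have hrel : IsRelPrime (S2 k ^ 2) (S1 k * S2 k - S3 k) :=
      ((irreducible_S2 k).isRelPrime_iff_not_dvd.mpr (not_S2_dvd_A k)).pow_left
    exact hrel h1 h2

/-- the quintic as a polynomial in four variables -/
noncomputable def Qp : MvPolynomial (Fin 4) k := quint (X 0) (X 1) (X 2) (X 3)

theorem finSuccEquiv_Qp : finSuccEquiv k 3 (Qp k) = fQ k := by
  have h1 : (X 1 : MvPolynomial (Fin 4) k) = X (Fin.succ 0) := rfl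
  have h2 : (X 2 : MvPolynomial (Fin 4) k) = X (Fin.succ 1) := rfl
  have h3 : (X 3 : MvPolynomial (Fin 4) k) = X (Fin.succ 2) := rfl
  rw [Qp, h1, h2, h3, fQ, S1, S2, S3]
  simp only [quint, e1, e2, e3, e4, map_add, map_mul, map_sub, map_pow, finSuccEquiv_X_zero,
    finSuccEquiv_X_succ]
  ring

theorem prime_Qp : Prime (Qp k) := by
  have h : Irreducible (finSuccEquiv k 3 (Qp k)) := by
    rw [finSuccEquiv_Qp]; exact irreducible_fQ k
  exact ((MulEquiv.irreducible_iff (finSuccEquiv k 3)).mp h).prime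

theorem eval_Qp (x' : Fin 4 → k) : eval x' (Qp k) = quint (x' 0) (x' 1) (x' 2) (x' 3) := by
  rw [Qp, map_quint]; simp

theorem not_Qp_dvd_E1 : ¬ Qp k ∣ e1 (X 0) (X 1) (X 2) (X 3) := by
  refine not_dvd_of_eval ![(0 : k), 2, 2, -1] ?_ ?_
  · rw [eval_Qp]; simp [quint, e1, e2, e3, e4]; norm_num
  · rw [map_e1]; simp [e1]; norm_num

end irr

/-! ### The chart `e₁(x₀,…,x₃) ≠ 0` -/

/-- the point of `𝔸⁵` with given first four coordinates and last coordinate -/
def pt (x' : Fin 4 → k) (y : k) : Fin 5 → k := ![x' 0, x' 1, x' 2, x' 3, y]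

/-- the first four coordinates -/
def ini (x : Fin 5 → k) : Fin 4 → k := ![x 0, x 1, x 2, x 3]

theorem pt_ini (x : Fin 5 → k) : pt (ini x) (x 4) = x := by
  funext i
  fin_cases i <;> rfl

/-- the canonical lift of `x'` to the hypersurface `σ₂ = 0` -/
noncomputable def lft (x' : Fin 4 → k) : Fin 5 → k :=
  pt x' (-e2 (x' 0) (x' 1) (x' 2) (x' 3) / e1 (x' 0) (x' 1) (x' 2) (x' 3))

theorem clear (h : MvPolynomial (Fin 5) k) : ∃ (N : ℕ) (h' : MvPolynomial (Fin 4) k),
    ∀ x' : Fin 4 → k, e1 (x' 0) (x' 1) (x' 2) (x' 3) ≠ 0 →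
      eval x' h' = e1 (x' 0) (x' 1) (x' 2) (x' 3) ^ N * eval (lft x') h := by
  induction h using MvPolynomial.induction_on with
  | C a => exact ⟨0, C a, fun x' _ => by simp⟩
  | add p q hp hq =>
    obtain ⟨Np, p', hp'⟩ := hp
    obtain ⟨Nq, q', hq'⟩ := hq
    refine ⟨Np + Nq, p' * e1 (X 0) (X 1) (X 2) (X 3) ^ Nq + q' * e1 (X 0) (X 1) (X 2) (X 3) ^ Np,
      fun x' hx => ?_⟩
    rw [map_add, map_mul, map_mul, map_pow, map_pow, map_e1, hp' x' hx, hq' x' hx, map_add]
    simp only [eval_X]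
    ring
  | mul_X p n hp =>
    obtain ⟨Np, p', hp'⟩ := hp
    fin_cases n
    · refine ⟨Np, p' * X 0, fun x' hx => ?_⟩
      rw [map_mul, map_mul, hp' x' hx, eval_X, eval_X]
      simp [lft, pt]
      ring
    · refine ⟨Np, p' * X 1, fun x' hx => ?_⟩
      rw [map_mul, map_mul, hp' x' hx, eval_X, eval_X]
      simp [lft, pt]
      ring
    · refine ⟨Np, p' * X 2, fun x' hx => ?_⟩
      rw [map_mul, map_mul, hp' x' hx, eval_X, eval_X]
      simp [lft, pt]
      ring
    · refine ⟨Np, p' * X 3, fun x' hx => ?_⟩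
      rw [map_mul, map_mul, hp' x' hx, eval_X, eval_X]
      simp [lft, pt]
      ring
    · refine ⟨Np + 1, p' * (-e2 (X 0) (X 1) (X 2) (X 3)), fun x' hx => ?_⟩
      rw [map_mul, map_mul, hp' x' hx, map_neg, map_e2, eval_X]
      simp only [eval_X]
      have h4 : lft x' 4 = -e2 (x' 0) (x' 1) (x' 2) (x' 3) / e1 (x' 0) (x' 1) (x' 2) (x' 3) := rfl
      change _ = _ * (eval (lft x') p * lft x' 4)
      rw [h4]
      field_simp
      ring

theorem inV_lft (x' : Fin 4 → k) (hE : e1 (x' 0) (x' 1) (x' 2) (x' 3) ≠ 0)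
    (hQ : quint (x' 0) (x' 1) (x' 2) (x' 3) = 0) : InV (lft x') := by
  have hy : lft x' 4 * e1 (x' 0) (x' 1) (x' 2) (x' 3) = -e2 (x' 0) (x' 1) (x' 2) (x' 3) := by
    change -e2 (x' 0) (x' 1) (x' 2) (x' 3) / e1 (x' 0) (x' 1) (x' 2) (x' 3) * _ = _
    field_simp
  have h0 : lft x' 0 = x' 0 := rfl
  have h1 : lft x' 1 = x' 1 := rfl
  have h2 : lft x' 2 = x' 2 := rfl
  have h3 : lft x' 3 = x' 3 := rfl
  unfold quint at hQ
  constructor
  · rw [sig2_eq, h0, h1, h2, h3]
    linear_combination hy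
  · rw [sig4_eq, h0, h1, h2, h3]
    apply mul_left_cancel₀ hE
    linear_combination e3 (x' 0) (x' 1) (x' 2) (x' 3) * hy - hQ

theorem lft_ini {x : Fin 5 → k} (hx : InV x) (hE : e1 (x 0) (x 1) (x 2) (x 3) ≠ 0) :
    lft (ini x) = x := by
  have h2 := hx.1
  rw [sig2_eq] at h2
  have h4 : x 4 = -e2 (x 0) (x 1) (x 2) (x 3) / e1 (x 0) (x 1) (x 2) (x 3) := by
    rw [eq_div_iff hE]; linear_combination h2
  have : lft (ini x) = pt (ini x) (x 4) := by
    rw [h4]; rfl
  rw [this, pt_ini]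

section chart
variable [IsAlgClosed k] [CharZero k]

theorem chart (f g : MvPolynomial (Fin 5) k)
    (h : ∀ x, InV x → eval x f * eval x g = 0) :
    (∀ x, InV x → e1 (x 0) (x 1) (x 2) (x 3) ≠ 0 → eval x f = 0) ∨
      (∀ x, InV x → e1 (x 0) (x 1) (x 2) (x 3) ≠ 0 → eval x g = 0) := by
  obtain ⟨Nf, f', hf'⟩ := clear f
  obtain ⟨Ng, g', hg'⟩ := clear g
  have hmem : e1 (X 0) (X 1) (X 2) (X 3) * f' * g' ∈
      vanishingIdeal k (zeroLocus k (Ideal.span {Qp k})) := by
    rw [mem_vanishingIdeal_iff]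
    intro x' hx'
    have hQ : eval x' (Qp k) = 0 := hx' (Qp k) (Ideal.subset_span (Set.mem_singleton _))
    rw [eval_Qp] at hQ
    rw [aeval_eq, map_mul, map_mul, map_e1]
    simp only [eval_X]
    by_cases hE : e1 (x' 0) (x' 1) (x' 2) (x' 3) = 0
    · rw [hE, zero_mul, zero_mul]
    · rw [hf' x' hE, hg' x' hE]
      have := h (lft x') (inV_lft x' hE hQ)
      linear_combination (e1 (x' 0) (x' 1) (x' 2) (x' 3) * e1 (x' 0) (x' 1) (x' 2) (x' 3) ^ Nf *
        e1 (x' 0) (x' 1) (x' 2) (x' 3) ^ Ng) * this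
  rw [vanishingIdeal_zeroLocus_eq_radical] at hmem
  obtain ⟨n, hn⟩ := hmem
  rw [Ideal.mem_span_singleton] at hn
  have hdvd := (prime_Qp k).dvd_of_dvd_pow hn
  have key : ∀ (N : ℕ) (p : MvPolynomial (Fin 5) k) (p' : MvPolynomial (Fin 4) k),
      (∀ x' : Fin 4 → k, e1 (x' 0) (x' 1) (x' 2) (x' 3) ≠ 0 →
        eval x' p' = e1 (x' 0) (x' 1) (x' 2) (x' 3) ^ N * eval (lft x') p) → Qp k ∣ p' →
      ∀ x, InV x → e1 (x 0) (x 1) (x 2) (x 3) ≠ 0 → eval x p = 0 := by
    intro N p p' hp' hd x hx hE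
    have hE' : e1 (ini x 0) (ini x 1) (ini x 2) (ini x 3) ≠ 0 := hE
    have h1 := hp' (ini x) hE'
    rw [lft_ini hx hE] at h1
    obtain ⟨r, hr⟩ := hd
    have h2 : eval (ini x) p' = 0 := by
      rw [hr, map_mul, eval_Qp]
      have : quint (ini x 0) (ini x 1) (ini x 2) (ini x 3) = 0 := quint_eq_zero_of_inV hx
      rw [this, zero_mul]
    rw [h2] at h1
    rcases mul_eq_zero.mp h1.symm with h3 | h3
    · exact absurd h3 (pow_ne_zero N hE')
    · exact h3
  rcases (prime_Qp k).dvd_or_dvd hdvd with h1 | h1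
  · rcases (prime_Qp k).dvd_or_dvd h1 with h2 | h2
    · exact absurd h2 (not_Qp_dvd_E1 k)
    · exact Or.inl (key Nf f f' hf' h2)
  · exact Or.inr (key Ng g g' hg' h1)

end chart

end Groth.Agent.H91.Sig24
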