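import Groth.Agent.H91.Sig24

/-!
# Irreducibility of `V(σ₂, σ₄)`: symmetric charts and gluing (for S12437)
-/

set_option autoImplicit false

namespace Groth.Agent.H91.Sig24

open MvPolynomial

variable {k : Type*} [Field k]

/-- `u i x = (∑ x) - x i` -/
def u (i : Fin 5) (x : Fin 5 → k) : k := (∑ j, x j) - x i

theorem e1_eq_u (y : Fin 5 → k) : e1 (y 0) (y 1) (y 2) (y 3) = u 4 y := by
  unfold e1 u
  rw [Fin.sum_univ_five]
  ring

theorem inV_perm (τ : Equiv.Perm (Fin 5)) {x : Fin 5 → k} (hx : InV x) : InV (x ∘ τ) := by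
  constructor
  · rw [← eval_rename, (esymm_isSymmetric (Fin 5) k 2) τ]; exact hx.1
  · rw [← eval_rename, (esymm_isSymmetric (Fin 5) k 4) τ]; exact hx.2

theorem u_perm (τ : Equiv.Perm (Fin 5)) (x : Fin 5 → k) (j : Fin 5) :
    u j (x ∘ τ) = u (τ j) x := by
  unfold u
  rw [Function.comp_apply]
  congr 1
  exact Equiv.sum_comp τ x

/-- the base point -/
def P0 : Fin 5 → k := ![2, 2, -1, 0, 0]

theorem inV_P0_mul (t : k) : InV (fun i => (P0 i : k) * t) := by
  constructor
  · rw [esymm52]; simp only [P0, Matrix.cons_val]; ring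
  · rw [esymm54]; simp only [P0, Matrix.cons_val]; ring

theorem inV_P0 : InV (P0 : Fin 5 → k) := by
  have h := inV_P0_mul (k := k) 1
  have h1 : (fun i => (P0 i : k) * 1) = P0 := by funext i; ring
  rwa [h1] at h

theorem u_P0_mul (t : k) (j : Fin 5) : u j (fun i => (P0 i : k) * t) = t * u j P0 := by
  unfold u
  rw [← Finset.sum_mul]
  ring

theorem u_P0_ne [CharZero k] (j : Fin 5) : u j (P0 : Fin 5 → k) ≠ 0 := by
  unfold u
  rw [Fin.sum_univ_five]
  fin_cases j <;> simp [P0] <;> norm_num

theorem cover [CharZero k] (x : Fin 5 → k) (hx : x ≠ 0) : ∃ j, u j x ≠ 0 := by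
  by_contra hcon
  push Not at hcon
  obtain ⟨S, hS⟩ : ∃ S : k, S = ∑ l, x l := ⟨_, rfl⟩
  have hxS : ∀ j, x j = S := by
    intro j
    have := hcon j
    unfold u at this
    rw [← hS] at this
    exact (sub_eq_zero.mp this).symm
  have h5 : S = x 0 + x 1 + x 2 + x 3 + x 4 := by rw [hS, Fin.sum_univ_five]
  rw [hxS 0, hxS 1, hxS 2, hxS 3, hxS 4] at h5
  have h4 : (4 : k) * S = 0 := by linear_combination -h5
  have hS0 : S = 0 := by
    rcases mul_eq_zero.mp h4 with h | h
    · exact absurd h (by norm_num)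
    · exact h
  apply hx
  funext j
  rw [hxS j, hS0]
  rfl

section main
variable [IsAlgClosed k] [CharZero k]

theorem chart_i (i : Fin 5) (f g : MvPolynomial (Fin 5) k)
    (h : ∀ x, InV x → eval x f * eval x g = 0) :
    (∀ x, InV x → u i x ≠ 0 → eval x f = 0) ∨ (∀ x, InV x → u i x ≠ 0 → eval x g = 0) := by
  obtain ⟨τ, hτ⟩ : ∃ τ : Equiv.Perm (Fin 5), τ = Equiv.swap i 4 := ⟨_, rfl⟩
  have hττ : ∀ x : Fin 5 → k, (x ∘ τ) ∘ τ = x := by
    intro x
    funext j
    simp [hτ]
  have h4 : τ 4 = i := by simp [hτ]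
  have key : ∀ p : MvPolynomial (Fin 5) k,
      (∀ x, InV x → e1 (x 0) (x 1) (x 2) (x 3) ≠ 0 → eval x (rename τ p) = 0) →
      ∀ x, InV x → u i x ≠ 0 → eval x p = 0 := by
    intro p hp x hx hu
    have := hp (x ∘ τ) (inV_perm τ hx) (by rw [e1_eq_u, u_perm, h4]; exact hu)
    rwa [eval_rename, hττ] at this
  have hch := chart (rename τ f) (rename τ g) (by
    intro x hx
    rw [eval_rename, eval_rename]
    exact h _ (inV_perm τ hx))
  rcases hch with h1 | h1
  · exact Or.inl (key f h1)
  · exact Or.inr (key g h1)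

theorem of_charts (p : MvPolynomial (Fin 5) k)
    (H : ∀ j x, InV x → u j x ≠ 0 → eval x p = 0) : ∀ x, InV x → eval x p = 0 := by
  intro x hx
  by_cases hx0 : x = 0
  · subst hx0
    obtain ⟨q, hqdef⟩ : ∃ q : Polynomial k,
        q = aeval (fun i => Polynomial.C (P0 i : k) * Polynomial.X) p := ⟨_, rfl⟩
    have hq : ∀ t : k, Polynomial.eval t q = eval (fun i => (P0 i : k) * t) p := by
      intro t
      have h1 : (Polynomial.aeval t) (aeval (fun i => Polynomial.C (P0 i : k) * Polynomial.X) p) =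
          aeval (fun i => Polynomial.aeval t (Polynomial.C (P0 i : k) * Polynomial.X)) p :=
        comp_aeval_apply _ _ p
      rw [Polynomial.coe_aeval_eq_eval, ← hqdef, aeval_eq] at h1
      rw [h1]
      congr 2
      funext i
      simp
    have hq0 : q = 0 := by
      apply Polynomial.eq_zero_of_infinite_isRoot
      have : Infinite k := CharZero.infinite k
      have hinf : Set.Infinite ({0}ᶜ : Set k) := (Set.finite_singleton 0).infinite_compl
      refine hinf.mono ?_
      intro t ht
      have ht0 : t ≠ 0 := ht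
      show Polynomial.IsRoot q t
      rw [Polynomial.IsRoot, hq]
      exact H 0 _ (inV_P0_mul t) (by rw [u_P0_mul]; exact mul_ne_zero ht0 (u_P0_ne 0))
    have h0 := hq 0
    rw [hq0, Polynomial.eval_zero] at h0
    have hz : (fun i => (P0 i : k) * 0) = (0 : Fin 5 → k) := by
      funext i
      simp
    rw [hz] at h0
    exact h0.symm
  · obtain ⟨j, hj⟩ := cover x hx0
    exact H j x hx hj

theorem irred (f g : MvPolynomial (Fin 5) k) (h : ∀ x, InV x → eval x f * eval x g = 0) :
    (∀ x, InV x → eval x f = 0) ∨ (∀ x, InV x → eval x g = 0) := by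
  by_cases hf : ∃ i, ∀ x, InV x → u i x ≠ 0 → eval x f = 0
  · left
    obtain ⟨i, hi⟩ := hf
    apply of_charts
    intro j
    have hUi : ∀ x : Fin 5 → k,
        eval x ((∑ l, X l) - X i : MvPolynomial (Fin 5) k) = u i x := by
      intro x
      unfold u
      simp [map_sum]
    rcases chart_i j f ((∑ l, X l) - X i) (by
      intro x hx
      by_cases hu : u i x = 0
      · rw [hUi, hu, mul_zero]
      · rw [hi x hx hu, zero_mul]) with h1 | h2
    · exact h1
    · exfalso
      have := h2 P0 inV_P0 (u_P0_ne j)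
      rw [hUi] at this
      exact u_P0_ne i this
  · right
    push Not at hf
    apply of_charts
    intro j
    rcases chart_i j f g h with h1 | h1
    · obtain ⟨x, hx, hu, hne⟩ := hf j
      exact absurd (h1 x hx hu) hne
    · exact h1

end main

end Groth.Agent.H91.Sig24
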