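import Groth.Agent.H91.Nod3

/-!
Cubic surfaces with a singular point: the polar quadric at the point and a parametrisation of the
tangent cone when it is a smooth conic.  (Variants of the lemmas on nodes, without smoothness
hypotheses.)
-/

namespace Groth.Agent.H91.Sing

open MvPolynomial Groth.Agent.H91.CubicK Groth.Agent.H91.Tri Groth.Agent.H91.Nod

set_option linter.unusedSectionVars false
set_option linter.unusedVariables false

noncomputable section

variable {K : Type*} [Field K] [CharZero K]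

section Lin

theorem exists_basis4 {v₀ v₁ v₂ v₃ : Fin 4 → K}
    (h : ∀ a b c d : K, a • v₀ + b • v₁ + c • v₂ + d • v₃ = 0 → a = 0 ∧ b = 0 ∧ c = 0 ∧ d = 0) :
    ∃ B : Module.Basis (Fin 4) K (Fin 4 → K), B 0 = v₀ ∧ B 1 = v₁ ∧ B 2 = v₂ ∧ B 3 = v₃ := by
  classical
  have hli : LinearIndependent K ![v₀, v₁, v₂, v₃] := by
    rw [Fintype.linearIndependent_iff]
    intro g hg
    rw [Fin.sum_univ_four] at hg
    simp only [Matrix.cons_val] at hg
    obtain ⟨h0, h1, h2, h3⟩ := h _ _ _ _ hg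
    intro i
    fin_cases i
    · exact h0
    · exact h1
    · exact h2
    · exact h3
  let b := basisOfLinearIndependentOfCardEqFinrank hli (by simp)
  have hb : ∀ i, b i = ![v₀, v₁, v₂, v₃] i := fun i => by
    simp [b, coe_basisOfLinearIndependentOfCardEqFinrank]
  exact ⟨b, by rw [hb]; rfl, by rw [hb]; rfl, by rw [hb]; rfl, by rw [hb]; rfl⟩

theorem basis_expand (B : Module.Basis (Fin 4) K (Fin 4 → K)) (x : Fin 4 → K) :
    x = B.repr x 0 • B 0 + B.repr x 1 • B 1 + B.repr x 2 • B 2 + B.repr x 3 • B 3 := by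
  have h := B.sum_repr x
  rw [Fin.sum_univ_four] at h
  exact h.symm

theorem prop_of_dot_zero {α β s γ : K} (h : α * s + β * γ = 0) (hαβ : α ≠ 0 ∨ β ≠ 0)
    (hsγ : s ≠ 0 ∨ γ ≠ 0) : ∃ ρ : K, ρ ≠ 0 ∧ s = ρ * β ∧ γ = -(ρ * α) := by
  by_cases hα : α = 0
  · have hβ : β ≠ 0 := by
      rcases hαβ with h' | h'
      · exact absurd hα h'
      · exact h'
    have hγ : γ = 0 := by
      rw [hα, zero_mul, zero_add] at h
      exact (mul_eq_zero.mp h).resolve_left hβ
    have hs : s ≠ 0 := by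
      rcases hsγ with h' | h'
      · exact h'
      · exact absurd hγ h'
    refine ⟨s / β, div_ne_zero hs hβ, (div_mul_cancel₀ _ hβ).symm, ?_⟩
    rw [hγ, hα, mul_zero, neg_zero]
  · have hs : s = -γ / α * β := by
      apply mul_left_cancel₀ hα
      calc α * s = -γ * β := by linear_combination h
        _ = (-γ / α * α) * β := by rw [div_mul_cancel₀ _ hα]
        _ = α * (-γ / α * β) := by ring
    have hγ : γ = -(-γ / α * α) := by rw [div_mul_cancel₀ _ hα]; ring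
    refine ⟨-γ / α, ?_, hs, hγ⟩
    intro h0
    rw [h0, zero_mul] at hs
    rw [h0, zero_mul, neg_zero] at hγ
    rcases hsγ with h' | h'
    · exact h' hs
    · exact h' hγ

theorem prop_of_dot_zero' {m n α β : K} (h : m * α + n * β = 0) (hmn : m ≠ 0 ∨ n ≠ 0) :
    ∃ γ : K, α = γ * n ∧ β = -(γ * m) := by
  rcases hmn with hm | hn
  · refine ⟨-β / m, ?_, ?_⟩
    · apply mul_left_cancel₀ hm
      calc m * α = -β * n := by linear_combination h
        _ = (-β / m * m) * n := by rw [div_mul_cancel₀ _ hm]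
        _ = m * (-β / m * n) := by ring
    · rw [div_mul_cancel₀ _ hm]; ring
  · refine ⟨α / n, (div_mul_cancel₀ _ hn).symm, ?_⟩
    apply mul_left_cancel₀ hn
    calc n * β = -(α * m) := by linear_combination h
      _ = -((α / n * n) * m) := by rw [div_mul_cancel₀ _ hn]
      _ = n * -(α / n * m) := by ring

theorem coeff_p6' (c6 c5 c4 c3 c2 c1 c0 : K) :
    (p6 c6 c5 c4 c3 c2 c1 c0).coeff 5 = c5 ∧ (p6 c6 c5 c4 c3 c2 c1 c0).coeff 4 = c4 ∧
    (p6 c6 c5 c4 c3 c2 c1 c0).coeff 3 = c3 ∧ (p6 c6 c5 c4 c3 c2 c1 c0).coeff 2 = c2 ∧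
    (p6 c6 c5 c4 c3 c2 c1 c0).coeff 1 = c1 ∧ (p6 c6 c5 c4 c3 c2 c1 c0).coeff 0 = c0 := by
  unfold p6
  refine ⟨?_, ?_, ?_, ?_, ?_, ?_⟩ <;> simp [Polynomial.coeff_X, Polynomial.coeff_C]

theorem not_isUnit_of_eval_zero {P : MvPolynomial (Fin 4) K} (h : eval 0 P = 0) : ¬ IsUnit P := by
  intro hu
  obtain ⟨R, hR⟩ := isUnit_iff_exists_inv.mp hu
  have := congrArg (eval 0) hR
  rw [map_mul, h, zero_mul, map_one] at this
  exact zero_ne_one this

end Lin

/-- a cubic surface with a singular point, in terms of the polar form -/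
structure WNode (f : MvPolynomial (Fin 4) K) where
  p : Fin 4 → K
  hp : p ≠ 0
  hf : f.IsHomogeneous 3
  hpp : ∀ y, T f p p y = 0

variable {f : MvPolynomial (Fin 4) K}

namespace WNode

variable (N : WNode f)

/-- the polar quadric at the singular point -/
def b (x y : Fin 4 → K) : K := T f N.p x y

theorem b_comm (x y : Fin 4 → K) : N.b x y = N.b y x := T_comm23 f N.p x y
theorem b_add_left (x x' y : Fin 4 → K) : N.b (x + x') y = N.b x y + N.b x' y :=
  T_add_mid f N.p x x' y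
theorem b_add_right (x y y' : Fin 4 → K) : N.b x (y + y') = N.b x y + N.b x y' :=
  T_add_right f N.p x y y'
theorem b_smul_left (c : K) (x y : Fin 4 → K) : N.b (c • x) y = c * N.b x y :=
  T_smul_mid f c N.p x y
theorem b_smul_right (c : K) (x y : Fin 4 → K) : N.b x (c • y) = c * N.b x y :=
  T_smul_right f c N.p x y
theorem b_p_left (y : Fin 4 → K) : N.b N.p y = 0 := N.hpp y
theorem b_p_right (x : Fin 4 → K) : N.b x N.p = 0 := by rw [b_comm]; exact N.hpp x
theorem b_zero_left (y : Fin 4 → K) : N.b 0 y = 0 := by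
  have := N.b_smul_left 0 0 y
  rwa [zero_smul, zero_mul] at this
theorem b_zero_right (x : Fin 4 → K) : N.b x 0 = 0 := by
  rw [b_comm]; exact N.b_zero_left x

theorem b_add_p (t t' : K) (v v' : Fin 4 → K) :
    N.b (t • N.p + v) (t' • N.p + v') = N.b v v' := by
  simp only [N.b_add_left, N.b_add_right, N.b_smul_left, N.b_smul_right, N.b_p_left,
    N.b_p_right]
  ring

/-- expansion of the cubic along the singular point -/
theorem eval_add_p (v : Fin 4 → K) (t : K) :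
    eval (v + t • N.p) f = eval v f + 3 * t * N.b v v := by
  have h1 : eval N.p f = 0 := by rw [eval_eq_T N.hf]; exact N.hpp _
  have h2 : T f N.p N.p v = 0 := N.hpp v
  have h3 : T f N.p v v = N.b v v := rfl
  rw [add_comm v, eval_expand N.hf, h1, h2, h3]
  ring

/-- a line through the singular point is spanned by it and an isotropic zero of the cubic -/
theorem line_gen (U : Submodule K (Fin 4 → K)) (hpU : N.p ∈ U) (hU : Module.finrank K U = 2)
    (hv : ∀ u ∈ U, eval u f = 0) :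
    ∃ v ∈ U, (∀ s t : K, s • N.p + t • v = 0 → s = 0 ∧ t = 0) ∧ U = pairSpan N.p v ∧
      eval v f = 0 ∧ N.b v v = 0 := by
  obtain ⟨v, hvU, hind⟩ := exists_indep_in_line hU N.hp hpU
  exact ⟨v, hvU, hind, eq_pairSpan hU hpU hvU hind, hv v hvU,
    (line_cond N.hf U hv hpU hvU).2⟩

end WNode

/-- a parametrisation of the tangent cone at the singular point -/
structure WFrame (N : WNode f) where
  w₀ : Fin 4 → K
  w₁ : Fin 4 → K
  w₂ : Fin 4 → K
  h00 : N.b w₀ w₀ = 0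
  h01 : N.b w₀ w₁ = 0
  h02 : N.b w₀ w₂ = 1
  h11 : N.b w₁ w₁ = -2
  h12 : N.b w₁ w₂ = 0
  h22 : N.b w₂ w₂ = 0

namespace WFrame

variable {N : WNode f} (Q : WFrame N)

theorem b_comb (x y z x' y' z' : K) :
    N.b (x • Q.w₀ + y • Q.w₁ + z • Q.w₂) (x' • Q.w₀ + y' • Q.w₁ + z' • Q.w₂) =
      x * z' + z * x' - 2 * y * y' := by
  have h10 : N.b Q.w₁ Q.w₀ = 0 := by rw [N.b_comm]; exact Q.h01
  have h20 : N.b Q.w₂ Q.w₀ = 1 := by rw [N.b_comm]; exact Q.h02
  have h21 : N.b Q.w₂ Q.w₁ = 0 := by rw [N.b_comm]; exact Q.h12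
  simp only [N.b_add_left, N.b_add_right, N.b_smul_left, N.b_smul_right, Q.h00, Q.h01, Q.h02,
    Q.h11, Q.h12, Q.h22, h10, h20, h21]
  ring

theorem b_comb_p (t x y z t' x' y' z' : K) :
    N.b (t • N.p + x • Q.w₀ + y • Q.w₁ + z • Q.w₂)
        (t' • N.p + x' • Q.w₀ + y' • Q.w₁ + z' • Q.w₂) =
      x * z' + z * x' - 2 * y * y' := by
  have e1 : t • N.p + x • Q.w₀ + y • Q.w₁ + z • Q.w₂ =
      t • N.p + (x • Q.w₀ + y • Q.w₁ + z • Q.w₂) := by abel
  have e2 : t' • N.p + x' • Q.w₀ + y' • Q.w₁ + z' • Q.w₂ =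
      t' • N.p + (x' • Q.w₀ + y' • Q.w₁ + z' • Q.w₂) := by abel
  rw [e1, e2, N.b_add_p, Q.b_comb]

theorem indep : ∀ a x y z : K, a • N.p + x • Q.w₀ + y • Q.w₁ + z • Q.w₂ = 0 →
    a = 0 ∧ x = 0 ∧ y = 0 ∧ z = 0 := by
  intro a x y z h
  have key : ∀ x' y' z' : K, x * z' + z * x' - 2 * y * y' = 0 := by
    intro x' y' z'
    have e := Q.b_comb_p a x y z 0 x' y' z'
    rw [h, N.b_zero_left] at e
    exact e.symm
  have hz := key 1 0 0
  have hx := key 0 0 1
  have hy := key 0 1 0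
  have hx0 : x = 0 := by linear_combination hx
  have hz0 : z = 0 := by linear_combination hz
  have hy0 : y = 0 := by linear_combination (-1 / 2 : K) * hy
  refine ⟨?_, hx0, hy0, hz0⟩
  rw [hx0, hy0, hz0, zero_smul, zero_smul, zero_smul, add_zero, add_zero, add_zero] at h
  exact (smul_eq_zero.mp h).resolve_right N.hp

/-- the parametrisation of the tangent cone -/
def w (s : K) : Fin 4 → K := s ^ 2 • Q.w₀ + s • Q.w₁ + (1 : K) • Q.w₂

theorem b_w_w (s : K) : N.b (Q.w s) (Q.w s) = 0 := by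
  unfold w; rw [Q.b_comb]; ring

theorem indep_w (s : K) : ∀ α β : K, α • N.p + β • Q.w s = 0 → α = 0 ∧ β = 0 := by
  intro α β h
  have h' : α • N.p + (β * s ^ 2) • Q.w₀ + (β * s) • Q.w₁ + β • Q.w₂ = 0 := by
    rw [← h]; unfold w; module
  obtain ⟨h1, -, -, h4⟩ := Q.indep _ _ _ _ h'
  exact ⟨h1, h4⟩

/-- the sextic cut out on the tangent cone by the surface -/
def g : Polynomial K :=
  p6 (T f Q.w₀ Q.w₀ Q.w₀) (3 * T f Q.w₀ Q.w₀ Q.w₁)
    (3 * T f Q.w₀ Q.w₀ Q.w₂ + 3 * T f Q.w₀ Q.w₁ Q.w₁)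
    (6 * T f Q.w₀ Q.w₁ Q.w₂ + T f Q.w₁ Q.w₁ Q.w₁)
    (3 * T f Q.w₀ Q.w₂ Q.w₂ + 3 * T f Q.w₁ Q.w₁ Q.w₂) (3 * T f Q.w₁ Q.w₂ Q.w₂)
    (T f Q.w₂ Q.w₂ Q.w₂)

theorem eval_g (s : K) : Polynomial.eval s Q.g = eval (Q.w s) f := by
  rw [eval_eq_T N.hf]
  unfold g w
  rw [eval_p6, T_polar3]
  ring

/-- move the base point of the parametrisation -/
def shift (s : K) : WFrame N where
  w₀ := s ^ 2 • Q.w₀ + s • Q.w₁ + (1 : K) • Q.w₂
  w₁ := (-(2 * s)) • Q.w₀ + (-1 : K) • Q.w₁ + (0 : K) • Q.w₂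
  w₂ := (1 : K) • Q.w₀ + (0 : K) • Q.w₁ + (0 : K) • Q.w₂
  h00 := by rw [Q.b_comb]; ring
  h01 := by rw [Q.b_comb]; ring
  h02 := by rw [Q.b_comb]; ring
  h11 := by rw [Q.b_comb]; ring
  h12 := by rw [Q.b_comb]; ring
  h22 := by rw [Q.b_comb]; ring

/-- the cubic in the coordinates of the frame -/
theorem eval_coords (t x₀ x₁ x₂ : K) :
    eval (t • N.p + x₀ • Q.w₀ + x₁ • Q.w₁ + x₂ • Q.w₂) f =
      T f (x₀ • Q.w₀ + x₁ • Q.w₁ + x₂ • Q.w₂) (x₀ • Q.w₀ + x₁ • Q.w₁ + x₂ • Q.w₂)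
        (x₀ • Q.w₀ + x₁ • Q.w₁ + x₂ • Q.w₂) + 3 * t * (2 * x₀ * x₂ - 2 * x₁ ^ 2) := by
  have e : t • N.p + x₀ • Q.w₀ + x₁ • Q.w₁ + x₂ • Q.w₂ =
      (x₀ • Q.w₀ + x₁ • Q.w₁ + x₂ • Q.w₂) + t • N.p := by abel
  rw [e, N.eval_add_p, eval_eq_T N.hf, Q.b_comb]
  ring

/-- all lines through the singular point come from roots of the sextic -/
theorem lines_subset (h0 : eval Q.w₀ f ≠ 0) :
    {U : Submodule K (Fin 4 → K) | N.p ∈ U ∧ Module.finrank K U = 2 ∧
      ∀ u ∈ U, eval u f = 0} ⊆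
    (fun s : K => pairSpan N.p (Q.w s)) '' {s : K | Polynomial.eval s Q.g = 0} := by
  rintro U ⟨hpU, hU, hv⟩
  obtain ⟨v, hvU, hind, hUv, hfv, hbv⟩ := N.line_gen U hpU hU hv
  obtain ⟨a, x, y, z, hvexp⟩ := span_of_indep4 Q.indep v
  have e1 := Q.b_comb_p a x y z a x y z
  rw [← hvexp, hbv] at e1
  by_cases hz : z = 0
  · exfalso
    have hy : y = 0 := by
      rw [hz] at e1
      have : y * y = 0 := by linear_combination (1 / 2 : K) * e1
      exact mul_self_eq_zero.mp this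
    have hv' : v = x • Q.w₀ + a • N.p := by rw [hvexp, hy, hz]; module
    rw [hv', N.eval_add_p, eval_smul N.hf, N.b_smul_left, N.b_smul_right, Q.h00] at hfv
    have hx : x = 0 := by
      have : x ^ 3 * eval Q.w₀ f = 0 := by linear_combination hfv
      rcases mul_eq_zero.mp this with h | h
      · exact (pow_eq_zero_iff (by norm_num)).mp h
      · exact absurd h h0
    have := hind a (-1) (by rw [hv', hx]; module)
    exact absurd this.2 (by norm_num)
  · obtain ⟨s, hs⟩ : ∃ s : K, s = y / z := ⟨_, rfl⟩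
    have hy : z * s = y := by rw [hs, mul_comm]; exact div_mul_cancel₀ _ hz
    have hxz : x * z = y * y := by linear_combination (-1 / 2 : K) * e1
    have hx : x = z * s ^ 2 := by
      apply mul_right_cancel₀ hz
      rw [hxz, ← hy]; ring
    have hv' : v = z • Q.w s + a • N.p := by
      rw [hvexp, hx, ← hy]; unfold w; module
    rw [hv', N.eval_add_p, eval_smul N.hf, N.b_smul_left, N.b_smul_right, Q.b_w_w,
      ← Q.eval_g] at hfv
    have hg : Polynomial.eval s Q.g = 0 := by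
      have : z ^ 3 * Polynomial.eval s Q.g = 0 := by linear_combination hfv
      exact (mul_eq_zero.mp this).resolve_left (pow_ne_zero 3 hz)
    refine ⟨s, hg, ?_⟩
    symm
    refine eq_pairSpan hU hpU ?_ (Q.indep_w s)
    have : Q.w s = z⁻¹ • (v - a • N.p) := by
      rw [hv', add_sub_cancel_right, smul_smul, inv_mul_cancel₀ hz, one_smul]
    rw [this]
    exact U.smul_mem _ (U.sub_mem hvU (U.smul_mem _ hpU))

theorem encard_lines_le (h0 : eval Q.w₀ f ≠ 0) :
    {U : Submodule K (Fin 4 → K) | N.p ∈ U ∧ Module.finrank K U = 2 ∧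
      ∀ u ∈ U, eval u f = 0}.encard ≤ 6 := by
  classical
  have hc6 : Q.g.coeff 6 ≠ 0 := by
    unfold g; rw [coeff_p6, ← eval_eq_T N.hf]; exact h0
  have hg0 : Q.g ≠ 0 := fun h => hc6 (by rw [h]; simp)
  have hset : {s : K | Polynomial.eval s Q.g = 0} = ↑Q.g.roots.toFinset := by
    ext s
    simp only [Set.mem_ofPred_eq, Finset.mem_coe, Multiset.mem_toFinset, Polynomial.mem_roots hg0,
      Polynomial.IsRoot.def]
  have hcard : Q.g.roots.toFinset.card ≤ 6 :=
    le_trans (Multiset.toFinset_card_le _) (le_trans (Polynomial.card_roots' _)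
      (natDegree_p6 _ _ _ _ _ _ _))
  calc _ ≤ ((fun s : K => pairSpan N.p (Q.w s)) '' {s : K | Polynomial.eval s Q.g = 0}).encard :=
        Set.encard_le_encard (Q.lines_subset h0)
    _ ≤ ({s : K | Polynomial.eval s Q.g = 0}).encard := Set.encard_image_le _ _
    _ = (Q.g.roots.toFinset.card : ℕ∞) := by rw [hset, Set.encard_coe_eq_coe_finsetCard]
    _ ≤ 6 := by exact_mod_cast hcard

end WFrame

namespace WNode

variable (N : WNode f)

/-- when the polar quadric has rank three the tangent cone can be parametrised -/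
theorem exists_frame [IsAlgClosed K]
    (hrad : ∀ u, (∀ y, N.b u y = 0) → ∃ c : K, u = c • N.p) : Nonempty (WFrame N) := by
  classical
  obtain ⟨a, ha⟩ := exists_linearIndependent_pair_of_one_lt_finrank (R := K) (M := Fin 4 → K)
    (by rw [Module.finrank_fin_fun]; norm_num) N.hp
  obtain ⟨c, hc⟩ := exists_linearIndependent_cons_of_lt_finrank ha
    (by rw [Module.finrank_fin_fun]; norm_num)
  have hc' : LinearIndependent K ![c, N.p, a] := hc
  have hind3 : ∀ x y t : K, x • c + y • N.p + t • a = 0 → x = 0 ∧ y = 0 ∧ t = 0 := by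
    intro x y t h
    have h2 := Fintype.linearIndependent_iff.mp hc' ![x, y, t] (by
      rw [Fin.sum_univ_three]; simp only [Matrix.cons_val]; exact h)
    exact ⟨h2 0, h2 1, h2 2⟩
  obtain ⟨s, t, hst, hq⟩ := quad_zero (N.b a a) (N.b a c) (N.b c c)
  obtain ⟨w₀, hw₀⟩ : ∃ w₀ : Fin 4 → K, w₀ = s • a + t • c := ⟨_, rfl⟩
  have h00 : N.b w₀ w₀ = 0 := by
    rw [hw₀]
    simp only [N.b_add_left, N.b_add_right, N.b_smul_left, N.b_smul_right, N.b_comm c a]
    linear_combination hq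
  have hw₀p : ∀ r : K, w₀ ≠ r • N.p := by
    intro r hr
    rw [hw₀] at hr
    have := hind3 t (-r) s (by
      have : t • c + (-r) • N.p + s • a = (s • a + t • c) - r • N.p := by module
      rw [this, hr, sub_self])
    rcases hst with h | h
    · exact h this.2.2
    · exact h this.1
  obtain ⟨u, hu⟩ : ∃ u, N.b w₀ u ≠ 0 := by
    by_contra hcon
    push Not at hcon
    obtain ⟨r, hr⟩ := hrad w₀ hcon
    exact hw₀p r hr
  obtain ⟨u', hu'⟩ : ∃ u' : Fin 4 → K, u' = (N.b w₀ u)⁻¹ • u := ⟨_, rfl⟩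
  have h0u : N.b w₀ u' = 1 := by rw [hu', N.b_smul_right, inv_mul_cancel₀ hu]
  obtain ⟨w₂, hw₂⟩ : ∃ w₂ : Fin 4 → K, w₂ = u' + (-(N.b u' u') / 2) • w₀ := ⟨_, rfl⟩
  have h02 : N.b w₀ w₂ = 1 := by
    rw [hw₂, N.b_add_right, N.b_smul_right, h00, h0u]; ring
  have h22 : N.b w₂ w₂ = 0 := by
    rw [hw₂]
    simp only [N.b_add_left, N.b_add_right, N.b_smul_left, N.b_smul_right, h00,
      N.b_comm u' w₀, h0u]
    ring
  have h20 : N.b w₂ w₀ = 1 := by rw [N.b_comm]; exact h02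
  have hind3' : ∀ α x z : K, α • N.p + x • w₀ + z • w₂ = 0 → α = 0 ∧ x = 0 ∧ z = 0 := by
    intro α x z h
    have e1 : N.b (α • N.p + x • w₀ + z • w₂) w₀ = z := by
      simp only [N.b_add_left, N.b_smul_left, N.b_p_left, h00, h20]; ring
    have e2 : N.b (α • N.p + x • w₀ + z • w₂) w₂ = x := by
      simp only [N.b_add_left, N.b_smul_left, N.b_p_left, h02, h22]; ring
    rw [h, N.b_zero_left] at e1 e2
    refine ⟨?_, e2.symm, e1.symm⟩
    rw [← e1, ← e2, zero_smul, zero_smul, add_zero, add_zero] at h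
    exact (smul_eq_zero.mp h).resolve_right N.hp
  obtain ⟨y, hy⟩ := exists_linearIndependent_cons_of_lt_finrank (li3_of_indep hind3')
    (by rw [Module.finrank_fin_fun]; norm_num)
  have hy' : LinearIndependent K ![y, N.p, w₀, w₂] := hy
  have hind4 : ∀ d α x z : K, d • y + α • N.p + x • w₀ + z • w₂ = 0 →
      d = 0 ∧ α = 0 ∧ x = 0 ∧ z = 0 := by
    intro d α x z h
    have h2 := Fintype.linearIndependent_iff.mp hy' ![d, α, x, z] (by
      rw [Fin.sum_univ_four]; simp only [Matrix.cons_val]; exact h)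
    exact ⟨h2 0, h2 1, h2 2, h2 3⟩
  obtain ⟨y₁, hy₁⟩ : ∃ y₁ : Fin 4 → K,
      y₁ = y + (-(N.b y w₂)) • w₀ + (-(N.b y w₀)) • w₂ := ⟨_, rfl⟩
  have hy₁0 : N.b y₁ w₀ = 0 := by
    rw [hy₁]; simp only [N.b_add_left, N.b_smul_left, h00, h20]; ring
  have hy₁2 : N.b y₁ w₂ = 0 := by
    rw [hy₁]; simp only [N.b_add_left, N.b_smul_left, h02, h22]; ring
  have hβ : N.b y₁ y₁ ≠ 0 := by
    intro hβ
    have hall : ∀ v, N.b y₁ v = 0 := by
      intro v
      obtain ⟨d, α, x, z, rfl⟩ := span_of_indep4 hind4 v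
      have hyy : N.b y₁ y = 0 := by
        have hyexp : y = y₁ + (N.b y w₂) • w₀ + (N.b y w₀) • w₂ := by rw [hy₁]; module
        have e : N.b y₁ (y₁ + (N.b y w₂) • w₀ + (N.b y w₀) • w₂) = 0 := by
          simp only [N.b_add_right, N.b_smul_right, hβ, hy₁0, hy₁2]; ring
        rw [← hyexp] at e
        exact e
      simp only [N.b_add_right, N.b_smul_right, N.b_p_right, hyy, hy₁0, hy₁2]; ring
    obtain ⟨r, hr⟩ := hrad y₁ hall
    have := hind4 1 (-r) (-(N.b y w₂)) (-(N.b y w₀)) (by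
      have : (1 : K) • y + (-r) • N.p + (-(N.b y w₂)) • w₀ + (-(N.b y w₀)) • w₂ =
          y₁ - r • N.p := by rw [hy₁]; module
      rw [this, hr, sub_self])
    exact one_ne_zero this.1
  obtain ⟨κ, hκ⟩ := IsAlgClosed.exists_eq_mul_self (-2 / N.b y₁ y₁)
  obtain ⟨w₁, hw₁⟩ : ∃ w₁ : Fin 4 → K, w₁ = κ • y₁ := ⟨_, rfl⟩
  have h11 : N.b w₁ w₁ = -2 := by
    rw [hw₁, N.b_smul_left, N.b_smul_right]
    calc κ * (κ * N.b y₁ y₁) = (κ * κ) * N.b y₁ y₁ := by ring
      _ = -2 / N.b y₁ y₁ * N.b y₁ y₁ := by rw [← hκ]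
      _ = -2 := div_mul_cancel₀ _ hβ
  exact ⟨{ w₀ := w₀, w₁ := w₁, w₂ := w₂, h00 := h00,
           h01 := by rw [hw₁, N.b_smul_right, N.b_comm, hy₁0, mul_zero],
           h02 := h02, h11 := h11,
           h12 := by rw [hw₁, N.b_smul_left, hy₁2, mul_zero],
           h22 := h22 }⟩

end WNode

end

end Groth.Agent.H91.Sing
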