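import Groth.Agent.H91.Sing1

/-!
At most six lines of an irreducible cubic surface which is not a cone pass through a singular point.
-/

namespace Groth.Agent.H91.Sing

open MvPolynomial Groth.Agent.H91.CubicK Groth.Agent.H91.Tri Groth.Agent.H91.Nod
  Groth.Agent.H91.Polar

set_option linter.unusedSectionVars false
set_option linter.unusedVariables false

noncomputable section

variable {K : Type*} [Field K] [CharZero K] {f : MvPolynomial (Fin 4) K}

theorem p6_eq_zero {c6 c5 c4 c3 c2 c1 c0 : K} (h : p6 c6 c5 c4 c3 c2 c1 c0 = 0) :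
    c6 = 0 ∧ c5 = 0 ∧ c4 = 0 ∧ c3 = 0 ∧ c2 = 0 ∧ c1 = 0 ∧ c0 = 0 := by
  obtain ⟨e5, e4, e3, e2, e1, e0⟩ := coeff_p6' c6 c5 c4 c3 c2 c1 c0
  have e6 := coeff_p6 c6 c5 c4 c3 c2 c1 c0
  rw [h] at e6 e5 e4 e3 e2 e1 e0
  simp only [Polynomial.coeff_zero] at e6 e5 e4 e3 e2 e1 e0
  exact ⟨e6.symm, e5.symm, e4.symm, e3.symm, e2.symm, e1.symm, e0.symm⟩

theorem totalDegree_eq_zero_of_isUnit {G : MvPolynomial (Fin 4) K} (hu : IsUnit G) :
    G.totalDegree = 0 := by
  obtain ⟨R, hR⟩ := isUnit_iff_exists_inv.mp hu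
  have hG0 : G ≠ 0 := by
    rintro rfl
    rw [zero_mul] at hR
    exact zero_ne_one hR
  have hR0 : R ≠ 0 := by
    rintro rfl
    rw [mul_zero] at hR
    exact zero_ne_one hR
  have := totalDegree_mul_of_isDomain hG0 hR0
  rw [hR, totalDegree_one] at this
  omega

/-- an irreducible cubic does not vanish on a hyperplane -/
theorem reducible_of_vanish [IsAlgClosed K] (hirr : Irreducible f) (hf : f.IsHomogeneous 3)
    (lam : Module.Dual K (Fin 4 → K)) (hvan : ∀ x, lam x = 0 → eval x f = 0) : False := by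
  classical
  have hf0 : f ≠ 0 := hirr.ne_zero
  have hsum : ∀ x : Fin 4 → K, ∑ i, lam (Pi.single i 1) * x i = lam x := by
    intro x
    rw [← eval_linPoly lam x]
    unfold linPoly
    simp only [map_sum, map_mul, eval_C, eval_X]
  by_cases hall : ∀ j, lam (Pi.single j 1) = 0
  · apply hf0
    apply MvPolynomial.funext
    intro x
    rw [map_zero]
    apply hvan
    rw [← hsum]
    simp only [hall, zero_mul, Finset.sum_const_zero]
  · push Not at hall
    obtain ⟨j, hj⟩ := hall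
    have hmem := mem_span_linear_of_vanish (fun i => lam (Pi.single i 1)) j hj f
      (fun x hx => hvan x (by rw [← hsum]; exact hx))
    obtain ⟨G, hG⟩ := Ideal.mem_span_singleton.mp hmem
    have hG' : f = linPoly lam * G := hG
    rcases hirr.isUnit_or_isUnit hG' with hu | hu
    · exact not_isUnit_of_eval_zero (by rw [eval_linPoly, map_zero]) hu
    · have hG0 : G ≠ 0 := by
        rintro rfl
        exact hf0 (by rw [hG', mul_zero])
      have hℓ0 : linPoly lam ≠ 0 := by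
        intro h
        exact hf0 (by rw [hG', h, zero_mul])
      have h1 := totalDegree_mul_of_isDomain hℓ0 hG0
      rw [← hG', hf.totalDegree hf0, totalDegree_eq_zero_of_isUnit hu] at h1
      have h2 := (linPoly_homog lam).totalDegree_le
      omega

namespace WNode

variable (N : WNode f)

theorem cone_of_b_zero (h : ∀ x, N.b x x = 0) : ∑ i : Fin 4, N.p i • pderiv i f = 0 := by
  apply MvPolynomial.funext
  intro x
  rw [map_sum, map_zero]
  have h1 := dir_deriv N.hf x N.p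
  simp only [smul_eval]
  rw [h1]
  have h2 : T f N.p x x = N.b x x := rfl
  rw [h2, h, mul_zero]

end WNode

namespace WFrame

variable {N : WNode f} (Q : WFrame N)

/-- if the surface contains the tangent cone then the cubic is reducible -/
theorem reducible_of_g_zero (hg : ∀ s : K, Polynomial.eval s Q.g = 0) (hirr : Irreducible f) :
    False := by
  have h0 : Q.g = 0 := Polynomial.funext (fun r => by rw [hg r, Polynomial.eval_zero])
  obtain ⟨h6, h5, h4, h3, h2, h1, h0'⟩ := p6_eq_zero h0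
  have hform : ∀ t x₀ x₁ x₂ : K, eval (t • N.p + x₀ • Q.w₀ + x₁ • Q.w₁ + x₂ • Q.w₂) f =
      (x₀ * x₂ - x₁ ^ 2) * (3 * T f Q.w₀ Q.w₀ Q.w₂ * x₀ + 6 * T f Q.w₀ Q.w₁ Q.w₂ * x₁ +
        3 * T f Q.w₀ Q.w₂ Q.w₂ * x₂ + 6 * t) := by
    intro t x₀ x₁ x₂
    rw [Q.eval_coords, T_polar3]
    linear_combination x₀ ^ 3 * h6 + x₀ ^ 2 * x₁ * h5 + x₀ * x₁ ^ 2 * h4 + x₁ ^ 3 * h3 +
      x₁ ^ 2 * x₂ * h2 + x₁ * x₂ ^ 2 * h1 + x₂ ^ 3 * h0'
  obtain ⟨B, hB0, hB1, hB2, hB3⟩ := exists_basis4 Q.indep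
  obtain ⟨Qp, hQp⟩ : ∃ Qp : MvPolynomial (Fin 4) K,
      Qp = linPoly (B.coord 1) * linPoly (B.coord 3) - linPoly (B.coord 2) ^ 2 := ⟨_, rfl⟩
  obtain ⟨Lp, hLp⟩ : ∃ Lp : MvPolynomial (Fin 4) K,
      Lp = C (3 * T f Q.w₀ Q.w₀ Q.w₂) * linPoly (B.coord 1) +
        C (6 * T f Q.w₀ Q.w₁ Q.w₂) * linPoly (B.coord 2) +
        C (3 * T f Q.w₀ Q.w₂ Q.w₂) * linPoly (B.coord 3) + C (6 : K) * linPoly (B.coord 0) :=
    ⟨_, rfl⟩
  have hfac : f = Qp * Lp := by
    apply MvPolynomial.funext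
    intro x
    have hx := basis_expand B x
    rw [hB0, hB1, hB2, hB3] at hx
    have e1 : eval x f = eval (B.repr x 0 • N.p + B.repr x 1 • Q.w₀ + B.repr x 2 • Q.w₁ +
        B.repr x 3 • Q.w₂) f := by rw [← hx]
    rw [e1, hform, hQp, hLp]
    simp only [map_mul, map_sub, map_add, map_pow, eval_C, eval_linPoly,
      Module.Basis.coord_apply]
  rcases hirr.isUnit_or_isUnit hfac with hu | hu
  · refine not_isUnit_of_eval_zero ?_ hu
    rw [hQp]
    simp only [map_sub, map_mul, map_pow, eval_linPoly, map_zero]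
    ring
  · refine not_isUnit_of_eval_zero ?_ hu
    rw [hLp]
    simp only [map_add, map_mul, eval_C, eval_linPoly, map_zero]
    ring

end WFrame

namespace WNode

variable (N : WNode f)

/-- the lines through the singular point lying in a plane on which the polar quadric vanishes -/
theorem class_le_three [IsAlgClosed K] (hirr : Irreducible f)
    (B : Module.Basis (Fin 4) K (Fin 4 → K)) (hB0 : B 0 = N.p) (hu : ∀ y, N.b (B 1) y = 0)
    (m n : K) (hmn : m ≠ 0 ∨ n ≠ 0)
    (hh : N.b (n • B 2 - m • B 3) (n • B 2 - m • B 3) = 0) :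
    {U : Submodule K (Fin 4 → K) | N.p ∈ U ∧ Module.finrank K U = 2 ∧
      (∀ u ∈ U, eval u f = 0) ∧
      ∀ x ∈ U, m * B.repr x 2 + n * B.repr x 3 = 0}.encard ≤ 3 := by
  classical
  have hu' : ∀ y, N.b y (B 1) = 0 := fun y => by rw [N.b_comm]; exact hu y
  obtain ⟨h, hh_def⟩ : ∃ h : Fin 4 → K, h = n • B 2 - m • B 3 := ⟨_, rfl⟩
  rw [← hh_def] at hh
  obtain ⟨α₁, β₁, α₂, β₂, α₃, β₃, hfac⟩ := binary_cubic_factor (eval (B 1) f)
    (3 * T f (B 1) (B 1) h) (3 * T f (B 1) h h) (eval h f)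
  have hP : ∀ s γ : K, eval (s • B 1 + γ • h) f =
      (α₁ * s + β₁ * γ) * (α₂ * s + β₂ * γ) * (α₃ * s + β₃ * γ) := by
    intro s γ
    rw [cube_expand N.hf, ← hfac]; ring
  have hker : ∀ x, m * B.repr x 2 + n * B.repr x 3 = 0 →
      ∃ a' s γ : K, x = a' • N.p + (s • B 1 + γ • h) := by
    intro x hx
    obtain ⟨γ, hα, hβ⟩ := prop_of_dot_zero' hx hmn
    refine ⟨B.repr x 0, B.repr x 1, γ, ?_⟩
    have hx' := basis_expand B x
    rw [hα, hβ, hB0] at hx'
    rw [hh_def]
    calc x = _ := hx'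
      _ = B.repr x 0 • N.p + (B.repr x 1 • B 1 + γ • (n • B 2 - m • B 3)) := by module
  have hfx : ∀ a' s γ : K, eval (a' • N.p + (s • B 1 + γ • h)) f = eval (s • B 1 + γ • h) f := by
    intro a' s γ
    rw [add_comm, N.eval_add_p]
    have : N.b (s • B 1 + γ • h) (s • B 1 + γ • h) = 0 := by
      simp only [N.b_add_left, N.b_add_right, N.b_smul_left, N.b_smul_right, hu, hu', hh]
      ring
    rw [this]; ring
  by_cases hz : (α₁ = 0 ∧ β₁ = 0) ∨ (α₂ = 0 ∧ β₂ = 0) ∨ (α₃ = 0 ∧ β₃ = 0)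
  · exfalso
    have hP0 : ∀ s γ : K, eval (s • B 1 + γ • h) f = 0 := by
      intro s γ
      rw [hP]
      rcases hz with ⟨h1, h2⟩ | ⟨h1, h2⟩ | ⟨h1, h2⟩ <;> rw [h1, h2] <;> ring
    obtain ⟨lam, hlam⟩ : ∃ lam : Module.Dual K (Fin 4 → K),
        lam = m • B.coord 2 + n • B.coord 3 := ⟨_, rfl⟩
    have hlamx : ∀ x, lam x = m * B.repr x 2 + n * B.repr x 3 := by
      intro x
      rw [hlam]
      simp [Module.Basis.coord_apply]
    refine reducible_of_vanish hirr N.hf lam ?_
    intro x hx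
    rw [hlamx] at hx
    obtain ⟨a', s, γ, rfl⟩ := hker x hx
    rw [hfx, hP0]
  · have hne1 : α₁ ≠ 0 ∨ β₁ ≠ 0 := by
      by_contra hc
      push Not at hc
      exact hz (Or.inl hc)
    have hne2 : α₂ ≠ 0 ∨ β₂ ≠ 0 := by
      by_contra hc
      push Not at hc
      exact hz (Or.inr (Or.inl hc))
    have hne3 : α₃ ≠ 0 ∨ β₃ ≠ 0 := by
      by_contra hc
      push Not at hc
      exact hz (Or.inr (Or.inr hc))
    have hsub : {U : Submodule K (Fin 4 → K) | N.p ∈ U ∧ Module.finrank K U = 2 ∧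
        (∀ u ∈ U, eval u f = 0) ∧ ∀ x ∈ U, m * B.repr x 2 + n * B.repr x 3 = 0} ⊆
        Set.range (fun j : Fin 3 =>
          pairSpan N.p ((![β₁, β₂, β₃] j) • B 1 - (![α₁, α₂, α₃] j) • h)) := by
      rintro U ⟨hpU, hU, hv, hcl⟩
      obtain ⟨v, hvU, hind, hUv, hfv, hbv⟩ := N.line_gen U hpU hU hv
      obtain ⟨a', s, γ, hvexp⟩ := hker v (hcl v hvU)
      have hsγ : s ≠ 0 ∨ γ ≠ 0 := by
        by_contra hc
        push Not at hc
        have := hind a' (-1) (by rw [hvexp, hc.1, hc.2]; module)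
        exact absurd this.2 (by norm_num)
      have hPv : (α₁ * s + β₁ * γ) * (α₂ * s + β₂ * γ) * (α₃ * s + β₃ * γ) = 0 := by
        rw [← hP, ← hfx a', ← hvexp]; exact hfv
      have key : ∀ (α β : K), (α ≠ 0 ∨ β ≠ 0) → α * s + β * γ = 0 →
          U = pairSpan N.p (β • B 1 - α • h) := by
        intro α β hαβ h0
        obtain ⟨ρ, hρ, hs, hγ⟩ := prop_of_dot_zero h0 hαβ hsγ
        have hv2 : v = a' • N.p + ρ • (β • B 1 - α • h) := by
          rw [hvexp, hs, hγ]; module
        refine eq_pairSpan hU hpU ?_ ?_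
        · have : β • B 1 - α • h = ρ⁻¹ • (v - a' • N.p) := by
            rw [hv2, add_sub_cancel_left, smul_smul, inv_mul_cancel₀ hρ, one_smul]
          rw [this]
          exact U.smul_mem _ (U.sub_mem hvU (U.smul_mem _ hpU))
        · intro s' t' h'
          have h'' : (ρ * s' - t' * a') • N.p + t' • v = 0 := by
            rw [hv2]
            have : (ρ * s' - t' * a') • N.p + t' • (a' • N.p + ρ • (β • B 1 - α • h)) =
                ρ • (s' • N.p + t' • (β • B 1 - α • h)) := by module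
            rw [this, h', smul_zero]
          obtain ⟨e1, e2⟩ := hind _ _ h''
          refine ⟨?_, e2⟩
          rw [e2, zero_mul, sub_zero] at e1
          exact (mul_eq_zero.mp e1).resolve_left hρ
      rcases mul_eq_zero.mp hPv with h12 | h3
      · rcases mul_eq_zero.mp h12 with h1 | h2
        · exact ⟨0, (key α₁ β₁ hne1 h1).symm⟩
        · exact ⟨1, (key α₂ β₂ hne2 h2).symm⟩
      · exact ⟨2, (key α₃ β₃ hne3 h3).symm⟩
    refine le_trans (Set.encard_le_encard hsub) ?_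
    rw [← Set.image_univ]
    refine le_trans (Set.encard_image_le _ _) ?_
    rw [Set.encard_univ, ENat.card_eq_coe_fintype_card, Fintype.card_fin]
    norm_num

end WNode

/-- at most six lines of an irreducible cubic surface which is not a cone pass through a singular
point -/
theorem lines_le_six [IsAlgClosed K] (hf : f.IsHomogeneous 3) (hirr : Irreducible f)
    (hcone : ¬ ∃ v : Fin 4 → K, v ≠ 0 ∧ ∑ i : Fin 4, v i • pderiv i f = 0)
    (a : Fin 4 → K) (ha : a ≠ 0) (hsing : ∀ i : Fin 4, eval a (pderiv i f) = 0) :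
    {U : Submodule K (Fin 4 → K) | a ∈ U ∧ Module.finrank K U = 2 ∧
      ∀ u ∈ U, eval u f = 0}.encard ≤ 6 := by
  classical
  obtain ⟨N, hNp⟩ : ∃ N : WNode f, N.p = a :=
    ⟨{ p := a, hp := ha, hf := hf, hpp := hpp_of_sing hf a hsing }, rfl⟩
  rw [← hNp]
  have hq0 : ¬ ∀ x, N.b x x = 0 := fun h => hcone ⟨a, ha, by rw [← hNp]; exact N.cone_of_b_zero h⟩
  by_cases hrad : ∀ u, (∀ y, N.b u y = 0) → ∃ c : K, u = c • N.p
  · obtain ⟨Q₀⟩ := N.exists_frame hrad
    by_cases hex : ∃ s₀ : K, Polynomial.eval s₀ Q₀.g ≠ 0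
    · obtain ⟨s₀, hs₀⟩ := hex
      rw [Q₀.eval_g] at hs₀
      exact (Q₀.shift s₀).encard_lines_le hs₀
    · push Not at hex
      exact (Q₀.reducible_of_g_zero hex hirr).elim
  · push Not at hrad
    obtain ⟨u, hu, hup⟩ := hrad
    have hu' : ∀ x, N.b x u = 0 := fun x => by rw [N.b_comm]; exact hu x
    have hind2 : ∀ s t : K, s • N.p + t • u = 0 → s = 0 ∧ t = 0 := by
      intro s t h
      by_cases ht : t = 0
      · rw [ht, zero_smul, add_zero] at h
        exact ⟨(smul_eq_zero.mp h).resolve_right N.hp, ht⟩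
      · exfalso
        apply hup (-(t⁻¹ * s))
        have h1 : t • u = -(s • N.p) := by
          rw [eq_neg_iff_add_eq_zero, add_comm]; exact h
        calc u = t⁻¹ • (t • u) := by rw [smul_smul, inv_mul_cancel₀ ht, one_smul]
          _ = -(t⁻¹ * s) • N.p := by rw [h1]; module
    have hli2 : LinearIndependent K ![N.p, u] := LinearIndependent.pair_iff.mpr hind2
    obtain ⟨y, hy⟩ := exists_linearIndependent_cons_of_lt_finrank hli2
      (by rw [Module.finrank_fin_fun]; norm_num)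
    have hy' : LinearIndependent K ![y, N.p, u] := hy
    obtain ⟨z, hz⟩ := exists_linearIndependent_cons_of_lt_finrank hy'
      (by rw [Module.finrank_fin_fun]; norm_num)
    have hz' : LinearIndependent K ![z, y, N.p, u] := hz
    have hind4 : ∀ a' b' c' d' : K, a' • N.p + b' • u + c' • y + d' • z = 0 →
        a' = 0 ∧ b' = 0 ∧ c' = 0 ∧ d' = 0 := by
      intro a' b' c' d' h
      have h2 := Fintype.linearIndependent_iff.mp hz' ![d', c', a', b'] (by
        rw [Fin.sum_univ_four]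
        simp only [Matrix.cons_val]
        rw [← h]; abel)
      exact ⟨h2 2, h2 3, h2 1, h2 0⟩
    obtain ⟨B, hB0, hB1, hB2, hB3⟩ := exists_basis4 hind4
    obtain ⟨m₁, n₁, m₂, n₂, hfac⟩ := binary_quadratic_factor (N.b y y) (N.b y z) (N.b z z)
    have hqx : ∀ x, N.b x x =
        (m₁ * B.repr x 2 + n₁ * B.repr x 3) * (m₂ * B.repr x 2 + n₂ * B.repr x 3) := by
      intro x
      have hx := basis_expand B x
      rw [hB0, hB1, hB2, hB3] at hx
      rw [← hfac]
      have e1 : N.b x x = N.b (B.repr x 0 • N.p + B.repr x 1 • u + B.repr x 2 • y +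
          B.repr x 3 • z) (B.repr x 0 • N.p + B.repr x 1 • u + B.repr x 2 • y +
          B.repr x 3 • z) := by rw [← hx]
      rw [e1]
      simp only [N.b_add_left, N.b_add_right, N.b_smul_left, N.b_smul_right, N.b_p_left,
        N.b_p_right, hu, hu', N.b_comm z y]
      ring
    have hmn1 : m₁ ≠ 0 ∨ n₁ ≠ 0 := by
      by_contra hc
      push Not at hc
      apply hq0
      intro x
      rw [hqx, hc.1, hc.2]; ring
    have hmn2 : m₂ ≠ 0 ∨ n₂ ≠ 0 := by
      by_contra hc
      push Not at hc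
      apply hq0
      intro x
      rw [hqx, hc.1, hc.2]; ring
    have hh : ∀ m n : K, N.b (n • B 2 - m • B 3) (n • B 2 - m • B 3) =
        (m₁ * n + n₁ * (-m)) * (m₂ * n + n₂ * (-m)) := by
      intro m n
      rw [← hfac, hB2, hB3]
      have : n • y - m • z = n • y + (-m) • z := by module
      rw [this]
      simp only [N.b_add_left, N.b_add_right, N.b_smul_left, N.b_smul_right, N.b_comm z y]
      ring
    have hh1 : N.b (n₁ • B 2 - m₁ • B 3) (n₁ • B 2 - m₁ • B 3) = 0 := by rw [hh]; ring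
    have hh2 : N.b (n₂ • B 2 - m₂ • B 3) (n₂ • B 2 - m₂ • B 3) = 0 := by rw [hh]; ring
    have hc1 := N.class_le_three hirr B hB0 (by rw [hB1]; exact hu) m₁ n₁ hmn1 hh1
    have hc2 := N.class_le_three hirr B hB0 (by rw [hB1]; exact hu) m₂ n₂ hmn2 hh2
    have hp2 : B.repr N.p 2 = 0 ∧ B.repr N.p 3 = 0 := by
      rw [← hB0]
      simp [Finsupp.single_apply]
    have hsub : {U : Submodule K (Fin 4 → K) | N.p ∈ U ∧ Module.finrank K U = 2 ∧
        ∀ u ∈ U, eval u f = 0} ⊆
        {U : Submodule K (Fin 4 → K) | N.p ∈ U ∧ Module.finrank K U = 2 ∧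
          (∀ u ∈ U, eval u f = 0) ∧ ∀ x ∈ U, m₁ * B.repr x 2 + n₁ * B.repr x 3 = 0} ∪
        {U : Submodule K (Fin 4 → K) | N.p ∈ U ∧ Module.finrank K U = 2 ∧
          (∀ u ∈ U, eval u f = 0) ∧ ∀ x ∈ U, m₂ * B.repr x 2 + n₂ * B.repr x 3 = 0} := by
      rintro U ⟨hpU, hU, hv⟩
      obtain ⟨v, hvU, hind, hUv, hfv, hbv⟩ := N.line_gen U hpU hU hv
      rw [hqx] at hbv
      rcases mul_eq_zero.mp hbv with h1 | h2
      · left
        refine ⟨hpU, hU, hv, ?_⟩
        intro x hx
        rw [hUv] at hx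
        obtain ⟨s, t, rfl⟩ := mem_pairSpan.mp hx
        simp only [map_add, map_smul, Finsupp.add_apply, Finsupp.smul_apply, smul_eq_mul,
          hp2.1, hp2.2]
        linear_combination t * h1
      · right
        refine ⟨hpU, hU, hv, ?_⟩
        intro x hx
        rw [hUv] at hx
        obtain ⟨s, t, rfl⟩ := mem_pairSpan.mp hx
        simp only [map_add, map_smul, Finsupp.add_apply, Finsupp.smul_apply, smul_eq_mul,
          hp2.1, hp2.2]
        linear_combination t * h2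
    calc _ ≤ _ := Set.encard_le_encard hsub
      _ ≤ _ := Set.encard_union_le _ _
      _ ≤ 3 + 3 := add_le_add hc1 hc2
      _ = 6 := by norm_num

end

end Groth.Agent.H91.Sing
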