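import Mathlib

/-!
# The determinant of a skew-symmetric matrix is a square (helper91)

* `isSquare_det_of_skew`: over a field with `2 ≠ 0` (Schur complement induction).
* `isSquare_det_of_skew_of_isIntegrallyClosed`: over an integrally closed domain with `2 ≠ 0`.
* `exists_poly_sq`: a polynomial `P` in the entries of `A` with
  `det (c₁ J + c₂ J A) = P(A)^2` for all `A` with `Aᵀ J = J A`, `J` skew.
-/

set_option autoImplicit false
universe v

namespace Groth.Agent.H91.SkewDet

open Matrix

/-- the two element index set `{i, j}` -/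
def pairEquiv {ι : Type*} [DecidableEq ι] (i j : ι) (hij : i ≠ j) :
    Fin 2 ≃ {x : ι // x = i ∨ x = j} where
  toFun := fun a => if a = 0 then ⟨i, Or.inl rfl⟩ else ⟨j, Or.inr rfl⟩
  invFun := fun x => if x.1 = i then 0 else 1
  left_inv := by
    intro a
    fin_cases a
    · simp
    · simp [hij.symm]
  right_inv := by
    intro x
    rcases x with ⟨x, hx | hx⟩
    · subst hx; simp
    · subst hx; simp [hij.symm]

theorem schur_step {K : Type*} [Field K] {ι : Type*} [Fintype ι] [DecidableEq ι]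
    (p : ι → Prop) [DecidablePred p] (M : Matrix ι ι K) (hM : Mᵀ = -M)
    (hdetA : (M.toBlock p p).det ≠ 0) :
    ∃ S : Matrix {x // ¬ p x} {x // ¬ p x} K, Sᵀ = -S ∧ M.det = (M.toBlock p p).det * S.det := by
  obtain ⟨A, hAdef⟩ : ∃ A, A = M.toBlock p p := ⟨_, rfl⟩
  obtain ⟨B, hBdef⟩ : ∃ B, B = M.toBlock p (fun x => ¬ p x) := ⟨_, rfl⟩
  obtain ⟨C, hCdef⟩ : ∃ C, C = M.toBlock (fun x => ¬ p x) p := ⟨_, rfl⟩
  obtain ⟨D, hDdef⟩ : ∃ D, D = M.toBlock (fun x => ¬ p x) (fun x => ¬ p x) := ⟨_, rfl⟩
  rw [← hAdef] at hdetA ⊢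
  haveI : Invertible A := Matrix.invertibleOfIsUnitDet A (Ne.isUnit hdetA)
  have hAt : Aᵀ = -A := by
    subst hAdef; ext a b; exact congrFun (congrFun hM a.1) b.1
  have hBt : Bᵀ = -C := by
    subst hBdef; subst hCdef; ext a b; exact congrFun (congrFun hM a.1) b.1
  have hCt : Cᵀ = -B := by
    subst hBdef; subst hCdef; ext a b; exact congrFun (congrFun hM a.1) b.1
  have hDt : Dᵀ = -D := by
    subst hDdef; ext a b; exact congrFun (congrFun hM a.1) b.1
  have hinv : (⅟A)ᵀ = -⅟A := by
    have h1 : (-(⅟A)ᵀ) * A = 1 := by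
      rw [neg_mul, ← mul_neg, ← hAt, ← Matrix.transpose_mul, mul_invOf_self, Matrix.transpose_one]
    have h2 : ⅟A = -(⅟A)ᵀ := invOf_eq_left_inv h1
    calc (⅟A)ᵀ = -(-(⅟A)ᵀ) := (neg_neg _).symm
      _ = -⅟A := by rw [← h2]
  refine ⟨D - C * ⅟A * B, ?_, ?_⟩
  · rw [Matrix.transpose_sub, Matrix.transpose_mul, Matrix.transpose_mul, hDt, hBt, hCt, hinv]
    simp only [Matrix.neg_mul, Matrix.mul_neg, neg_neg, Matrix.mul_assoc]
    abel
  · have hblk : M.submatrix (Equiv.sumCompl p) (Equiv.sumCompl p) = fromBlocks A B C D := by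
      subst hAdef; subst hBdef; subst hCdef; subst hDdef
      ext x y
      rcases x with a | a <;> rcases y with b | b <;> rfl
    rw [← Matrix.det_submatrix_equiv_self (Equiv.sumCompl p) M, hblk, Matrix.det_fromBlocks₁₁]

theorem isSquare_det_of_skew {K : Type*} [Field K] (h2 : (2 : K) ≠ 0) :
    ∀ (n : ℕ) (ι : Type v) [Fintype ι] [DecidableEq ι], Fintype.card ι = n →
      ∀ M : Matrix ι ι K, Mᵀ = -M → ∃ q : K, M.det = q * q := by
  intro n
  induction n using Nat.strong_induction_on with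
  | _ n ih =>
    intro ι _ _ hcard M hM
    by_cases h0 : M = 0
    · subst h0
      by_cases hne : Nonempty ι
      · exact ⟨0, by rw [Matrix.det_zero, mul_zero]⟩
      · haveI : IsEmpty ι := not_nonempty_iff.mp hne
        exact ⟨1, by rw [Matrix.det_isEmpty, mul_one]⟩
    · obtain ⟨i, j, hij⟩ : ∃ i j, M i j ≠ 0 := by
        by_contra hcon
        push Not at hcon
        exact h0 (Matrix.ext fun a b => by rw [hcon a b]; rfl)
      have hanti : ∀ a b, M b a = - M a b := fun a b => congrFun (congrFun hM a) b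
      have hdiag : ∀ a, M a a = 0 := by
        intro a
        have h := hanti a a
        have h' : (2 : K) * M a a = 0 := by linear_combination h
        exact (mul_eq_zero.mp h').resolve_left h2
      have hne : i ≠ j := by
        rintro rfl
        exact hij (hdiag i)
      have hA : (M.toBlock (fun x => x = i ∨ x = j) (fun x => x = i ∨ x = j)).det
          = M i j * M i j := by
        rw [← Matrix.det_submatrix_equiv_self (pairEquiv i j hne), Matrix.det_fin_two]
        simp [pairEquiv, Matrix.toBlock_apply, hdiag, hanti i j]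
      have hA0 : (M.toBlock (fun x => x = i ∨ x = j) (fun x => x = i ∨ x = j)).det ≠ 0 := by
        rw [hA]; exact mul_ne_zero hij hij
      obtain ⟨S, hS, hdet⟩ := schur_step (fun x => x = i ∨ x = j) M hM hA0
      have hlt : Fintype.card {x // ¬ (x = i ∨ x = j)} < n := by
        rw [← hcard]
        exact Fintype.card_subtype_lt (p := fun x => ¬ (x = i ∨ x = j)) (x := i) (by simp)
      obtain ⟨s, hs⟩ := ih _ hlt {x // ¬ (x = i ∨ x = j)} rfl S hS
      exact ⟨M i j * s, by rw [hdet, hA, hs]; ring⟩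

theorem isSquare_det_of_skew_of_isIntegrallyClosed {R : Type*} [CommRing R] [IsDomain R]
    [IsIntegrallyClosed R] (h2 : (2 : R) ≠ 0) {ι : Type v} [Fintype ι] [DecidableEq ι]
    (M : Matrix ι ι R) (hM : Mᵀ = -M) : ∃ q : R, M.det = q * q := by
  have h2K : (2 : FractionRing R) ≠ 0 := by
    intro h
    apply h2
    apply IsFractionRing.injective R (FractionRing R)
    rw [map_ofNat, map_zero]
    exact h
  have hMK : ((algebraMap R (FractionRing R)).mapMatrix M)ᵀ
      = -((algebraMap R (FractionRing R)).mapMatrix M) := by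
    ext a b
    have h1 : M b a = - M a b := congrFun (congrFun hM a) b
    simp only [RingHom.mapMatrix_apply, Matrix.map_apply, Matrix.transpose_apply, Matrix.neg_apply,
      h1, map_neg]
  obtain ⟨q, hq⟩ := isSquare_det_of_skew h2K _ ι rfl _ hMK
  rw [← RingHom.map_det] at hq
  obtain ⟨y, hy⟩ := IsIntegrallyClosed.exists_algebraMap_eq_of_isIntegral_pow (R := R)
    (x := q) (n := 2) (by norm_num) (by rw [pow_two, ← hq]; exact isIntegral_algebraMap)
  refine ⟨y, IsFractionRing.injective R (FractionRing R) ?_⟩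
  rw [hq, map_mul, hy]

theorem exists_poly_sq {S : Type*} [CommRing S] [IsDomain S] [UniqueFactorizationMonoid S]
    (half : S) (hhalf : 2 * half = 1) {n : Type v} [Fintype n] [DecidableEq n]
    (J : Matrix n n S) (hJ : Jᵀ = -J) (c₁ c₂ : S) :
    ∃ P : MvPolynomial (n × n) S, ∀ A : Matrix n n S, Aᵀ * J = J * A →
      (c₁ • J + c₂ • (J * A)).det = (MvPolynomial.eval (fun ij : n × n => A ij.1 ij.2) P) ^ 2 := by
  classical
  have h2S : (2 : S) ≠ 0 := by
    intro h
    rw [h, zero_mul] at hhalf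
    exact zero_ne_one hhalf
  have h2R : (2 : MvPolynomial (n × n) S) ≠ 0 := by
    intro h
    apply h2S
    apply MvPolynomial.C_injective (n × n) S
    rw [map_ofNat, map_zero]
    exact h
  obtain ⟨Jr, hJrdef⟩ : ∃ Jr : Matrix n n (MvPolynomial (n × n) S), Jr = J.map MvPolynomial.C :=
    ⟨_, rfl⟩
  obtain ⟨AA, hAAdef⟩ : ∃ AA : Matrix n n (MvPolynomial (n × n) S),
      AA = Matrix.of fun i j => MvPolynomial.X (i, j) := ⟨_, rfl⟩
  obtain ⟨N, hNdef⟩ : ∃ N : Matrix n n (MvPolynomial (n × n) S), N = Jr * AA := ⟨_, rfl⟩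
  obtain ⟨G, hGdef⟩ : ∃ G : Matrix n n (MvPolynomial (n × n) S),
      G = (MvPolynomial.C c₁ : MvPolynomial (n × n) S) • Jr +
        (MvPolynomial.C (c₂ * half) : MvPolynomial (n × n) S) • (N - Nᵀ) := ⟨_, rfl⟩
  have hJr : Jrᵀ = -Jr := by
    ext a b
    have h1 : J b a = - J a b := congrFun (congrFun hJ a) b
    simp only [hJrdef, Matrix.transpose_apply, Matrix.neg_apply, Matrix.map_apply, h1, map_neg]
  have hG : Gᵀ = -G := by
    rw [hGdef, Matrix.transpose_add, Matrix.transpose_smul, Matrix.transpose_smul,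
      Matrix.transpose_sub, Matrix.transpose_transpose, hJr, neg_add, ← smul_neg, ← smul_neg,
      neg_sub]
  obtain ⟨P, hP⟩ := isSquare_det_of_skew_of_isIntegrallyClosed h2R G hG
  refine ⟨P, fun A hA => ?_⟩
  obtain ⟨φ, hφdef⟩ : ∃ φ : MvPolynomial (n × n) S →+* S,
      φ = MvPolynomial.eval (fun ij : n × n => A ij.1 ij.2) := ⟨_, rfl⟩
  have hJA : ∀ a b, (J * A) b a = - (J * A) a b := by
    intro a b
    have h1 : (J * A)ᵀ = - (J * A) := by
      rw [Matrix.transpose_mul, hJ, mul_neg, hA]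
    exact congrFun (congrFun h1 a) b
  have hN : ∀ a b, φ (N a b) = (J * A) a b := by
    intro a b
    simp only [hNdef, hJrdef, hAAdef, hφdef, Matrix.mul_apply, map_sum, map_mul, Matrix.map_apply,
      Matrix.of_apply, MvPolynomial.eval_C, MvPolynomial.eval_X]
  have hφG : φ.mapMatrix G = c₁ • J + c₂ • (J * A) := by
    ext a b
    have hC : ∀ s : S, φ (MvPolynomial.C s) = s := by
      intro s; rw [hφdef]; exact MvPolynomial.eval_C _
    have e3 : φ (Jr a b) = J a b := by rw [hφdef, hJrdef]; exact MvPolynomial.eval_C _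
    simp only [RingHom.mapMatrix_apply, Matrix.map_apply, hGdef, Matrix.add_apply,
      Matrix.smul_apply, Matrix.sub_apply, Matrix.transpose_apply, smul_eq_mul, map_add, map_mul,
      map_sub, hN, hC, e3, hJA a b]
    linear_combination (c₂ * (J * A) a b) * hhalf
  have h3 := congrArg φ hP
  rw [RingHom.map_det, hφG, map_mul] at h3
  rw [h3, pow_two, hφdef]

end Groth.Agent.H91.SkewDet
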