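import Groth.Agent.H91.Sing2

/-!
T-points of a cubic surface (smooth points whose tangent plane section is a union of lines):
polynomial families, the structure of a T-point, and a closed criterion.
-/

namespace Groth.Agent.H91.TPt

open MvPolynomial Groth.Agent.H91.CubicK Groth.Agent.H91.Polar

set_option linter.unusedSectionVars false
set_option linter.unusedVariables false

noncomputable section

variable {K : Type*} [Field K] [CharZero K]

/-- functions given by a polynomial -/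
def IsPolyFun (f : K → K) : Prop := ∃ P : Polynomial K, ∀ t, f t = P.eval t

namespace IsPolyFun

theorem const (c : K) : IsPolyFun (fun _ : K => c) :=
  ⟨Polynomial.C c, fun _ => Polynomial.eval_C.symm⟩

theorem ident : IsPolyFun (fun t : K => t) :=
  ⟨Polynomial.X, fun _ => Polynomial.eval_X.symm⟩

theorem add {f g : K → K} (hf : IsPolyFun f) (hg : IsPolyFun g) :
    IsPolyFun (fun t => f t + g t) := by
  obtain ⟨P, hP⟩ := hf
  obtain ⟨Q, hQ⟩ := hg
  exact ⟨P + Q, fun t => by show f t + g t = _; rw [Polynomial.eval_add, hP, hQ]⟩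

theorem sub {f g : K → K} (hf : IsPolyFun f) (hg : IsPolyFun g) :
    IsPolyFun (fun t => f t - g t) := by
  obtain ⟨P, hP⟩ := hf
  obtain ⟨Q, hQ⟩ := hg
  exact ⟨P - Q, fun t => by show f t - g t = _; rw [Polynomial.eval_sub, hP, hQ]⟩

theorem mul {f g : K → K} (hf : IsPolyFun f) (hg : IsPolyFun g) :
    IsPolyFun (fun t => f t * g t) := by
  obtain ⟨P, hP⟩ := hf
  obtain ⟨Q, hQ⟩ := hg
  exact ⟨P * Q, fun t => by show f t * g t = _; rw [Polynomial.eval_mul, hP, hQ]⟩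

theorem pow {f : K → K} (hf : IsPolyFun f) (n : ℕ) : IsPolyFun (fun t => f t ^ n) := by
  obtain ⟨P, hP⟩ := hf
  exact ⟨P ^ n, fun t => by show f t ^ n = _; rw [Polynomial.eval_pow, hP]⟩

theorem sum {ι : Type*} [Fintype ι] {f : ι → K → K} (h : ∀ i, IsPolyFun (f i)) :
    IsPolyFun (fun t => ∑ i, f i t) := by
  choose P hP using h
  exact ⟨∑ i, P i, fun t => by
    rw [Polynomial.eval_finsetSum]
    exact Finset.sum_congr rfl fun i _ => hP i t⟩

theorem eq_zero_of_infinite {f : K → K} (hf : IsPolyFun f) (hinf : {t | f t = 0}.Infinite) :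
    ∀ t, f t = 0 := by
  obtain ⟨P, hP⟩ := hf
  have h0 : P = 0 := by
    apply Polynomial.eq_zero_of_infinite_isRoot
    refine hinf.mono ?_
    intro t ht
    show P.IsRoot t
    rw [Polynomial.IsRoot.def, ← hP]
    exact ht
  intro t
  rw [hP, h0, Polynomial.eval_zero]

theorem trilin {n : ℕ} (F : MvPolynomial (Fin n) K) {u v w : K → (Fin n → K)}
    (hu : ∀ i, IsPolyFun (fun t => u t i)) (hv : ∀ i, IsPolyFun (fun t => v t i))
    (hw : ∀ i, IsPolyFun (fun t => w t i)) :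
    IsPolyFun (fun t => T F (u t) (v t) (w t)) := by
  unfold T
  exact (IsPolyFun.const _).mul (IsPolyFun.sum fun i => IsPolyFun.sum fun j =>
    IsPolyFun.sum fun k => (((IsPolyFun.const _).mul (hu i)).mul (hv j)).mul (hw k))

end IsPolyFun

/-- vector valued functions with polynomial coordinates -/
def IsPolyVec {n : ℕ} (u : K → (Fin n → K)) : Prop := ∀ i, IsPolyFun (fun t => u t i)

namespace IsPolyVec

variable {n : ℕ} {u v : K → (Fin n → K)}

theorem const (x : Fin n → K) : IsPolyVec (fun _ : K => x) := fun i => IsPolyFun.const (x i)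

theorem add (hu : IsPolyVec u) (hv : IsPolyVec v) : IsPolyVec (fun t => u t + v t) :=
  fun i => (hu i).add (hv i)

theorem sub (hu : IsPolyVec u) (hv : IsPolyVec v) : IsPolyVec (fun t => u t - v t) :=
  fun i => (hu i).sub (hv i)

theorem smul {f : K → K} (hf : IsPolyFun f) (hu : IsPolyVec u) :
    IsPolyVec (fun t => f t • u t) :=
  fun i => hf.mul (hu i)

end IsPolyVec

variable {F : MvPolynomial (Fin 4) K}

/-- the T-point condition -/
def tpP (F : MvPolynomial (Fin 4) K) (b : Fin 4 → K) : Prop :=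
  b ≠ 0 ∧ eval b F = 0 ∧ (∃ i : Fin 4, eval b (pderiv i F) ≠ 0) ∧
    ∃ L₁ L₂ L₃ : MvPolynomial (Fin 4) K, L₁.IsHomogeneous 1 ∧ L₂.IsHomogeneous 1 ∧
      L₃.IsHomogeneous 1 ∧
      F - L₁ * L₂ * L₃ ∈ Ideal.span {∑ i : Fin 4, C (eval b (pderiv i F)) * X i}

theorem tangent_sum (hF : F.IsHomogeneous 3) (b x : Fin 4 → K) :
    ∑ i, eval b (pderiv i F) * x i = 3 * T F b b x := by
  have h1 := dir_deriv hF b x
  rw [T_comm12, T_comm23] at h1
  rw [← h1]
  exact Finset.sum_congr rfl fun i _ => mul_comm _ _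

theorem eval_tangent (hF : F.IsHomogeneous 3) (b x : Fin 4 → K) :
    eval x (∑ i : Fin 4, C (eval b (pderiv i F)) * X i) = 3 * T F b b x := by
  rw [← tangent_sum hF]
  simp only [map_sum, map_mul, eval_C, eval_X]

theorem exists_dual_of_homog1 {n : ℕ} (L : MvPolynomial (Fin n) K) (hL : L.IsHomogeneous 1) :
    ∃ μ : Module.Dual K (Fin n → K), ∀ x, eval x L = μ x := by
  have h2 : L ∈ Submodule.span K (Set.range (X : Fin n → MvPolynomial (Fin n) K)) := by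
    rw [← homogeneousSubmodule_one_eq_span_X]
    exact (mem_homogeneousSubmodule 1 L).mpr hL
  obtain ⟨c, hc⟩ := (Submodule.mem_span_range_iff_exists_fun K).mp h2
  refine ⟨∑ i, c i • LinearMap.proj i, fun x => ?_⟩
  rw [← hc]
  simp only [map_sum, smul_eval, eval_X, LinearMap.sum_apply, LinearMap.smul_apply,
    LinearMap.proj_apply, smul_eq_mul]

/-- a product decomposition on the tangent plane gives a T-point -/
theorem tp_of_prod (hF : F.IsHomogeneous 3) (a : Fin 4 → K) (ha0 : a ≠ 0)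
    (hFa : eval a F = 0) (hsm : ∃ i : Fin 4, eval a (pderiv i F) ≠ 0)
    (μ₁ μ₂ μ₃ : Module.Dual K (Fin 4 → K))
    (h : ∀ x, T F a a x = 0 → eval x F = μ₁ x * μ₂ x * μ₃ x) : tpP F a := by
  refine ⟨ha0, hFa, hsm, linPoly μ₁, linPoly μ₂, linPoly μ₃, linPoly_homog _, linPoly_homog _,
    linPoly_homog _, ?_⟩
  obtain ⟨j, hj⟩ := hsm
  apply mem_span_linear_of_vanish (fun i => eval a (pderiv i F)) j hj
  intro x hx
  have hxH : T F a a x = 0 := by
    have h1 := tangent_sum hF a x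
    rw [hx] at h1
    exact (mul_eq_zero.mp h1.symm).resolve_left three_ne_zero
  rw [map_sub, map_mul, map_mul, eval_linPoly, eval_linPoly, eval_linPoly, h x hxH, sub_self]

/-- the structure of a T-point: on the tangent plane, either the second fundamental form
vanishes, or it divides the cubic. -/
theorem tp_struct [IsAlgClosed K] (hF : F.IsHomogeneous 3) (hirr : Irreducible F)
    (b : Fin 4 → K) (h : tpP F b) :
    (∀ x, T F b b x = 0 → T F b x x = 0) ∨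
    ∃ (G : Module.Dual K (Fin 4 → K)) (β : K), β ≠ 0 ∧
      ∀ x, T F b b x = 0 → β * eval x F = 3 * T F b x x * G x := by
  obtain ⟨hb0, hFb, hsm, L₁, L₂, L₃, hL₁, hL₂, hL₃, hmem⟩ := h
  obtain ⟨μ₁, hμ₁⟩ := exists_dual_of_homog1 L₁ hL₁
  obtain ⟨μ₂, hμ₂⟩ := exists_dual_of_homog1 L₂ hL₂
  obtain ⟨μ₃, hμ₃⟩ := exists_dual_of_homog1 L₃ hL₃
  rw [Ideal.mem_span_singleton] at hmem
  obtain ⟨R, hR⟩ := hmem
  have hbb : T F b b b = 0 := by rw [← eval_eq_T hF, hFb]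
  have key : ∀ x, T F b b x = 0 → eval x F = μ₁ x * μ₂ x * μ₃ x := by
    intro x hx
    have h1 := congrArg (eval x) hR
    simp only [map_sub, map_mul] at h1
    rw [hμ₁, hμ₂, hμ₃, eval_tangent hF b x, hx, mul_zero, zero_mul] at h1
    exact sub_eq_zero.mp h1
  have hTb : ∀ x, T F b b x = 0 → ∀ s : K, T F b b (s • b + x) = 0 := by
    intro x hx s
    rw [T_add_right, T_smul_right, hbb, hx]; ring
  have hpoly : ∀ x, T F b b x = 0 → ∀ s : K,
      s ^ 3 * (μ₁ b * μ₂ b * μ₃ b)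
        + s ^ 2 * (μ₁ b * μ₂ b * μ₃ x + μ₁ b * μ₂ x * μ₃ b + μ₁ x * μ₂ b * μ₃ b)
        + s * (μ₁ b * μ₂ x * μ₃ x + μ₁ x * μ₂ b * μ₃ x + μ₁ x * μ₂ x * μ₃ b - 3 * T F b x x)
        + (μ₁ x * μ₂ x * μ₃ x - eval x F) = 0 := by
    intro x hx s
    have h1 := key (s • b + x) (hTb x hx s)
    rw [eval_expand hF b x s, hFb, hx, map_add, map_add, map_add, map_smul, map_smul,
      map_smul] at h1
    simp only [smul_eq_mul] at h1
    linear_combination -h1
  obtain ⟨lam, hlam⟩ : ∃ lam : Module.Dual K (Fin 4 → K), ∀ y, lam y = T F b b y :=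
    ⟨{ toFun := fun y => T F b b y
       map_add' := fun y z => T_add_right F b b y z
       map_smul' := fun c y => by simp [T_smul_right] }, fun y => rfl⟩
  have NV : ∀ μ μ' μ'' : Module.Dual K (Fin 4 → K),
      (∀ x, T F b b x = 0 → eval x F = μ x * μ' x * μ'' x) →
      ∃ x₀, T F b b x₀ = 0 ∧ μ x₀ ≠ 0 := by
    intro μ μ' μ'' hk
    by_contra hcon
    push Not at hcon
    exact Groth.Agent.H91.Sing.reducible_of_vanish hirr hF lam (fun x hx => by
      rw [hlam] at hx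
      rw [hk x hx, hcon x hx]; ring)
  have aux : ∀ m₁ m₂ m₃ : Module.Dual K (Fin 4 → K),
      (∀ x, T F b b x = 0 → eval x F = m₁ x * m₂ x * m₃ x) →
      (∀ x, T F b b x = 0 → m₁ x * m₂ x * m₃ b = 3 * T F b x x) →
      ((∀ x, T F b b x = 0 → T F b x x = 0) ∨
        ∃ (G : Module.Dual K (Fin 4 → K)) (β : K), β ≠ 0 ∧
          ∀ x, T F b b x = 0 → β * eval x F = 3 * T F b x x * G x) := by
    intro m₁ m₂ m₃ h0 h1
    by_cases hβ : m₃ b = 0
    · left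
      intro x hx
      have h2 := h1 x hx
      rw [hβ, mul_zero] at h2
      exact (mul_eq_zero.mp h2.symm).resolve_left three_ne_zero
    · right
      exact ⟨m₃, m₃ b, hβ, fun x hx => by
        rw [h0 x hx]
        linear_combination (m₃ x) * h1 x hx⟩
  have P3 : μ₁ b * μ₂ b * μ₃ b = 0 := (cubic_coeffs (hpoly b hbb)).2.2.2
  have P2 : ∀ x, T F b b x = 0 →
      μ₁ b * μ₂ b * μ₃ x + μ₁ b * μ₂ x * μ₃ b + μ₁ x * μ₂ b * μ₃ b = 0 :=
    fun x hx => (cubic_coeffs (hpoly x hx)).2.2.1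
  have P1 : ∀ x, T F b b x = 0 →
      μ₁ b * μ₂ x * μ₃ x + μ₁ x * μ₂ b * μ₃ x + μ₁ x * μ₂ x * μ₃ b - 3 * T F b x x = 0 :=
    fun x hx => (cubic_coeffs (hpoly x hx)).2.1
  -- the three ways of choosing the two factors through `b`
  have c12 : μ₁ b = 0 → μ₂ b = 0 → _ := fun h1 h2 =>
    aux μ₁ μ₂ μ₃ key (fun x hx => by
      linear_combination P1 x hx - (μ₂ x * μ₃ x) * h1 - (μ₁ x * μ₃ x) * h2)
  have c13 : μ₁ b = 0 → μ₃ b = 0 → _ := fun h1 h3 =>
    aux μ₁ μ₃ μ₂ (fun x hx => by rw [key x hx]; ring) (fun x hx => by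
      linear_combination P1 x hx - (μ₂ x * μ₃ x) * h1 - (μ₁ x * μ₂ x) * h3)
  have c23 : μ₂ b = 0 → μ₃ b = 0 → _ := fun h2 h3 =>
    aux μ₂ μ₃ μ₁ (fun x hx => by rw [key x hx]; ring) (fun x hx => by
      linear_combination P1 x hx - (μ₁ x * μ₃ x) * h2 - (μ₁ x * μ₂ x) * h3)
  rcases mul_eq_zero.mp P3 with h12 | h3
  · rcases mul_eq_zero.mp h12 with h1 | h2
    · obtain ⟨x₀, hx₀, hne⟩ := NV μ₁ μ₂ μ₃ key
      have h4 : μ₁ x₀ * (μ₂ b * μ₃ b) = 0 := by
        linear_combination P2 x₀ hx₀ - (μ₂ b * μ₃ x₀ + μ₂ x₀ * μ₃ b) * h1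
      rcases mul_eq_zero.mp ((mul_eq_zero.mp h4).resolve_left hne) with h2 | h3
      · exact c12 h1 h2
      · exact c13 h1 h3
    · obtain ⟨x₀, hx₀, hne⟩ := NV μ₂ μ₁ μ₃ (fun x hx => by rw [key x hx]; ring)
      have h4 : μ₂ x₀ * (μ₁ b * μ₃ b) = 0 := by
        linear_combination P2 x₀ hx₀ - (μ₁ b * μ₃ x₀ + μ₁ x₀ * μ₃ b) * h2
      rcases mul_eq_zero.mp ((mul_eq_zero.mp h4).resolve_left hne) with h1 | h3
      · exact c12 h1 h2
      · exact c23 h2 h3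
  · obtain ⟨x₀, hx₀, hne⟩ := NV μ₃ μ₁ μ₂ (fun x hx => by rw [key x hx]; ring)
    have h4 : μ₃ x₀ * (μ₁ b * μ₂ b) = 0 := by
      linear_combination P2 x₀ hx₀ - (μ₁ b * μ₂ x₀ + μ₁ x₀ * μ₂ b) * h3
    rcases mul_eq_zero.mp ((mul_eq_zero.mp h4).resolve_left hne) with h1 | h2
    · exact c13 h1 h3
    · exact c23 h2 h3

/-- pseudo-remainder coefficients of a binary cubic by a binary quadric -/
def R1 (q₀ q₁ q₂ c₀ c₁ c₂ c₃ : K) : K := q₀ ^ 2 * c₂ - q₀ * q₂ * c₀ - q₁ * (q₀ * c₁ - q₁ * c₀)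

/-- pseudo-remainder coefficients of a binary cubic by a binary quadric -/
def R0 (q₀ q₁ q₂ c₀ c₁ c₂ c₃ : K) : K := q₀ ^ 2 * c₃ - q₂ * (q₀ * c₁ - q₁ * c₀)

theorem res_algebra (β q₀ q₁ q₂ c₀ c₁ c₂ c₃ g₁ g₂ : K) (hβ : β ≠ 0)
    (hid : ∀ z₁ z₂ : K, β * (z₁ ^ 3 * c₀ + 3 * z₁ ^ 2 * z₂ * c₁ + 3 * z₁ * z₂ ^ 2 * c₂
        + z₂ ^ 3 * c₃)
      = 3 * (z₁ ^ 2 * q₀ + 2 * z₁ * z₂ * q₁ + z₂ ^ 2 * q₂) * (z₁ * g₁ + z₂ * g₂)) :
    R1 q₀ (2 * q₁) q₂ c₀ (3 * c₁) (3 * c₂) c₃ = 0 ∧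
      R0 q₀ (2 * q₁) q₂ c₀ (3 * c₁) (3 * c₂) c₃ = 0 := by
  have E10 : β * c₀ = 3 * q₀ * g₁ := by linear_combination hid 1 0
  have E01 : β * c₃ = 3 * q₂ * g₂ := by linear_combination hid 0 1
  have E11 := hid 1 1
  have E1m := hid 1 (-1)
  have hc2 : β * (3 * c₂) = 3 * (q₂ * g₁ + (2 * q₁) * g₂) := by
    linear_combination (1 / 2 : K) * E11 + (1 / 2 : K) * E1m - E10
  have hc1 : β * (3 * c₁) = 3 * ((2 * q₁) * g₁ + q₀ * g₂) := by
    linear_combination (1 / 2 : K) * E11 - (1 / 2 : K) * E1m - E01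
  constructor
  · apply mul_left_cancel₀ hβ
    unfold R1
    linear_combination q₀ ^ 2 * hc2 - q₀ * q₂ * E10 - (2 * q₁) * q₀ * hc1 + (2 * q₁) ^ 2 * E10
  · apply mul_left_cancel₀ hβ
    unfold R0
    linear_combination q₀ ^ 2 * E01 - q₂ * q₀ * hc1 + q₂ * (2 * q₁) * E10

/-- the closed criterion satisfied by T-points -/
theorem tp_resultant [IsAlgClosed K] (hF : F.IsHomogeneous 3) (hirr : Irreducible F)
    (b w₁ w₂ : Fin 4 → K) (h : tpP F b) (h1 : T F b b w₁ = 0) (h2 : T F b b w₂ = 0) :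
    R1 (T F b w₁ w₁) (2 * T F b w₁ w₂) (T F b w₂ w₂) (T F w₁ w₁ w₁) (3 * T F w₁ w₁ w₂)
        (3 * T F w₁ w₂ w₂) (T F w₂ w₂ w₂) = 0 ∧
      R0 (T F b w₁ w₁) (2 * T F b w₁ w₂) (T F b w₂ w₂) (T F w₁ w₁ w₁) (3 * T F w₁ w₁ w₂)
        (3 * T F w₁ w₂ w₂) (T F w₂ w₂ w₂) = 0 := by
  have hx : ∀ z₁ z₂ : K, T F b b (z₁ • w₁ + z₂ • w₂) = 0 := by
    intro z₁ z₂
    rw [T_add_right, T_smul_right, T_smul_right, h1, h2]; ring
  rcases tp_struct hF hirr b h with hA1 | ⟨G, β, hβ, hG⟩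
  · have e0 : T F b w₁ w₁ = 0 := hA1 w₁ h1
    have e2 : T F b w₂ w₂ = 0 := hA1 w₂ h2
    have e1 : T F b w₁ w₂ = 0 := by
      have h3 := hA1 ((1 : K) • w₁ + (1 : K) • w₂) (hx 1 1)
      rw [quad_expand, e0, e2] at h3
      linear_combination (1 / 2 : K) * h3
    unfold R1 R0
    rw [e0, e1, e2]
    constructor <;> ring
  · refine res_algebra β _ _ _ _ _ _ _ (G w₁) (G w₂) hβ ?_
    intro z₁ z₂
    have h3 := hG (z₁ • w₁ + z₂ • w₂) (hx z₁ z₂)
    rw [cube_expand hF, quad_expand, eval_eq_T hF w₁, eval_eq_T hF w₂, map_add, map_smul,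
      map_smul, smul_eq_mul, smul_eq_mul] at h3
    linear_combination h3

end

end Groth.Agent.H91.TPt
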