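import Groth.Agent.H91.TPt1

/-!
Frames adapted to a tangent plane, and finiteness of the T-points on a polynomial curve through
a point which is not a T-point.
-/

namespace Groth.Agent.H91.TPt

open MvPolynomial Groth.Agent.H91.CubicK Groth.Agent.H91.Polar

set_option linter.unusedSectionVars false
set_option linter.unusedVariables false

noncomputable section

variable {K : Type*} [Field K] [CharZero K] {F : MvPolynomial (Fin 4) K}

/-- a frame adapted to the tangent plane at `a` -/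
structure Frame (F : MvPolynomial (Fin 4) K) (a : Fin 4 → K) where
  e₁ : Fin 4 → K
  e₂ : Fin 4 → K
  n : Fin 4 → K
  κ₀ : Module.Dual K (Fin 4 → K)
  κ₁ : Module.Dual K (Fin 4 → K)
  κ₂ : Module.Dual K (Fin 4 → K)
  h1 : T F a a e₁ = 0
  h2 : T F a a e₂ = 0
  hn : T F a a n = 1
  hrep : ∀ x, T F a a x = 0 → ∃ s p r : K, x = s • a + (p • e₁ + r • e₂)
  hκ₀ : ∀ s p r : K, κ₀ (s • a + (p • e₁ + r • e₂)) = s
  hκ₁ : ∀ s p r : K, κ₁ (s • a + (p • e₁ + r • e₂)) = p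
  hκ₂ : ∀ s p r : K, κ₂ (s • a + (p • e₁ + r • e₂)) = r

theorem exists_frame (hF : F.IsHomogeneous 3) (a : Fin 4 → K) (ha0 : a ≠ 0)
    (haa : T F a a a = 0) (hsm : ∃ i : Fin 4, eval a (pderiv i F) ≠ 0) :
    Nonempty (Frame F a) := by
  classical
  obtain ⟨lam, hlam_apply⟩ : ∃ lam : Module.Dual K (Fin 4 → K), ∀ y, lam y = T F a a y :=
    ⟨{ toFun := fun y => T F a a y
       map_add' := fun y z => T_add_right F a a y z
       map_smul' := fun c y => by simp [T_smul_right] }, fun y => rfl⟩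
  have hlam0 : lam ≠ 0 := by
    intro h
    obtain ⟨i, hi⟩ := hsm
    apply hi
    have h1 := tangent_sum hF a (Pi.single i 1)
    rw [← hlam_apply, h, LinearMap.zero_apply, mul_zero] at h1
    simpa [Pi.single_apply] using h1
  have hla : lam a = 0 := by rw [hlam_apply, haa]
  obtain ⟨b, hb0, hb1, hb2, hb3⟩ := exists_adapted_basis lam hlam0 a ha0 hla
  have hc0 : ∀ s p r : K, b.coord 0 (s • a + (p • b 1 + r • b 2)) = s := by
    intro s p r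
    rw [← hb0]
    simp [Module.Basis.coord_apply, Finsupp.single_apply]
  have hc1 : ∀ s p r : K, b.coord 1 (s • a + (p • b 1 + r • b 2)) = p := by
    intro s p r
    rw [← hb0]
    simp [Module.Basis.coord_apply, Finsupp.single_apply]
  have hc2 : ∀ s p r : K, b.coord 2 (s • a + (p • b 1 + r • b 2)) = r := by
    intro s p r
    rw [← hb0]
    simp [Module.Basis.coord_apply, Finsupp.single_apply]
  have hrep : ∀ x, T F a a x = 0 → ∃ s p r : K, x = s • a + (p • b 1 + r • b 2) := by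
    intro x hx
    have h1 := b.sum_repr x
    rw [Fin.sum_univ_four, hb0] at h1
    have h2 : b.repr x 3 = 0 := by
      have h3 := congrArg lam h1
      simp only [map_add, map_smul, hla, hb1, hb2, hb3, smul_eq_mul, mul_zero, mul_one,
        zero_add] at h3
      rw [h3, hlam_apply, hx]
    refine ⟨b.repr x 0, b.repr x 1, b.repr x 2, ?_⟩
    rw [h2, zero_smul, add_zero, add_assoc] at h1
    exact h1.symm
  exact ⟨{ e₁ := b 1, e₂ := b 2, n := b 3, κ₀ := b.coord 0, κ₁ := b.coord 1, κ₂ := b.coord 2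
           h1 := by rw [← hlam_apply]; exact hb1
           h2 := by rw [← hlam_apply]; exact hb2
           hn := by rw [← hlam_apply]; exact hb3
           hrep := hrep, hκ₀ := hc0, hκ₁ := hc1, hκ₂ := hc2 }⟩

/-- exchange the two frame vectors -/
def Frame.swap {a : Fin 4 → K} (fr : Frame F a) : Frame F a where
  e₁ := fr.e₂
  e₂ := fr.e₁
  n := fr.n
  κ₀ := fr.κ₀
  κ₁ := fr.κ₂
  κ₂ := fr.κ₁
  h1 := fr.h2
  h2 := fr.h1
  hn := fr.hn
  hrep := fun x hx => by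
    obtain ⟨s, p, r, rfl⟩ := fr.hrep x hx
    exact ⟨s, r, p, by module⟩
  hκ₀ := fun s p r => by
    rw [show s • a + (p • fr.e₂ + r • fr.e₁) = s • a + (r • fr.e₁ + p • fr.e₂) by module]
    exact fr.hκ₀ s r p
  hκ₁ := fun s p r => by
    rw [show s • a + (p • fr.e₂ + r • fr.e₁) = s • a + (r • fr.e₁ + p • fr.e₂) by module]
    exact fr.hκ₂ s r p
  hκ₂ := fun s p r => by
    rw [show s • a + (p • fr.e₂ + r • fr.e₁) = s • a + (r • fr.e₁ + p • fr.e₂) by module]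
    exact fr.hκ₁ s r p

/-- replace the first frame vector by the sum of the two -/
def Frame.shear {a : Fin 4 → K} (fr : Frame F a) : Frame F a where
  e₁ := fr.e₁ + fr.e₂
  e₂ := fr.e₂
  n := fr.n
  κ₀ := fr.κ₀
  κ₁ := fr.κ₁
  κ₂ := fr.κ₂ - fr.κ₁
  h1 := by rw [T_add_right, fr.h1, fr.h2, add_zero]
  h2 := fr.h2
  hn := fr.hn
  hrep := fun x hx => by
    obtain ⟨s, p, r, rfl⟩ := fr.hrep x hx
    exact ⟨s, p, r - p, by module⟩
  hκ₀ := fun s p r => by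
    rw [show s • a + (p • (fr.e₁ + fr.e₂) + r • fr.e₂)
      = s • a + (p • fr.e₁ + (p + r) • fr.e₂) by module]
    exact fr.hκ₀ s p (p + r)
  hκ₁ := fun s p r => by
    rw [show s • a + (p • (fr.e₁ + fr.e₂) + r • fr.e₂)
      = s • a + (p • fr.e₁ + (p + r) • fr.e₂) by module]
    exact fr.hκ₁ s p (p + r)
  hκ₂ := fun s p r => by
    rw [show s • a + (p • (fr.e₁ + fr.e₂) + r • fr.e₂)
      = s • a + (p • fr.e₁ + (p + r) • fr.e₂) by module, LinearMap.sub_apply, fr.hκ₂, fr.hκ₁]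
    ring

theorem exists_good_frame {a : Fin 4 → K} (fr : Frame F a)
    (hN1 : ¬ (T F a fr.e₁ fr.e₁ = 0 ∧ T F a fr.e₁ fr.e₂ = 0 ∧ T F a fr.e₂ fr.e₂ = 0)) :
    ∃ fr' : Frame F a, T F a fr'.e₁ fr'.e₁ ≠ 0 := by
  by_cases hA : T F a fr.e₁ fr.e₁ = 0
  · by_cases hC : T F a fr.e₂ fr.e₂ = 0
    · refine ⟨fr.shear, ?_⟩
      show T F a (fr.e₁ + fr.e₂) (fr.e₁ + fr.e₂) ≠ 0
      rw [T_add_mid, T_add_right, T_add_right, hA, hC, T_comm23 F a fr.e₂ fr.e₁]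
      intro h
      apply hN1
      refine ⟨hA, ?_, hC⟩
      have h2 : 2 * T F a fr.e₁ fr.e₂ = 0 := by linear_combination h
      exact (mul_eq_zero.mp h2).resolve_left two_ne_zero
    · exact ⟨fr.swap, hC⟩
  · exact ⟨fr, hA⟩

theorem Frame.plane_tangent {a : Fin 4 → K} (fr : Frame F a) (p r : K) :
    T F a a (p • fr.e₁ + r • fr.e₂) = 0 := by
  rw [T_add_right, T_smul_right, T_smul_right, fr.h1, fr.h2]; ring

theorem Frame.eval_plane {a : Fin 4 → K} (fr : Frame F a) (hF : F.IsHomogeneous 3)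
    (hFa : eval a F = 0) (s p r : K) :
    eval (s • a + (p • fr.e₁ + r • fr.e₂)) F =
      eval (p • fr.e₁ + r • fr.e₂) F
        + 3 * s * T F a (p • fr.e₁ + r • fr.e₂) (p • fr.e₁ + r • fr.e₂) := by
  rw [eval_expand hF a _ s, hFa, fr.plane_tangent]; ring

theorem Frame.N1 [IsAlgClosed K] {a : Fin 4 → K} (fr : Frame F a) (hF : F.IsHomogeneous 3)
    (ha0 : a ≠ 0) (hFa : eval a F = 0) (hsm : ∃ i : Fin 4, eval a (pderiv i F) ≠ 0)
    (hnT : ¬ tpP F a) :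
    ¬ (T F a fr.e₁ fr.e₁ = 0 ∧ T F a fr.e₁ fr.e₂ = 0 ∧ T F a fr.e₂ fr.e₂ = 0) := by
  rintro ⟨hA0, hB0, hC0⟩
  apply hnT
  obtain ⟨α₁, β₁, α₂, β₂, α₃, β₃, hfac⟩ := binary_cubic_factor (eval fr.e₁ F)
    (3 * T F fr.e₁ fr.e₁ fr.e₂) (3 * T F fr.e₁ fr.e₂ fr.e₂) (eval fr.e₂ F)
  refine tp_of_prod hF a ha0 hFa hsm (α₁ • fr.κ₁ + β₁ • fr.κ₂) (α₂ • fr.κ₁ + β₂ • fr.κ₂)
    (α₃ • fr.κ₁ + β₃ • fr.κ₂) ?_
  intro x hx
  obtain ⟨s, p, r, rfl⟩ := fr.hrep x hx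
  rw [fr.eval_plane hF hFa, quad_expand, hA0, hB0, hC0, cube_expand hF]
  simp only [LinearMap.add_apply, LinearMap.smul_apply, fr.hκ₁, fr.hκ₂, smul_eq_mul]
  linear_combination hfac p r

theorem Frame.N2 [IsAlgClosed K] {a : Fin 4 → K} (fr : Frame F a) (hF : F.IsHomogeneous 3)
    (ha0 : a ≠ 0) (hFa : eval a F = 0) (hsm : ∃ i : Fin 4, eval a (pderiv i F) ≠ 0)
    (hnT : ¬ tpP F a) :
    ¬ ∃ g₁ g₂ κ : K, κ ≠ 0 ∧ ∀ p r : K, κ * eval (p • fr.e₁ + r • fr.e₂) F =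
      T F a (p • fr.e₁ + r • fr.e₂) (p • fr.e₁ + r • fr.e₂) * (g₁ * p + g₂ * r) := by
  rintro ⟨g₁, g₂, κ, hκ, h⟩
  apply hnT
  obtain ⟨α₁, β₁, α₂, β₂, hfac⟩ := binary_quadratic_factor (T F a fr.e₁ fr.e₁)
    (T F a fr.e₁ fr.e₂) (T F a fr.e₂ fr.e₂)
  obtain ⟨ε, hε⟩ : ∃ ε : K, κ * ε = 1 := ⟨κ⁻¹, mul_inv_cancel₀ hκ⟩
  refine tp_of_prod hF a ha0 hFa hsm ((ε * α₁) • fr.κ₁ + (ε * β₁) • fr.κ₂)
    (α₂ • fr.κ₁ + β₂ • fr.κ₂) ((3 * κ) • fr.κ₀ + g₁ • fr.κ₁ + g₂ • fr.κ₂) ?_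
  intro x hx
  obtain ⟨s, p, r, rfl⟩ := fr.hrep x hx
  have h' := h p r
  rw [quad_expand] at h'
  have hfac' := hfac p r
  rw [fr.eval_plane hF hFa, quad_expand]
  simp only [LinearMap.add_apply, LinearMap.smul_apply, fr.hκ₀, fr.hκ₁, fr.hκ₂, smul_eq_mul]
  linear_combination (-(eval (p • fr.e₁ + r • fr.e₂) F + 3 * s * (p ^ 2 * T F a fr.e₁ fr.e₁
    + 2 * p * r * T F a fr.e₁ fr.e₂ + r ^ 2 * T F a fr.e₂ fr.e₂))) * hε + ε * h'
    + (ε * (3 * κ * s + g₁ * p + g₂ * r)) * hfac'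

/-- the moving frame vector in the tangent plane at `b t` -/
def wv (F : MvPolynomial (Fin 4) K) (b : K → (Fin 4 → K)) (e n : Fin 4 → K) (t : K) :
    Fin 4 → K :=
  T F (b t) (b t) n • e - T F (b t) (b t) e • n

theorem wv_tangent (b : K → (Fin 4 → K)) (e n : Fin 4 → K) (t : K) :
    T F (b t) (b t) (wv F b e n t) = 0 := by
  unfold wv
  rw [sub_eq_add_neg, ← neg_smul, T_add_right, T_smul_right, T_smul_right]; ring

theorem wv_poly {b : K → (Fin 4 → K)} (hb : IsPolyVec b) (e n : Fin 4 → K) :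
    IsPolyVec (wv F b e n) :=
  (IsPolyVec.smul (IsPolyFun.trilin F hb hb (IsPolyVec.const n)) (IsPolyVec.const e)).sub
    (IsPolyVec.smul (IsPolyFun.trilin F hb hb (IsPolyVec.const e)) (IsPolyVec.const n))

theorem wv_at {b : K → (Fin 4 → K)} {a e n : Fin 4 → K} {t₀ lam : K} (hbt : b t₀ = lam • a)
    (hn : T F a a n = 1) (he : T F a a e = 0) : wv F b e n t₀ = (lam ^ 2) • e := by
  unfold wv
  rw [hbt]
  simp only [T_smul_left, T_smul_mid]
  rw [hn, he]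
  module

/-- first pseudo-remainder along the curve -/
def r1 (F : MvPolynomial (Fin 4) K) (b : K → (Fin 4 → K)) (e₁ e₂ n : Fin 4 → K) (t : K) : K :=
  R1 (T F (b t) (wv F b e₁ n t) (wv F b e₁ n t)) (2 * T F (b t) (wv F b e₁ n t) (wv F b e₂ n t))
    (T F (b t) (wv F b e₂ n t) (wv F b e₂ n t))
    (T F (wv F b e₁ n t) (wv F b e₁ n t) (wv F b e₁ n t))
    (3 * T F (wv F b e₁ n t) (wv F b e₁ n t) (wv F b e₂ n t))
    (3 * T F (wv F b e₁ n t) (wv F b e₂ n t) (wv F b e₂ n t))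
    (T F (wv F b e₂ n t) (wv F b e₂ n t) (wv F b e₂ n t))

/-- second pseudo-remainder along the curve -/
def r0 (F : MvPolynomial (Fin 4) K) (b : K → (Fin 4 → K)) (e₁ e₂ n : Fin 4 → K) (t : K) : K :=
  R0 (T F (b t) (wv F b e₁ n t) (wv F b e₁ n t)) (2 * T F (b t) (wv F b e₁ n t) (wv F b e₂ n t))
    (T F (b t) (wv F b e₂ n t) (wv F b e₂ n t))
    (T F (wv F b e₁ n t) (wv F b e₁ n t) (wv F b e₁ n t))
    (3 * T F (wv F b e₁ n t) (wv F b e₁ n t) (wv F b e₂ n t))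
    (3 * T F (wv F b e₁ n t) (wv F b e₂ n t) (wv F b e₂ n t))
    (T F (wv F b e₂ n t) (wv F b e₂ n t) (wv F b e₂ n t))

theorem r1_poly {b : K → (Fin 4 → K)} (hb : IsPolyVec b) (e₁ e₂ n : Fin 4 → K) :
    IsPolyFun (r1 F b e₁ e₂ n) := by
  have hw₁ := wv_poly (F := F) hb e₁ n
  have hw₂ := wv_poly (F := F) hb e₂ n
  have q0 := IsPolyFun.trilin F hb hw₁ hw₁
  have q1 := IsPolyFun.trilin F hb hw₁ hw₂
  have q2 := IsPolyFun.trilin F hb hw₂ hw₂
  have c0 := IsPolyFun.trilin F hw₁ hw₁ hw₁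
  have c1 := IsPolyFun.trilin F hw₁ hw₁ hw₂
  have c2 := IsPolyFun.trilin F hw₁ hw₂ hw₂
  have c3 := IsPolyFun.trilin F hw₂ hw₂ hw₂
  exact (((q0.pow 2).mul ((IsPolyFun.const 3).mul c2)).sub ((q0.mul q2).mul c0)).sub
    (((IsPolyFun.const 2).mul q1).mul ((q0.mul ((IsPolyFun.const 3).mul c1)).sub
      (((IsPolyFun.const 2).mul q1).mul c0)))

theorem r0_poly {b : K → (Fin 4 → K)} (hb : IsPolyVec b) (e₁ e₂ n : Fin 4 → K) :
    IsPolyFun (r0 F b e₁ e₂ n) := by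
  have hw₁ := wv_poly (F := F) hb e₁ n
  have hw₂ := wv_poly (F := F) hb e₂ n
  have q0 := IsPolyFun.trilin F hb hw₁ hw₁
  have q1 := IsPolyFun.trilin F hb hw₁ hw₂
  have q2 := IsPolyFun.trilin F hb hw₂ hw₂
  have c0 := IsPolyFun.trilin F hw₁ hw₁ hw₁
  have c1 := IsPolyFun.trilin F hw₁ hw₁ hw₂
  have c3 := IsPolyFun.trilin F hw₂ hw₂ hw₂
  exact ((q0.pow 2).mul c3).sub
    (q2.mul ((q0.mul ((IsPolyFun.const 3).mul c1)).sub (((IsPolyFun.const 2).mul q1).mul c0)))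

/-- On a polynomial curve through a point which is not a T-point (in the sense that the
tangent cone does not divide the tangent section), only finitely many points are T-points. -/
theorem curve_finite [IsAlgClosed K] (hF : F.IsHomogeneous 3) (hirr : Irreducible F)
    (a e₁ e₂ n : Fin 4 → K) (h1 : T F a a e₁ = 0) (h2 : T F a a e₂ = 0) (hn : T F a a n = 1)
    (hA : T F a e₁ e₁ ≠ 0)
    (hN2 : ¬ ∃ g₁ g₂ κ : K, κ ≠ 0 ∧ ∀ p r : K, κ * eval (p • e₁ + r • e₂) F =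
      T F a (p • e₁ + r • e₂) (p • e₁ + r • e₂) * (g₁ * p + g₂ * r))
    (b : K → (Fin 4 → K)) (hb : IsPolyVec b) (t₀ lam : K) (hlam : lam ≠ 0)
    (hbt : b t₀ = lam • a) :
    {t | tpP F (b t)}.Finite := by
  by_contra hfin
  have hinf : {t | tpP F (b t)}.Infinite := hfin
  have claim : ∀ t, tpP F (b t) → r1 F b e₁ e₂ n t = 0 ∧ r0 F b e₁ e₂ n t = 0 := fun t ht =>
    tp_resultant hF hirr (b t) (wv F b e₁ n t) (wv F b e₂ n t) ht (wv_tangent b e₁ n t)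
      (wv_tangent b e₂ n t)
  have hz1 : ∀ t, r1 F b e₁ e₂ n t = 0 :=
    (r1_poly hb e₁ e₂ n).eq_zero_of_infinite (hinf.mono fun t ht => (claim t ht).1)
  have hz0 : ∀ t, r0 F b e₁ e₂ n t = 0 :=
    (r0_poly hb e₁ e₂ n).eq_zero_of_infinite (hinf.mono fun t ht => (claim t ht).2)
  have w1 : wv F b e₁ n t₀ = (lam ^ 2) • e₁ := wv_at hbt hn h1
  have w2 : wv F b e₂ n t₀ = (lam ^ 2) • e₂ := wv_at hbt hn h2
  have hR1 : R1 (T F a e₁ e₁) (2 * T F a e₁ e₂) (T F a e₂ e₂) (T F e₁ e₁ e₁)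
      (3 * T F e₁ e₁ e₂) (3 * T F e₁ e₂ e₂) (T F e₂ e₂ e₂) = 0 := by
    have hz := hz1 t₀
    unfold r1 at hz
    rw [w1, w2, hbt] at hz
    simp only [T_smul_left, T_smul_mid, T_smul_right] at hz
    unfold R1 at hz ⊢
    have h16 : lam ^ 16 ≠ 0 := pow_ne_zero 16 hlam
    apply mul_left_cancel₀ h16
    linear_combination hz
  have hR0 : R0 (T F a e₁ e₁) (2 * T F a e₁ e₂) (T F a e₂ e₂) (T F e₁ e₁ e₁)
      (3 * T F e₁ e₁ e₂) (3 * T F e₁ e₂ e₂) (T F e₂ e₂ e₂) = 0 := by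
    have hz := hz0 t₀
    unfold r0 at hz
    rw [w1, w2, hbt] at hz
    simp only [T_smul_left, T_smul_mid, T_smul_right] at hz
    unfold R0 at hz ⊢
    have h16 : lam ^ 16 ≠ 0 := pow_ne_zero 16 hlam
    apply mul_left_cancel₀ h16
    linear_combination hz
  apply hN2
  refine ⟨T F a e₁ e₁ * T F e₁ e₁ e₁,
    T F a e₁ e₁ * (3 * T F e₁ e₁ e₂) - 2 * T F a e₁ e₂ * T F e₁ e₁ e₁,
    T F a e₁ e₁ ^ 2, pow_ne_zero 2 hA, fun p r => ?_⟩
  rw [cube_expand hF, quad_expand, eval_eq_T hF e₁, eval_eq_T hF e₂]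
  unfold R1 at hR1
  unfold R0 at hR0
  linear_combination (p * r ^ 2) * hR1 + r ^ 3 * hR0

end

end Groth.Agent.H91.TPt
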