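import Groth.Agent.H91.TPt2

/-!
The tangent plane at a point which is not a T-point contains only finitely many T-points.
-/

namespace Groth.Agent.H91.TPt

open MvPolynomial Groth.Agent.H91.CubicK Groth.Agent.H91.Polar

set_option linter.unusedSectionVars false
set_option linter.unusedVariables false

noncomputable section

variable {K : Type*} [Field K] [CharZero K] {F : MvPolynomial (Fin 4) K}

theorem eq_span_of_mem {U : Submodule K (Fin 4 → K)} (hU : Module.finrank K U = 1)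
    {w : Fin 4 → K} (hw : w ∈ U) (hw0 : w ≠ 0) : U = Submodule.span K {w} := by
  symm
  apply Submodule.eq_of_le_of_finrank_eq
  · rw [Submodule.span_le]
    exact Set.singleton_subset_iff.mpr hw
  · rw [finrank_span_singleton hw0, hU]

set_option maxHeartbeats 1000000 in
theorem main_finite [IsAlgClosed K] (hF : F.IsHomogeneous 3) (hirr : Irreducible F)
    (tp : (Fin 4 → K) → Prop) (htp : ∀ b : Fin 4 → K, tp b ↔ tpP F b)
    (a : Fin 4 → K) (haF : eval a F = 0) (hsm : ∃ i : Fin 4, eval a (pderiv i F) ≠ 0)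
    (ha : ¬ tp a) (H : Submodule K (Fin 4 → K))
    (hH : ∀ x : Fin 4 → K, x ∈ H ↔ eval x (∑ i : Fin 4, C (eval a (pderiv i F)) * X i) = 0) :
    Set.Finite {U : Submodule K (Fin 4 → K) | Module.finrank K ↥U = 1 ∧ U ≤ H ∧
      ∀ b ∈ U, b ≠ 0 → tp b} := by
  classical
  have hnT : ¬ tpP F a := fun h => ha ((htp a).mpr h)
  have hT0 : ∀ x : Fin 4 → K, T F (0 : Fin 4 → K) 0 x = 0 := by
    intro x
    have h := T_smul_left F (0 : K) (0 : Fin 4 → K) 0 x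
    rw [zero_smul, zero_mul] at h
    exact h
  have ha0 : a ≠ 0 := by
    intro ha0
    obtain ⟨i, hi⟩ := hsm
    apply hi
    have h1 := tangent_sum hF a (Pi.single i 1)
    rw [ha0, hT0, mul_zero] at h1
    rw [ha0]
    simpa [Pi.single_apply] using h1
  have haa : T F a a a = 0 := by rw [← eval_eq_T hF, haF]
  have hHm : ∀ x, x ∈ H ↔ T F a a x = 0 := by
    intro x
    rw [hH, eval_tangent hF]
    constructor
    · intro h; exact (mul_eq_zero.mp h).resolve_left three_ne_zero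
    · intro h; rw [h, mul_zero]
  obtain ⟨fr0⟩ := exists_frame hF a ha0 haa hsm
  obtain ⟨fr, hA⟩ := exists_good_frame fr0 (fr0.N1 hF ha0 haF hsm hnT)
  have hN2 := fr.N2 hF ha0 haF hsm hnT
  have CL := curve_finite hF hirr a fr.e₁ fr.e₂ fr.n fr.h1 fr.h2 fr.hn hA hN2
  -- coefficients
  obtain ⟨A, hAd⟩ : ∃ A, A = T F a fr.e₁ fr.e₁ := ⟨_, rfl⟩
  obtain ⟨B, hBd⟩ : ∃ B, B = T F a fr.e₁ fr.e₂ := ⟨_, rfl⟩
  obtain ⟨Cc, hCd⟩ : ∃ Cc, Cc = T F a fr.e₂ fr.e₂ := ⟨_, rfl⟩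
  obtain ⟨γ₀, hγ₀⟩ : ∃ γ₀, γ₀ = eval fr.e₁ F := ⟨_, rfl⟩
  obtain ⟨γ₁, hγ₁⟩ : ∃ γ₁, γ₁ = 3 * T F fr.e₁ fr.e₁ fr.e₂ := ⟨_, rfl⟩
  obtain ⟨γ₂, hγ₂⟩ : ∃ γ₂, γ₂ = 3 * T F fr.e₁ fr.e₂ fr.e₂ := ⟨_, rfl⟩
  obtain ⟨γ₃, hγ₃⟩ : ∃ γ₃, γ₃ = eval fr.e₂ F := ⟨_, rfl⟩
  have hA0 : A ≠ 0 := by rw [hAd]; exact hA
  have hq : ∀ p r : K, T F a (p • fr.e₁ + r • fr.e₂) (p • fr.e₁ + r • fr.e₂) =
      A * p ^ 2 + 2 * B * p * r + Cc * r ^ 2 := by
    intro p r
    rw [quad_expand, hAd, hBd, hCd]; ring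
  have hg : ∀ p r : K, eval (p • fr.e₁ + r • fr.e₂) F =
      γ₀ * p ^ 3 + γ₁ * p ^ 2 * r + γ₂ * p * r ^ 2 + γ₃ * r ^ 3 := by
    intro p r
    rw [cube_expand hF, hγ₀, hγ₁, hγ₂, hγ₃]; ring
  have hFx : ∀ s p r : K, eval (s • a + (p • fr.e₁ + r • fr.e₂)) F =
      γ₀ * p ^ 3 + γ₁ * p ^ 2 * r + γ₂ * p * r ^ 2 + γ₃ * r ^ 3
        + 3 * s * (A * p ^ 2 + 2 * B * p * r + Cc * r ^ 2) := by
    intro s p r
    rw [fr.eval_plane hF haF, hq, hg]
  have hN2' : ¬ ∃ g₁ g₂ κ : K, κ ≠ 0 ∧ ∀ p r : K,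
      κ * (γ₀ * p ^ 3 + γ₁ * p ^ 2 * r + γ₂ * p * r ^ 2 + γ₃ * r ^ 3) =
        (A * p ^ 2 + 2 * B * p * r + Cc * r ^ 2) * (g₁ * p + g₂ * r) := by
    rintro ⟨g₁, g₂, κ, hκ, h⟩
    exact hN2 ⟨g₁, g₂, κ, hκ, fun p r => by rw [hg, hq]; exact h p r⟩
  -- a root of the quadratic
  obtain ⟨δ, hδ⟩ := IsAlgClosed.exists_eq_mul_self (B ^ 2 - A * Cc)
  obtain ⟨ρ, hρ⟩ : ∃ ρ : K, A * ρ = -B + δ := ⟨(-B + δ) / A, by field_simp⟩
  have hroot : A * ρ ^ 2 + 2 * B * ρ + Cc = 0 := by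
    apply mul_left_cancel₀ hA0
    linear_combination (A * ρ + B + δ) * hρ - hδ
  obtain ⟨t₁, ht₁⟩ : ∃ t₁ : K, A * t₁ = -(2 * B + A * ρ) :=
    ⟨-(2 * B + A * ρ) / A, by field_simp⟩
  have hqfac : ∀ p r : K, A * p ^ 2 + 2 * B * p * r + Cc * r ^ 2 =
      (p - ρ * r) * (A * p + (2 * B + A * ρ) * r) := by
    intro p r
    linear_combination r ^ 2 * hroot
  have hgP : IsPolyFun (fun t : K => γ₀ * t ^ 3 + γ₁ * t ^ 2 + γ₂ * t + γ₃) :=
    ((((IsPolyFun.const γ₀).mul (IsPolyFun.ident.pow 3)).add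
      ((IsPolyFun.const γ₁).mul (IsPolyFun.ident.pow 2))).add
      ((IsPolyFun.const γ₂).mul IsPolyFun.ident)).add (IsPolyFun.const γ₃)
  have hqP : IsPolyFun (fun t : K => A * t ^ 2 + 2 * B * t + Cc) :=
    (((IsPolyFun.const A).mul (IsPolyFun.ident.pow 2)).add
      ((IsPolyFun.const (2 * B)).mul IsPolyFun.ident)).add (IsPolyFun.const Cc)
  have hyP : IsPolyVec (fun t : K => t • fr.e₁ + fr.e₂) :=
    (IsPolyVec.smul IsPolyFun.ident (IsPolyVec.const fr.e₁)).add (IsPolyVec.const fr.e₂)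
  have h13 : (-(1 / 3) : K) ≠ 0 := by norm_num
  -- the parametrized component
  have hmain : ∃ c : K → (Fin 4 → K), {t | tpP F (c t)}.Finite ∧
      ∀ t s : K, A * t ^ 2 + 2 * B * t + Cc ≠ 0 →
        γ₀ * t ^ 3 + γ₁ * t ^ 2 + γ₂ * t + γ₃ + 3 * s * (A * t ^ 2 + 2 * B * t + Cc) = 0 →
        ∃ μ : K, μ ≠ 0 ∧ c t = μ • (s • a + (t • fr.e₁ + fr.e₂)) := by
    by_cases hGρ : γ₀ * ρ ^ 3 + γ₁ * ρ ^ 2 + γ₂ * ρ + γ₃ = 0
    · by_cases hG₁ : γ₀ * t₁ ^ 2 + (γ₁ + γ₀ * ρ) * t₁ + (γ₂ + γ₁ * ρ + γ₀ * ρ ^ 2) = 0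
      · exfalso
        apply hN2'
        refine ⟨γ₀, γ₁ + γ₀ * ρ + γ₀ * t₁, A, hA0, fun p r => ?_⟩
        linear_combination (A * (p - ρ * r) * r ^ 2) * hG₁ + (A * r ^ 3) * hGρ
          - ((p * r - ρ * r ^ 2) * (γ₀ * p + (γ₁ + γ₀ * ρ + γ₀ * t₁) * r)) * ht₁
          - (r ^ 2 * (γ₀ * p + (γ₁ + γ₀ * ρ + γ₀ * t₁) * r)) * hroot
      · refine ⟨fun t => (-(1 / 3) * (γ₀ * t ^ 2 + (γ₁ + γ₀ * ρ) * t
            + (γ₂ + γ₁ * ρ + γ₀ * ρ ^ 2))) • a
            + (A * t + (2 * B + A * ρ)) • (t • fr.e₁ + fr.e₂), ?_, ?_⟩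
        · have hg'P : IsPolyFun (fun t : K => γ₀ * t ^ 2 + (γ₁ + γ₀ * ρ) * t
              + (γ₂ + γ₁ * ρ + γ₀ * ρ ^ 2)) :=
            (((IsPolyFun.const γ₀).mul (IsPolyFun.ident.pow 2)).add
              ((IsPolyFun.const (γ₁ + γ₀ * ρ)).mul IsPolyFun.ident)).add (IsPolyFun.const _)
          have hq'P : IsPolyFun (fun t : K => A * t + (2 * B + A * ρ)) :=
            ((IsPolyFun.const A).mul IsPolyFun.ident).add (IsPolyFun.const _)
          refine CL _ ((IsPolyVec.smul ((IsPolyFun.const (-(1 / 3))).mul hg'P)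
            (IsPolyVec.const a)).add (IsPolyVec.smul hq'P hyP)) t₁
            (-(1 / 3) * (γ₀ * t₁ ^ 2 + (γ₁ + γ₀ * ρ) * t₁ + (γ₂ + γ₁ * ρ + γ₀ * ρ ^ 2)))
            (mul_ne_zero h13 hG₁) ?_
          show (-(1 / 3) * (γ₀ * t₁ ^ 2 + (γ₁ + γ₀ * ρ) * t₁ + (γ₂ + γ₁ * ρ + γ₀ * ρ ^ 2))) • a
            + (A * t₁ + (2 * B + A * ρ)) • (t₁ • fr.e₁ + fr.e₂) = _
          have e : A * t₁ + (2 * B + A * ρ) = 0 := by linear_combination ht₁
          rw [e, zero_smul, add_zero]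
        · intro t s hqt h
          have hq' : A * t + (2 * B + A * ρ) ≠ 0 := by
            intro h0
            apply hqt
            linear_combination (hqfac t 1) + (t - ρ) * h0
          have htρ : t - ρ ≠ 0 := by
            intro h0
            apply hqt
            linear_combination (hqfac t 1) + (A * t + (2 * B + A * ρ)) * h0
          refine ⟨A * t + (2 * B + A * ρ), hq', ?_⟩
          show (-(1 / 3) * (γ₀ * t ^ 2 + (γ₁ + γ₀ * ρ) * t + (γ₂ + γ₁ * ρ + γ₀ * ρ ^ 2))) • a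
            + (A * t + (2 * B + A * ρ)) • (t • fr.e₁ + fr.e₂) = _
          have e : -(1 / 3) * (γ₀ * t ^ 2 + (γ₁ + γ₀ * ρ) * t + (γ₂ + γ₁ * ρ + γ₀ * ρ ^ 2))
              = (A * t + (2 * B + A * ρ)) * s := by
            apply mul_left_cancel₀ htρ
            linear_combination (-(1 / 3 : K)) * h + (1 / 3 : K) * hGρ + s * hroot
          rw [e]
          module
    · refine ⟨fun t => (-(1 / 3) * (γ₀ * t ^ 3 + γ₁ * t ^ 2 + γ₂ * t + γ₃)) • a
          + (A * t ^ 2 + 2 * B * t + Cc) • (t • fr.e₁ + fr.e₂), ?_, ?_⟩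
      · refine CL _ ((IsPolyVec.smul ((IsPolyFun.const (-(1 / 3))).mul hgP)
          (IsPolyVec.const a)).add (IsPolyVec.smul hqP hyP)) ρ
          (-(1 / 3) * (γ₀ * ρ ^ 3 + γ₁ * ρ ^ 2 + γ₂ * ρ + γ₃)) (mul_ne_zero h13 hGρ) ?_
        show (-(1 / 3) * (γ₀ * ρ ^ 3 + γ₁ * ρ ^ 2 + γ₂ * ρ + γ₃)) • a
          + (A * ρ ^ 2 + 2 * B * ρ + Cc) • (ρ • fr.e₁ + fr.e₂) = _
        rw [hroot, zero_smul, add_zero]
      · intro t s hqt h
        refine ⟨A * t ^ 2 + 2 * B * t + Cc, hqt, ?_⟩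
        show (-(1 / 3) * (γ₀ * t ^ 3 + γ₁ * t ^ 2 + γ₂ * t + γ₃)) • a
          + (A * t ^ 2 + 2 * B * t + Cc) • (t • fr.e₁ + fr.e₂) = _
        have e : -(1 / 3) * (γ₀ * t ^ 3 + γ₁ * t ^ 2 + γ₂ * t + γ₃)
            = (A * t ^ 2 + 2 * B * t + Cc) * s := by
          linear_combination (-(1 / 3 : K)) * h
        rw [e]
        module
  obtain ⟨c, hcfin, hcP⟩ := hmain
  -- lines through `a`
  have hline : ∀ τ : K, {r : K | tpP F (a + r • (τ • fr.e₁ + fr.e₂))}.Finite := by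
    intro τ
    refine CL _ ((IsPolyVec.const a).add (IsPolyVec.smul IsPolyFun.ident
      (IsPolyVec.const (τ • fr.e₁ + fr.e₂)))) 0 1 one_ne_zero ?_
    show a + (0 : K) • (τ • fr.e₁ + fr.e₂) = (1 : K) • a
    rw [zero_smul, add_zero, one_smul]
  refine Set.Finite.subset
    ((Set.finite_singleton (Submodule.span K {(-γ₀ / (3 * A)) • a + fr.e₁})).union
      ((hcfin.image (fun t => Submodule.span K {c t})).union
        (((Set.finite_singleton (Submodule.span K {ρ • fr.e₁ + fr.e₂})).union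
            ((hline ρ).image (fun r => Submodule.span K {a + r • (ρ • fr.e₁ + fr.e₂)}))).union
          ((Set.finite_singleton (Submodule.span K {t₁ • fr.e₁ + fr.e₂})).union
            ((hline t₁).image
              (fun r => Submodule.span K {a + r • (t₁ • fr.e₁ + fr.e₂)})))))) ?_
  rintro U ⟨hU1, hUH, hUtp⟩
  have hUtp' : ∀ b ∈ U, b ≠ 0 → tpP F b := fun b hb hb0 => (htp b).mp (hUtp b hb hb0)
  have hpos : 0 < Module.finrank K U := by rw [hU1]; exact one_pos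
  obtain ⟨⟨v, hvU⟩, hv⟩ := Module.finrank_pos_iff_exists_ne_zero.mp hpos
  have hv0 : v ≠ 0 := fun h => hv (Subtype.ext h)
  clear hv
  obtain ⟨s, p, r, rfl⟩ := fr.hrep v ((hHm v).mp (hUH hvU))
  have hlineU : ∀ τ σ : K, σ • a + (τ • fr.e₁ + fr.e₂) ∈ U →
      U = Submodule.span K {τ • fr.e₁ + fr.e₂} ∨
      U ∈ (fun r => Submodule.span K {a + r • (τ • fr.e₁ + fr.e₂)}) ''
        {r : K | tpP F (a + r • (τ • fr.e₁ + fr.e₂))} := by
    intro τ σ hw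
    have hw0 : σ • a + (τ • fr.e₁ + fr.e₂) ≠ 0 := by
      intro h
      have h3 := fr.hκ₂ σ τ 1
      rw [one_smul, h, map_zero] at h3
      exact zero_ne_one h3
    by_cases hσ : σ = 0
    · left
      rw [hσ, zero_smul, zero_add] at hw hw0
      exact eq_span_of_mem hU1 hw hw0
    · right
      have hw2 : a + σ⁻¹ • (τ • fr.e₁ + fr.e₂) ∈ U := by
        have h3 := U.smul_mem σ⁻¹ hw
        rwa [smul_add, smul_smul, inv_mul_cancel₀ hσ, one_smul] at h3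
      have hw20 : a + σ⁻¹ • (τ • fr.e₁ + fr.e₂) ≠ 0 := by
        intro h
        apply hw0
        have h4 : σ • a + (τ • fr.e₁ + fr.e₂) = σ • (a + σ⁻¹ • (τ • fr.e₁ + fr.e₂)) := by
          rw [smul_add, smul_smul, mul_inv_cancel₀ hσ, one_smul]
        rw [h4, h, smul_zero]
      exact ⟨σ⁻¹, hUtp' _ hw2 hw20, (eq_span_of_mem hU1 hw2 hw20).symm⟩
  by_cases hr : r = 0
  · subst hr
    by_cases hp : p = 0
    · exfalso
      subst hp
      have hv' : s • a + ((0 : K) • fr.e₁ + (0 : K) • fr.e₂) = s • a := by simp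
      rw [hv'] at hvU hv0
      have hs : s ≠ 0 := by
        intro hs
        apply hv0
        rw [hs, zero_smul]
      have haU : a ∈ U := by
        have h3 := U.smul_mem s⁻¹ hvU
        rwa [smul_smul, inv_mul_cancel₀ hs, one_smul] at h3
      exact ha (hUtp a haU ha0)
    · have hw : (p⁻¹ * s) • a + ((1 : K) • fr.e₁ + (0 : K) • fr.e₂) ∈ U := by
        have h3 := U.smul_mem p⁻¹ hvU
        rwa [smul_add, smul_add, smul_smul, smul_smul, smul_smul, inv_mul_cancel₀ hp,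
          mul_zero] at h3
      have hw0 : (p⁻¹ * s) • a + ((1 : K) • fr.e₁ + (0 : K) • fr.e₂) ≠ 0 := by
        intro h
        have h3 := fr.hκ₁ (p⁻¹ * s) 1 0
        rw [h, map_zero] at h3
        exact zero_ne_one h3
      have hF0 := (hUtp' _ hw hw0).2.1
      rw [hFx] at hF0
      have hσ : p⁻¹ * s = -γ₀ / (3 * A) := by
        rw [eq_div_iff (mul_ne_zero three_ne_zero hA0)]
        linear_combination hF0
      rw [hσ, one_smul, zero_smul, add_zero] at hw hw0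
      exact Or.inl (eq_span_of_mem hU1 hw hw0)
  · have hw : (r⁻¹ * s) • a + ((r⁻¹ * p) • fr.e₁ + (1 : K) • fr.e₂) ∈ U := by
      have h3 := U.smul_mem r⁻¹ hvU
      rwa [smul_add, smul_add, smul_smul, smul_smul, smul_smul, inv_mul_cancel₀ hr] at h3
    have hw0 : (r⁻¹ * s) • a + ((r⁻¹ * p) • fr.e₁ + (1 : K) • fr.e₂) ≠ 0 := by
      intro h
      have h3 := fr.hκ₂ (r⁻¹ * s) (r⁻¹ * p) 1
      rw [h, map_zero] at h3
      exact zero_ne_one h3
    have hF0 := (hUtp' _ hw hw0).2.1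
    rw [hFx] at hF0
    rw [one_smul] at hw hw0
    obtain ⟨t, ht⟩ : ∃ t, t = r⁻¹ * p := ⟨_, rfl⟩
    obtain ⟨σ, hσ⟩ : ∃ σ, σ = r⁻¹ * s := ⟨_, rfl⟩
    rw [← ht, ← hσ] at hw hw0 hF0
    by_cases hqt : A * t ^ 2 + 2 * B * t + Cc = 0
    · have h4 := hqfac t 1
      have h5 : (t - ρ) * (A * t + (2 * B + A * ρ)) = 0 := by linear_combination hqt - h4
      rcases mul_eq_zero.mp h5 with h6 | h6
      · have h7 : t = ρ := sub_eq_zero.mp h6
        rw [h7] at hw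
        exact Or.inr (Or.inr (Or.inl ((hlineU ρ σ hw).elim Or.inl Or.inr)))
      · have h7 : t = t₁ := by
          apply mul_left_cancel₀ hA0
          linear_combination h6 - ht₁
        rw [h7] at hw
        exact Or.inr (Or.inr (Or.inr ((hlineU t₁ σ hw).elim Or.inl Or.inr)))
    · obtain ⟨μ, hμ, hc⟩ := hcP t σ hqt (by linear_combination hF0)
      have hcU : c t ∈ U := by rw [hc]; exact U.smul_mem μ hw
      have hc0 : c t ≠ 0 := by rw [hc]; exact smul_ne_zero hμ hw0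
      exact Or.inr (Or.inl ⟨t, hUtp' _ hcU hc0, (eq_span_of_mem hU1 hcU hc0).symm⟩)

end

end Groth.Agent.H91.TPt
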