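import Mathlib.AlgebraicGeometry.Morphisms.FormallyUnramified
import Mathlib.AlgebraicGeometry.IdealSheaf.Functorial

set_option autoImplicit false
universe u

open CategoryTheory CategoryTheory.Limits AlgebraicGeometry

namespace Groth.Agent.H91

/-- Base change of a square-zero thickening `Spec (A/I) ⟶ Spec A` to an affine scheme `Z` over `Spec A`
has nilpotent kernel. -/
theorem isNilpotent_ker_of_isPullback_sqZero {Z P : Scheme.{u}} [IsAffine Z] {A : CommRingCat.{u}}
    (I : Ideal A) (hI : I ^ 2 = ⊥) (g : Z ⟶ Spec A) (i : P ⟶ Z)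
    (p : P ⟶ Spec (CommRingCat.of (A ⧸ I)))
    (h : IsPullback i p g (Spec.map (CommRingCat.ofHom (Ideal.Quotient.mk I)))) :
    IsNilpotent i.ker := by
  let φ : A ⟶ Γ(Z, ⊤) := (Scheme.ΓSpecIso A).inv ≫ g.appTop
  let K : Ideal Γ(Z, ⊤) := I.map φ.hom
  let q : Spec (CommRingCat.of (Γ(Z, ⊤) ⧸ K)) ⟶ Z :=
    Spec.map (CommRingCat.ofHom (Ideal.Quotient.mk K)) ≫ Z.isoSpec.inv
  have hK : I ≤ K.comap φ.hom := Ideal.le_comap_map
  let ψ : A ⧸ I →+* Γ(Z, ⊤) ⧸ K := Ideal.quotientMap K φ.hom hK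
  have e1 : Z.isoSpec.inv ≫ g = Spec.map φ := by
    rw [← Scheme.isoSpec_inv_naturality, Scheme.isoSpec_Spec_inv, ← Spec.map_comp]
  have e2 : q ≫ g = Spec.map (CommRingCat.ofHom ψ) ≫
      Spec.map (CommRingCat.ofHom (Ideal.Quotient.mk I)) := by
    rw [Category.assoc, e1, ← Spec.map_comp, ← Spec.map_comp]
    congr 1
  have e3 : h.lift q (Spec.map (CommRingCat.ofHom ψ)) e2 ≫ i = q := h.lift_fst _ _ _
  have hle : i.ker ≤ q.ker := by
    rw [← e3]
    exact Scheme.Hom.le_ker_comp _ _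
  have hq : q.ker ^ 2 = ⊥ := by
    apply Scheme.IdealSheafData.ext_of_isAffine
    have hqc : QuasiCompact q := by
      dsimp only [q]; infer_instance
    rw [Scheme.IdealSheafData.ideal_pow, Pi.pow_apply, Scheme.Hom.ker_apply]
    have key : q.appTop ≫ (Scheme.ΓSpecIso (CommRingCat.of (Γ(Z, ⊤) ⧸ K))).hom =
        CommRingCat.ofHom (Ideal.Quotient.mk K) := by
      dsimp only [q]
      rw [Scheme.Hom.comp_appTop, Category.assoc, Scheme.ΓSpecIso_naturality]
      have : Z.isoSpec.inv.appTop = (Scheme.ΓSpecIso Γ(Z, ⊤)).inv := by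
        apply (Iso.comp_hom_eq_id (Scheme.ΓSpecIso Γ(Z, ⊤))).mp
        have h1 : Z.isoSpec.hom.appTop = (Scheme.ΓSpecIso Γ(Z, ⊤)).hom := by
          simp [Scheme.isoSpec]
        rw [← h1, ← Scheme.Hom.comp_appTop, Iso.hom_inv_id]
        rfl
      rw [this]
      exact Iso.inv_hom_id_assoc (Scheme.ΓSpecIso Γ(Z, ⊤)) _
    have hker : RingHom.ker (q.app ⊤).hom ≤ K := by
      intro x hx
      rw [RingHom.mem_ker] at hx
      have := congrArg (fun f => f.hom x) key
      simp only [CommRingCat.hom_comp, RingHom.coe_comp, Function.comp_apply, CommRingCat.hom_ofHom] at this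
      change (Scheme.ΓSpecIso _).hom.hom (q.appTop.hom x) = _ at this
      rw [show q.appTop.hom x = 0 from hx, map_zero] at this
      exact Ideal.Quotient.eq_zero_iff_mem.mp this.symm
    have hK2 : K ^ 2 = ⊥ := by
      dsimp only [K]
      rw [← Ideal.map_pow, hI, Ideal.map_bot]
    apply le_antisymm _ bot_le
    calc RingHom.ker (q.app ⊤).hom ^ 2 ≤ K ^ 2 := Ideal.pow_right_mono hker 2
      _ = ⊥ := hK2
      _ ≤ _ := bot_le
  refine ⟨2, ?_⟩
  apply le_antisymm _ bot_le
  calc i.ker ^ 2 ≤ q.ker ^ 2 := pow_le_pow_left' hle 2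
    _ = ⊥ := hq

end Groth.Agent.H91

namespace Groth.Agent.H91

open MonoidalCategory CartesianMonoidalCategory

/-- Uniqueness of lifts along `B ×_S Spec (A/I) ⟶ B ×_S Spec A` for a formally unramified target,
when `B ⟶ S` is affine. -/
theorem attr_unramified_aux {S : Scheme.{u}} (B : Over S) [IsAffineHom B.hom] {X Y : Over S}
    (f : X.left ⟶ Y.left) [FormallyUnramified f] (A : Type u) [CommRing A] (I : Ideal A)
    (hI : I ^ 2 = ⊥) (str : Spec (CommRingCat.of A) ⟶ S)
    (l₁ l₂ : B ⊗ Over.mk str ⟶ X)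
    (h1 : (B ◁ (Over.homMk (Spec.map (CommRingCat.ofHom (Ideal.Quotient.mk I))) rfl :
        Over.mk (Spec.map (CommRingCat.ofHom (Ideal.Quotient.mk I)) ≫ str) ⟶ Over.mk str)) ≫ l₁ =
      (B ◁ (Over.homMk (Spec.map (CommRingCat.ofHom (Ideal.Quotient.mk I))) rfl :
        Over.mk (Spec.map (CommRingCat.ofHom (Ideal.Quotient.mk I)) ≫ str) ⟶ Over.mk str)) ≫ l₂)
    (h2 : l₁.left ≫ f = l₂.left ≫ f) : l₁.left = l₂.left := by
  set T' : Over S := Over.mk str
  set t : Over.mk (Spec.map (CommRingCat.ofHom (Ideal.Quotient.mk I)) ≫ str) ⟶ T' :=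
    Over.homMk (Spec.map (CommRingCat.ofHom (Ideal.Quotient.mk I))) rfl
  have hpb : IsPullback (B ◁ t).left (pullback.snd B.hom (Spec.map (CommRingCat.ofHom (Ideal.Quotient.mk I)) ≫ str))
      (pullback.snd B.hom str) (Spec.map (CommRingCat.ofHom (Ideal.Quotient.mk I))) := by
    refine IsPullback.of_right (h₁₂ := pullback.fst B.hom str) (h₂₂ := str) (v₁₃ := B.hom) ?_ ?_
      (IsPullback.of_hasPullback B.hom str)
    · have : (B ◁ t).left ≫ pullback.fst B.hom str =
          pullback.fst B.hom (Spec.map (CommRingCat.ofHom (Ideal.Quotient.mk I)) ≫ str) :=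
        Over.whiskerLeft_left_fst t
      rw [this]
      exact IsPullback.of_hasPullback B.hom _
    · exact Over.whiskerLeft_left_snd t
  have : IsClosedImmersion (B ◁ t).left :=
    MorphismProperty.of_isPullback hpb.flip
      (IsClosedImmersion.spec_of_surjective (CommRingCat.ofHom (Ideal.Quotient.mk I))
        Ideal.Quotient.mk_surjective)
  have : IsAffine (pullback B.hom str) := isAffine_of_isAffineHom (pullback.snd B.hom str)
  have hnil : IsNilpotent (B ◁ t).left.ker :=
    isNilpotent_ker_of_isPullback_sqZero (A := CommRingCat.of A) I hI (pullback.snd B.hom str) (B ◁ t).left _ hpb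
  exact FormallyUnramified.hom_ext (B ◁ t).left hnil f (congrArg CommaMorphism.left h1) h2

end Groth.Agent.H91
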