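import Groth.Agent.H91.MultGa
import Groth.Agent.H91.EtAlgCl
import Groth.Agent.H1.SplitTori.Full

/-! A torus over a field is covered (flat, surjective) by a connected scheme; morphisms from a
torus to an étale group over a separably closed field preserving the unit are trivial. -/

set_option autoImplicit false
universe u
open CategoryTheory CategoryTheory.Limits MonoidalCategory CartesianMonoidalCategory MonObj GrpObj AlgebraicGeometry

noncomputable section

namespace Groth.Agent.H91.TorusConn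

open GmPts (baseZ toBaseZ)
open Groth.Agent.H37.ChowFormal
open Groth.Agent.H91.MultGa

theorem flat_of_field {K κ : Type u} [Field K] [Field κ]
    (g : Spec (CommRingCat.of κ) ⟶ Spec (CommRingCat.of K)) : Flat g := by
  rw [← Spec.map_preimage g, HasRingHomProperty.Spec_iff (P := @Flat)]
  algebraize [(Spec.preimage g).hom]
  exact (inferInstance : Module.Flat K κ)

theorem surjective_of_field {K κ : Type u} [Field K] [Field κ]
    (g : Spec (CommRingCat.of κ) ⟶ Spec (CommRingCat.of K)) : Surjective g := by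
  refine ⟨fun b => ⟨(⟨⊥, Ideal.isPrime_bot⟩ : PrimeSpectrum κ), ?_⟩⟩
  exact Subsingleton.elim (α := PrimeSpectrum K) _ _

theorem exists_connected_cover (K : Type u) [Field K] (T : Over (Spec (CommRingCat.of K))) [GrpObj T]
    (hT : Red.IsTorus T) :
    ∃ (X : Scheme.{u}) (q : X ⟶ T.left), PreconnectedSpace X ∧ Flat q ∧ Surjective q := by
  obtain ⟨S', f, hfl, hsurj, -, hloc⟩ := hT
  obtain ⟨s', -⟩ := hsurj.1 (⟨⊥, Ideal.isPrime_bot⟩ : PrimeSpectrum K)
  obtain ⟨U, hsU, r, ⟨e⟩⟩ := hloc s'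
  let κ : Type u := (U : Scheme.{u}).residueField ⟨s', hsU⟩
  let j : Spec (CommRingCat.of κ) ⟶ (U : Scheme.{u}) := (U : Scheme.{u}).fromSpecResidueField ⟨s', hsU⟩
  let e₀ := isoOfGrpIso e
  let ε₁ := JIso j (U.ι ≫ f) (j ≫ U.ι ≫ f) rfl T
  let ε₂ := (Over.pullback j).mapIso e₀
  let ε₃ := JIso j (toBaseZ (U : Scheme.{u})) (toBaseZ (Spec (CommRingCat.of κ)))
    (specULiftZIsTerminal.hom_ext _ _) (Red.diag (ULift.{u} ℤ) (Fin r → ℤ))
  let θ : Red.DS (Spec (CommRingCat.of κ)) (Fin r → ℤ) ≅ Red.bc (j ≫ U.ι ≫ f) T :=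
    ε₃.symm ≪≫ ε₂.symm ≪≫ ε₁
  haveI : IsIso θ.hom.left := (Over.forget _).map_isIso θ.hom
  haveI := flat_of_field (j ≫ U.ι ≫ f)
  haveI := surjective_of_field (j ≫ U.ι ≫ f)
  refine ⟨Spec (CommRingCat.of (MonoidAlgebra κ (Multiplicative (Fin r → ℤ)))),
    (Groth.Agent.H1.SplitTori.eN κ (Fin r → ℤ)).hom ≫ θ.hom.left ≫ pullback.fst T.hom (j ≫ U.ι ≫ f),
    ?_, ?_, ?_⟩
  · haveI : IsDomain (MonoidAlgebra κ (Multiplicative (Fin r → ℤ))) := inferInstance
    haveI : IrreducibleSpace (PrimeSpectrum (MonoidAlgebra κ (Multiplicative (Fin r → ℤ)))) :=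
      inferInstance
    exact (inferInstance : PreconnectedSpace (PrimeSpectrum (MonoidAlgebra κ (Multiplicative (Fin r → ℤ)))))
  · infer_instance
  · infer_instance

/-- a morphism from a torus to an étale scheme over a separably closed field which sends the unit
to a given rational point is constant. -/
theorem hom_eq_one_of_etale (K : Type u) [Field K] [IsSepClosed K]
    (T N : Over (Spec (CommRingCat.of K))) [GrpObj T] [GrpObj N] (hT : Red.IsTorus T)
    [Etale N.hom] (h : T ⟶ N) (h1 : η[T] ≫ h = η[N]) : h = 1 := by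
  obtain ⟨X, q, hX, hq1, hq2⟩ := exists_connected_cover K T hT
  haveI : Epi q := Flat.epi_of_flat_of_surjective q
  haveI := Groth.Agent.H91.EtAlgCl.discreteTopology N.hom
  apply Over.OverMorphism.ext
  rw [← cancel_epi q]
  obtain ⟨x₀, hx₀⟩ := hq2.1 (η[T].left.base (⟨⊥, Ideal.isPrime_bot⟩ : PrimeSpectrum K))
  have hk₀ : η[N].left ≫ N.hom = 𝟙 _ := Over.w η[N]
  have hx : ∃ z, η[N].left.base z = (q ≫ h.left).base x₀ := by
    refine ⟨(⟨⊥, Ideal.isPrime_bot⟩ : PrimeSpectrum K), ?_⟩
    rw [← h1, Over.comp_left, Scheme.Hom.comp_base, Scheme.Hom.comp_base]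
    change h.left.base (η[T].left.base _) = h.left.base (q.base x₀)
    rw [hx₀]
  have hc := Groth.Agent.H91.EtAlgCl.const_of_preconnected N.hom (q ≫ h.left) x₀ η[N].left hk₀ hx
  rw [hc]
  have h2 : (1 : T ⟶ N).left = T.hom ≫ η[N].left := by
    rw [Hom.one_def, Over.comp_left]
    rfl
  rw [h2]
  simp only [Category.assoc]
  rw [← Category.assoc h.left, Over.w h]

end Groth.Agent.H91.TorusConn
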