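import Mathlib

/-!
# Closed points over an uncountable field avoiding countably many closed subsets (helper91)
-/

open CategoryTheory AlgebraicGeometry Cardinal

universe u

namespace Groth.Agent.H91.Uncountable

/-- A field extension of an uncountable field generated (as an algebra) by a countable set
is algebraic. -/
theorem isAlgebraic_of_countable_adjoin (k L : Type u) [Field k] [Uncountable k] [Field L]
    [Algebra k L] (s : Set L) (hs : s.Countable) (htop : Algebra.adjoin k s = ⊤) :
    Algebra.IsAlgebraic k L := by
  by_contra h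
  have ht : Algebra.Transcendental k L := Algebra.transcendental_iff_not_isAlgebraic.mpr h
  have h1 : Module.rank k L = #L := Algebra.Transcendental.rank_eq_cardinalMk k L
  have h2 : Module.rank k L ≤ ℵ₀ := by
    have e : Module.rank k (Algebra.adjoin k s) = Module.rank k L := by
      rw [htop]
      exact (Subalgebra.topEquiv (R := k) (A := L)).toLinearEquiv.rank_eq
    rw [← e]
    refine (Algebra.rank_adjoin_le s).trans ?_
    exact max_le (Cardinal.le_aleph0_iff_set_countable.mpr hs) le_rfl
  have h3 : ℵ₀ < #k := Cardinal.aleph0_lt_mk_iff.mpr ‹Uncountable k›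
  have h4 : #k ≤ #L := Cardinal.mk_le_of_injective (algebraMap k L).injective
  rw [h1] at h2
  exact absurd (h3.trans_le h4) (not_lt.mpr h2)

/-- Over an uncountable field, a finitely generated algebra has a maximal ideal avoiding
countably many elements whose generated multiplicative set does not contain zero. -/
theorem exists_maximal_avoiding (k A : Type u) [Field k] [Uncountable k] [CommRing A] [Algebra k A]
    [Algebra.FiniteType k A] (f : ℕ → A) (hf : (0 : A) ∉ Submonoid.closure (Set.range f)) :
    ∃ m : Ideal A, m.IsMaximal ∧ ∀ n, f n ∉ m := by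
  classical
  set S : Submonoid A := Submonoid.closure (Set.range f) with hS
  have hnt : Nontrivial (Localization S) := by
    rw [← not_subsingleton_iff_nontrivial, IsLocalization.subsingleton_iff (M := S)]
    exact hf
  obtain ⟨m', hm'⟩ := Ideal.exists_maximal (Localization S)
  letI : Field (Localization S ⧸ m') := Ideal.Quotient.field m'
  let π : A →ₐ[k] (Localization S ⧸ m') :=
    (Ideal.Quotient.mkₐ k m').comp (IsScalarTower.toAlgHom k A (Localization S))
  obtain ⟨t, ht⟩ := (Algebra.FiniteType.out : (⊤ : Subalgebra k A).FG)
  let s : Set (Localization S ⧸ m') := π '' (t : Set A) ∪ Set.range (fun n => (π (f n))⁻¹)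
  have hs : s.Countable :=
    ((Finset.countable_toSet t).image π).union (Set.countable_range _)
  have hπ : ∀ a : A, π a ∈ Algebra.adjoin k s := by
    intro a
    have ha : a ∈ Algebra.adjoin k (t : Set A) := by rw [ht]; trivial
    have : π a ∈ (Algebra.adjoin k (t : Set A)).map π := ⟨a, ha, rfl⟩
    rw [AlgHom.map_adjoin] at this
    exact Algebra.adjoin_mono Set.subset_union_left this
  have hinv : ∀ σ ∈ S, (π σ)⁻¹ ∈ Algebra.adjoin k s := by
    intro σ hσ
    induction hσ using Submonoid.closure_induction with
    | mem x hx =>
      obtain ⟨n, rfl⟩ := hx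
      exact Algebra.subset_adjoin (Or.inr ⟨n, rfl⟩)
    | one => simp
    | mul x y _ _ hx hy =>
      rw [map_mul, mul_inv]
      exact Subalgebra.mul_mem _ hx hy
  have htop : Algebra.adjoin k s = ⊤ := by
    rw [eq_top_iff]
    rintro z -
    obtain ⟨b, rfl⟩ := Ideal.Quotient.mk_surjective z
    obtain ⟨a, σ, rfl⟩ := IsLocalization.exists_mk'_eq S b
    have hunit : π σ ≠ 0 := by
      intro h0
      have : algebraMap A (Localization S) σ ∈ m' := Ideal.Quotient.eq_zero_iff_mem.mp h0
      exact hm'.ne_top (Ideal.eq_top_of_isUnit_mem _ this (IsLocalization.map_units _ σ))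
    have hz : Ideal.Quotient.mk m' (IsLocalization.mk' (Localization S) a σ) = π a * (π σ)⁻¹ := by
      rw [eq_mul_inv_iff_mul_eq₀ hunit]
      change Ideal.Quotient.mk m' _ * Ideal.Quotient.mk m' (algebraMap A (Localization S) σ) =
        Ideal.Quotient.mk m' (algebraMap A (Localization S) a)
      rw [← map_mul, IsLocalization.mk'_spec]
    rw [hz]
    exact Subalgebra.mul_mem _ (hπ a) (hinv σ σ.2)
  have halg : Algebra.IsAlgebraic k (Localization S ⧸ m') :=
    isAlgebraic_of_countable_adjoin k _ s hs htop
  refine ⟨Ideal.comap (algebraMap A (Localization S)) m', ?_, ?_⟩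
  · have hprime : (Ideal.comap (algebraMap A (Localization S)) m').IsPrime :=
      Ideal.comap_isPrime _ _
    let ι : (A ⧸ Ideal.comap (algebraMap A (Localization S)) m') →ₐ[k] (Localization S ⧸ m') :=
      Ideal.quotientMapₐ m' (IsScalarTower.toAlgHom k A (Localization S)) le_rfl
    have hι : Function.Injective ι := Ideal.quotientMap_injective
    have hint : Algebra.IsIntegral k (A ⧸ Ideal.comap (algebraMap A (Localization S)) m') :=
      ⟨fun x => (isIntegral_algHom_iff ι hι).mp (Algebra.IsAlgebraic.isAlgebraic (ι x)).isIntegral⟩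
    exact Ideal.Quotient.maximal_of_isField _
      (isField_of_isIntegral_of_isField' (Field.toIsField k))
  · intro n hn
    have : algebraMap A (Localization S) (f n) ∈ m' := hn
    exact hm'.ne_top (Ideal.eq_top_of_isUnit_mem _ this
      (IsLocalization.map_units _ (⟨f n, Submonoid.subset_closure ⟨n, rfl⟩⟩ : S)))

end Groth.Agent.H91.Uncountable
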