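import Groth.Agent.H91.Uncountable

/-!
# Closed points over an uncountable field avoiding countably many closed subsets: scheme part
-/

open CategoryTheory AlgebraicGeometry TopologicalSpace

universe u

namespace Groth.Agent.H91.Uncountable

theorem main (k : Type u) [Field k] [Uncountable k]
    (X : Scheme.{u}) (sX : X ⟶ Spec (CommRingCat.of k)) [IrreducibleSpace X]
    [LocallyOfFiniteType sX]
    (Z : ℕ → TopologicalSpace.Closeds X) (hZ : ∀ n, (Z n : Set X) ≠ Set.univ) :
    ∃ x : X, IsClosed ({x} : Set X) ∧ ∀ n, x ∉ Z n := by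
  classical
  obtain ⟨x₀⟩ : Nonempty X := inferInstance
  obtain ⟨U, hU, hx₀U⟩ : ∃ U : X.Opens, IsAffineOpen U ∧ x₀ ∈ U := by
    obtain ⟨_, ⟨U, hU, rfl⟩, hxU, -⟩ :=
      X.isBasis_affineOpens.exists_subset_of_mem_open (Set.mem_univ x₀) isOpen_univ
    exact ⟨U, hU, hxU⟩
  -- the `k`-algebra structure on `Γ(X, U)`
  have hft : (sX.appLE ⊤ U (by simp)).hom.FiniteType :=
    sX.finiteType_appLE (isAffineOpen_top _) hU _
  have hsurj : Function.Surjective (Scheme.ΓSpecIso (CommRingCat.of k)).inv.hom :=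
    (ConcreteCategory.bijective_of_isIso (Scheme.ΓSpecIso (CommRingCat.of k)).inv).2
  have hψ : ((sX.appLE ⊤ U (by simp)).hom.comp
      (Scheme.ΓSpecIso (CommRingCat.of k)).inv.hom).FiniteType :=
    hft.comp (RingHom.FiniteType.of_surjective _ hsurj)
  letI : Algebra k Γ(X, U) := ((sX.appLE ⊤ U (by simp)).hom.comp
      (Scheme.ΓSpecIso (CommRingCat.of k)).inv.hom).toAlgebra
  haveI : Algebra.FiniteType k Γ(X, U) := hψ
  -- the functions `f n`
  have hex : ∀ n, ∃ fn : Γ(X, U), X.basicOpen fn ≤ (Z n).compl ∧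
      (X.basicOpen fn : Set X).Nonempty := by
    intro n
    have h1 : ((Z n : Set X)ᶜ).Nonempty := Set.nonempty_compl.mpr (hZ n)
    have h2 : (U : Set X).Nonempty := ⟨x₀, hx₀U⟩
    obtain ⟨y, hy1, hy2⟩ := nonempty_preirreducible_inter U.isOpen
      (Z n).isClosed.isOpen_compl h2 h1
    obtain ⟨fn, hfn1, hfn2⟩ := hU.exists_basicOpen_le (V := (Z n).compl) ⟨y, hy2⟩ hy1
    exact ⟨fn, hfn1, ⟨y, hfn2⟩⟩
  choose f hf1 hf2 using hex
  have hne : ∀ σ ∈ Submonoid.closure (Set.range f), (X.basicOpen σ : Set X).Nonempty := by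
    intro σ hσ
    induction hσ using Submonoid.closure_induction with
    | mem x hx =>
      obtain ⟨n, rfl⟩ := hx
      exact hf2 n
    | one =>
      rw [Scheme.basicOpen_one]
      exact ⟨x₀, hx₀U⟩
    | mul x y _ _ hx hy =>
      rw [Scheme.basicOpen_mul, TopologicalSpace.Opens.coe_inf]
      exact nonempty_preirreducible_inter (X.basicOpen x).isOpen (X.basicOpen y).isOpen hx hy
  have h0 : (0 : Γ(X, U)) ∉ Submonoid.closure (Set.range f) := by
    intro h
    have := hne 0 h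
    rw [Scheme.basicOpen_zero] at this
    exact this.ne_empty rfl
  obtain ⟨m, hm, hfm⟩ := exists_maximal_avoiding k Γ(X, U) f h0
  let p : ↥(Spec Γ(X, U)) := (⟨m, hm.isPrime⟩ : PrimeSpectrum Γ(X, U))
  refine ⟨hU.fromSpec p, ?_, ?_⟩
  · haveI : JacobsonSpace X := LocallyOfFiniteType.jacobsonSpace sX
    have hp : p ∈ closedPoints ↥(Spec Γ(X, U)) :=
      (PrimeSpectrum.isClosed_singleton_iff_isMaximal _).mpr hm
    rw [← hU.fromSpec.isOpenEmbedding.preimage_closedPoints] at hp
    exact hp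
  · intro n
    have h1 : p ∈ hU.fromSpec ⁻¹ᵁ X.basicOpen (f n) := by
      rw [hU.fromSpec_preimage_basicOpen]
      exact hfm n
    exact hf1 n h1

end Groth.Agent.H91.Uncountable
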