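import Groth.Agent.H91.UnitsDense

/-!
# Extending an action of a dense group of units to the monoid on a closed stable subscheme (helper91)
-/

open CategoryTheory Limits AlgebraicGeometry MonoidalCategory CartesianMonoidalCategory MonObj Opposite
open Magnet Magnet.MonAct

universe u

namespace Groth.Agent.H91.UnitsDense

theorem exists_monAct_gen {S : Scheme.{u}} (M G X Z : Over S) [MonObj M] [MonObj G]
    (i : G ⟶ M) [IsMonHom i] (hd : IsSchemeTheoreticallyDominant (i ▷ Z).left)
    (a : MonAct M X) (b : MonAct G Z) (j : Z ⟶ X) [IsClosedImmersion j.left]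
    (hj : IsEquivariant b (a.restrict i) j) :
    ∃ c : MonAct M Z, IsEquivariant c a j ∧ c.restrict i = b := by
  have hmono : Mono j := by
    have : Mono j.left := inferInstance
    exact Over.mono_of_mono_left j
  have hsq : (i ▷ Z) ≫ (M ◁ j) ≫ a.act = b.act ≫ j := by
    unfold IsEquivariant at hj
    rw [hj, restrict_act, ← Category.assoc, ← Category.assoc, whisker_exchange]
  obtain ⟨u', hu'⟩ := SchDom.lift_of_dominant (i ▷ Z).left j.left
    ((M ◁ j) ≫ a.act).left b.act.left (by
      rw [← Over.comp_left, ← Over.comp_left, hsq])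
  let c₀ : M ⊗ Z ⟶ Z := Over.homMk u' (by
    rw [← Over.w j, ← Category.assoc, hu', Over.w ((M ◁ j) ≫ a.act)])
  have hc₀ : c₀ ≫ j = (M ◁ j) ≫ a.act := by
    ext1
    exact hu'
  let c : MonAct M Z := mk' c₀
    (fun T x => by
      rw [← cancel_mono j, Category.assoc, hc₀, lift_whiskerLeft_assoc, lift_one_act])
    (fun T g h x => by
      rw [← cancel_mono j, Category.assoc, hc₀, lift_whiskerLeft_assoc, lift_mul_act, Category.assoc,
        hc₀, lift_whiskerLeft_assoc, Category.assoc, hc₀, lift_whiskerLeft_assoc])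
  refine ⟨c, ?_, ?_⟩
  · unfold IsEquivariant
    exact hc₀
  · apply ext'
    rw [restrict_act, ← cancel_mono j, Category.assoc]
    change (i ▷ Z) ≫ c₀ ≫ j = b.act ≫ j
    rw [hc₀, hsq]

/-- S18957. -/
theorem exists_monAct (k : Type u) [Field k]
    (M G X Z : Over (Spec (CommRingCat.of k))) [MonObj M] [GrpObj G]
    (i : G ⟶ M) [IsMonHom i] [QuasiCompact i.left]
    [IsSchemeTheoreticallyDominant i.left]
    (a : Magnet.MonAct M X) (b : AlgGrp.Action G Z) (j : Z ⟶ X) [IsClosedImmersion j.left]
    (hj : Magnet.MonAct.IsEquivariant (Magnet.MonAct.ofAction b) (a.restrict i) j) :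
    ∃ c : Magnet.MonAct M Z, Magnet.MonAct.IsEquivariant c a j ∧ c.restrict i = Magnet.MonAct.ofAction b :=
  exists_monAct_gen M G X Z i (dense_whisker i Z) a _ j hj

end Groth.Agent.H91.UnitsDense
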