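import Groth.Agent.H91.UnitsDense3

/-!
# Equivariant maps out of a monoid with zero into an open stable subscheme: the cartesian square
(helper91)
-/

open CategoryTheory Limits AlgebraicGeometry MonoidalCategory CartesianMonoidalCategory MonObj Opposite
open Magnet Magnet.MonAct

universe u

namespace Groth.Agent.H91.UnitsDense

section

variable {k : Type u} [Field k]
  (M G X U : Over (Spec (CommRingCat.of k))) [MonObj M] [MonObj G] (i : G ⟶ M) [IsMonHom i]
  (o : 𝟙_ (Over (Spec (CommRingCat.of k))) ⟶ M)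

set_option maxHeartbeats 400000 in
theorem range_subset_of_zero
    (hM : ∀ (T : Over (Spec (CommRingCat.of k))) (K : Type u) [Field K]
      (eT : T.left ≅ Spec (CommRingCat.of K)) (W : (M ⊗ T).left.Opens),
      (snd G (M ⊗ T)).left ⁻¹ᵁ W ≤
          ((((regular M).restrict i).prod (trivial G T)).act).left ⁻¹ᵁ W →
      (lift (toUnit T ≫ o) (𝟙 T)).left ⁻¹ᵁ W = ⊤ → W = ⊤)
    (aX : MonAct G X) (aU : MonAct G U) (j : U ⟶ X) [IsOpenImmersion j.left]
    (hj : IsEquivariant aU aX j) (T : Over (Spec (CommRingCat.of k)))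
    (φ : (eqvHom ((regular M).restrict i) aX).obj (op T)) (z : T ⟶ U)
    (hφz : lift (toUnit T ≫ o) (𝟙 T) ≫ φ.1 = z ≫ j) :
    Set.range φ.1.left ⊆ Set.range j.left := by
  rintro _ ⟨p, rfl⟩
  let t := (pullback.snd M.hom T.hom) p
  let s := T.left.fromSpecResidueField t
  let T' : Over (Spec (CommRingCat.of k)) := Over.mk (s ≫ T.hom)
  let σ : T' ⟶ T := Over.homMk s rfl
  let φ' := (eqvHom ((regular M).restrict i) aX).map σ.op φ
  have hφ'1 : φ'.1 = (M ◁ σ) ≫ φ.1 := rfl
  have hzero' : lift (toUnit T' ≫ o) (𝟙 T') ≫ φ'.1 = (σ ≫ z) ≫ j := by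
    have h1 : lift (toUnit T' ≫ o) σ = σ ≫ lift (toUnit T ≫ o) (𝟙 T) := by
      rw [comp_lift, Category.comp_id, ← Category.assoc, toUnit_unique (σ ≫ toUnit T) (toUnit T')]
    rw [hφ'1, lift_whiskerLeft_assoc, Category.id_comp, h1, Category.assoc, hφz, Category.assoc]
  have hW' := hM T' (T.left.residueField t) (Iso.refl _) (φ'.1.left ⁻¹ᵁ j.left.opensRange)
    (stable_preimage M G X U i aX aU j hj T' φ'.1 φ'.2) (by
      ext x
      refine ⟨fun _ => trivial, fun _ => ?_⟩
      change φ'.1.left ((lift (toUnit T' ≫ o) (𝟙 T')).left x) ∈ Set.range j.left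
      rw [← Scheme.Hom.comp_apply, ← Over.comp_left, hzero', Over.comp_left, Scheme.Hom.comp_apply]
      exact ⟨_, rfl⟩)
  obtain ⟨q, hq⟩ := mem_range_whiskerLeft M σ p (by
    change t ∈ Set.range (T.left.fromSpecResidueField t)
    rw [Scheme.range_fromSpecResidueField]
    rfl)
  have hq' : q ∈ (φ'.1.left ⁻¹ᵁ j.left.opensRange) := by
    rw [hW']
    trivial
  have hq'' : φ'.1.left q ∈ Set.range j.left := hq'
  rw [hφ'1, Over.comp_left, Scheme.Hom.comp_apply, hq] at hq''
  exact hq''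

theorem isPullback_open_gen
    (hM : ∀ (T : Over (Spec (CommRingCat.of k))) (K : Type u) [Field K]
      (eT : T.left ≅ Spec (CommRingCat.of K)) (W : (M ⊗ T).left.Opens),
      (snd G (M ⊗ T)).left ⁻¹ᵁ W ≤
          ((((regular M).restrict i).prod (trivial G T)).act).left ⁻¹ᵁ W →
      (lift (toUnit T ≫ o) (𝟙 T)).left ⁻¹ᵁ W = ⊤ → W = ⊤)
    (aX : MonAct G X) (aU : MonAct G U) (j : U ⟶ X) [IsOpenImmersion j.left]
    (hj : IsEquivariant aU aX j) :
    IsPullback (eqvHom.postcomp ((regular M).restrict i) j hj)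
      (eqvHom.evalAt ((regular M).restrict i) aU o)
      (eqvHom.evalAt ((regular M).restrict i) aX o) (yoneda.map j) := by
  have hmono : Mono j := by
    have : Mono j.left := inferInstance
    exact Over.mono_of_mono_left j
  have hj' := (isEquivariant_iff aU aX j).mp hj
  apply IsPullback.of_forall_isPullback_app
  intro T
  rw [Types.isPullback_iff]
  refine ⟨?_, ?_, ?_⟩
  · ext φ
    change lift (toUnit (unop T) ≫ o) (𝟙 (unop T)) ≫ (φ.1 ≫ j) =
      (lift (toUnit (unop T) ≫ o) (𝟙 (unop T)) ≫ φ.1) ≫ j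
    rw [Category.assoc]
  · rintro φ ψ ⟨h1, -⟩
    apply Subtype.ext
    have h1' : φ.1 ≫ j = ψ.1 ≫ j := congrArg Subtype.val h1
    exact (cancel_mono j).mp h1'
  · intro φ z hφz
    have hφz' : lift (toUnit (unop T) ≫ o) (𝟙 (unop T)) ≫ φ.1 = z ≫ j := hφz
    have hr := range_subset_of_zero M G X U i o hM aX aU j hj (unop T) φ z hφz'
    let u' := IsOpenImmersion.lift j.left φ.1.left hr
    have hu' : u' ≫ j.left = φ.1.left := IsOpenImmersion.lift_fac _ _ _
    let ψ₀ : M ⊗ unop T ⟶ U := Over.homMk u' (by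
      rw [← Over.w j, ← Category.assoc, hu', Over.w φ.1])
    have hψf : ψ₀ ≫ j = φ.1 := by
      ext1
      exact hu'
    have hψeq : IsEquivariant (((regular M).restrict i).prod (trivial G (unop T))) aU ψ₀ := by
      rw [mem_eqvHom_iff]
      intro T' g b t
      rw [← cancel_mono j, Category.assoc, hψf, Category.assoc, hj' T' g (lift b t ≫ ψ₀),
        Category.assoc, hψf]
      have hφ := φ.2
      rw [mem_eqvHom_iff] at hφ
      exact hφ T' g b t
    refine ⟨⟨ψ₀, hψeq⟩, ?_, ?_⟩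
    · apply Subtype.ext
      exact hψf
    · change lift (toUnit (unop T) ≫ o) (𝟙 (unop T)) ≫ ψ₀ = z
      rw [← cancel_mono j, Category.assoc, hψf, hφz']

end

/-- S18958. -/
theorem isPullback_open (k : Type u) [Field k]
    (M G X U : Over (Spec (CommRingCat.of k))) [MonObj M] [GrpObj G] (i : G ⟶ M) [IsMonHom i]
    (o : 𝟙_ (Over (Spec (CommRingCat.of k))) ⟶ M)
    (hM : ∀ (T : Over (Spec (CommRingCat.of k))) (K : Type u) [Field K] (eT : T.left ≅ Spec (CommRingCat.of K))
      (W : (M ⊗ T).left.Opens),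
      (CartesianMonoidalCategory.snd G (M ⊗ T)).left ⁻¹ᵁ W ≤
          ((((Magnet.MonAct.regular M).restrict i).prod (Magnet.MonAct.trivial G T)).act).left ⁻¹ᵁ W →
      (CartesianMonoidalCategory.lift (toUnit T ≫ o) (𝟙 T)).left ⁻¹ᵁ W = ⊤ → W = ⊤)
    (aX : AlgGrp.Action G X) (aU : AlgGrp.Action G U) (j : U ⟶ X) [IsOpenImmersion j.left]
    (hj : Magnet.MonAct.IsEquivariant (Magnet.MonAct.ofAction aU) (Magnet.MonAct.ofAction aX) j) :
    IsPullback
      (Magnet.MonAct.eqvHom.postcomp ((Magnet.MonAct.regular M).restrict i) j hj)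
      (Magnet.MonAct.eqvHom.evalAt ((Magnet.MonAct.regular M).restrict i) (Magnet.MonAct.ofAction aU) o)
      (Magnet.MonAct.eqvHom.evalAt ((Magnet.MonAct.regular M).restrict i) (Magnet.MonAct.ofAction aX) o)
      (yoneda.map j) :=
  isPullback_open_gen M G X U i o hM _ _ j hj

end Groth.Agent.H91.UnitsDense
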